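import Cfsg.Prelude.Def_PLocal
import Cfsg.Prelude.Def_LocalEven
import Mathlib

/-!
A finite group involves `Qd(p)` exactly when it has a `p`-subgroup with an elementary abelian
quotient of order `p²` on which the normalizer induces all of `SL₂(p)`.
-/

set_option autoImplicit false

namespace Cfsg.Lib.Fusion

open Cfsg Matrix

local notation "SL2" p => SpecialLinearGroup (Fin 2) (ZMod p)
local notation "↥₂" M => ((M :) : Matrix (Fin 2) (Fin 2) (ZMod _))

/-- The natural module, written multiplicatively. -/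
abbrev V2 (p : ℕ) := Multiplicative (Fin 2 → ZMod p)

/-- The natural action of `SL₂(p)`. -/
def actV {p : ℕ} (M : SpecialLinearGroup (Fin 2) (ZMod p)) : V2 p →* V2 p where
  toFun v := Multiplicative.ofAdd ((↥₂M) *ᵥ Multiplicative.toAdd v)
  map_one' := congrArg Multiplicative.ofAdd (mulVec_zero _)
  map_mul' _ _ := congrArg Multiplicative.ofAdd (mulVec_add _ _ _)

theorem actV_one {p : ℕ} (v : V2 p) : actV 1 v = v :=
  congrArg Multiplicative.ofAdd ((congrArg (· *ᵥ Multiplicative.toAdd v)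
    (Matrix.SpecialLinearGroup.coe_one)).trans (one_mulVec _))

theorem actV_mul {p : ℕ} (M N : SpecialLinearGroup (Fin 2) (ZMod p)) (v : V2 p) :
    actV (M * N) v = actV M (actV N v) :=
  congrArg Multiplicative.ofAdd ((congrArg (· *ᵥ Multiplicative.toAdd v)
    (Matrix.SpecialLinearGroup.coe_mul M N)).trans (mulVec_mulVec _ _ _).symm)

theorem actV_injective {p : ℕ} {M N : SpecialLinearGroup (Fin 2) (ZMod p)}
    (h : ∀ v : V2 p, actV M v = actV N v) : M = N := by
  refine Subtype.ext (Matrix.ext_of_mulVec_single fun i => ?_)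
  exact Multiplicative.ofAdd.injective (h (Multiplicative.ofAdd (Pi.single i 1)))

/-- The affine matrix with given linear and translation parts. -/
def affMat {p : ℕ} (M : Matrix (Fin 2) (Fin 2) (ZMod p)) (v : Fin 2 → ZMod p) :
    Matrix (Fin 3) (Fin 3) (ZMod p) :=
  !![M 0 0, M 0 1, v 0; M 1 0, M 1 1, v 1; 0, 0, 1]

theorem affMat_mul {p : ℕ} (M N : Matrix (Fin 2) (Fin 2) (ZMod p)) (v w : Fin 2 → ZMod p) :
    affMat M v * affMat N w = affMat (M * N) (M *ᵥ w + v) := by
  ext i j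
  fin_cases i <;> fin_cases j <;>
    simp [affMat, Matrix.mul_apply, Fin.sum_univ_three, Fin.sum_univ_two, Matrix.mulVec,
      dotProduct]

theorem det_affMat {p : ℕ} (M : Matrix (Fin 2) (Fin 2) (ZMod p)) (v : Fin 2 → ZMod p) :
    (affMat M v).det = M.det := by
  rw [det_fin_three, det_fin_two]
  simp [affMat]

/-- The affine element of `Qd(p)`. -/
def aff {p : ℕ} (M : SpecialLinearGroup (Fin 2) (ZMod p)) (v : Fin 2 → ZMod p) : qd p :=
  ⟨⟨affMat M.1 v, by rw [det_affMat]; exact M.2⟩,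
    Subgroup.subset_closure ⟨rfl, rfl, rfl⟩⟩

theorem aff_mul {p : ℕ} (M N : SpecialLinearGroup (Fin 2) (ZMod p)) (v w : Fin 2 → ZMod p) :
    aff M v * aff N w = aff (M * N) ((↥₂M) *ᵥ w + v) :=
  Subtype.ext (Subtype.ext (affMat_mul M.1 N.1 v w))

theorem aff_inj {p : ℕ} {M N : SpecialLinearGroup (Fin 2) (ZMod p)} {v w : Fin 2 → ZMod p}
    (h : aff M v = aff N w) : M = N ∧ v = w := by
  have e : affMat M.1 v = affMat N.1 w := congrArg (fun a : qd p => a.1.1) h
  have h00 := congrFun (congrFun e 0) 0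
  have h01 := congrFun (congrFun e 0) 1
  have h10 := congrFun (congrFun e 1) 0
  have h11 := congrFun (congrFun e 1) 1
  have h02 := congrFun (congrFun e 0) 2
  have h12 := congrFun (congrFun e 1) 2
  simp [affMat] at h00 h01 h10 h11 h02 h12
  refine ⟨Subtype.ext ?_, ?_⟩
  · ext i j
    fin_cases i <;> fin_cases j <;> assumption
  · ext i
    fin_cases i <;> assumption

theorem aff_one {p : ℕ} : aff (1 : SpecialLinearGroup (Fin 2) (ZMod p)) 0 = 1 := by
  refine Subtype.ext (Subtype.ext ?_)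
  show affMat (1 : Matrix (Fin 2) (Fin 2) (ZMod p)) 0 = 1
  ext i j
  fin_cases i <;> fin_cases j <;> simp [affMat]

theorem exists_eq_aff {p : ℕ} [Fact p.Prime] (a : qd p) : ∃ M v, a = aff M v := by
  obtain ⟨a, ha⟩ := a
  induction ha using Subgroup.closure_induction with
  | mem x hx =>
    obtain ⟨h0, h1, h2⟩ := hx
    have hdet : (!![x.1 0 0, x.1 0 1; x.1 1 0, x.1 1 1]).det = 1 := by
      have := x.2
      rw [det_fin_three, h0, h1, h2] at this
      rw [det_fin_two]
      simpa using this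
    refine ⟨⟨_, hdet⟩, ![x.1 0 2, x.1 1 2], Subtype.ext (Subtype.ext ?_)⟩
    show x.1 = affMat _ _
    ext i j
    fin_cases i <;> fin_cases j <;> simp [affMat, h0, h1, h2]
  | one => exact ⟨1, 0, aff_one.symm⟩
  | mul x y _ _ hx hy =>
    obtain ⟨M, v, hM⟩ := hx
    obtain ⟨N, w, hN⟩ := hy
    exact ⟨M * N, (↥₂M) *ᵥ w + v, by rw [← aff_mul, ← hM, ← hN]; rfl⟩
  | inv x _ hx =>
    obtain ⟨M, v, hM⟩ := hx
    refine ⟨M⁻¹, -((↥₂(M⁻¹)) *ᵥ v), ?_⟩
    refine eq_of_mul_eq_one_right' (a := aff M v) ?_ ?_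
    · rw [← hM]
      exact Subtype.ext (mul_inv_cancel x)
    · have e : (M : Matrix (Fin 2) (Fin 2) (ZMod p)) *
          ((M⁻¹ : SpecialLinearGroup (Fin 2) (ZMod p)) : Matrix (Fin 2) (Fin 2) (ZMod p)) = 1 :=
        congrArg Subtype.val (mul_inv_cancel M)
      rw [aff_mul, mul_inv_cancel, mulVec_neg, mulVec_mulVec]
      erw [e]
      rw [one_mulVec, neg_add_cancel, aff_one]
where
  eq_of_mul_eq_one_right' {G : Type} [Group G] {a b c : G} (h1 : a * b = 1) (h2 : a * c = 1) :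
      b = c := mul_left_cancel (h1.trans h2.symm)

/-- Translations. -/
def transl {p : ℕ} : V2 p →* qd p where
  toFun v := aff 1 (Multiplicative.toAdd v)
  map_one' := aff_one
  map_mul' v w := by
    rw [aff_mul, mul_one, Matrix.SpecialLinearGroup.coe_one, one_mulVec, toAdd_mul, add_comm]

/-- The linear maps. -/
def linear {p : ℕ} : SpecialLinearGroup (Fin 2) (ZMod p) →* qd p where
  toFun M := aff M 0
  map_one' := aff_one
  map_mul' M N := by rw [aff_mul, mulVec_zero, add_zero]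

theorem transl_mul_linear {p : ℕ} (M : SpecialLinearGroup (Fin 2) (ZMod p)) (v : V2 p) :
    transl v * linear M = aff M (Multiplicative.toAdd v) := by
  show aff 1 _ * aff M 0 = _
  rw [aff_mul, one_mul, mulVec_zero, zero_add]

theorem linear_conj_transl {p : ℕ} (M : SpecialLinearGroup (Fin 2) (ZMod p)) (v : V2 p) :
    transl (actV M v) = linear M * transl v * (linear M)⁻¹ := by
  rw [eq_mul_inv_iff_mul_eq, transl_mul_linear]
  show _ = aff M 0 * aff 1 _
  rw [aff_mul, mul_one, add_zero]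
  rfl

/-- The witness relation. -/
def QdRel {G : Type*} [Group G] {p : ℕ} {Q0 : Subgroup G} (π : Q0 →* V2 p) (g : G)
    (M : SpecialLinearGroup (Fin 2) (ZMod p)) : Prop :=
  ∀ x : Q0, ∃ y : Q0, (y : G) = g * x * g⁻¹ ∧ π y = actV M (π x)

/-- A `p`-subgroup witnessing `Qd(p)`. -/
structure IsQdWitness {G : Type*} [Group G] (p : ℕ) (Q0 : Subgroup G) (π : Q0 →* V2 p) : Prop where
  pgroup : IsPGroup p Q0
  surj : Function.Surjective π
  rel : ∀ M, ∃ g, QdRel π g M

theorem special_element_two : ∃ t : SpecialLinearGroup (Fin 2) (ZMod 2), t ^ 3 = 1 ∧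
    (∀ g, g * t * g⁻¹ = t ∨ g * t * g⁻¹ = t * t) ∧ ∀ v : V2 2, actV t v = v → v = 1 := by
  let t : SpecialLinearGroup (Fin 2) (ZMod 2) := ⟨!![0, 1; 1, 1], by decide⟩
  refine ⟨t, Subtype.ext (by decide), fun g => ?_, by decide⟩
  have key : ∀ A : Matrix (Fin 2) (Fin 2) (ZMod 2), A.det = 1 →
      A * !![0, 1; 1, 1] = !![0, 1; 1, 1] * A ∨
      A * !![0, 1; 1, 1] = !![0, 1; 1, 1] * !![0, 1; 1, 1] * A := by decide
  rw [mul_inv_eq_iff_eq_mul, mul_inv_eq_iff_eq_mul]
  rcases key g.1 g.2 with h | h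
  · exact Or.inl (Subtype.ext h)
  · exact Or.inr (Subtype.ext h)

theorem exists_special_element (p : ℕ) [Fact p.Prime] :
    ∃ (q k : ℕ) (t : SpecialLinearGroup (Fin 2) (ZMod p)), q.Prime ∧ q ≠ p ∧ t ^ q ^ k = 1 ∧
      (∀ g, g * t * g⁻¹ ∈ Subgroup.zpowers t) ∧ ∀ v : V2 p, actV t v = v → v = 1 := by
  by_cases hp : p = 2
  · subst hp
    obtain ⟨t, ht, hn, hf⟩ := special_element_two
    refine ⟨3, 1, t, Nat.prime_three, by decide, by rwa [pow_one], fun g => ?_, hf⟩
    rcases hn g with h | h <;> rw [h]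
    · exact Subgroup.mem_zpowers _
    · exact Subgroup.mul_mem _ (Subgroup.mem_zpowers _) (Subgroup.mem_zpowers _)
  · refine ⟨2, 1, -1, Nat.prime_two, Ne.symm hp, by simp, fun g => ?_, fun v hv => ?_⟩
    · have : g * (-1) * g⁻¹ = (-1 : SpecialLinearGroup (Fin 2) (ZMod p)) := by simp
      rw [this]
      exact Subgroup.mem_zpowers _
    · have h : -(Multiplicative.toAdd v) = Multiplicative.toAdd v := by
        have := congrArg Multiplicative.toAdd hv
        simpa [actV, neg_mulVec] using this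
      have h2 : (2 : ZMod p) ≠ 0 := by
        intro h2
        have : (p : ℕ) ∣ 2 := (ZMod.natCast_eq_zero_iff 2 p).mp (by exact_mod_cast h2)
        exact hp ((Nat.prime_dvd_prime_iff_eq Fact.out Nat.prime_two).mp this)
      refine Multiplicative.toAdd.injective (funext fun i => ?_)
      have hi : (2 : ZMod p) * Multiplicative.toAdd v i = 0 := by
        have h3 := congrFun h i
        simp only [Pi.neg_apply] at h3
        rw [two_mul]
        exact add_eq_zero_iff_neg_eq.mpr h3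
      exact (mul_eq_zero.mp hi).resolve_left h2

variable {G : Type*} [Group G] {p : ℕ}

theorem qdRel_one {Q0 : Subgroup G} (π : Q0 →* V2 p) : QdRel π 1 1 :=
  fun x => ⟨x, by simp, (actV_one _).symm⟩

theorem QdRel.mul {Q0 : Subgroup G} {π : Q0 →* V2 p} {g h : G}
    {M N : SpecialLinearGroup (Fin 2) (ZMod p)} (h1 : QdRel π g M) (h2 : QdRel π h N) :
    QdRel π (g * h) (M * N) := by
  intro x
  obtain ⟨y, hy, hyπ⟩ := h2 x
  obtain ⟨z, hz, hzπ⟩ := h1 y
  exact ⟨z, by rw [hz, hy]; group, by rw [hzπ, hyπ, actV_mul]⟩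

/-- The group of pairs in the witness relation. -/
def qdRelGroup [Finite G] [Fact p.Prime] {Q0 : Subgroup G} (π : Q0 →* V2 p) :
    Subgroup (G × SpecialLinearGroup (Fin 2) (ZMod p)) :=
  subgroupOfFinite
    { carrier := {a | QdRel π a.1 a.2}
      one_mem' := qdRel_one π
      mul_mem' := fun ha hb => QdRel.mul ha hb }
where
  subgroupOfFinite {K : Type _} [Group K] [Finite K] (s : Submonoid K) : Subgroup K :=
    { s with
      inv_mem' := fun {x} hx => by
        have : x⁻¹ = x ^ (orderOf x - 1) := by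
          rw [eq_comm, eq_inv_iff_mul_eq_one, ← pow_succ, Nat.sub_add_cancel (orderOf_pos x),
            pow_orderOf_eq_one]
        show x⁻¹ ∈ s
        rw [this]
        exact s.pow_mem hx _ }

theorem mem_qdRelGroup [Finite G] [Fact p.Prime] {Q0 : Subgroup G} (π : Q0 →* V2 p)
    (a : G × SpecialLinearGroup (Fin 2) (ZMod p)) : a ∈ qdRelGroup π ↔ QdRel π a.1 a.2 :=
  Iff.rfl

/-- A witness gives a section isomorphic to `Qd(p)`. -/
theorem involves_of_isQdWitness [Finite G] [Fact p.Prime] {Q0 : Subgroup G} {π : Q0 →* V2 p}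
    (w : IsQdWitness p Q0 π) : Involves ↥(qd p) G := by
  classical
  obtain ⟨q, k, t0, hq, hqp, htk, htn, htf⟩ := exists_special_element p
  have : Fact q.Prime := ⟨hq⟩
  set H := qdRelGroup π
  let ρ : H →* SpecialLinearGroup (Fin 2) (ZMod p) := (MonoidHom.snd _ _).comp H.subtype
  have hfun : ∀ a b : H, a.1.1 = b.1.1 → a = b := by
    intro a b e
    refine Subtype.ext (Prod.ext e (actV_injective fun v => ?_))
    obtain ⟨x, rfl⟩ := w.surj v
    obtain ⟨y, hy, hyπ⟩ := (mem_qdRelGroup π a.1).mp a.2 x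
    obtain ⟨z, hz, hzπ⟩ := (mem_qdRelGroup π b.1).mp b.2 x
    rw [← hyπ, ← hzπ, show y = z from Subtype.ext (by rw [hy, hz, e])]
  let j : Q0 →* H :=
    { toFun := fun x => ⟨((x : G), 1), (mem_qdRelGroup π _).mpr fun z => ⟨x * z * x⁻¹, rfl, by
        rw [map_mul, map_mul, mul_comm (π x), mul_assoc, map_inv, mul_inv_cancel, mul_one,
          actV_one]⟩⟩
      map_one' := rfl
      map_mul' := fun a b => Subtype.ext (Prod.ext rfl (mul_one 1).symm) }
  let D : Subgroup H := (Subgroup.zpowers t0).comap ρ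
  have hnZ : (Subgroup.zpowers t0).Normal := ⟨fun x hx g => by
    obtain ⟨n, rfl⟩ := Subgroup.mem_zpowers_iff.mp hx
    rw [← conj_zpow]
    exact Subgroup.zpow_mem _ (htn g) n⟩
  have hDn : D.Normal := hnZ.comap ρ
  let ρD : D →* Subgroup.zpowers t0 := (ρ.comp D.subtype).codRestrict _ fun d => d.2
  have hρD : Function.Surjective ρD := fun a => by
    obtain ⟨g, hg⟩ := w.rel a
    exact ⟨⟨⟨(g, a), (mem_qdRelGroup π _).mpr hg⟩, a.2⟩, Subtype.ext rfl⟩
  obtain ⟨T⟩ : Nonempty (Sylow q D) := inferInstance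
  have hZq : IsPGroup q (Subgroup.zpowers t0) := fun a => by
    refine ⟨k, Subtype.ext ?_⟩
    obtain ⟨n, hn⟩ := Subgroup.mem_zpowers_iff.mp a.2
    rw [Subgroup.coe_pow, ← hn, ← zpow_natCast (t0 ^ n), ← _root_.zpow_mul, mul_comm,
      _root_.zpow_mul, zpow_natCast, htk, _root_.one_zpow, Subgroup.coe_one]
  have hTtop : ((T : Subgroup D).map ρD) = ⊤ := by
    refine (T.mapSurjective hρD).3 (hZq.to_subgroup ⊤) le_top |>.symm
  set T' : Subgroup H := (T : Subgroup D).map D.subtype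
  set N := Subgroup.normalizer (T' : Set H)
  have hNtop : N ⊔ D = ⊤ := T.normalizer_sup_eq_top
  have hρT : ∀ a ∈ Subgroup.zpowers t0, ∃ d ∈ T', ρ d = a := fun a ha => by
    obtain ⟨d, hd, hde⟩ := (hTtop.ge (Subgroup.mem_top (⟨a, ha⟩ : Subgroup.zpowers t0)))
    exact ⟨d.1, ⟨d, hd, rfl⟩, congrArg Subtype.val hde⟩
  have hρN : ∀ M, ∃ n : N, ρ n.1 = M := by
    intro M
    obtain ⟨g, hg⟩ := w.rel M
    obtain ⟨n, hn, d, hd, e⟩ := Subgroup.mem_sup_of_normal_right.mp
      (hNtop.ge (Subgroup.mem_top (⟨(g, M), (mem_qdRelGroup π _).mpr hg⟩ : H)))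
    obtain ⟨d', hd', hde⟩ := hρT (ρ d) hd
    refine ⟨⟨n * d', N.mul_mem hn (Subgroup.le_normalizer hd')⟩, ?_⟩
    show ρ (n * d') = M
    rw [map_mul, hde, ← map_mul, e]
    rfl
  have hjN : ∀ x : Q0, j x ∈ N → π x = 1 := by
    intro x hx
    obtain ⟨d, hd, hde⟩ := hρT t0 (Subgroup.mem_zpowers t0)
    obtain ⟨y, hy, hyπ⟩ := (mem_qdRelGroup π d.1).mp d.2 x
    have hc : d * j x * d⁻¹ = j y := hfun _ _ hy.symm
    have hmem : j x * (j y)⁻¹ ∈ T' := by
      rw [← hc, show j x * (d * j x * d⁻¹)⁻¹ = j x * d * (j x)⁻¹ * d⁻¹ by group]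
      exact T'.mul_mem ((Subgroup.mem_normalizer_iff.mp hx d).mp hd) (T'.inv_mem hd)
    have hp1 : IsPGroup p j.range := w.pgroup.of_surjective _ j.rangeRestrict_surjective
    have h1 := (IsPGroup.disjoint_of_ne p q hqp.symm j.range T' hp1 (T.2.map D.subtype)).le_bot
      ⟨j.range.mul_mem ⟨x, rfl⟩ (j.range.inv_mem ⟨y, rfl⟩), hmem⟩
    have hxy : x = y := Subtype.ext
      (congrArg (fun a : H => a.1.1) (mul_inv_eq_one.mp (Subgroup.mem_bot.mp h1)))
    refine htf _ ?_
    rw [← show (ρ d) = t0 from hde]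
    show actV d.1.2 (π x) = π x
    rw [← hyπ, ← hxy]
  have hQ0n : ∀ n : N, ∀ x ∈ Q0, n.1.1.1 * x * n.1.1.1⁻¹ ∈ Q0 := fun n x hx => by
    obtain ⟨y, hy, -⟩ := (mem_qdRelGroup π n.1.1).mp n.1.2 ⟨x, hx⟩
    exact hy ▸ y.2
  let c : N →* MulAut Q0 :=
    { toFun := fun n =>
        { toFun := fun x => ⟨n.1.1.1 * x * n.1.1.1⁻¹, hQ0n n x x.2⟩
          invFun := fun x => ⟨n.1.1.1⁻¹ * x * n.1.1.1, by
            simpa using hQ0n n⁻¹ x x.2⟩
          left_inv := fun x => Subtype.ext (by simp [mul_assoc])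
          right_inv := fun x => Subtype.ext (by simp [mul_assoc])
          map_mul' := fun a b => Subtype.ext (by simp [mul_assoc]) }
      map_one' := MulEquiv.ext fun x => Subtype.ext (by simp)
      map_mul' := fun a b => MulEquiv.ext fun x => Subtype.ext (by simp [mul_assoc]) }
  let ψ : Q0 ⋊[c] N →* G := SemidirectProduct.lift Q0.subtype
    ((MonoidHom.fst _ _).comp (H.subtype.comp N.subtype))
    fun n => MonoidHom.ext fun x => rfl
  let Φ : Q0 ⋊[c] N →* qd p := SemidirectProduct.lift (transl.comp π)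
    (linear.comp (ρ.comp N.subtype))
    fun n => MonoidHom.ext fun x => by
      obtain ⟨y, hy, hyπ⟩ := (mem_qdRelGroup π n.1.1).mp n.1.2 x
      show transl (π (c n x)) = linear (ρ n.1) * transl (π x) * (linear (ρ n.1))⁻¹
      rw [show c n x = y from Subtype.ext hy.symm, hyπ]
      exact linear_conj_transl _ _
  have hker : ψ.ker ≤ Φ.ker := by
    intro a ha
    have hinl : ∀ b : Q0 ⋊[c] N, ψ b = b.1 * b.2.1.1.1 ∧
        Φ b = transl (π b.1) * linear (ρ b.2.1) := fun b => ⟨rfl, rfl⟩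
    have e1 : (a.1 : G) * a.2.1.1.1 = 1 := (hinl a).1.symm.trans ha
    have e2 : a.2.1 = j a.1⁻¹ := hfun _ _ (eq_inv_of_mul_eq_one_right e1)
    have h3 : π a.1 = 1 := by
      have h4 := hjN a.1⁻¹ (e2 ▸ a.2.2)
      rwa [map_inv, inv_eq_one] at h4
    rw [MonoidHom.mem_ker, (hinl a).2, h3, e2, map_one, one_mul]
    exact linear.map_one
  have hΦ : Function.Surjective Φ := fun a => by
    obtain ⟨M, v, rfl⟩ := exists_eq_aff a
    obtain ⟨x, hx⟩ := w.surj (Multiplicative.ofAdd v)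
    obtain ⟨n, hn⟩ := hρN M
    refine ⟨⟨x, n⟩, ?_⟩
    show transl (π x) * linear (ρ n.1) = _
    rw [hx, hn, transl_mul_linear]
    rfl
  let Φ' : ψ.range →* qd p := (ψ.rangeRestrict).liftOfSurjective ψ.rangeRestrict_surjective
    ⟨Φ, fun a ha => hker (by rwa [MonoidHom.ker_rangeRestrict] at ha)⟩
  have hΦ' : Function.Surjective Φ' := fun a => by
    obtain ⟨b, rfl⟩ := hΦ a
    exact ⟨ψ.rangeRestrict b, MonoidHom.liftOfRightInverse_comp_apply _ _ _ _ b⟩
  have hn' : ((Φ'.ker.map ψ.range.subtype).subgroupOf ψ.range).Normal := by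
    rw [Subgroup.subgroupOf_map_subtype]
    infer_instance
  exact ⟨ψ.range, Φ'.ker.map ψ.range.subtype, hn', ⟨(QuotientGroup.quotientMulEquivOfEq (Subgroup.subgroupOf_map_subtype _)).trans
      (QuotientGroup.quotientKerEquivOfSurjective Φ' hΦ')⟩⟩
where
  Subgroup.subgroupOf_map_subtype {G : Type _} [Group G] {K : Subgroup G} (A : Subgroup K) :
      (A.map K.subtype).subgroupOf K = A :=
    Subgroup.comap_map_eq_self_of_injective K.subtype_injective A

/-- A group involving `Qd(p)` has a witness. -/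
theorem exists_isQdWitness [Finite G] [Fact p.Prime] (h : Involves ↥(qd p) G) :
    ∃ (Q0 : Subgroup G) (π : Q0 →* V2 p), IsQdWitness p Q0 π := by
  classical
  obtain ⟨K, R, hRn, ⟨e⟩⟩ := h
  let Φ : K →* qd p := e.toMonoidHom.comp (QuotientGroup.mk' _)
  have hΦ : Function.Surjective Φ := e.surjective.comp (QuotientGroup.mk'_surjective _)
  choose Mof vof hof using fun a : qd p => exists_eq_aff a
  let lin : qd p →* SpecialLinearGroup (Fin 2) (ZMod p) :=
    { toFun := Mof
      map_one' := (aff_inj ((hof 1).symm.trans aff_one.symm)).1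
      map_mul' := fun a b => (aff_inj (show aff (Mof (a * b)) (vof (a * b)) =
        aff (Mof a * Mof b) _ by rw [← aff_mul, ← hof, ← hof, ← hof])).1 }
  let tr : lin.ker →* V2 p :=
    { toFun := fun a => Multiplicative.ofAdd (vof a.1)
      map_one' := congrArg Multiplicative.ofAdd (aff_inj ((hof 1).symm.trans aff_one.symm)).2
      map_mul' := fun a b => by
        have h1 : aff (Mof (a.1 * b.1)) (vof (a.1 * b.1)) =
            aff (Mof a.1 * Mof b.1) ((↥₂(Mof a.1)) *ᵥ vof b.1 + vof a.1) := by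
          rw [← aff_mul, ← hof, ← hof, ← hof]
        rw [← ofAdd_add]
        refine congrArg Multiplicative.ofAdd ((aff_inj h1).2.trans ?_)
        rw [show Mof a.1 = 1 from a.2, Matrix.SpecialLinearGroup.coe_one, one_mulVec, add_comm] }
  let M0 : Subgroup K := lin.ker.comap Φ
  obtain ⟨P⟩ : Nonempty (Sylow p M0) := inferInstance
  let Φ0 : M0 →* lin.ker := (Φ.comp M0.subtype).codRestrict _ fun m => m.2
  have hΦ0 : Function.Surjective Φ0 := fun a => by
    obtain ⟨k, hk⟩ := hΦ a.1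
    exact ⟨⟨k, show Φ k ∈ lin.ker from hk ▸ a.2⟩, Subtype.ext hk⟩
  have hVp : IsPGroup p lin.ker := by
    intro a
    refine ⟨1, ?_⟩
    have htr : Function.Injective tr := fun a b e => Subtype.ext (by
      rw [hof a.1, hof b.1, show Mof a.1 = 1 from a.2, show Mof b.1 = 1 from b.2,
        show vof a.1 = vof b.1 from Multiplicative.ofAdd.injective e])
    refine htr ?_
    rw [map_pow, map_one, pow_one]
    refine Multiplicative.toAdd.injective (funext fun i => ?_)
    simp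
  have hPtop : (P : Subgroup M0).map Φ0 = ⊤ :=
    ((P.mapSurjective hΦ0).3 (hVp.to_subgroup ⊤) le_top).symm
  let PK : Subgroup K := (P : Subgroup M0).map M0.subtype
  let Q0 : Subgroup G := PK.map K.subtype
  let emb : P →* Q0 := ((K.subtype.comp (M0.subtype.comp (P : Subgroup M0).subtype))).codRestrict _
    fun x => ⟨_, ⟨x.1, x.2, rfl⟩, rfl⟩
  have hemb : Function.Bijective emb := by
    refine ⟨fun a b e => Subtype.ext (Subtype.ext (Subtype.ext (congrArg (fun z : Q0 => (z : G)) e))), ?_⟩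
    rintro ⟨_, _, ⟨y, hy, rfl⟩, rfl⟩
    exact ⟨⟨y, hy⟩, rfl⟩
  let E := MulEquiv.ofBijective emb hemb
  let π : Q0 →* V2 p := (tr.comp (Φ0.comp (P : Subgroup M0).subtype)).comp E.symm.toMonoidHom
  refine ⟨Q0, π, P.2.of_surjective emb hemb.2, ?_, ?_⟩
  · intro v
    have hm : aff 1 (Multiplicative.toAdd v) ∈ lin.ker :=
      (aff_inj (hof (aff 1 (Multiplicative.toAdd v))).symm).1
    obtain ⟨x, hx, hxe⟩ := hPtop.ge (Subgroup.mem_top (⟨_, hm⟩ : lin.ker))
    refine ⟨E ⟨x, hx⟩, ?_⟩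
    show tr (Φ0 (E.symm (E ⟨x, hx⟩)).1) = v
    rw [E.symm_apply_apply, hxe]
    exact congrArg Multiplicative.ofAdd (aff_inj (hof (aff 1 (Multiplicative.toAdd v))).symm).2
  · intro M
    obtain ⟨k, hk⟩ := hΦ (linear M)
    have hPn := P.normalizer_sup_eq_top
    obtain ⟨n, hn, m, hm, hnm⟩ :=
      Subgroup.mem_sup_of_normal_right.mp (hPn.ge (Subgroup.mem_top k))
    refine ⟨(n : G), fun x => ?_⟩
    obtain ⟨x, rfl⟩ := hemb.2 x
    obtain ⟨y, hy, hye⟩ := (Subgroup.mem_normalizer_iff.mp hn x.1.1).mp ⟨x.1, x.2, rfl⟩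
    refine ⟨emb ⟨y, hy⟩, ?_, ?_⟩
    · show ((y.1 : K) : G) = _
      rw [show (y.1 : K) = n * x.1.1 * n⁻¹ from hye]
      rfl
    · show tr (Φ0 (E.symm (E ⟨y, hy⟩)).1) = actV M (tr (Φ0 (E.symm (E x)).1))
      rw [E.symm_apply_apply, E.symm_apply_apply]
      have hlinn : Mof (Φ n) = M := by
        have h1 : lin (Φ k) = M := by
          rw [hk]
          exact (aff_inj (hof (linear M)).symm).1
        rw [← hnm, map_mul, map_mul, show lin (Φ m) = 1 from hm, mul_one] at h1
        exact h1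
      have h1 : aff (Mof (Φ y.1)) (vof (Φ y.1)) * aff (Mof (Φ n)) (vof (Φ n)) =
          aff (Mof (Φ n)) (vof (Φ n)) * aff (Mof (Φ x.1.1)) (vof (Φ x.1.1)) := by
        rw [← hof, ← hof, ← hof, ← map_mul, ← map_mul]
        refine congrArg Φ ?_
        rw [show (y.1 : K) = n * x.1.1 * n⁻¹ from hye]
        group
      rw [show Mof (Φ y.1) = 1 from y.2, show Mof (Φ x.1.1) = 1 from x.1.2, aff_mul, aff_mul] at h1
      have h2 := (aff_inj h1).2
      rw [Matrix.SpecialLinearGroup.coe_one, one_mulVec, add_comm] at h2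
      rw [add_left_inj] at h2
      show Multiplicative.ofAdd (vof (Φ y.1)) = Multiplicative.ofAdd ((↥₂M) *ᵥ vof (Φ x.1.1))
      rw [h2, hlinn]

end Cfsg.Lib.Fusion
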