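import Cfsg.Agent.Fusion.InvPair
import Cfsg.Agent.Components.ZJ.Closed
import Cfsg.Agent.Components.ZJ.Reduce
import Cfsg.Agent.Components.LocalBalance
import Cfsg.Agent.Components.Quasisimple
import Cfsg.Agent.Components.PComponents
import Cfsg.Agent.Quadratic.StableQd
import Cfsg.Agent.SolvStruct.Automizer.PQHall
import Cfsg.Agent.Transfer.Basic

/-!
A nontrivial `p`-element inverted in `G`, `p` odd, gives one inverted in the normalizer of `Z(J(S))`.
-/

set_option autoImplicit false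
set_option linter.style.haveILetI false
set_option linter.unusedSectionVars false

namespace Cfsg.Lib.InvSylow

open Subgroup
open scoped Matrix commutatorElement

universe u

/-- some nontrivial `p`-element of `M` is inverted in `M` -/
def Inv (p : ℕ) {G : Type*} [Group G] (M : Subgroup G) : Prop :=
  ∃ x ∈ M, ∃ g ∈ M, x ≠ 1 ∧ (∃ k, x ^ p ^ k = 1) ∧ g * x * g⁻¹ = x⁻¹

variable {p : ℕ}

section Basics

variable {G : Type*} [Group G]

theorem inv_mono {M N : Subgroup G} (h : M ≤ N) : Inv p M → Inv p N := by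
  rintro ⟨x, hx, g, hg, h1, h2, h3⟩
  exact ⟨x, h hx, g, h hg, h1, h2, h3⟩

theorem inv_map {H : Type*} [Group H] {f : H →* G} (hf : Function.Injective f) {M : Subgroup H} :
    Inv p M → Inv p (M.map f) := by
  rintro ⟨x, hx, g, hg, h1, ⟨k, h2⟩, h3⟩
  exact ⟨f x, mem_map_of_mem f hx, f g, mem_map_of_mem f hg, fun e => h1 (hf (e.trans (map_one f).symm)),
    ⟨k, by rw [← map_pow, h2, map_one]⟩, by rw [← map_inv f g, ← map_mul, ← map_mul, h3, map_inv]⟩

theorem inv_subgroup {M : Subgroup G} : Inv p M ↔ Inv p (⊤ : Subgroup M) := by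
  constructor
  · rintro ⟨x, hx, g, hg, h1, ⟨k, h2⟩, h3⟩
    exact ⟨⟨x, hx⟩, trivial, ⟨g, hg⟩, trivial, fun e => h1 (congrArg Subtype.val e), ⟨k, Subtype.ext h2⟩,
      Subtype.ext h3⟩
  · intro h
    have := inv_map M.subtype_injective h
    rwa [← MonoidHom.range_eq_map, range_subtype] at this

theorem eq_one_of_sq [hp' : Fact p.Prime] (hp : p ≠ 2) {x : G} (hx : ∃ k, x ^ p ^ k = 1) (h : x * x = 1) :
    x = 1 := by
  obtain ⟨k, hk⟩ := hx
  refine orderOf_eq_one_iff.1 (Nat.eq_one_of_dvd_coprimes ?_ (orderOf_dvd_of_pow_eq_one hk)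
    (orderOf_dvd_of_pow_eq_one (show x ^ 2 = 1 by rw [pow_two, h])))
  exact ((Nat.coprime_primes hp'.out Nat.prime_two).2 hp).pow_left k

theorem conj_pow_odd {g x : G} (h : g * x * g⁻¹ = x⁻¹) :
    ∀ n, Odd n → g ^ n * x * (g ^ n)⁻¹ = x⁻¹ := by
  rintro n ⟨m, rfl⟩
  have h' : g * x⁻¹ * g⁻¹ = x := by rw [← conj_inv, h, inv_inv]
  have he : ∀ i : ℕ, g ^ (2 * i) * x * (g ^ (2 * i))⁻¹ = x := by
    intro i
    induction i with
    | zero => simp
    | succ i ih =>
      rw [show 2 * (i + 1) = 1 + (1 + 2 * i) by ring, pow_add, pow_add, pow_one]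
      calc g * (g * g ^ (2 * i)) * x * (g * (g * g ^ (2 * i)))⁻¹
          = g * (g * (g ^ (2 * i) * x * (g ^ (2 * i))⁻¹) * g⁻¹) * g⁻¹ := by group
        _ = x := by rw [ih, h, h']
  rw [show 2 * m + 1 = 1 + 2 * m by ring, pow_add, pow_one]
  calc g * g ^ (2 * m) * x * (g * g ^ (2 * m))⁻¹ = g * (g ^ (2 * m) * x * (g ^ (2 * m))⁻¹) * g⁻¹ := by group
    _ = x⁻¹ := by rw [he, h]

end Basics

section Finite

variable {G : Type*} [Group G] [Finite G]

/-- an automorphism of even order of a `p`-group inverts something -/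
theorem inv_of_even {R K : Subgroup G} (hR : IsPGroup p R) {g : G} (hg : g ∈ normalizer (R : Set G))
    (hRK : R ≤ K) (hgK : g ∈ K) (hev : ∀ n, Odd n → ∃ y ∈ R, g ^ n * y * (g ^ n)⁻¹ ≠ y) : Inv p K := by
  classical
  have hex : ∃ m, 0 < m ∧ g ^ m ∈ centralizer (R : Set G) :=
    ⟨orderOf g, orderOf_pos g, by rw [pow_orderOf_eq_one]; exact one_mem _⟩
  set m := Nat.find hex
  obtain ⟨hm0, hm⟩ := Nat.find_spec hex
  rcases Nat.even_or_odd m with ⟨j, hj⟩ | hodd
  · have hjc : g ^ j ∉ centralizer (R : Set G) := fun h =>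
      Nat.find_min hex (show j < m by omega) ⟨by omega, h⟩
    obtain ⟨y, hy, hne⟩ : ∃ y ∈ R, g ^ j * y * (g ^ j)⁻¹ ≠ y := by
      by_contra hall
      push Not at hall
      exact hjc (mem_centralizer_iff.2 fun y hy => (mul_inv_eq_iff_eq_mul.1 (hall y hy)).symm)
    set h := g ^ j with hh
    have hyy : h * (h * y * h⁻¹) * h⁻¹ = y := by
      rw [show h * (h * y * h⁻¹) * h⁻¹ = (h * h) * y * (h * h)⁻¹ by group, hh, ← pow_add, ← hj,
        ← mem_centralizer_iff.1 hm y hy, mul_inv_cancel_right]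
    have hwR : y⁻¹ * (h * y * h⁻¹) ∈ R :=
      mul_mem (inv_mem hy) ((mem_normalizer_iff.1 (pow_mem hg j) y).1 hy)
    refine ⟨_, hRK hwR, h, pow_mem hgK j, fun e => hne (inv_mul_eq_one.1 e).symm, ?_, ?_⟩
    · obtain ⟨k, hk⟩ := hR ⟨_, hwR⟩
      exact ⟨k, congrArg Subtype.val hk⟩
    · rw [show h * (y⁻¹ * (h * y * h⁻¹)) * h⁻¹ = (h * y * h⁻¹)⁻¹ * (h * (h * y * h⁻¹) * h⁻¹) by group, hyy]
      group
  · obtain ⟨y, hy, hne⟩ := hev m hodd
    exact absurd (by rw [← mem_centralizer_iff.1 hm y hy, mul_inv_cancel_right]) hne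

theorem inv_of_inverts [Fact p.Prime] (hp : p ≠ 2) {H : Type*} [Group H] (f : G →* H) {R K : Subgroup G}
    (hR : IsPGroup p R) {g : G} (hg : g ∈ normalizer (R : Set G)) (hRK : R ≤ K) (hgK : g ∈ K)
    {x : G} (hx : x ∈ R) (hne : f x ≠ 1) (hinv : f g * f x * (f g)⁻¹ = (f x)⁻¹) : Inv p K := by
  refine inv_of_even hR hg hRK hgK fun n hn => ⟨x, hx, fun e => hne (eq_one_of_sq hp ?_ ?_)⟩
  · obtain ⟨k, hk⟩ := hR ⟨x, hx⟩
    exact ⟨k, by rw [← map_pow, show x ^ p ^ k = 1 from congrArg Subtype.val hk, map_one]⟩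
  · have h1 := conj_pow_odd hinv n hn
    rw [← map_pow, ← map_inv f (g ^ n), ← map_mul, ← map_mul, e] at h1
    exact eq_inv_iff_mul_eq_one.1 h1

/-- an inverted element of an image comes from an inverted element -/
theorem lift_top [Fact p.Prime] (hp : p ≠ 2) {H : Type*} [Group H] (f : G →* H) {x g : G} {k : ℕ}
    (hne : f x ≠ 1) (hk : f x ^ p ^ k = 1) (hinv : f g * f x * (f g)⁻¹ = (f x)⁻¹) :
    Inv p (⊤ : Subgroup G) := by
  obtain ⟨a, b, -, hb, hab, ⟨i, hi⟩, hcop⟩ := Cfsg.Lib.Transfer.exists_pPart p x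
  have hfb : f b = 1 := by
    obtain ⟨j, hj⟩ := mem_zpowers_iff.1 hb
    refine orderOf_eq_one_iff.1 (Nat.eq_one_of_dvd_coprimes (hcop.pow_right k) (orderOf_map_dvd f b)
      (orderOf_dvd_of_pow_eq_one ?_))
    rw [← hj, map_zpow, ← zpow_natCast, ← zpow_mul, mul_comm, zpow_mul, zpow_natCast, hk, one_zpow]
  have hfa : f a = f x := by rw [← hab, map_mul, hfb, mul_one]
  rw [← hfa] at hne hk hinv
  clear hfa hfb hab hb hcop
  set L := (zpowers (f a)).comap f with hL
  have haL : a ∈ L := mem_zpowers (f a)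
  have hgM : g ∈ normalizer (L : Set G) := by
    rw [← Cfsg.Lib.Transfer.map_conj_eq_self_iff]
    refine eq_of_le_of_card_ge ?_ (Cfsg.Lib.Transfer.card_map_conj L g).ge
    rintro _ ⟨y, hy, rfl⟩
    obtain ⟨j, hj⟩ := mem_zpowers_iff.1 (mem_comap.1 hy)
    refine mem_comap.2 ⟨-j, ?_⟩
    show (f a) ^ (-j) = f (g * y * g⁻¹)
    rw [map_mul, map_mul, map_inv, ← hj, ← conj_zpow, hinv, inv_zpow, zpow_neg]
  set M := normalizer (L : Set G)
  set L' := L.subgroupOf M with hL'
  haveI : L'.Normal := normal_in_normalizer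
  have hLM : L ≤ M := le_normalizer
  let a' : L' := ⟨⟨a, hLM haL⟩, haL⟩
  have hap : IsPGroup p (zpowers a') := by
    refine IsPGroup.of_card (n := i) ?_
    rw [Nat.card_zpowers, ← hi, ← Subgroup.orderOf_coe a', ← Subgroup.orderOf_coe (a' : M)]
  obtain ⟨P, hP⟩ := hap.exists_le_sylow
  obtain ⟨m, hm, l, hl, hml⟩ := mem_sup_of_normal_right.1
    ((Sylow.normalizer_sup_eq_top P).ge (mem_top (⟨g, hgM⟩ : M)))
  set R' := (P : Subgroup L').map L'.subtype
  have hm' : (m : G) ∈ normalizer (R'.map M.subtype : Set G) :=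
    le_normalizer_map M.subtype ⟨m, hm, rfl⟩
  obtain ⟨j, hj⟩ := mem_zpowers_iff.1 (mem_comap.1 (mem_subgroupOf.1 hl))
  refine inv_of_inverts hp f ((P.2.map L'.subtype).map M.subtype) hm' le_top (mem_top _)
    (x := a) ⟨_, ⟨a', hP (mem_zpowers a'), rfl⟩, rfl⟩ hne ?_
  have hg' : f g = f (m : G) * f (l : G) := by
    rw [← map_mul]
    exact congrArg f (congrArg Subtype.val hml).symm
  rw [← hinv, hg', ← hj]
  group

theorem lift [Fact p.Prime] (hp : p ≠ 2) {H : Type*} [Group H] (f : G →* H) {M : Subgroup G}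
    (h : Inv p (M.map f)) : Inv p M := by
  obtain ⟨_, ⟨x, hx, rfl⟩, _, ⟨g, hg, rfl⟩, hne, ⟨k, hk⟩, hinv⟩ := h
  exact inv_subgroup.2 (lift_top hp (f.comp M.subtype) (x := ⟨x, hx⟩) (g := ⟨g, hg⟩) hne hk hinv)

theorem normalizer_le_normalizer_centerThompsonAOf (T : Subgroup G) :
    normalizer (T : Set G) ≤ normalizer (Cfsg.centerThompsonAOf T : Set G) := by
  intro g hg
  rw [← Cfsg.Lib.Transfer.map_conj_eq_self_iff] at hg ⊢
  rw [Cfsg.Lib.ZJ.centerThompsonAOf_map, hg]

theorem centerThompsonAOf_le (T : Subgroup G) : Cfsg.centerThompsonAOf T ≤ T :=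
  inf_le_left.trans (map_subtype_le _)

theorem inv_conj [Fact p.Prime] (S S' : Sylow p G)
    (h : Inv p (normalizer (Cfsg.centerThompsonAOf (S' : Subgroup G) : Set G))) :
    Inv p (normalizer (Cfsg.centerThompsonAOf (S : Subgroup G) : Set G)) := by
  obtain ⟨c, hc⟩ := MulAction.exists_smul_eq G S' S
  have h1 := inv_mono (le_normalizer_map (MulAut.conj c).toMonoidHom)
    (inv_map (f := (MulAut.conj c).toMonoidHom) (MulAut.conj c).injective h)
  rwa [Cfsg.Lib.ZJ.centerThompsonAOf_map, ← Cfsg.Lib.Transfer.sylow_smul_coe, hc] at h1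

/-- a Sylow subgroup of a subgroup with an inverted element is nontrivial -/
theorem sylow_ne_bot [Fact p.Prime] {M : Subgroup G} (h : Inv p M) (T : Sylow p M) :
    (T : Subgroup M).map M.subtype ≠ ⊥ := by
  obtain ⟨x, hx, -, -, hne, ⟨k, hk⟩, -⟩ := h
  intro e
  have hT : (T : Subgroup M) = ⊥ := (map_eq_bot_iff_of_injective _ M.subtype_injective).1 e
  have hxp : IsPGroup p (zpowers (⟨x, hx⟩ : M)) := by
    intro y
    obtain ⟨j, hj⟩ := mem_zpowers_iff.1 y.2
    refine ⟨k, Subtype.ext ?_⟩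
    rw [SubgroupClass.coe_pow, ← hj, ← zpow_natCast, ← zpow_mul, mul_comm, zpow_mul, zpow_natCast,
      show (⟨x, hx⟩ : M) ^ p ^ k = 1 from Subtype.ext hk, one_zpow, OneMemClass.coe_one]
  obtain ⟨P, hP⟩ := hxp.exists_le_sylow
  obtain ⟨c, hc⟩ := MulAction.exists_smul_eq M T P
  have hP1 : (P : Subgroup M) = ⊥ := by
    rw [← hc, Cfsg.Lib.Transfer.sylow_smul_coe, hT, Subgroup.map_bot]
  have := (hP.trans hP1.le) (mem_zpowers _)
  exact hne (congrArg Subtype.val (mem_bot.1 this))

end Finite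

variable [Fact p.Prime]

/-- stable action on the images of `G` -/
theorem stable_image (hp : p ≠ 2) {G : Type u} [Group G] [Finite G]
    (hA : ∀ M : Subgroup G, M ≠ ⊤ → ∀ S : Sylow p G, (S : Subgroup G) ≤ M → ¬ Inv p M) :
    ∀ (n : ℕ) (Y : Type u) [Group Y] [Finite Y] (f : G →* Y), Function.Surjective f →
      ∀ (B : Subgroup Y) [B.Normal], IsPGroup p B → Nat.card B = n → Cfsg.IsPStableOn p B := by
  intro n
  induction n using Nat.strong_induction_on with
  | _ n ih =>
  intro Y _ _ φ hφ B _ hB hn a hq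
  by_cases hne : B = ⊥
  · have hC : centralizer (B : Set Y) = ⊤ := by
      rw [hne]
      exact eq_top_iff.mpr fun x _ => mem_centralizer_iff.mpr fun y hy => by
        rw [mem_bot.mp hy, one_mul, mul_one]
    have : (QuotientGroup.mk a : Y ⧸ centralizer (B : Set Y)) = 1 :=
      (QuotientGroup.eq_one_iff a).mpr (hC ▸ mem_top a)
    rw [this]
    exact one_mem _
  obtain ⟨V, hVn, hVB, hVne, hV⟩ := Cfsg.Lib.QuadPair.exists_elementary_le hB hne
  haveI := hVn
  have haV : (QuotientGroup.mk a : Y ⧸ centralizer (V : Set Y)) ∈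
      Cfsg.pCore p (Y ⧸ centralizer (V : Set Y)) := by
    by_contra hna
    have hqV : ⁅⁅V, zpowers a⁆, zpowers a⁆ = ⊥ :=
      le_bot_iff.mp ((commutator_mono (commutator_mono hVB le_rfl) le_rfl).trans hq.le)
    obtain ⟨d, ρ, ι, hι, hιV, hρι⟩ := Cfsg.Lib.QuadPair.exists_coords V hV
    have hker : ∀ g : Y, ρ g = 1 ↔ g ∈ centralizer (V : Set Y) := by
      intro g
      constructor
      · intro h
        refine mem_centralizer_iff.mpr fun v hv => ?_
        rw [← hιV] at hv
        obtain ⟨x, rfl⟩ := hv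
        have h1 := hρι g x.toAdd
        rw [h, Matrix.one_mulVec] at h1
        conv_lhs => rw [show ι x = g * ι x * g⁻¹ from h1]
        group
      · intro h
        refine Matrix.ext_of_mulVec_single fun i => ?_
        rw [Matrix.one_mulVec]
        refine Multiplicative.ofAdd.injective (hι ?_)
        rw [hρι, ← mem_centralizer_iff.mp h _ (hιV ▸ ⟨_, rfl⟩), mul_inv_cancel_right]
    let C := centralizer (V : Set Y)
    let π := QuotientGroup.mk' C
    let ρC : Y ⧸ C →* Matrix (Fin d) (Fin d) (ZMod p) := QuotientGroup.lift C ρ fun g hg => (hker g).2 hg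
    have hρC : Function.Injective ρC := by
      intro x y e
      obtain ⟨x, rfl⟩ := QuotientGroup.mk_surjective x
      obtain ⟨y, rfl⟩ := QuotientGroup.mk_surjective y
      refine QuotientGroup.eq.mpr ((hker _).mp ?_)
      rw [map_mul, show ρ y = ρ x from e.symm, ← map_mul, inv_mul_cancel, map_one]
    have ha : (ρ a - 1) * (ρ a - 1) = 0 := by
      refine Matrix.ext_of_mulVec_single fun i => ?_
      rw [Matrix.zero_mulVec, ← Matrix.mulVec_mulVec]
      set x : Fin d → ZMod p := Pi.single i 1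
      simp only [Matrix.sub_mulVec, Matrix.one_mulVec]
      rw [sub_eq_zero]
      refine Multiplicative.ofAdd.injective (hι ?_)
      rw [hρι]
      simp only [ofAdd_sub, div_eq_mul_inv, map_mul, map_inv, hρι]
      set v := ι (Multiplicative.ofAdd x)
      have hvV : v ∈ V := hιV ▸ ⟨_, rfl⟩
      have h1 : ⁅v, a⁆ ∈ ⁅V, zpowers a⁆ := commutator_mem_commutator hvV (mem_zpowers _)
      have h2 : ⁅⁅v, a⁆, a⁆ = 1 := by
        have := commutator_mem_commutator h1 (mem_zpowers a)
        rwa [hqV, mem_bot] at this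
      have h4 := (show Commute ⁅v, a⁆ a from commutatorElement_eq_one_iff_commute.mp h2).inv_left
      rw [commutatorElement_inv, commutatorElement_def] at h4
      rw [← h4.eq, mul_inv_cancel_right]
    let Qd : Set (Y ⧸ C) := {b | (ρC b - 1) * (ρC b - 1) = 0}
    have hconj : ∀ g : Y ⧸ C, ∀ b ∈ Qd, g * b * g⁻¹ ∈ Qd := by
      intro g b hb
      show (ρC (g * b * g⁻¹) - 1) * (ρC (g * b * g⁻¹) - 1) = 0
      have e : ρC (g * b * g⁻¹) - 1 = ρC g * (ρC b - 1) * ρC g⁻¹ := by
        rw [mul_sub, sub_mul, mul_one, ← map_mul, ← map_mul, ← map_mul, mul_inv_cancel, map_one]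
      rw [e, show ρC g * (ρC b - 1) * ρC g⁻¹ * (ρC g * (ρC b - 1) * ρC g⁻¹) =
        ρC g * ((ρC b - 1) * (ρC g⁻¹ * ρC g) * (ρC b - 1)) * ρC g⁻¹ by simp only [mul_assoc],
        ← map_mul, inv_mul_cancel, map_one, mul_one, show (ρC b - 1) * (ρC b - 1) = 0 from hb, mul_zero,
        zero_mul]
    have hord : ∀ b ∈ Qd, b ^ p = 1 := by
      intro b hb
      refine hρC ?_
      rw [map_pow, map_one]
      set A := ρC b - 1 with hA'
      have hA2 : A * A = 0 := hb
      have hk : ∀ k : ℕ, (1 + A) ^ k = 1 + k • A := by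
        intro k
        induction k with
        | zero => simp
        | succ k ih =>
          rw [pow_succ, ih, add_mul, mul_add, mul_add, one_mul, one_mul, mul_one, smul_mul_assoc, hA2, smul_zero,
            add_zero, succ_nsmul, add_assoc, add_comm A]
      rw [show ρC b = 1 + A from (add_sub_cancel _ _).symm, hk, ← Nat.cast_smul_eq_nsmul (ZMod p),
        ZMod.natCast_self, zero_smul, add_zero]
    have hpair : ∀ b ∈ Qd, ∀ c ∈ Qd, ¬ IsPGroup p ↥(closure ({b, c} : Set (Y ⧸ C))) →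
        ∃ z ∈ closure ({b, c} : Set (Y ⧸ C)), orderOf z = 2 ∧ z * b = b * z := by
      intro b hb c hc hnp
      set K := closure ({b, c} : Set (Y ⧸ C))
      let b' : K := ⟨b, subset_closure (Set.mem_insert _ _)⟩
      let c' : K := ⟨c, subset_closure (Set.mem_insert_of_mem _ rfl)⟩
      have hgen : closure ({b', c'} : Set K) = ⊤ := by
        refine eq_top_iff.mpr ((closure_closure_coe_preimage (k := ({b, c} : Set (Y ⧸ C)))).ge.trans
          (closure_mono ?_))
        rintro ⟨z, hz⟩ hz'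
        rcases hz' with hz'' | hz''
        · exact Or.inl (Subtype.ext hz'')
        · exact Or.inr (Subtype.ext hz'')
      obtain ⟨z, hz2, hzb⟩ := Cfsg.Lib.InvPair.exists_involution hp (ρC.comp K.subtype)
        (hρC.comp K.subtype_injective) hgen (a := b') (b := c') hb hc hnp
      exact ⟨z, z.2, by rw [Subgroup.orderOf_coe, hz2], congrArg Subtype.val hzb⟩
    obtain ⟨S⟩ := (inferInstance : Nonempty (Sylow p G))
    have hsurj : Function.Surjective (π.comp φ) := (QuotientGroup.mk'_surjective C).comp hφ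
    obtain ⟨M, hPM, hM, z, hz, hz2⟩ :=
      Cfsg.Lib.InvPair.climb Qd hconj hord hpair (b := π a) ha hna (S.mapSurjective hsurj)
    set M' := M.comap (π.comp φ)
    have hM' : M' ≠ ⊤ := fun e => hM (comap_injective hsurj (e.trans (comap_top _).symm))
    refine hA M' hM' S (fun s hs => hPM ⟨s, hs, rfl⟩) (lift hp φ ?_)
    rw [show M'.map φ = M.comap π from map_comap_eq_self_of_surjective hφ (M.comap π)]
    obtain ⟨y, rfl⟩ := QuotientGroup.mk'_surjective C z
    obtain ⟨v, hv, hvy⟩ : ∃ v ∈ V, y * v * y⁻¹ ≠ v := by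
      by_contra hall
      push Not at hall
      have : π y = 1 := (QuotientGroup.eq_one_iff y).2
        (mem_centralizer_iff.2 fun v hv => (mul_inv_eq_iff_eq_mul.1 (hall v hv)).symm)
      rw [this, orderOf_one] at hz2
      norm_num at hz2
    have hyy : y * (y * v * y⁻¹) * y⁻¹ = v := by
      have h2 : y * y ∈ C := (QuotientGroup.eq_one_iff _).1 (show π (y * y) = 1 by
        rw [map_mul, ← pow_two, ← hz2, pow_orderOf_eq_one])
      rw [show y * (y * v * y⁻¹) * y⁻¹ = (y * y) * v * (y * y)⁻¹ by group,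
        ← mem_centralizer_iff.1 h2 v hv, mul_inv_cancel_right]
    have hw : v⁻¹ * (y * v * y⁻¹) ∈ V := mul_mem (inv_mem hv) (Normal.conj_mem inferInstance v hv y)
    haveI := hV.1
    refine ⟨_, ?_, y, hz, fun e => hvy (inv_mul_eq_one.1 e).symm, ⟨1, by rw [pow_one]; exact hV.2 _ hw⟩, ?_⟩
    · show π (v⁻¹ * (y * v * y⁻¹)) ∈ M
      rw [show π (v⁻¹ * (y * v * y⁻¹)) = 1 from (QuotientGroup.eq_one_iff _).2 (mem_centralizer_iff.2
        fun u hu => congrArg Subtype.val (IsMulCommutative.is_comm.comm (⟨u, hu⟩ : V) ⟨_, hw⟩))]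
      exact one_mem M
    · rw [show y * (v⁻¹ * (y * v * y⁻¹)) * y⁻¹ = (y * v * y⁻¹)⁻¹ * (y * (y * v * y⁻¹) * y⁻¹) by group, hyy]
      group
  set f := QuotientGroup.mk' V
  haveI hBn : (B.map f).Normal := Normal.map inferInstance f (QuotientGroup.mk'_surjective V)
  have hlt : Nat.card (B.map f) < n := by
    have h1 : Nat.card (B.map f) = V.relIndex B := by
      rw [← relIndex_bot_left, ← Subgroup.map_bot f, relIndex_map_map,
        bot_sup_eq, QuotientGroup.ker_mk', sup_eq_left.mpr hVB]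
    have h2 : Nat.card V * V.relIndex B = n := by
      rw [← relIndex_bot_left V, relIndex_mul_relIndex ⊥ V B bot_le hVB, relIndex_bot_left, hn]
    have h3 : 1 < Nat.card V := (one_lt_card_iff_ne_bot V).mpr hVne
    have h4 : 0 < V.relIndex B := Nat.pos_of_ne_zero fun h => by
      rw [h, mul_zero] at h2; exact absurd (hn.trans h2.symm) (Nat.card_pos).ne'
    rw [h1]
    calc V.relIndex B < Nat.card V * V.relIndex B := lt_mul_of_one_lt_left h4 h3
      _ = n := h2
  have hbar := ih _ hlt (Y ⧸ V) (f.comp φ) ((QuotientGroup.mk'_surjective V).comp hφ) (B.map f)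
    (hB.map f) rfl (f a) (by
      rw [← MonoidHom.map_zpowers, ← map_commutator, ← map_commutator, hq, Subgroup.map_bot])
  -- the two cores
  set C₁ := centralizer (V : Set Y)
  set C₂ := centralizer ((B.map f : Subgroup (Y ⧸ V)) : Set (Y ⧸ V))
  obtain ⟨k₁, hk₁⟩ := Cfsg.Lib.QuadPair.exists_core_power (p := p) C₁
  obtain ⟨k₂, hk₂⟩ := Cfsg.Lib.QuadPair.exists_core_power (p := p) C₂
  set D₁ := (Cfsg.pCore p (Y ⧸ C₁)).comap (QuotientGroup.mk' C₁)
  set D₂ := ((Cfsg.pCore p ((Y ⧸ V) ⧸ C₂)).comap (QuotientGroup.mk' C₂)).comap f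
  haveI : D₁.Normal := inferInstance
  haveI : D₂.Normal := inferInstance
  obtain ⟨m, hm⟩ := IsPGroup.iff_card.mp (hB.to_le hVB)
  -- powers of the intersection centralize `B`
  have hcent : ∀ d ∈ D₁ ⊓ D₂, d ^ p ^ (k₁ + k₂ + m) ∈ centralizer (B : Set Y) := by
    intro d hd
    set e := d ^ p ^ (k₁ + k₂) with he
    have heV : e ∈ C₁ := by
      rw [he, pow_add, pow_mul]
      exact C₁.pow_mem (hk₁ d hd.1) _
    have heB : f e ∈ C₂ := by
      rw [map_pow, pow_add, mul_comm (p ^ k₁), pow_mul]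
      exact C₂.pow_mem (hk₂ (f d) hd.2) _
    rw [pow_add, pow_mul, ← he]
    refine mem_centralizer_iff.mpr fun x hx => ?_
    set v := x⁻¹ * (e * x * e⁻¹) with hv
    have hvV : v ∈ V := by
      rw [← QuotientGroup.eq_one_iff]
      have hc := mem_centralizer_iff.mp heB (f x) ⟨x, hx, rfl⟩
      show f v = 1
      rw [hv, map_mul, map_mul, map_mul, map_inv, map_inv, ← hc, mul_inv_cancel_right, inv_mul_cancel]
    have hev : e * v * e⁻¹ = v := by
      rw [← mem_centralizer_iff.mp heV v hvV, mul_inv_cancel_right]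
    have hpow : ∀ i : ℕ, e ^ i * x * (e ^ i)⁻¹ = x * v ^ i := by
      intro i
      induction i with
      | zero => simp
      | succ i ih =>
        calc e ^ (i + 1) * x * (e ^ (i + 1))⁻¹ = e * (e ^ i * x * (e ^ i)⁻¹) * e⁻¹ := by
              rw [pow_succ']; group
          _ = e * x * e⁻¹ * (e * v ^ i * e⁻¹) := by rw [ih]; group
          _ = x * v * v ^ i := by rw [← conj_pow, hev, hv, mul_inv_cancel_left]
          _ = x * v ^ (i + 1) := by rw [pow_succ', mul_assoc]
    have h1 := hpow (p ^ m)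
    have h0 : v ^ p ^ m = 1 := by
      rw [← hm]
      exact congrArg Subtype.val (pow_card_eq_one' (x := (⟨v, hvV⟩ : V)))
    rw [h0, mul_one] at h1
    exact (mul_inv_eq_iff_eq_mul.mp h1).symm
  have hmap : IsPGroup p ((D₁ ⊓ D₂).map (QuotientGroup.mk' (centralizer (B : Set Y)))) := by
    rintro ⟨_, d, hd, rfl⟩
    refine ⟨k₁ + k₂ + m, Subtype.ext ?_⟩
    rw [SubgroupClass.coe_pow, OneMemClass.coe_one, ← map_pow]
    exact (QuotientGroup.eq_one_iff _).mpr (hcent d hd)
  have hn' : ((D₁ ⊓ D₂).map (QuotientGroup.mk' (centralizer (B : Set Y)))).Normal :=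
    Normal.map inferInstance _ (QuotientGroup.mk'_surjective _)
  exact Cfsg.Lib.Components.le_pCore hmap ⟨a, ⟨haV, hbar⟩, rfl⟩

theorem main_aux (hp : p ≠ 2) : ∀ (n : ℕ) (G : Type u) [Group G] [Finite G], Nat.card G = n →
    ∀ S : Sylow p G, Inv p (⊤ : Subgroup G) →
      Inv p (normalizer (Cfsg.centerThompsonAOf (S : Subgroup G) : Set G)) := by
  intro n
  induction n using Nat.strong_induction_on with
  | _ n ih =>
  intro G _ _ hn S hinv
  by_contra hN₀
  have hN : ∀ S' : Sylow p G, ¬ Inv p (normalizer (Cfsg.centerThompsonAOf (S' : Subgroup G) : Set G)) :=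
    fun S' h => hN₀ (inv_conj S S' h)
  -- induction for proper subgroups
  have hsub : ∀ M : Subgroup G, M ≠ ⊤ → Inv p M → ∀ T : Sylow p M,
      Inv p (normalizer (Cfsg.centerThompsonAOf ((T : Subgroup M).map M.subtype) : Set G)) := by
    intro M hM hI T
    have h1 := ih _ (hn ▸ Cfsg.Lib.Components.card_lt_of_ne_top hM) M rfl T (inv_subgroup.1 hI)
    have h2 := inv_mono (le_normalizer_map M.subtype) (inv_map M.subtype_injective h1)
    rwa [Cfsg.Lib.ZJ.centerThompsonAOf_map_injOn M.subtype_injective.injOn] at h2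
  have hA : ∀ M : Subgroup G, M ≠ ⊤ → ∀ S' : Sylow p G, (S' : Subgroup G) ≤ M → ¬ Inv p M := by
    intro M hM S' hle hI
    have h := hsub M hM hI (S'.subtype hle)
    rw [Sylow.coe_subtype, map_subgroupOf_eq_of_le hle] at h
    exact hN S' h
  obtain ⟨x, -, g, -, hx1, ⟨k, hk⟩, hgx⟩ := id hinv
  by_cases hO' : Cfsg.pPrimeCore p G = ⊥
  swap
  · -- a normal `p'`-subgroup
    set N := Cfsg.pPrimeCore p G
    set π := QuotientGroup.mk' N
    have hπ : Function.Surjective π := QuotientGroup.mk'_surjective N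
    have hcop := Cfsg.Lib.Components.coprime_card_pPrimeCore (G := G) p
    have hlt : Nat.card (G ⧸ N) < n := by
      rw [← hn, Subgroup.card_eq_card_quotient_mul_card_subgroup N]
      exact lt_mul_of_one_lt_right Nat.card_pos ((one_lt_card_iff_ne_bot N).2 hO')
    have hI : Inv p (⊤ : Subgroup (G ⧸ N)) := by
      refine ⟨π x, trivial, π g, trivial, fun e => hx1 ?_, ⟨k, by rw [← map_pow, hk, map_one]⟩,
        by rw [← map_inv π g, ← map_mul, ← map_mul, hgx, map_inv]⟩
      exact orderOf_eq_one_iff.1 (Nat.eq_one_of_dvd_coprimes (hcop.pow_right k)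
        (orderOf_dvd_natCard N ((QuotientGroup.eq_one_iff x).1 e)) (orderOf_dvd_of_pow_eq_one hk))
    have h1 := ih _ hlt (G ⧸ N) rfl (S.mapSurjective hπ) hI
    rw [Sylow.coe_mapSurjective, ← Cfsg.Lib.ZJ.centerThompsonAOf_map_injOn (Cfsg.Lib.ZJ.injOn_mk hcop S.2),
      ← Cfsg.Lib.Components.normalizer_map_of_coprime_ker hπ (by rw [QuotientGroup.ker_mk']; exact hcop)
        (S.2.to_le (centerThompsonAOf_le _))] at h1
    exact hN S (lift hp π h1)
  set Q := Cfsg.pCore p G with hQ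
  have hQp : IsPGroup p Q := Cfsg.Lib.Components.isPGroup_pCore p
  by_cases hQ1 : Q = ⊥
  · -- trivial core: no proper subgroup inverts
    have hall : ∀ (d : ℕ) (M : Subgroup G), M ≠ ⊤ → ∀ T : Sylow p M,
        n - Nat.card (T : Subgroup M) = d → ¬ Inv p M := by
      intro d
      induction d using Nat.strong_induction_on with
      | _ d ihd =>
      intro M hM T hd hI
      set T₀ := (T : Subgroup M).map M.subtype with hT₀
      have hT₀p : IsPGroup p T₀ := T.2.map _
      obtain ⟨S', hS'⟩ := hT₀p.exists_le_sylow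
      rcases hS'.lt_or_eq with hlt | heq
      swap
      · exact hA M hM S' (heq ▸ map_subtype_le _) hI
      have hI' := hsub M hM hI T
      rw [← hT₀] at hI'
      set Z := Cfsg.centerThompsonAOf T₀
      set N' := normalizer (Z : Set G)
      have hZ : Z ≠ ⊥ := Cfsg.Lib.ZJ.centerThompsonAOf_ne_bot hT₀p (sylow_ne_bot hI T)
      have hN'top : N' ≠ ⊤ := fun e => hZ (le_bot_iff.1 (hQ1 ▸
        (Cfsg.Lib.Components.le_pCore (hn := normalizer_eq_top_iff.1 e) (hT₀p.to_le (centerThompsonAOf_le _)))))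
      set U := (S' : Subgroup G) ⊓ normalizer (T₀ : Set G)
      have hU : T₀ < U := Cfsg.Lib.Transfer.lt_inf_normalizer_of_lt S' hlt
      have hUN : U ≤ N' := inf_le_right.trans (normalizer_le_normalizer_centerThompsonAOf _)
      obtain ⟨T', hT'⟩ := ((S'.2.to_le inf_le_left).comap_subtype (K := N') :
        IsPGroup p (U.subgroupOf N')).exists_le_sylow
      have hcard : Nat.card (T : Subgroup M) < Nat.card (T' : Subgroup N') := by
        calc Nat.card (T : Subgroup M) = Nat.card T₀ := (card_map_of_injective M.subtype_injective).symm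
          _ < Nat.card U := by
            refine lt_of_le_of_ne (card_le_of_le hU.le) fun e => hU.ne (eq_of_le_of_card_ge hU.le e.ge)
          _ = Nat.card (U.subgroupOf N') := (Nat.card_congr (subgroupOfEquivOfLe hUN).toEquiv).symm
          _ ≤ _ := card_le_of_le hT'
      have hle : Nat.card (T' : Subgroup N') ≤ n :=
        hn ▸ (card_le_card_group _).trans (card_le_card_group N')
      exact ihd _ (by omega) N' hN'top T' rfl hI'
    set X := normalizer (zpowers x : Set G)
    have hgX : g ∈ X := by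
      rw [← Cfsg.Lib.Transfer.map_conj_eq_self_iff, MonoidHom.map_zpowers]
      show zpowers (g * x * g⁻¹) = zpowers x
      rw [hgx, zpowers_inv]
    have hXtop : X ≠ ⊤ := by
      intro e
      have hle : zpowers x ≤ Q := Cfsg.Lib.Components.le_pCore (hn := normalizer_eq_top_iff.1 e) (by
        intro y
        obtain ⟨j, hj⟩ := mem_zpowers_iff.1 y.2
        refine ⟨k, Subtype.ext ?_⟩
        rw [SubgroupClass.coe_pow, ← hj, ← zpow_natCast, ← zpow_mul, mul_comm, zpow_mul, zpow_natCast, hk,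
          one_zpow, OneMemClass.coe_one])
      rw [hQ1, le_bot_iff, zpowers_eq_bot] at hle
      exact hx1 hle
    obtain ⟨T⟩ := (inferInstance : Nonempty (Sylow p X))
    exact hall _ X hXtop T rfl ⟨x, le_normalizer (mem_zpowers x), g, hgX, hx1, ⟨k, hk⟩, hgx⟩
  -- nontrivial core
  have hxQ : x ∈ Q := by
    by_contra hx
    set π := QuotientGroup.mk' Q
    have hπ : Function.Surjective π := QuotientGroup.mk'_surjective Q
    have hlt : Nat.card (G ⧸ Q) < n := by
      rw [← hn, Subgroup.card_eq_card_quotient_mul_card_subgroup Q]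
      exact lt_mul_of_one_lt_right Nat.card_pos ((one_lt_card_iff_ne_bot Q).2 hQ1)
    have hI : Inv p (⊤ : Subgroup (G ⧸ Q)) :=
      ⟨π x, trivial, π g, trivial, fun e => hx ((QuotientGroup.eq_one_iff x).1 e),
        ⟨k, by rw [← map_pow, hk, map_one]⟩, by rw [← map_inv π g, ← map_mul, ← map_mul, hgx, map_inv]⟩
    set S₁ := S.mapSurjective hπ
    set Z := Cfsg.centerThompsonAOf (S₁ : Subgroup (G ⧸ Q))
    have h1 := ih _ hlt (G ⧸ Q) rfl S₁ hI
    have hZ : Z ≠ ⊥ := Cfsg.Lib.ZJ.centerThompsonAOf_ne_bot S₁.2 (by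
      intro e
      have h3 := sylow_ne_bot hI (S₁.subtype le_top)
      rw [Sylow.coe_subtype, map_subgroupOf_eq_of_le le_top] at h3
      exact h3 e)
    set W := (normalizer (Z : Set (G ⧸ Q))).comap π
    have hW : W ≠ ⊤ := by
      intro e
      haveI : Z.Normal := normalizer_eq_top_iff.1 (comap_injective hπ (e.trans (comap_top _).symm))
      have hZp : IsPGroup p (Z.comap π) := (S₁.2.to_le (centerThompsonAOf_le _)).comap_of_ker_isPGroup π
        (by rw [QuotientGroup.ker_mk']; exact hQp)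
      have := map_mono (f := π) (Cfsg.Lib.Components.le_pCore hZp)
      rw [map_comap_eq_self_of_surjective hπ, ← hQ, show Q.map π = ⊥ by
        rw [Subgroup.map_eq_bot_iff, QuotientGroup.ker_mk']] at this
      exact hZ (le_bot_iff.1 this)
    refine hA W hW S (fun s hs => ?_) (lift hp π (by rwa [map_comap_eq_self_of_surjective hπ]))
    exact mem_comap.2 (normalizer_le_normalizer_centerThompsonAOf _ (le_normalizer ⟨s, hs, rfl⟩))
  haveI : (centralizer (Q : Set G)).Normal := normal_centralizer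
  set C := centralizer (Q : Set G)
  set D := Q ⊔ C
  set R := (S : Subgroup G) ⊓ D
  have hQS : Q ≤ (S : Subgroup G) := Cfsg.Lib.Thompson.le_sylow_of_normal hQp S
  have hQR : Q ≤ R := le_inf hQS le_sup_left
  by_cases hRQ : R ≤ Q
  swap
  · set NR := normalizer (R : Set G)
    have hNR : NR ≠ ⊤ := fun e => hRQ
      (Cfsg.Lib.Components.le_pCore (hn := normalizer_eq_top_iff.1 e) (S.2.to_le inf_le_left))
    have hSNR : (S : Subgroup G) ≤ NR := by
      intro s hs
      rw [← Cfsg.Lib.Transfer.map_conj_eq_self_iff]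
      refine eq_of_le_of_card_ge ?_ (Cfsg.Lib.Transfer.card_map_conj R s).ge
      rintro _ ⟨y, hy, rfl⟩
      obtain ⟨hy1, hy2⟩ := mem_inf.1 hy
      exact mem_inf.2 ⟨mul_mem (mul_mem hs hy1) (inv_mem hs), Normal.conj_mem inferInstance y hy2 s⟩
    obtain ⟨d, hd, m, hm, hdm⟩ := mem_sup_of_normal_left.1
      ((Cfsg.Lib.ZJ.sup_normalizer_inf_eq_top D S).ge (mem_top g))
    refine hA NR hNR S hSNR (inv_of_even hQp (by rw [normalizer_eq_top]; exact mem_top m) (hQR.trans le_normalizer)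
      hm fun j hj => ?_)
    by_contra hall
    push Not at hall
    have hmC : m ^ j ∈ C := mem_centralizer_iff.2 fun y hy => (mul_inv_eq_iff_eq_mul.1 (hall y hy)).symm
    have hgD : g ^ j ∈ D := by
      rw [← QuotientGroup.eq_one_iff, QuotientGroup.mk_pow]
      have e : (QuotientGroup.mk g : G ⧸ D) = QuotientGroup.mk m := by
        rw [← hdm, QuotientGroup.mk_mul, (QuotientGroup.eq_one_iff d).2 hd, one_mul]
      rw [e, ← QuotientGroup.mk_pow]
      exact (QuotientGroup.eq_one_iff _).2 (mem_sup_right hmC)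
    obtain ⟨q, hq, c, hc, hqc⟩ := mem_sup_of_normal_left.1 hgD
    have h1 : q * x * q⁻¹ = x⁻¹ := by
      rw [← conj_pow_odd hgx j hj, ← hqc]
      rw [show q * c * x * (q * c)⁻¹ = q * (c * x * c⁻¹) * q⁻¹ by group,
        show c * x * c⁻¹ = x by rw [← mem_centralizer_iff.1 hc x hxQ, mul_inv_cancel_right]]
    obtain ⟨i, hi⟩ := hQp ⟨q, hq⟩
    have hq1 : q ^ p ^ i = 1 := congrArg Subtype.val hi
    have h2 := conj_pow_odd h1 (p ^ i) (((Fact.out : p.Prime).odd_of_ne_two hp).pow)
    rw [hq1, one_mul, inv_one, mul_one] at h2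
    exact hx1 (eq_one_of_sq hp ⟨k, hk⟩ (eq_inv_iff_mul_eq_one.1 h2))
  -- self-centralizing core
  have hCQ : C ≤ Q := by
    obtain ⟨P, hP⟩ := Cfsg.Lib.Automizer.sylow_inf_normal S C
    have hPQ : (P : Subgroup C).map C.subtype ≤ Q :=
      hP.le.trans ((inf_le_inf_left _ le_sup_right).trans hRQ)
    have hPc : normalizer ((P : Subgroup C) : Set C) ≤ centralizer ((P : Subgroup C) : Set C) := by
      intro y _
      exact mem_centralizer_iff.2 fun z hz =>
        Subtype.ext (mem_centralizer_iff.1 y.2 _ (hPQ ⟨z, hz, rfl⟩))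
    have hc := MonoidHom.ker_transferSylow_isComplement' P hPc
    set K := (MonoidHom.transferSylow P hPc).ker
    have hKle : K ≤ Cfsg.pPrimeCore p C :=
      Cfsg.Lib.Components.le_pPrimeCore (Cfsg.Lib.Transfer.complement_props hc).1
    have hKbot : (Cfsg.pPrimeCore p C).map C.subtype ≤ ⊥ := by
      rw [← hO']
      exact Cfsg.Lib.Components.le_pPrimeCore (by
        rw [card_map_of_injective C.subtype_injective]
        exact Cfsg.Lib.Components.coprime_card_pPrimeCore p)
    have hK : K = ⊥ := by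
      rw [← le_bot_iff]
      exact hKle.trans ((map_eq_bot_iff_of_injective _ C.subtype_injective).1 (le_bot_iff.1 hKbot)).le
    rw [hK, isComplement'_bot_left] at hc
    intro c hcC
    exact hPQ ⟨⟨c, hcC⟩, by rw [hc]; exact mem_top _, rfl⟩
  have hst : Cfsg.Lib.ZJ.Stable p G := Cfsg.Lib.ZJ.stable_of_isPStableOn fun B _ hB =>
    stable_image hp hA _ G (MonoidHom.id G) Function.surjective_id B hB rfl
  have hZn := Cfsg.Lib.ZJ.centerThompsonA_normal (S := S) hp hst hCQ (Cfsg.Lib.ZJ.stronglyClosed_self _)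
  refine hN S ?_
  rw [normalizer_eq_top_iff.mpr hZn]
  exact hinv

theorem main (hp : p ≠ 2) {G : Type u} [Group G] [Finite G] (S : Sylow p G)
    (h : Inv p (⊤ : Subgroup G)) :
    Inv p (normalizer (Cfsg.centerThompsonAOf (S : Subgroup G) : Set G)) :=
  main_aux hp _ G rfl S h

end Cfsg.Lib.InvSylow
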