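import Cfsg.Agent.Fusion.Basic

/-!
Normalizers in `S`, induced automorphism groups, extenders, receptivity and saturation.
-/

set_option autoImplicit false

namespace Cfsg.Lib.Fusion

open Cfsg Cfsg.FusionSystem

variable {Ω : Type*} [Group Ω] {S : Subgroup Ω} {F : FusionSystem S} {p : ℕ}

theorem finite_of_le [Finite S] {P : Subgroup Ω} (h : P ≤ S) : Finite P :=
  Finite.of_injective _ (Subgroup.inclusion_injective h)

theorem finite_subgroups_le [Finite S] : {P : Subgroup Ω | P ≤ S}.Finite := by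
  have : Set.Finite {P : Subgroup Ω | P ≤ S} := by
    apply Set.Finite.subset (Set.finite_range fun H : Subgroup S => H.map S.subtype)
    intro P hP
    exact ⟨P.subgroupOf S, Subgroup.map_subgroupOf_eq_of_le hP⟩
  exact this

theorem le_normalizerIn {P : Subgroup Ω} (hP : P ≤ S) : P ≤ normalizerIn S P :=
  le_inf hP Subgroup.le_normalizer

theorem centralizerIn_le_normalizerIn (P : Subgroup Ω) :
    centralizerIn S P ≤ normalizerIn S P :=
  inf_le_inf_left S (Subgroup.centralizer_le_normalizer (P : Set Ω))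

theorem mem_normalizer_of_maps_finite {P : Subgroup Ω} [Finite P] {g : Ω}
    (h : ∀ x ∈ P, g * x * g⁻¹ ∈ P) : g ∈ Subgroup.normalizer (P : Set Ω) := by
  have hinj : Function.Injective (fun x : P => (⟨g * x * g⁻¹, h x x.2⟩ : P)) := by
    intro a b hab
    simpa using hab
  have hsurj := Finite.injective_iff_surjective.mp hinj
  rw [Subgroup.mem_normalizer_iff]
  intro y
  refine ⟨h y, fun hy => ?_⟩
  obtain ⟨x, hx⟩ := hsurj ⟨_, hy⟩
  have : (x : Ω) = y := by simpa using congrArg Subtype.val hx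
  exact this ▸ x.2

theorem conj_mem_of_mem_normalizer {P : Subgroup Ω} {g x : Ω}
    (hg : g ∈ Subgroup.normalizer (P : Set Ω)) (hx : x ∈ P) : g * x * g⁻¹ ∈ P :=
  (Subgroup.mem_normalizer_iff.mp hg x).mp hx

theorem mem_centralizerIn {P : Subgroup Ω} {g : Ω} :
    g ∈ centralizerIn S P ↔ g ∈ S ∧ ∀ x ∈ P, g * x * g⁻¹ = x := by
  simp only [centralizerIn, Subgroup.mem_inf, Subgroup.mem_centralizer_iff, SetLike.mem_coe,
    mul_inv_eq_iff_eq_mul]
  exact and_congr_right fun _ => ⟨fun h x hx => (h x hx).symm, fun h x hx => (h x hx).symm⟩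

/-- Normalizers grow inside a finite `p`-group `S`. -/
theorem lt_inf_normalizer [Finite S] [Fact p.Prime] (hS : IsPGroup p S) {P T : Subgroup Ω}
    (hPT : P < T) (hT : T ≤ S) : P < T ⊓ Subgroup.normalizer (P : Set Ω) := by
  have := finite_of_le hT
  have hTp : IsPGroup p T := hS.of_injective _ (Subgroup.inclusion_injective hT)
  have := hTp.isNilpotent
  have hlt : P.subgroupOf T < ⊤ := by
    rw [lt_top_iff_ne_top]
    intro h
    exact hPT.not_ge (Subgroup.subgroupOf_eq_top.mp h)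
  obtain ⟨x, hx, hxn⟩ := SetLike.exists_of_lt (Group.normalizerCondition_of_isNilpotent _ hlt)
  refine lt_of_le_of_ne (le_inf hPT.le Subgroup.le_normalizer) fun h => hxn ?_
  have hxN : (x : Ω) ∈ Subgroup.normalizer (P : Set Ω) := by
    have := finite_of_le (hPT.le.trans hT)
    refine mem_normalizer_of_maps_finite fun y hy => ?_
    exact (Subgroup.mem_normalizer_iff.mp hx ⟨y, hPT.le hy⟩).mp hy
  exact Subgroup.mem_subgroupOf.mpr (h ▸ ⟨x.2, hxN⟩)

theorem lt_normalizerIn [Finite S] [Fact p.Prime] (hS : IsPGroup p S) {P : Subgroup Ω}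
    (hP : P < S) : P < normalizerIn S P :=
  lt_inf_normalizer hS hP le_rfl

/-! ### Induced automorphism groups -/

/-- Conjugation by a normalizing element. -/
def conjAut (P : Subgroup Ω) (g : Ω) (hg : g ∈ Subgroup.normalizer (P : Set Ω)) : MulAut P :=
  P.normalizerMonoidHom ⟨g, hg⟩

theorem conjAut_apply {P : Subgroup Ω} {g : Ω} (hg : g ∈ Subgroup.normalizer (P : Set Ω))
    (x : P) : ((conjAut P g hg x : P) : Ω) = g * x * g⁻¹ := rfl

theorem mem_autInducedBy {K P : Subgroup Ω} {α : MulAut P} :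
    α ∈ autInducedBy K P ↔ ∃ g ∈ K, ∀ x : P, ((α x : P) : Ω) = g * x * g⁻¹ := by
  let H : Subgroup (MulAut P) :=
    { carrier := {α : MulAut P | ∃ g ∈ K, ∀ x : P, ((α x : P) : Ω) = g * x * g⁻¹}
      one_mem' := ⟨1, K.one_mem, fun x => by simp⟩
      mul_mem' := by
        rintro α β ⟨g, hg, e⟩ ⟨h, hh, e'⟩
        refine ⟨g * h, K.mul_mem hg hh, fun x => ?_⟩
        show ((α (β x) : P) : Ω) = _
        rw [e, e']
        group
      inv_mem' := by
        rintro α ⟨g, hg, e⟩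
        refine ⟨g⁻¹, K.inv_mem hg, fun x => ?_⟩
        have h1 := e (α⁻¹ x)
        rw [show α (α⁻¹ x) = x from MulAut.apply_inv_self _ α x] at h1
        rw [h1]
        group }
  show α ∈ Subgroup.closure (H : Set (MulAut P)) ↔ _
  rw [Subgroup.closure_eq]
  rfl

theorem autInducedBy_mono {K K' P : Subgroup Ω} (h : K ≤ K') :
    autInducedBy K P ≤ autInducedBy K' P := fun α hα => by
  obtain ⟨g, hg, e⟩ := mem_autInducedBy.mp hα
  exact mem_autInducedBy.mpr ⟨g, h hg, e⟩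

theorem conjAut_mem_autInducedBy {K P : Subgroup Ω} {g : Ω}
    (hg : g ∈ Subgroup.normalizer (P : Set Ω)) (hK : g ∈ K) :
    conjAut P g hg ∈ autInducedBy K P :=
  mem_autInducedBy.mpr ⟨g, hK, fun x => conjAut_apply hg x⟩

theorem mem_normalizer_of_mem_autInducedBy {P : Subgroup Ω} {g : Ω} {α : MulAut P}
    (e : ∀ x : P, ((α x : P) : Ω) = g * x * g⁻¹) : g ∈ Subgroup.normalizer (P : Set Ω) := by
  rw [Subgroup.mem_normalizer_iff]
  intro y
  refine ⟨fun hy => e ⟨y, hy⟩ ▸ SetLike.coe_mem _, fun hy => ?_⟩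
  have h := e (α⁻¹ ⟨_, hy⟩)
  rw [show α (α⁻¹ ⟨_, hy⟩) = ⟨_, hy⟩ from MulAut.apply_inv_self _ α _] at h
  have h' : y = ((α⁻¹ ⟨g * y * g⁻¹, hy⟩ : P) : Ω) := by
    simpa using h
  rw [h']
  exact SetLike.coe_mem _

theorem autInducedBy_le {P : Subgroup Ω} (hP : P ≤ S) : autInducedBy S P ≤ F.autGroup P := by
  intro α hα
  obtain ⟨g, hg, e⟩ := mem_autInducedBy.mp hα
  refine (isMap_autFun hP).mp ((isMap_conj hP hg).congr fun x hx => ?_)
  rw [autFun_apply_mem α hx]
  exact e ⟨x, hx⟩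

/-- The surjection from `N_S(P)` onto `Aut_S(P)`. -/
def normalizerInHom (S P : Subgroup Ω) : normalizerIn S P →* MulAut P :=
  P.normalizerMonoidHom.comp (Subgroup.inclusion inf_le_right)

theorem normalizerInHom_apply (P : Subgroup Ω) (g : normalizerIn S P) (x : P) :
    ((normalizerInHom S P g x : P) : Ω) = g * x * (g : Ω)⁻¹ := rfl

theorem range_normalizerInHom (P : Subgroup Ω) :
    (normalizerInHom S P).range = autInducedBy S P := by
  ext α
  constructor
  · rintro ⟨g, rfl⟩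
    exact mem_autInducedBy.mpr ⟨g, g.2.1, fun x => rfl⟩
  · intro hα
    obtain ⟨g, hg, e⟩ := mem_autInducedBy.mp hα
    exact ⟨⟨g, hg, mem_normalizer_of_mem_autInducedBy e⟩,
      MulEquiv.ext fun x => Subtype.ext (e x).symm⟩

theorem isPGroup_autInducedBy (hS : IsPGroup p S) (P : Subgroup Ω) :
    IsPGroup p (autInducedBy S P) := by
  rw [← range_normalizerInHom]
  exact ((hS.of_injective _ (Subgroup.inclusion_injective inf_le_left)).of_surjective _
    (normalizerInHom S P).rangeRestrict_surjective)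

/-! ### Extenders -/

/-- The condition for `g` to lie in the extender of `f`. -/
def Extends (S P : Subgroup Ω) (f : Ω → Ω) (g : Ω) : Prop :=
  g ∈ S ∧ g ∈ Subgroup.normalizer (P : Set Ω) ∧ ∃ h ∈ S, ∀ x ∈ P, f (g * x * g⁻¹) = h * f x * h⁻¹

/-- The extender as a subgroup, by its elements. -/
def extSub (S P : Subgroup Ω) (f : Ω → Ω) : Subgroup Ω where
  carrier := {g | Extends S P f g}
  one_mem' := ⟨S.one_mem, Subgroup.one_mem _, 1, S.one_mem, fun x _ => by simp⟩
  mul_mem' := by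
    rintro a b ⟨ha, hna, h, hh, e⟩ ⟨hb, hnb, k, hk, e'⟩
    refine ⟨S.mul_mem ha hb, Subgroup.mul_mem _ hna hnb, h * k, S.mul_mem hh hk, fun x hx => ?_⟩
    have : a * b * x * (a * b)⁻¹ = a * (b * x * b⁻¹) * a⁻¹ := by group
    rw [this, e _ (conj_mem_of_mem_normalizer hnb hx), e' x hx]
    group
  inv_mem' := by
    rintro a ⟨ha, hna, h, hh, e⟩
    refine ⟨S.inv_mem ha, Subgroup.inv_mem _ hna, h⁻¹, S.inv_mem hh, fun x hx => ?_⟩
    have h1 := e _ (conj_mem_of_mem_normalizer (Subgroup.inv_mem _ hna) hx)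
    have h2 : a * (a⁻¹ * x * a⁻¹⁻¹) * a⁻¹ = x := by group
    rw [h2] at h1
    rw [h1]
    group

theorem mem_extSub {P : Subgroup Ω} {f : Ω → Ω} {g : Ω} :
    g ∈ extSub S P f ↔ g ∈ S ∧ g ∈ Subgroup.normalizer (P : Set Ω) ∧
      ∃ h ∈ S, ∀ x ∈ P, f (g * x * g⁻¹) = h * f x * h⁻¹ := Iff.rfl

theorem extender_eq {P : Subgroup Ω} {φ : P →* Ω} {f : Ω → Ω} (e : ∀ x : P, φ x = f x) :
    extender S P φ = extSub S P f := by
  have : {g : Ω | g ∈ S ∧ g ∈ Subgroup.normalizer (P : Set Ω) ∧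
      ∃ h ∈ S, ∀ (x : P) (hx : g * (x : Ω) * g⁻¹ ∈ P), φ ⟨g * x * g⁻¹, hx⟩ = h * φ x * h⁻¹}
      = (extSub S P f : Set Ω) := by
    ext g
    refine and_congr_right fun _ => and_congr_right fun hn => exists_congr fun h =>
      and_congr_right fun _ => ⟨fun H x hx => ?_, fun H x hx => ?_⟩
    · have := H ⟨x, hx⟩ (conj_mem_of_mem_normalizer hn hx)
      rwa [e, e] at this
    · rw [e, e]
      exact H x x.2
  rw [FusionSystem.extender, this, Subgroup.closure_eq]

theorem extSub_le (P : Subgroup Ω) (f : Ω → Ω) : extSub S P f ≤ normalizerIn S P :=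
  fun _ hg => ⟨hg.1, hg.2.1⟩

theorem le_extSub {P : Subgroup Ω} {f : Ω → Ω} (hf : IsMap F P f) : P ≤ extSub S P f :=
  fun g hg => ⟨hf.le hg, Subgroup.le_normalizer hg, f g, hf.mem_S hg,
    fun _ hx => hf.map_conj hg hx⟩

theorem centralizerIn_le_extSub (P : Subgroup Ω) (f : Ω → Ω) :
    centralizerIn S P ≤ extSub S P f := by
  intro g hg
  obtain ⟨hgS, hgc⟩ := mem_centralizerIn.mp hg
  exact ⟨hgS, (centralizerIn_le_normalizerIn P hg).2, 1, S.one_mem,
    fun x hx => by rw [hgc x hx]; simp⟩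

theorem receptive_extend {Q : Subgroup Ω} (h : F.IsReceptive Q) {P : Subgroup Ω} {f : Ω → Ω}
    (hf : IsMap F P f) (hi : img P f = Q) :
    ∃ f', IsMap F (extSub S P f) f' ∧ ∀ x ∈ P, f' x = f x := by
  obtain ⟨φ, hφ, e⟩ := hf
  have hf : IsMap F P f := ⟨φ, hφ, e⟩
  obtain ⟨ψ, hψ, hag⟩ := h.2 P φ hφ ((hf.range_eq e).trans hi)
  refine ⟨toFun' ψ, extender_eq (S := S) e ▸ isMap_of_mem hψ, fun x hx => ?_⟩
  have hx' : x ∈ extender S P φ := extender_eq (S := S) e ▸ le_extSub hf hx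
  rw [toFun'_apply_mem ψ hx', hag x hx hx', e]

theorem receptive_of_extend {Q : Subgroup Ω} (hQ : Q ≤ S)
    (h : ∀ (P : Subgroup Ω) (f : Ω → Ω), IsMap F P f → img P f = Q →
      ∃ f', IsMap F (extSub S P f) f' ∧ ∀ x ∈ P, f' x = f x) :
    F.IsReceptive Q := by
  refine ⟨hQ, fun P φ hφ hr => ?_⟩
  have e : ∀ x : P, φ x = toFun' φ x := fun x => (toFun'_apply φ x).symm
  have hf := isMap_of_mem (F := F) hφ
  obtain ⟨f', hf', hag⟩ := h P _ hf ((hf.range_eq e).symm.trans hr)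
  rw [← extender_eq (S := S) e] at hf'
  obtain ⟨ψ, hψ, eψ⟩ := hf'
  exact ⟨ψ, hψ, fun x hP hN => by rw [eψ, hag x hP, e ⟨x, hP⟩]⟩

/-! ### Maps on normalizers and centralizers -/

theorem IsMap.mem_normalizerIn {T P : Subgroup Ω} {f : Ω → Ω} (hf : IsMap F T f) (hPT : P ≤ T)
    {t : Ω} (ht : t ∈ T) (htP : t ∈ Subgroup.normalizer (P : Set Ω)) :
    f t ∈ normalizerIn S (img P f) := by
  refine ⟨hf.mem_S ht, ?_⟩
  show f t ∈ Subgroup.normalizer (img P f : Set Ω)
  rw [Subgroup.mem_normalizer_iff]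
  intro y
  rw [(hf.mono hPT).mem_img, (hf.mono hPT).mem_img]
  constructor
  · rintro ⟨x, hx, rfl⟩
    exact ⟨t * x * t⁻¹, conj_mem_of_mem_normalizer htP hx, hf.map_conj ht (hPT hx)⟩
  · rintro ⟨x, hx, hxy⟩
    have hx' := conj_mem_of_mem_normalizer (Subgroup.inv_mem _ htP) hx
    refine ⟨_, hx', ?_⟩
    rw [inv_inv] at hx' ⊢
    rw [hf.map_mul (T.mul_mem (T.inv_mem ht) (hPT hx)) ht, hf.map_mul (T.inv_mem ht) (hPT hx),
      hf.map_inv ht, hxy]
    group

theorem IsMap.mem_centralizerIn {T P : Subgroup Ω} {f : Ω → Ω} (hf : IsMap F T f) (hPT : P ≤ T)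
    {t : Ω} (ht : t ∈ T) (htP : t ∈ FusionSystem.centralizerIn S P) :
    f t ∈ FusionSystem.centralizerIn S (img P f) := by
  obtain ⟨-, htc⟩ := Fusion.mem_centralizerIn.mp htP
  refine Fusion.mem_centralizerIn.mpr ⟨hf.mem_S ht, fun y hy => ?_⟩
  obtain ⟨x, hx, rfl⟩ := (hf.mono hPT).mem_img.mp hy
  rw [← hf.map_conj ht (hPT hx), htc x hx]

theorem card_le_of_isMap [Finite S] {T A B : Subgroup Ω} {f : Ω → Ω} (hf : IsMap F T f)
    (hA : A ≤ T) (hB : B ≤ S) (h : ∀ a ∈ A, f a ∈ B) : Nat.card A ≤ Nat.card B := by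
  have := finite_of_le hB
  refine Nat.card_le_card_of_injective (fun a : A => (⟨f a, h a a.2⟩ : B)) fun a b hab => ?_
  exact Subtype.ext (hf.injOn (hA a.2) (hA b.2) (congrArg Subtype.val hab))

theorem exists_preimage_of_card_le [Finite S] {T A B : Subgroup Ω} {f : Ω → Ω}
    (hf : IsMap F T f) (hA : A ≤ T) (hB : B ≤ S) (h : ∀ a ∈ A, f a ∈ B)
    (hc : Nat.card B ≤ Nat.card A) {b : Ω} (hb : b ∈ B) : ∃ a ∈ A, f a = b := by
  have := finite_of_le hB
  have := finite_of_le (hA.trans hf.le)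
  have hinj : Function.Injective (fun a : A => (⟨f a, h a a.2⟩ : B)) := fun a b hab =>
    Subtype.ext (hf.injOn (hA a.2) (hA b.2) (congrArg Subtype.val hab))
  obtain ⟨a, ha⟩ := (hinj.bijective_of_nat_card_le hc).2 ⟨b, hb⟩
  exact ⟨a, a.2, congrArg Subtype.val ha⟩

theorem fullyCentralized_of_receptive [Finite S] {Q : Subgroup Ω} (h : F.IsReceptive Q) :
    F.IsFullyCentralized Q := by
  refine ⟨h.1, fun R hR => ?_⟩
  obtain ⟨f, hf, hi⟩ := isConj_iff.mp (isConj_symm hR)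
  obtain ⟨f', hf', hag⟩ := receptive_extend h hf hi
  have hi' : img R f' = Q := (img_congr hag).trans hi
  exact card_le_of_isMap hf' (centralizerIn_le_extSub R f) inf_le_left fun c hc =>
    hi' ▸ hf'.mem_centralizerIn (le_extSub hf) (centralizerIn_le_extSub R f hc) hc

/-! ### Transport along an isomorphism -/

/-- The homomorphism onto the image given by a map. -/
def IsMap.homTo {P Q : Subgroup Ω} {f : Ω → Ω} (hf : IsMap F P f)
    (hi : img P f = Q) : P →* Q where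
  toFun x := ⟨f x, hi ▸ IsMap.apply_mem_img x.2⟩
  map_one' := Subtype.ext hf.map_one
  map_mul' x y := Subtype.ext (hf.map_mul x.2 y.2)

/-- The isomorphism onto the image given by a map. -/
noncomputable def IsMap.equiv {P Q : Subgroup Ω} {f : Ω → Ω} (hf : IsMap F P f)
    (hi : img P f = Q) : P ≃* Q :=
  MulEquiv.ofBijective (hf.homTo hi)
    ⟨fun a b h => Subtype.ext (hf.injOn a.2 b.2 (congrArg Subtype.val h)),
     fun y => by
      have hy : (y : Ω) ∈ img P f := by rw [hi]; exact y.2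
      obtain ⟨x, hx, e⟩ := hf.mem_img.mp hy
      exact ⟨⟨x, hx⟩, Subtype.ext e⟩⟩

theorem IsMap.equiv_apply {P Q : Subgroup Ω} {f : Ω → Ω} (hf : IsMap F P f)
    (hi : img P f = Q) (x : P) : ((hf.equiv hi x : Q) : Ω) = f x := rfl

theorem congr_equiv_spec {P Q : Subgroup Ω} {f : Ω → Ω} (hf : IsMap F P f) (hi : img P f = Q)
    (α : MulAut P) {x : Ω} (hx : x ∈ P) :
    autFun (MulAut.congr (hf.equiv hi) α) (f x) = f (autFun α x) := by
  have hfx : f x = ((hf.equiv hi ⟨x, hx⟩ : Q) : Ω) := rfl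
  rw [hfx, autFun_apply, autFun_apply_mem α hx]
  show ((hf.equiv hi (α ((hf.equiv hi).symm (hf.equiv hi ⟨x, hx⟩))) : Q) : Ω) = _
  rw [MulEquiv.symm_apply_apply]
  rfl

theorem congr_mem_autGroup {P Q : Subgroup Ω} {f : Ω → Ω} (hf : IsMap F P f) (hi : img P f = Q)
    {α : MulAut P} (hα : α ∈ F.autGroup P) :
    MulAut.congr (hf.equiv hi) α ∈ F.autGroup Q := by
  have hQ : Q ≤ S := hi ▸ hf.img_le
  obtain ⟨g, hg, hgi, hl, hr⟩ := hf.exists_inv
  subst hi
  have h1 := (hg.comp ((isMap_autFun hf.le).mpr hα) fun y hy => by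
    rw [← hgi]; exact IsMap.apply_mem_img hy)
  have h2 := h1.comp hf fun y hy => by
    show autFun α (g y) ∈ P
    refine autFun_mem α ?_
    rw [← hgi]; exact IsMap.apply_mem_img hy
  refine (isMap_autFun hQ).mp (h2.congr fun y hy => ?_)
  obtain ⟨x, hx, rfl⟩ := hf.mem_img.mp hy
  rw [congr_equiv_spec hf rfl α hx]
  simp [hl x hx]

theorem map_congr_autGroup {P Q : Subgroup Ω} {f : Ω → Ω} (hf : IsMap F P f)
    (hi : img P f = Q) :
    (F.autGroup P).map (MulAut.congr (hf.equiv hi)).toMonoidHom = F.autGroup Q := by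
  refine le_antisymm ?_ fun β hβ => ?_
  · rintro _ ⟨α, hα, rfl⟩
    exact congr_mem_autGroup hf hi hα
  · obtain ⟨g, hg, hgi, hl, hr⟩ := hf.exists_inv
    subst hi
    refine ⟨(MulAut.congr (hf.equiv rfl)).symm β, ?_, MulEquiv.apply_symm_apply _ β⟩
    have hm : ∀ x ∈ P, autFun β (f x) ∈ img P f := fun x hx =>
      autFun_mem β (IsMap.apply_mem_img hx)
    have h1 := (hf.comp ((isMap_autFun hf.img_le).mpr hβ)
      fun x hx => IsMap.apply_mem_img hx).comp hg hm
    refine (isMap_autFun hf.le).mp (h1.congr fun x hx => ?_)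
    have h2 := congr_equiv_spec hf rfl ((MulAut.congr (hf.equiv rfl)).symm β) hx
    rw [MulEquiv.apply_symm_apply] at h2
    show _ = g (autFun β (f x))
    rw [h2, hl _ (autFun_mem _ hx)]

/-! ### Fully automized subgroups -/

theorem isFullyAutomized_iff [Finite S] [Fact p.Prime] (hS : IsPGroup p S) {P : Subgroup Ω} :
    F.IsFullyAutomized p P ↔
      P ≤ S ∧ ¬ p ∣ (autInducedBy S P).relIndex (F.autGroup P) := by
  refine and_congr_right fun hP => ?_
  have := finite_of_le hP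
  constructor
  · rintro ⟨R, hR⟩
    rw [Subgroup.relIndex, ← hR]
    exact R.not_dvd_index
  · intro h
    exact ⟨((isPGroup_autInducedBy hS P).of_injective
      (Subgroup.subgroupOfEquivOfLe (autInducedBy_le (F := F) hP)).toMonoidHom
      (Subgroup.subgroupOfEquivOfLe (autInducedBy_le (F := F) hP)).injective).toSylow h,
      IsPGroup.toSylow_coe _ _⟩

theorem exists_conj_into_autS [Finite S] [Fact p.Prime] {P : Subgroup Ω}
    (hP : F.IsFullyAutomized p P) {K : Subgroup (MulAut P)} (hK : IsPGroup p K)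
    (hKX : K ≤ F.autGroup P) :
    ∃ χ ∈ F.autGroup P, ∀ β ∈ K, χ * β * χ⁻¹ ∈ autInducedBy S P := by
  have := finite_of_le hP.1
  obtain ⟨-, R, hR⟩ := hP
  obtain ⟨T, hT⟩ := (hK.of_injective (Subgroup.subgroupOfEquivOfLe hKX).toMonoidHom
    (Subgroup.subgroupOfEquivOfLe hKX).injective).exists_le_sylow
  obtain ⟨χ, hχ⟩ := MulAction.exists_smul_eq (F.autGroup P) T R
  refine ⟨χ, χ.2, fun β hβ => ?_⟩
  have hb : χ * ⟨β, hKX hβ⟩ * χ⁻¹ ∈ ((χ • T : Sylow p (F.autGroup P)) : Subgroup (F.autGroup P)) :=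
    ⟨⟨β, hKX hβ⟩, hT hβ, rfl⟩
  rw [hχ, hR] at hb
  exact hb

/-- A map onto a fully automized receptive subgroup can be corrected to extend to the normalizer. -/
theorem exists_map_normalizer [Finite S] [Fact p.Prime] (hS : IsPGroup p S) {P Q : Subgroup Ω}
    (hfa : F.IsFullyAutomized p Q) (hrec : F.IsReceptive Q) {f₀ : Ω → Ω} (hf₀ : IsMap F P f₀)
    (hi : img P f₀ = Q) :
    ∃ χ ∈ F.autGroup Q, ∃ f, IsMap F (normalizerIn S P) f ∧ img P f = Q ∧
      (∀ x ∈ P, f x = autFun χ (f₀ x)) ∧ ∀ t ∈ normalizerIn S P, f t ∈ normalizerIn S Q := by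
  have hQ : Q ≤ S := hi ▸ hf₀.img_le
  let e := (MulAut.congr (hf₀.equiv hi)).toMonoidHom.comp (normalizerInHom S P)
  have heX : e.range ≤ F.autGroup Q := by
    rintro _ ⟨g, rfl⟩
    exact congr_mem_autGroup hf₀ hi
      (autInducedBy_le hf₀.le (range_normalizerInHom (S := S) P ▸ ⟨g, rfl⟩))
  have hep : IsPGroup p e.range :=
    (hS.of_injective _ (Subgroup.inclusion_injective inf_le_left)).of_surjective _
      e.rangeRestrict_surjective
  obtain ⟨χ, hχ, hχK⟩ := exists_conj_into_autS hfa hep heX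
  have hmem : ∀ x ∈ P, f₀ x ∈ Q := fun x hx => hi ▸ IsMap.apply_mem_img hx
  let f₁ := autFun χ ∘ f₀
  have hf₁ : IsMap F P f₁ := hf₀.comp ((isMap_autFun hQ).mpr hχ) hmem
  have hi₁ : img P f₁ = Q := by
    subst hi
    rw [img_comp hf₀ ((isMap_autFun hQ).mpr hχ), img_autFun]
  have hle : normalizerIn S P ≤ extSub S P f₁ := by
    intro g hg
    obtain ⟨h, hh, eh⟩ := mem_autInducedBy.mp (hχK (e ⟨g, hg⟩) ⟨⟨g, hg⟩, rfl⟩)
    refine ⟨hg.1, hg.2, h, hh, fun x hx => ?_⟩
    show autFun χ (f₀ (g * x * g⁻¹)) = h * autFun χ (f₀ x) * h⁻¹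
    have hcg : f₀ (g * x * g⁻¹) = autFun (e ⟨g, hg⟩) (f₀ x) := by
      show _ = autFun (MulAut.congr (hf₀.equiv hi) (normalizerInHom S P ⟨g, hg⟩)) (f₀ x)
      rw [congr_equiv_spec hf₀ hi _ hx, autFun_apply_mem _ hx]
      rfl
    have := eh ⟨autFun χ (f₀ x), autFun_mem χ (hmem x hx)⟩
    rw [hcg, ← this, ← autFun_mul χ _ (hmem x hx)]
    rw [← autFun_apply (χ * e ⟨g, hg⟩ * χ⁻¹) ⟨_, autFun_mem χ (hmem x hx)⟩]
    rw [← autFun_mul _ χ (hmem x hx), inv_mul_cancel_right]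
  obtain ⟨f, hf, hag⟩ := receptive_extend hrec hf₁ hi₁
  refine ⟨χ, hχ, f, hf.mono hle, (img_congr hag).trans hi₁, hag, fun t ht => ?_⟩
  rw [← (img_congr hag).trans hi₁]
  exact hf.mem_normalizerIn (le_extSub hf₁) (hle ht) ht.2

/-- Receptivity moves along a map of normalizers which is onto on centralizers. -/
theorem receptive_of_map [Finite S] {P Q : Subgroup Ω} (hP : P ≤ S) (hQ : F.IsReceptive Q)
    {f : Ω → Ω} (hf : IsMap F (normalizerIn S P) f) (hi : img P f = Q)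
    (hC : ∀ c ∈ centralizerIn S Q, ∃ a ∈ centralizerIn S P, f a = c) :
    F.IsReceptive P := by
  refine receptive_of_extend hP fun R g hg hgi => ?_
  have hfP : IsMap F P f := hf.mono (le_normalizerIn hP)
  have := finite_of_le hP
  have hgP : ∀ x ∈ R, g x ∈ P := fun x hx => hgi ▸ IsMap.apply_mem_img hx
  have hfg : IsMap F R (f ∘ g) := hg.comp hfP hgP
  have hfgi : img R (f ∘ g) = Q := by
    subst hgi
    rw [img_comp hg hfP, hi]
  -- the witness for an element of the extender normalizes `P`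
  have hnorm : ∀ t ∈ extSub S R g, ∃ h ∈ normalizerIn S P,
      ∀ x ∈ R, g (t * x * t⁻¹) = h * g x * h⁻¹ := by
    rintro t ⟨-, htn, h, hh, eh⟩
    refine ⟨h, ⟨hh, ?_⟩, eh⟩
    refine mem_normalizer_of_maps_finite fun y hy => ?_
    obtain ⟨x, hx, rfl⟩ := hg.mem_img.mp (hgi.symm ▸ hy)
    rw [← eh x hx]
    exact hgP _ (conj_mem_of_mem_normalizer htn hx)
  have hle : extSub S R g ≤ extSub S R (f ∘ g) := by
    intro t ht
    obtain ⟨h, hh, eh⟩ := hnorm t ht
    refine ⟨ht.1, ht.2.1, f h, hf.mem_S hh, fun x hx => ?_⟩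
    show f (g (t * x * t⁻¹)) = f h * f (g x) * (f h)⁻¹
    rw [eh x hx, hf.map_conj hh (le_normalizerIn hP (hgP x hx))]
  obtain ⟨G, hG, hGag⟩ := receptive_extend hQ hfg hfgi
  have hG' := hG.mono hle
  obtain ⟨k, hk, hki, hl, hr⟩ := hf.exists_inv
  have hin : ∀ t ∈ extSub S R g, G t ∈ img (normalizerIn S P) f := by
    intro t ht
    obtain ⟨h, hh, eh⟩ := hnorm t ht
    have hRT : ∀ x ∈ R, G x = f (g x) := hGag
    obtain ⟨c, hc, hca⟩ := hC ((f h)⁻¹ * G t) (mem_centralizerIn.mpr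
      ⟨S.mul_mem (S.inv_mem (hf.mem_S hh)) (hG'.mem_S ht), fun y hy => by
        obtain ⟨x, hx, rfl⟩ := hfg.mem_img.mp (hfgi.symm ▸ hy)
        show (f h)⁻¹ * G t * f (g x) * ((f h)⁻¹ * G t)⁻¹ = f (g x)
        have h2 : G t * f (g x) * (G t)⁻¹ = f h * f (g x) * (f h)⁻¹ := by
          rw [← hRT x hx, ← hG'.map_conj ht (le_extSub hg hx),
            hRT _ (conj_mem_of_mem_normalizer ht.2.1 hx), hRT x hx, eh x hx,
            hf.map_conj hh (le_normalizerIn hP (hgP x hx))]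
        calc (f h)⁻¹ * G t * f (g x) * ((f h)⁻¹ * G t)⁻¹
            = (f h)⁻¹ * (G t * f (g x) * (G t)⁻¹) * f h := by group
          _ = f (g x) := by rw [h2]; group⟩)
    have : G t = f h * f c := by rw [hca]; group
    rw [this, ← hf.map_mul hh (centralizerIn_le_normalizerIn P hc)]
    exact IsMap.apply_mem_img ((normalizerIn S P).mul_mem hh (centralizerIn_le_normalizerIn P hc))
  refine ⟨k ∘ G, hG'.comp hk hin, fun x hx => ?_⟩
  show k (G x) = g x
  rw [hGag x hx]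
  exact hl _ (le_normalizerIn hP (hgP x hx))

theorem exists_fullyNormalized [Finite S] {P : Subgroup Ω} (hP : P ≤ S) :
    ∃ Q, F.IsConj P Q ∧ F.IsFullyNormalized Q := by
  have hfin : {Q : Subgroup Ω | F.IsConj P Q}.Finite :=
    finite_subgroups_le.subset fun Q hQ => (isConj_le hQ).2
  obtain ⟨Q, hQ, hmax⟩ := hfin.exists_maximalFor (fun Q => Nat.card (normalizerIn S Q)) _
    ⟨P, isConj_refl hP⟩
  refine ⟨Q, hQ, (isConj_le hQ).2, fun R hR => ?_⟩
  rcases le_total (Nat.card (normalizerIn S R)) (Nat.card (normalizerIn S Q)) with h | h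
  · exact h
  · exact hmax (isConj_trans hQ hR) h

/-- Consequences of saturation for fully normalized subgroups. -/
theorem fullyNormalized_props [Finite S] [Fact p.Prime] (hS : IsPGroup p S)
    (hF : F.IsSaturated p) {P : Subgroup Ω} (hP : F.IsFullyNormalized P) :
    F.IsFullyCentralized P ∧ F.IsFullyAutomized p P ∧ F.IsReceptive P := by
  obtain ⟨Q, hPQ, hfa, hrec⟩ := hF P hP.1
  obtain ⟨f₀, hf₀, hi₀⟩ := isConj_iff.mp hPQ
  obtain ⟨χ, -, f, hf, hi, -, hfN⟩ := exists_map_normalizer hS hfa hrec hf₀ hi₀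
  have hfP : IsMap F P f := hf.mono (le_normalizerIn hP.1)
  have honto : ∀ t ∈ normalizerIn S Q, ∃ a ∈ normalizerIn S P, f a = t := fun t ht =>
    exists_preimage_of_card_le hf le_rfl inf_le_left hfN (hP.2 Q hPQ) ht
  have := finite_of_le hP.1
  have hC : ∀ c ∈ centralizerIn S Q, ∃ a ∈ centralizerIn S P, f a = c := by
    intro c hc
    obtain ⟨a, ha, rfl⟩ := honto c (centralizerIn_le_normalizerIn Q hc)
    refine ⟨a, mem_centralizerIn.mpr ⟨ha.1, fun x hx => ?_⟩, rfl⟩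
    refine hf.injOn ((normalizerIn S P).mul_mem ((normalizerIn S P).mul_mem ha
      (le_normalizerIn hP.1 hx)) ((normalizerIn S P).inv_mem ha)) (le_normalizerIn hP.1 hx) ?_
    rw [hf.map_conj ha (le_normalizerIn hP.1 hx)]
    exact (mem_centralizerIn.mp hc).2 (f x) (hi ▸ IsMap.apply_mem_img hx)
  have hrecP := receptive_of_map hP.1 hrec hf hi hC
  refine ⟨fullyCentralized_of_receptive hrecP, ?_, hrecP⟩
  rw [isFullyAutomized_iff hS] at hfa ⊢
  refine ⟨hP.1, ?_⟩
  have hS' : (autInducedBy S P).map (MulAut.congr (hfP.equiv hi)).toMonoidHom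
      = autInducedBy S Q := by
    have key : ∀ (α : MulAut P) (a : Ω), a ∈ normalizerIn S P →
        (∀ x : P, ((α x : P) : Ω) = a * x * a⁻¹) →
        ∀ y : Q, ((MulAut.congr (hfP.equiv hi) α y : Q) : Ω) = f a * y * (f a)⁻¹ := by
      intro α a ha ea y
      have hy : (y : Ω) ∈ img P f := by rw [hi]; exact y.2
      obtain ⟨x, hx, hxy⟩ := hfP.mem_img.mp hy
      rw [← autFun_apply (MulAut.congr (hfP.equiv hi) α) y, ← hxy, congr_equiv_spec hfP hi α hx, autFun_apply_mem α hx, ea,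
        hf.map_conj ha (le_normalizerIn hP.1 hx)]
    ext β
    constructor
    · rintro ⟨α, hα, rfl⟩
      obtain ⟨a, ha, ea⟩ := mem_autInducedBy.mp hα
      have ha' : a ∈ normalizerIn S P := ⟨ha, mem_normalizer_of_mem_autInducedBy ea⟩
      exact mem_autInducedBy.mpr ⟨f a, hf.mem_S ha', key α a ha' ea⟩
    · intro hβ
      obtain ⟨b, hb, eb⟩ := mem_autInducedBy.mp hβ
      obtain ⟨a, ha, rfl⟩ := honto b ⟨hb, mem_normalizer_of_mem_autInducedBy eb⟩
      refine ⟨conjAut P a ha.2, conjAut_mem_autInducedBy ha.2 ha.1, ?_⟩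
      refine MulEquiv.ext fun y => Subtype.ext ?_
      rw [eb y]
      exact key _ a ha (fun x => conjAut_apply ha.2 x) y
  rw [← Subgroup.relIndex_map_map_of_injective _ _
    (f := (MulAut.congr (hfP.equiv hi)).toMonoidHom) (MulAut.congr (hfP.equiv hi)).injective]
  show ¬ p ∣ ((autInducedBy S P).map (MulAut.congr (hfP.equiv hi)).toMonoidHom).relIndex
    ((F.autGroup P).map (MulAut.congr (hfP.equiv hi)).toMonoidHom)
  rw [hS', map_congr_autGroup hfP hi]
  exact hfa.2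

/-- In a saturated system fully centralized subgroups are receptive. -/
theorem receptive_of_fullyCentralized [Finite S] [Fact p.Prime] (hS : IsPGroup p S)
    (hF : F.IsSaturated p) {P : Subgroup Ω} (hP : F.IsFullyCentralized P) : F.IsReceptive P := by
  obtain ⟨Q, hPQ, hfa, hrec⟩ := hF P hP.1
  obtain ⟨f₀, hf₀, hi₀⟩ := isConj_iff.mp hPQ
  obtain ⟨χ, -, f, hf, hi, -, -⟩ := exists_map_normalizer hS hfa hrec hf₀ hi₀
  refine receptive_of_map hP.1 hrec hf hi fun c hc =>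
    exists_preimage_of_card_le hf (centralizerIn_le_normalizerIn P) inf_le_left (fun a ha => ?_)
      (hP.2 Q hPQ) hc
  rw [← hi]
  exact hf.mem_centralizerIn (le_normalizerIn hP.1) (centralizerIn_le_normalizerIn P ha) ha

theorem saturated_of_props [Finite S]
    (h₁ : ∀ P : Subgroup Ω, F.IsFullyNormalized P → F.IsFullyAutomized p P)
    (h₂ : ∀ P : Subgroup Ω, F.IsFullyNormalized P → F.IsReceptive P) : F.IsSaturated p := by
  intro P hP
  obtain ⟨Q, hPQ, hQ⟩ := exists_fullyNormalized (F := F) hP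
  exact ⟨Q, hPQ, h₁ Q hQ, h₂ Q hQ⟩

end Cfsg.Lib.Fusion
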