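import Cfsg.Agent.Fusion.Simple

/-!
The automorphism group of a 2-group with a characteristic cyclic subgroup of index two is a 2-group;
dihedral and generalized quaternion groups.
-/

set_option autoImplicit false

namespace Cfsg.Lib.Fusion

theorem isPGroup_mulAut_of_cyclicIndexTwo {D : Type*} [Group D] [Finite D] {c t : D} {n : ℕ}
    (hn : 3 ≤ n) (hc : orderOf c = 2 ^ n)
    (hall : ∀ x : D, x ∈ Subgroup.zpowers c ∨ ∃ i : ℤ, x = c ^ i * t)
    (hfour : ∀ i : ℤ, (c ^ i * t) ^ 4 = 1) (ht : t ∉ Subgroup.zpowers c) :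
    IsPGroup 2 (MulAut D) := by
  intro α
  have hzc : ∀ β : MulAut D, β c ∈ Subgroup.zpowers c := fun β => by
    refine (hall (β c)).resolve_right ?_
    rintro ⟨i, hi⟩
    have h2 : orderOf (β c) ∣ 4 := orderOf_dvd_of_pow_eq_one (by rw [hi, hfour])
    rw [β.orderOf_eq, hc] at h2
    have h4 := Nat.le_of_dvd (by norm_num) h2
    have : 2 ^ 3 ≤ 2 ^ n := Nat.pow_le_pow_right two_pos hn
    omega
  obtain ⟨i, hi : c ^ i = α c⟩ := hzc α
  have hiter : ∀ k : ℕ, (α ^ k) c = c ^ (i ^ k) := by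
    intro k
    induction k with
    | zero => simp
    | succ k ih => rw [pow_succ, MulAut.mul_apply, ← hi, map_zpow, ih, ← zpow_mul, pow_succ]
  haveI : NeZero (2 ^ n) := ⟨pow_ne_zero _ two_ne_zero⟩
  have hodd : Odd i := by
    rcases Int.even_or_odd i with ⟨j, rfl⟩ | ho
    · exfalso
      have h2 : orderOf (α c) = 2 ^ n := by rw [α.orderOf_eq, hc]
      have h3 : (c ^ (j + j)) ^ (2 ^ (n - 1)) = 1 := by
        rw [← zpow_natCast, ← zpow_mul,
          show (j + j) * ((2 ^ (n - 1) : ℕ) : ℤ) = ((2 ^ n : ℕ) : ℤ) * j by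
            rw [show n = n - 1 + 1 by omega, Nat.add_sub_cancel]; push_cast; ring,
          zpow_mul, zpow_natCast, ← hc, pow_orderOf_eq_one, one_zpow]
      have h4 := orderOf_dvd_of_pow_eq_one h3
      rw [hi, h2, Nat.pow_dvd_pow_iff_le_right one_lt_two] at h4
      omega
    · exact ho
  have hunit : IsUnit ((i : ℤ) : ZMod (2 ^ n)) := by
    obtain ⟨j, rfl⟩ := hodd
    have hnil : IsNilpotent ((2 : ZMod (2 ^ n)) * (j : ZMod (2 ^ n))) := by
      refine ⟨n, ?_⟩
      rw [mul_pow, show (2 : ZMod (2 ^ n)) ^ n = ((2 ^ n : ℕ) : ZMod (2 ^ n)) from (Nat.cast_pow 2 n).symm,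
        ZMod.natCast_self, zero_mul]
    push_cast
    exact hnil.isUnit_add_one
  have hfix : (α ^ 2 ^ (n - 1)) c = c := by
    rw [hiter]
    conv_rhs => rw [← zpow_one c]
    rw [zpow_eq_zpow_iff_modEq, hc, ← ZMod.intCast_eq_intCast_iff]
    push_cast
    obtain ⟨u, hu⟩ := hunit
    rw [← hu, ← Units.val_pow_eq_pow_val, show u ^ 2 ^ (n - 1) = 1 from ?_, Units.val_one]
    have h1 := ZMod.pow_totient u
    rw [Nat.totient_prime_pow Nat.prime_two (by omega : 0 < n)] at h1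
    simpa using h1
  set β := α ^ 2 ^ (n - 1) with hβ
  obtain ⟨j, hj⟩ : ∃ j : ℤ, β t = c ^ j * t := by
    refine (hall (β t)).resolve_left ?_
    rintro ⟨j, hj : c ^ j = β t⟩
    refine ht ⟨j, β.injective ?_⟩
    show β (c ^ j) = β t
    rw [map_zpow, hfix, hj]
  refine ⟨n - 1 + n, ?_⟩
  rw [pow_add, pow_mul, ← hβ]
  refine MulEquiv.ext fun x => ?_
  have hci : ∀ k : ℕ, (β ^ k) c = c := by
    intro k
    induction k with
    | zero => rfl
    | succ k ih => rw [pow_succ, MulAut.mul_apply, hfix, ih]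
  have hti : ∀ k : ℕ, (β ^ k) t = c ^ (j * k) * t := by
    intro k
    induction k with
    | zero => simp
    | succ k ih =>
      rw [pow_succ, MulAut.mul_apply, hj, map_mul, map_zpow, hci, ih, ← mul_assoc, ← zpow_add]
      congr 2
      push_cast
      ring
  have hlast : (β ^ 2 ^ n) t = t := by
    rw [hti, mul_comm j, zpow_mul, zpow_natCast, ← hc, pow_orderOf_eq_one, one_zpow, one_mul]
  show (β ^ 2 ^ n) x = x
  rcases hall x with ⟨l, rfl⟩ | ⟨l, rfl⟩
  · show (β ^ 2 ^ n) (c ^ l) = c ^ l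
    rw [map_zpow, hci]
  · rw [map_mul, map_zpow, hci, hlast]

theorem isPGroup_mulAut_dihedral {n : ℕ} (hn : 3 ≤ n) :
    IsPGroup 2 (MulAut (DihedralGroup (2 ^ n))) := by
  haveI : NeZero (2 ^ n) := ⟨pow_ne_zero _ two_ne_zero⟩
  refine isPGroup_mulAut_of_cyclicIndexTwo (c := DihedralGroup.r 1) (t := DihedralGroup.sr 0) hn
    DihedralGroup.orderOf_r_one ?_ (fun i => ?_) ?_
  · rintro (a | a)
    · refine Or.inl ⟨a.val, ?_⟩
      simp [DihedralGroup.r_one_pow]
    · refine Or.inr ⟨((-a).val : ℤ), ?_⟩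
      simp [DihedralGroup.r_one_pow]
  · rw [DihedralGroup.r_one_zpow, DihedralGroup.r_mul_sr, show (4 : ℕ) = 2 * 2 from rfl, pow_mul, sq,
      sq, DihedralGroup.sr_mul_self, one_mul]
  · rintro ⟨i, hi : DihedralGroup.r (1 : ZMod (2 ^ n)) ^ i = DihedralGroup.sr 0⟩
    rw [DihedralGroup.r_one_zpow] at hi
    exact DihedralGroup.noConfusion rfl (heq_of_eq hi)

theorem isPGroup_mulAut_quaternion {n : ℕ} (hn : 2 ≤ n) :
    IsPGroup 2 (MulAut (QuaternionGroup (2 ^ n))) := by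
  haveI : NeZero (2 ^ n) := ⟨pow_ne_zero _ two_ne_zero⟩
  have hz : ∀ i : ℤ, QuaternionGroup.a (1 : ZMod (2 * 2 ^ n)) ^ i = QuaternionGroup.a (i : ZMod (2 * 2 ^ n)) := by
    intro i
    cases i with
    | ofNat k => simp [QuaternionGroup.a_one_pow]
    | negSucc k =>
      rw [zpow_negSucc, QuaternionGroup.a_one_pow]
      show QuaternionGroup.a (-((k + 1 : ℕ) : ZMod (2 * 2 ^ n))) = _
      push_cast [Int.cast_negSucc]
      rfl
  refine isPGroup_mulAut_of_cyclicIndexTwo (c := QuaternionGroup.a 1) (t := QuaternionGroup.xa 0)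
    (n := n + 1) (by omega) (by rw [QuaternionGroup.orderOf_a_one, pow_succ']) ?_ (fun i => ?_) ?_
  · rintro (a | a)
    · refine Or.inl ⟨(a.val : ℤ), ?_⟩
      show QuaternionGroup.a (1 : ZMod (2 * 2 ^ n)) ^ (a.val : ℤ) = _
      simp [hz]
    · refine Or.inr ⟨((-a).val : ℤ), ?_⟩
      simp [hz]
  · rw [hz, QuaternionGroup.a_mul_xa]
    have h := pow_orderOf_eq_one (QuaternionGroup.xa ((0 : ZMod (2 * 2 ^ n)) - (i : ZMod (2 * 2 ^ n))))
    rwa [QuaternionGroup.orderOf_xa] at h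
  · rintro ⟨i, hi : QuaternionGroup.a (1 : ZMod (2 * 2 ^ n)) ^ i = QuaternionGroup.xa 0⟩
    rw [hz] at hi
    exact QuaternionGroup.noConfusion rfl (heq_of_eq hi)

end Cfsg.Lib.Fusion
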