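import Cfsg.Agent.Fusion.Essential
import Cfsg.Agent.Quadratic.BaerSuzuki

/-!
A non-inner saturated fusion system over a 2-group has an essential site with an inverted automorphism of odd
order, unless the 2-group has an automorphism of odd order.
-/

set_option autoImplicit false
set_option linter.unusedSectionVars false
set_option linter.style.haveILetI false

namespace Cfsg.Lib.Fusion

open Cfsg Cfsg.FusionSystem

universe u

/-- The data at an essential site, read inside the 2-group `T`. -/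
structure TwoSite (T : Type u) [Group T] where
  P : Subgroup T
  A : Subgroup (MulAut P)
  good : Subgroup (MulAut P)
  ne_top : P ≠ ⊤
  cent : Subgroup.centralizer (P : Set T) ≤ P
  inn : Inn P ≤ A
  conj : ∀ (g : T) (hg : g ∈ Subgroup.normalizer (P : Set T)), conjAut P g hg ∈ A
  rad : ∀ K : Subgroup (MulAut P), K ≤ A → IsPGroup 2 K → (∀ a ∈ A, ∀ k ∈ K, a * k * a⁻¹ ∈ K) → K ≤ Inn P
  syl : ∀ K : Subgroup (MulAut P), K ≤ A → IsPGroup 2 K → ∃ δ ∈ A, ∀ k ∈ K,
    ∃ (g : T) (hg : g ∈ Subgroup.normalizer (P : Set T)), δ * k * δ⁻¹ = conjAut P g hg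
  bad : ∃ γ ∈ A, γ ∉ good
  good_conj : ∀ δ ∈ A, ∀ (g : T) (hg : g ∈ Subgroup.normalizer (P : Set T)), g ∉ P →
    (∃ (h : T) (hh : h ∈ Subgroup.normalizer (P : Set T)), δ * conjAut P g hg * δ⁻¹ = conjAut P h hh) → δ ∈ good
  odd : ∃ q : ℕ, q.Prime ∧ q ≠ 2 ∧ ∃ α ∈ A, ∃ (t : T) (ht : t ∈ Subgroup.normalizer (P : Set T)),
    α ^ q = 1 ∧ α ≠ 1 ∧ conjAut P t ht * α * (conjAut P t ht)⁻¹ = α⁻¹

theorem conjAut_mul' {Ω : Type*} [Group Ω] (P : Subgroup Ω) {g h : Ω} (hg : g ∈ Subgroup.normalizer (P : Set Ω))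
    (hh : h ∈ Subgroup.normalizer (P : Set Ω)) :
    conjAut P (g * h) (mul_mem hg hh) = conjAut P g hg * conjAut P h hh :=
  map_mul P.normalizerMonoidHom ⟨g, hg⟩ ⟨h, hh⟩

/-- a dihedral argument: an involution outside `O₂` inverts an element of odd prime order -/
theorem exists_inverted {G : Type*} [Group G] [Finite G] {x : G} (hx : x ^ 2 = 1)
    (hrad : ∀ N : Subgroup G, N.Normal → IsPGroup 2 N → x ∉ N) :
    ∃ (q : ℕ) (μ : G), q.Prime ∧ q ≠ 2 ∧ orderOf μ = q ∧ x * μ * x⁻¹ = μ⁻¹ := by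
  haveI : Fact (Nat.Prime 2) := ⟨Nat.prime_two⟩
  by_contra hno
  push Not at hno
  have h2x : IsPGroup 2 (Subgroup.zpowers x) := by
    rintro ⟨m, hm⟩
    obtain ⟨i, rfl⟩ := Subgroup.mem_zpowers_iff.1 hm
    refine ⟨1, Subtype.ext ?_⟩
    show (x ^ i) ^ (2 ^ 1) = 1
    rw [pow_one, ← zpow_natCast, ← zpow_mul, mul_comm, zpow_mul, zpow_natCast, hx, one_zpow]
  obtain ⟨N, hNn, hN2, hxN⟩ := BaerSuzuki.baer_suzuki (p := 2) (Subgroup.zpowers x) fun g => by
    set x' := g * x * g⁻¹ with hx'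
    set m := x * x' with hm
    have hinv : x * m * x⁻¹ = m⁻¹ := by
      have e1 : x⁻¹ = x := by rw [inv_eq_iff_mul_eq_one, ← sq, hx]
      have e2 : x'⁻¹ = x' := by rw [inv_eq_iff_mul_eq_one, ← sq, hx', conj_pow, hx, mul_one, mul_inv_cancel]
      rw [hm, mul_inv_rev, e1, e2, ← mul_assoc, ← sq, hx, one_mul]
    have hm2 : IsPGroup 2 (Subgroup.zpowers m) := by
      obtain ⟨k, n, hodd, e⟩ := Nat.exists_eq_two_pow_mul_odd (orderOf_pos m).ne'
      have hn1 : n = 1 := by
        by_contra hn1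
        obtain ⟨q, hq, hqn⟩ := Nat.exists_prime_and_dvd hn1
        have hq2 : q ≠ 2 := fun h => (Nat.not_even_iff_odd.2 hodd) (even_iff_two_dvd.2 (h ▸ hqn))
        refine hno q (m ^ (orderOf m / q)) hq hq2
          (orderOf_pow_orderOf_div (orderOf_pos m).ne' (e ▸ hqn.mul_left _)) ?_
        rw [← conj_pow, hinv, inv_pow]
      exact IsPGroup.of_card (n := k) (by rw [Nat.card_zpowers, e, hn1, mul_one])
    have hnorm : Subgroup.zpowers x ≤ Subgroup.normalizer (Subgroup.zpowers m : Set G) := by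
      refine Subgroup.zpowers_le.2 (Subgroup.mem_normalizer_iff_map_conj_eq.2
        (Subgroup.eq_of_le_of_card_ge ?_ (Subgroup.card_map_of_injective (MulEquiv.injective _)).ge))
      rintro _ ⟨_, ⟨i, rfl⟩, rfl⟩
      show x * m ^ i * x⁻¹ ∈ _
      rw [← conj_zpow, hinv]
      exact zpow_mem (inv_mem (Subgroup.mem_zpowers m)) i
    refine (IsPGroup.to_sup_of_normal_right' h2x hm2 hnorm).to_le (sup_le le_sup_left ?_)
    rintro _ ⟨_, ⟨i, rfl⟩, rfl⟩
    show g * x ^ i * g⁻¹ ∈ _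
    rw [← conj_zpow]
    refine zpow_mem ?_ i
    have := Subgroup.mul_mem_sup (inv_mem (Subgroup.mem_zpowers x)) (Subgroup.mem_zpowers m)
    rwa [hm, inv_mul_cancel_left] at this
  exact hrad N hNn hN2 (hxN (Subgroup.mem_zpowers x))

/-- the existence of a site, or of an automorphism of odd order of the whole 2-group -/
theorem exists_twoSite_or {Ω : Type u} [Group Ω] {S : Subgroup Ω} [Finite S] (hS : IsPGroup 2 S) {F : FusionSystem S}
    (hF : F.IsSaturated 2) (hni : ¬ ∀ P : Subgroup Ω, F.Hom P = (innerFusionSystem S).Hom P) :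
    Nonempty (TwoSite S) ∨ ¬ IsPGroup 2 (MulAut S) := by
  classical
  haveI : Fact (Nat.Prime 2) := ⟨Nat.prime_two⟩
  by_contra hcon
  rw [not_or, not_not] at hcon
  obtain ⟨hsite, hS2⟩ := hcon
  apply hni
  intro P
  refine Set.Subset.antisymm (fun φ hφ => ?_) ?_
  swap
  · rintro φ ⟨hP, g, hg, e⟩
    rw [show φ = conjHom P g from MonoidHom.ext e]
    exact F.conj_mem hP hg
  set Φ := IsMap (innerFusionSystem S) with hΦd
  have hΦ : IsMapClass F Φ := isMapClass_isMap F _
  refine IsMap.mem_of_agree (f := toFun' φ) ?_ (fun x => (toFun'_apply φ x).symm)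
  refine alperin_induction hS hF hΦ ?_ ?_ (isMap_of_mem hφ)
  · intro f hf
    obtain ⟨α, hα, hαe⟩ := hf.exists_aut (Subgroup.eq_of_le_of_card_ge hf.img_le (by rw [hf.card_img]))
    obtain ⟨Q, hQ, hQn⟩ := exists_fullyNormalized (F := F) (le_refl S)
    obtain rfl : Q = S := Subgroup.eq_of_le_of_card_ge hQn.1 (isConj_card hQ).ge
    obtain ⟨-, hfa, -⟩ := fullyNormalized_props hS hF hQn
    obtain ⟨χ, hχ, hχK⟩ := exists_conj_into_autS hfa (hS2.to_subgroup _) le_rfl
    have h1 := hχK (χ⁻¹ * α * χ) (mul_mem (mul_mem (inv_mem hχ) hα) hχ)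
    rw [show χ * (χ⁻¹ * α * χ) * χ⁻¹ = α by group] at h1
    obtain ⟨g, hg, eg⟩ := mem_autInducedBy.mp h1
    exact (isMap_conj le_rfl hg).congr fun x hx => by rw [← hαe x hx, autFun_apply_mem α hx, eg]
  · intro Q hQS hQn hQc hIH α₀ hα₀
    by_contra hbad
    apply hsite
    have hess := essential_of_bad hS hF hΦ hQS hQn hQc hIH hα₀ hbad
    obtain ⟨-, hfa, hrec⟩ := fullyNormalized_props hS hF hQn
    haveI := finite_of_le hQS.le
    set P' := Q.subgroupOf S with hP'
    set e : P' ≃* Q := Subgroup.subgroupOfEquivOfLe hQS.le with he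
    set ψ : MulAut Q ≃* MulAut P' := MulAut.congr e.symm with hψ
    have hψa : ∀ (β : MulAut Q) (p : P'), (((ψ β p : P') : S) : Ω) = ((β (e p) : Q) : Ω) := fun β p => rfl
    have hnorm : ∀ g : S, g ∈ Subgroup.normalizer (P' : Set S) →
        (g : Ω) ∈ Subgroup.normalizer (Q : Set Ω) := fun g hg =>
      mem_normalizer_of_maps_finite fun x hx => (Subgroup.mem_normalizer_iff.1 hg ⟨x, hQS.le hx⟩).1 hx
    have hnorm' : ∀ g : S, (g : Ω) ∈ Subgroup.normalizer (Q : Set Ω) →
        g ∈ Subgroup.normalizer (P' : Set S) := fun g hg =>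
      Subgroup.mem_normalizer_iff.2 fun x => Subgroup.mem_normalizer_iff.1 hg x
    have hconj : ∀ (g : S) (hg : g ∈ Subgroup.normalizer (P' : Set S)),
        conjAut P' g hg = ψ (conjAut Q (g : Ω) (hnorm g hg)) := fun g hg =>
      MulEquiv.ext fun p => Subtype.ext (Subtype.ext rfl)
    have hind : ∀ β ∈ autInducedBy S Q, ∃ (g : S) (hg : g ∈ Subgroup.normalizer (P' : Set S)),
        ψ β = conjAut P' g hg := fun β hβ => by
      obtain ⟨g, hg, eg⟩ := mem_autInducedBy.mp hβ
      refine ⟨⟨g, hg⟩, hnorm' _ (mem_normalizer_of_mem_autInducedBy eg),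
        MulEquiv.ext fun p => Subtype.ext (Subtype.ext ?_)⟩
      rw [hψa, eg]
      rfl
    have hinn : ∀ β : MulAut Q, ψ β ∈ Inn P' ↔ β ∈ Inn Q := by
      intro β
      refine ⟨fun ⟨p, hp⟩ => ⟨e p, ψ.injective ?_⟩, fun ⟨p, hp⟩ => ⟨e.symm p, ?_⟩⟩
      · rw [← hp]
        exact MulEquiv.ext fun x => Subtype.ext (Subtype.ext rfl)
      · rw [← hp]
        exact MulEquiv.ext fun x => Subtype.ext (Subtype.ext rfl)
    have hrad := radical_of_stronglyEmbedded hS hess
    set G := F.autGroup Q with hG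
    haveI := inn_normal_autGroup F Q
    set A := G.map ψ.toMonoidHom with hA
    have hmemA : ∀ β, ψ β ∈ A ↔ β ∈ G := fun β =>
      ⟨fun ⟨γ, hγ, h⟩ => ψ.injective h ▸ hγ, fun h => ⟨β, h, rfl⟩⟩
    have hkill : ∀ K : Subgroup (MulAut Q), K ≤ G → IsPGroup 2 K →
        (∀ a ∈ G, ∀ k ∈ K, a * k * a⁻¹ ∈ K) → K ≤ Inn Q := by
      intro K hK hK2 hKn
      rw [← hrad.2]
      intro k hk
      refine ⟨⟨k, hK hk⟩, ?_, rfl⟩
      exact (le_sSup ⟨⟨fun n hn a => hKn a.1 a.2 n.1 hn⟩, hK2.comap_subtype⟩ : K.subgroupOf G ≤ pCore 2 G) hk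
    -- the quotient by the inner automorphisms
    set N := (Inn Q).subgroupOf G with hN
    set π := QuotientGroup.mk' N with hπ
    have hN2 : IsPGroup 2 N := (((hS.of_injective _ (Subgroup.inclusion_injective hQS.le)).of_surjective _
      (MulAut.conj (G := Q)).rangeRestrict_surjective)).comap_subtype
    obtain ⟨β, hβ, hβI⟩ := exists_noninner hS hQS (hQc.2 Q (isConj_refl hQn.1))
    set T0 := ((autInducedBy S Q).subgroupOf G).map π with hT0
    have hT02 : IsPGroup 2 T0 := (isPGroup_autInducedBy hS Q).comap_subtype.map π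
    have hb : π ⟨β, autInducedBy_le hQS.le hβ⟩ ≠ 1 :=
      fun h => hβI ((QuotientGroup.eq_one_iff (N := N) _).mp h)
    obtain ⟨⟨x, hxT⟩, hx⟩ : ∃ x : T0, orderOf x = 2 := by
      refine exists_prime_orderOf_dvd_card' 2 ?_
      rcases hT02.card_eq_or_dvd with h | h
      · refine absurd ?_ hb
        have := Subgroup.mem_map_of_mem π (show (⟨β, autInducedBy_le hQS.le hβ⟩ : G) ∈
          (autInducedBy S Q).subgroupOf G from hβ)
        rw [← hT0, Subgroup.card_eq_one.1 h] at this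
        exact Subgroup.mem_bot.1 this
      · exact h
    have hx' : orderOf x = 2 := by
      rw [← hx]; exact (orderOf_injective T0.subtype T0.subtype_injective ⟨x, hxT⟩)
    obtain ⟨q, μ, hq, hq2, hμ, hinv⟩ := exists_inverted (x := x) (by rw [← hx', pow_orderOf_eq_one]) (by
      intro M hMn hM2 hxM
      have hK : IsPGroup 2 ((M.comap π).map G.subtype) := by
        refine (hM2.comap_of_ker_isPGroup π ?_).map _
        rw [hπ, QuotientGroup.ker_mk']
        exact hN2
      have hle := hkill _ (Subgroup.map_subtype_le _) hK (by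
        rintro a ha _ ⟨k, hk, rfl⟩
        exact ⟨⟨a, ha⟩ * k * ⟨a, ha⟩⁻¹, (hMn.comap π).conj_mem k hk ⟨a, ha⟩, rfl⟩)
      obtain ⟨b, -, rfl⟩ := hxT
      have h1 : (b : MulAut Q) ∈ Inn Q := hle ⟨b, hxM, rfl⟩
      have : π b = 1 := (QuotientGroup.eq_one_iff (N := N) b).mpr h1
      rw [this, orderOf_one] at hx'
      omega)
    haveI : Fact q.Prime := ⟨hq⟩
    obtain ⟨a0, rfl⟩ := QuotientGroup.mk'_surjective N μ
    obtain ⟨m, hm⟩ : ∃ m, (a0 ^ q) ^ (2 ^ m) = 1 := by
      have h1 : a0 ^ q ∈ N := (QuotientGroup.eq_one_iff _).1 (by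
        rw [QuotientGroup.mk_pow]; exact hμ ▸ pow_orderOf_eq_one _)
      obtain ⟨m, hm⟩ := hN2 ⟨a0 ^ q, h1⟩
      exact ⟨m, congrArg Subtype.val hm⟩
    set a := a0 ^ (2 ^ m) with ha
    have haq : a ^ q = 1 := by rw [ha, ← pow_mul, mul_comm, pow_mul, hm]
    have hπa : orderOf (π a) = q := by
      rw [map_pow, Nat.Coprime.orderOf_pow (by
        rw [hμ]; exact Nat.Coprime.pow_right _ ((Nat.coprime_primes hq Nat.prime_two).2 hq2))]
      exact hμ
    have ha1 : a ≠ 1 := fun h => by rw [h, map_one, orderOf_one] at hπa; exact hq.one_lt.ne hπa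
    obtain ⟨b, hbT, rfl⟩ := hxT
    have hinva : π b * π a * (π b)⁻¹ = (π a)⁻¹ := by
      rw [map_pow, ← conj_pow, hinv, inv_pow]
    set c := b * a * b⁻¹ with hc
    have hcq : c ^ q = 1 := by rw [hc, conj_pow, haq, mul_one, mul_inv_cancel]
    set L := (Subgroup.zpowers (π a)).comap π with hL
    have haL : a ∈ L := Subgroup.mem_zpowers _
    have hcL : c ∈ L := by
      rw [hL, Subgroup.mem_comap]
      rw [hc, map_mul, map_mul, map_inv, hinva]
      exact inv_mem (Subgroup.mem_zpowers _)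
    have hLdvd : ∀ k, q ^ k ∣ Nat.card L → k ≤ 1 := by
      intro k hk
      obtain ⟨j, hj⟩ := IsPGroup.iff_card.1 hN2
      have hcard : Nat.card L = Nat.card N * q := by
        have hNL : N ≤ L := fun n hn => by
          rw [hL, Subgroup.mem_comap]
          rw [show π n = 1 from (QuotientGroup.eq_one_iff n).2 hn]
          exact one_mem _
        have h1 := Subgroup.card_mul_index (N.subgroupOf L)
        rw [Nat.card_congr (Subgroup.subgroupOfEquivOfLe hNL).toEquiv] at h1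
        have h2 : (N.subgroupOf L).index = q := by
          rw [← hπa, ← Nat.card_zpowers]
          have := Subgroup.relIndex_comap (⊥ : Subgroup (G ⧸ N)) π L
          rw [MonoidHom.comap_bot, hπ, QuotientGroup.ker_mk', hL,
            Subgroup.map_comap_eq_self_of_surjective (QuotientGroup.mk'_surjective N),
            Subgroup.relIndex_bot_left] at this
          exact this
        rw [h2] at h1
        exact h1.symm
      rw [hcard, hj] at hk
      have h2 : q ^ k ∣ q := (Nat.Coprime.dvd_of_dvd_mul_left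
        (Nat.Coprime.pow _ _ ((Nat.coprime_primes hq Nat.prime_two).2 hq2)) hk)
      by_contra hk2
      have h3 := Nat.le_of_dvd hq.pos h2
      have : q ^ 2 ≤ q ^ k := Nat.pow_le_pow_right hq.pos (by omega)
      nlinarith [hq.two_le]
    have hordc : orderOf c = q := orderOf_eq_prime hcq (fun h => ha1 (by
      rw [hc] at h; exact conj_eq_one_iff.1 h))
    have horda : orderOf a = q := orderOf_eq_prime haq ha1
    have mkSyl : ∀ (d : G) (hd : d ∈ L), orderOf d = q →
        ∃ D : Sylow q L, (D : Subgroup L) = Subgroup.zpowers ⟨d, hd⟩ := by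
      intro d hd ho
      have hcd : Nat.card (Subgroup.zpowers (⟨d, hd⟩ : L)) = q := by
        rw [Nat.card_zpowers, ← orderOf_injective L.subtype L.subtype_injective ⟨d, hd⟩]; exact ho
      have h2 : IsPGroup q (Subgroup.zpowers (⟨d, hd⟩ : L)) := IsPGroup.of_card (n := 1) (by rw [hcd, pow_one])
      obtain ⟨D, hD⟩ := h2.exists_le_sylow
      refine ⟨D, (Subgroup.eq_of_le_of_card_ge hD ?_).symm⟩
      obtain ⟨k, hk⟩ := IsPGroup.iff_card.1 D.2
      rw [hk, hcd]
      calc q ^ k ≤ q ^ 1 := Nat.pow_le_pow_right hq.pos (hLdvd k (hk ▸ Subgroup.card_subgroup_dvd_card _))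
        _ = q := pow_one q
    obtain ⟨D1, hD1⟩ := mkSyl c hcL hordc
    obtain ⟨D2, hD2⟩ := mkSyl a haL horda
    obtain ⟨l, hl⟩ := MulAction.exists_smul_eq L D1 D2
    obtain ⟨i, hi⟩ := Subgroup.mem_zpowers_iff.1 (l.2 : π (l : G) ∈ Subgroup.zpowers (π a))
    set n := (a ^ i)⁻¹ * (l : G) with hn
    have hnN : n ∈ N := (QuotientGroup.eq_one_iff n).1 (by
      show π n = 1
      rw [hn, map_mul, map_inv, map_zpow, hi, inv_mul_cancel])
    have hnc : n * c * n⁻¹ ∈ Subgroup.zpowers a := by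
      have h1 : l * ⟨c, hcL⟩ * l⁻¹ ∈ (D2 : Subgroup L) := by
        rw [← hl, Sylow.coe_subgroup_smul]
        exact ⟨⟨c, hcL⟩, hD1 ▸ Subgroup.mem_zpowers _, rfl⟩
      rw [hD2] at h1
      obtain ⟨j, hj⟩ := Subgroup.mem_zpowers_iff.1 h1
      have hj' : a ^ j = (l : G) * c * (l : G)⁻¹ := congrArg Subtype.val hj
      refine Subgroup.mem_zpowers_iff.2 ⟨j, ?_⟩
      rw [hn, show (a ^ i)⁻¹ * (l : G) * c * ((a ^ i)⁻¹ * (l : G))⁻¹ = (a ^ i)⁻¹ * ((l : G) * c * (l : G)⁻¹) * a ^ i by group,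
        ← hj']
      group
    have hfinal : n * c * n⁻¹ = a⁻¹ := by
      obtain ⟨j, hj⟩ := Subgroup.mem_zpowers_iff.1 hnc
      have hne : π n = 1 := (QuotientGroup.eq_one_iff n).2 hnN
      have h1 : π a ^ j = π a ^ (-1 : ℤ) := by
        rw [← map_zpow, hj, map_mul, map_mul, map_inv, hne, inv_one, one_mul, mul_one, hc, map_mul, map_mul,
          map_inv, hinva, zpow_neg_one]
      rw [zpow_eq_zpow_iff_modEq, hπa, ← horda, ← zpow_eq_zpow_iff_modEq, zpow_neg_one] at h1
      rw [← hj, h1]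
    obtain ⟨t0, ht0, hbt⟩ := hind _ hbT
    obtain ⟨p, hp⟩ := (hinn (n : MulAut Q)).2 hnN
    have hpn : (p : S) ∈ Subgroup.normalizer (P' : Set S) := Subgroup.le_normalizer p.2
    have hp' : conjAut P' (p : S) hpn = ψ (n : MulAut Q) := hp ▸ MulEquiv.ext fun x => Subtype.ext rfl
    refine ⟨{
      P := P'
      A := A
      good := (goodAut F Φ hΦ Q hQS.le).map ψ.toMonoidHom
      ne_top := fun h => hQS.not_ge (Subgroup.subgroupOf_eq_top.1 h)
      cent := fun g hg => hQc.2 Q (isConj_refl hQn.1) (mem_centralizerIn.mpr ⟨g.2, fun y hy => by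
        have h := congrArg Subtype.val (Subgroup.mem_centralizer_iff.1 hg ⟨y, hQS.le hy⟩ hy)
        simp only [Subgroup.coe_mul] at h
        show (g : Ω) * y * (g : Ω)⁻¹ = y
        rw [← h, mul_inv_cancel_right]⟩)
      inn := fun β hβ => by
        obtain ⟨γ, rfl⟩ := ψ.surjective β
        exact (hmemA γ).2 (inn_le_autGroup hQS.le ((hinn γ).1 hβ))
      conj := fun g hg => by
        rw [hconj g hg]
        exact (hmemA _).2 (autInducedBy_le hQS.le (conjAut_mem_autInducedBy _ g.2))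
      rad := fun K hKA hK2 hKn => by
        intro k hk
        obtain ⟨γ, rfl⟩ := ψ.surjective k
        refine (hinn γ).2 (hkill (K.comap ψ.toMonoidHom) (fun δ hδ => (hmemA δ).1 (hKA hδ))
          (hK2.comap_of_injective _ ψ.injective) (fun a ha k hk => ?_) hk)
        show ψ (a * k * a⁻¹) ∈ K
        rw [map_mul, map_mul, map_inv]
        exact hKn _ ((hmemA a).2 ha) _ hk
      syl := fun K hKA hK2 => by
        obtain ⟨χ, hχ, h⟩ := exists_conj_into_autS hfa (K := K.comap ψ.toMonoidHom)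
          (hK2.comap_of_injective _ ψ.injective) (fun δ hδ => (hmemA δ).1 (hKA hδ))
        refine ⟨ψ χ, (hmemA χ).2 hχ, fun k hk => ?_⟩
        obtain ⟨γ, rfl⟩ := ψ.surjective k
        rw [← map_inv, ← map_mul, ← map_mul]
        exact hind _ (h γ hk)
      bad := ⟨ψ α₀, (hmemA α₀).2 hα₀, fun ⟨γ, hγ, h⟩ => hbad (ψ.injective h ▸ hγ).2⟩
      good_conj := fun δ hδ g hg hgP ⟨h, hh, e⟩ => by
        obtain ⟨γ, rfl⟩ := ψ.surjective δ
        refine ⟨γ, good_of_conj (p := 2) hΦ hQS.le hrec hIH ((hmemA γ).1 hδ)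
          (conjAut_mem_autInducedBy (hnorm g hg) g.2)
          (fun hI => hgP (mem_of_inn (hQc.2 Q (isConj_refl hQn.1)) g.2 (hnorm g hg) hI hQS.le)) ?_, rfl⟩
        rw [hconj g hg, hconj h hh, ← map_inv, ← map_mul, ← map_mul] at e
        rw [ψ.injective e]
        exact conjAut_mem_autInducedBy (hnorm h hh) h.2
      odd := ⟨q, hq, hq2, ψ (a : MulAut Q), (hmemA _).2 a.2, (p : S) * t0, mul_mem hpn ht0, ?_, ?_, ?_⟩ }⟩
    · rw [← map_pow, ← Subgroup.coe_pow, haq, Subgroup.coe_one, map_one]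
    · intro h
      exact ha1 (Subtype.ext (ψ.injective (h.trans (map_one ψ).symm)))
    · rw [conjAut_mul' P' hpn ht0, hp', ← hbt, ← map_mul, ← map_inv, ← map_mul, ← map_mul, ← map_inv]
      congr 1
      have h1 := congrArg Subtype.val hfinal
      rw [hc] at h1
      simp only [Subgroup.coe_mul, Subgroup.coe_inv] at h1
      rw [← h1, Subgroup.subtype_apply]
      group

end Cfsg.Lib.Fusion
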