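import Cfsg.Agent.Fusion.Alperin

/-!
The fusion system of a finite group on a Sylow subgroup is saturated; fully normalized and fully
centralized subgroups.
-/

set_option autoImplicit false

namespace Cfsg.Lib.Fusion

open Cfsg Cfsg.FusionSystem

variable {G : Type*} [Group G] {p : ℕ}

theorem isMap_group_iff {S P : Subgroup G} {f : G → G} :
    IsMap (groupFusionSystem S) P f ↔
      P ≤ S ∧ (∀ x ∈ P, f x ∈ S) ∧ ∃ g : G, ∀ x ∈ P, f x = g * x * g⁻¹ := by
  constructor
  · rintro ⟨φ, ⟨hP, hS, g, hg⟩, e⟩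
    exact ⟨hP, fun x hx => e ⟨x, hx⟩ ▸ hS ⟨x, hx⟩, g, fun x hx => by rw [← e ⟨x, hx⟩, hg]⟩
  · rintro ⟨hP, hS, g, hg⟩
    refine ⟨conjHom P g, ⟨hP, fun x => ?_, g, fun x => rfl⟩, fun x => (hg x x.2).symm⟩
    show g * (x : G) * g⁻¹ ∈ S
    rw [← hg x x.2]
    exact hS x x.2

theorem isMap_subgroup_iff {H T P : Subgroup G} {hTH : T ≤ H} {f : G → G} :
    IsMap (fusionSystemOfSubgroup H T hTH) P f ↔
      P ≤ T ∧ (∀ x ∈ P, f x ∈ T) ∧ ∃ g ∈ H, ∀ x ∈ P, f x = g * x * g⁻¹ := by
  constructor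
  · rintro ⟨φ, ⟨hP, hS, g, hgH, hg⟩, e⟩
    exact ⟨hP, fun x hx => e ⟨x, hx⟩ ▸ hS ⟨x, hx⟩, g, hgH,
      fun x hx => by rw [← e ⟨x, hx⟩, hg]⟩
  · rintro ⟨hP, hS, g, hgH, hg⟩
    refine ⟨conjHom P g, ⟨hP, fun x => ?_, g, hgH, fun x => rfl⟩, fun x => (hg x x.2).symm⟩
    show g * (x : G) * g⁻¹ ∈ T
    rw [← hg x x.2]
    exact hS x x.2

theorem isMap_inner_iff {Ω : Type*} [Group Ω] {S P : Subgroup Ω} {f : Ω → Ω} :
    IsMap (innerFusionSystem S) P f ↔ P ≤ S ∧ ∃ g ∈ S, ∀ x ∈ P, f x = g * x * g⁻¹ := by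
  constructor
  · rintro ⟨φ, ⟨hP, g, hgS, hg⟩, e⟩
    exact ⟨hP, g, hgS, fun x hx => by rw [← e ⟨x, hx⟩, hg]⟩
  · rintro ⟨hP, g, hgS, hg⟩
    exact ⟨conjHom P g, ⟨hP, g, hgS, fun x => rfl⟩, fun x => (hg x x.2).symm⟩

theorem conjMap_img {P : Subgroup G} {f : G → G} {g : G} (hg : ∀ x ∈ P, f x = g * x * g⁻¹) :
    img P f = P.map (MulAut.conj g).toMonoidHom := by
  rw [img_congr hg, img_conj]

theorem isConj_group_iff {S P Q : Subgroup G} :
    (groupFusionSystem S).IsConj P Q ↔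
      P ≤ S ∧ Q ≤ S ∧ ∃ g : G, P.map (MulAut.conj g).toMonoidHom = Q := by
  constructor
  · intro h
    obtain ⟨hP, hQ⟩ := isConj_le h
    obtain ⟨f, hf, hi⟩ := isConj_iff.mp h
    obtain ⟨-, -, g, hg⟩ := isMap_group_iff.mp hf
    exact ⟨hP, hQ, g, (conjMap_img hg).symm.trans hi⟩
  · rintro ⟨hP, hQ, g, rfl⟩
    exact isConj_iff.mpr ⟨fun x => g * x * g⁻¹,
      isMap_group_iff.mpr ⟨hP, fun x hx => hQ ⟨x, hx, rfl⟩, g, fun _ _ => rfl⟩, img_conj P g⟩

theorem autGroup_group {S P : Subgroup G} (hP : P ≤ S) :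
    (groupFusionSystem S).autGroup P = autInducedBy ⊤ P := by
  ext α
  rw [← isMap_autFun hP, isMap_group_iff, mem_autInducedBy]
  constructor
  · rintro ⟨-, -, g, hg⟩
    exact ⟨g, trivial, fun x => by rw [← autFun_apply]; exact hg x x.2⟩
  · rintro ⟨g, -, hg⟩
    exact ⟨hP, fun x hx => hP (autFun_mem α hx), g,
      fun x hx => by rw [autFun_apply_mem α hx]; exact hg ⟨x, hx⟩⟩

theorem map_conj_le {A B : Subgroup G} {g : G}
    (h : ∀ x ∈ A, g * x * g⁻¹ ∈ B) : A.map (MulAut.conj g).toMonoidHom ≤ B := by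
  rintro _ ⟨x, hx, rfl⟩
  exact h x hx

theorem card_map_conj (A : Subgroup G) (g : G) :
    Nat.card (A.map (MulAut.conj g).toMonoidHom) = Nat.card A :=
  Subgroup.card_map_of_injective (MulAut.conj g).injective

theorem conj_mem_normalizer_map {P : Subgroup G} {g n : G}
    (hn : n ∈ Subgroup.normalizer (P : Set G)) :
    g * n * g⁻¹ ∈ Subgroup.normalizer (P.map (MulAut.conj g).toMonoidHom : Set G) := by
  rw [Subgroup.mem_normalizer_iff]
  intro y
  simp only [Subgroup.mem_map_equiv, MulAut.conj_symm_apply]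
  have : g⁻¹ * (g * n * g⁻¹ * y * (g * n * g⁻¹)⁻¹) * g = n * (g⁻¹ * y * g) * n⁻¹ := by group
  rw [this]
  exact Subgroup.mem_normalizer_iff.mp hn _

theorem conj_mem_centralizer_map {P : Subgroup G} {g n : G}
    (hn : n ∈ Subgroup.centralizer (P : Set G)) :
    g * n * g⁻¹ ∈ Subgroup.centralizer (P.map (MulAut.conj g).toMonoidHom : Set G) := by
  rw [Subgroup.mem_centralizer_iff]
  rintro _ ⟨x, hx, rfl⟩
  show g * x * g⁻¹ * (g * n * g⁻¹) = g * n * g⁻¹ * (g * x * g⁻¹)
  calc g * x * g⁻¹ * (g * n * g⁻¹) = g * (x * n) * g⁻¹ := by group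
    _ = g * (n * x) * g⁻¹ := by rw [Subgroup.mem_centralizer_iff.mp hn x hx]
    _ = _ := by group

/-- A maximal `p`-subgroup of `M`. -/
def IsMaxPIn (p : ℕ) (T M : Subgroup G) : Prop :=
  T ≤ M ∧ IsPGroup p T ∧ ∀ U : Subgroup G, U ≤ M → IsPGroup p U → T ≤ U → U = T

theorem sylow_subgroupOf_iff {T M : Subgroup G} (hTM : T ≤ M) (hT : IsPGroup p T) :
    (∃ R : Sylow p M, (R : Subgroup M) = T.subgroupOf M) ↔ IsMaxPIn p T M := by
  constructor
  · rintro ⟨R, hR⟩
    refine ⟨hTM, hT, fun U hU hUp hle => le_antisymm ?_ hle⟩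
    have h1 : U.subgroupOf M = R := R.is_maximal'
      (hUp.of_injective (Subgroup.subgroupOfEquivOfLe hU).toMonoidHom
        (Subgroup.subgroupOfEquivOfLe hU).injective)
      (hR.trans_le (Subgroup.comap_mono hle))
    rw [hR] at h1
    intro u hu
    have : (⟨u, hU hu⟩ : M) ∈ T.subgroupOf M := h1 ▸ hu
    exact this
  · rintro ⟨-, -, hmax⟩
    refine ⟨⟨T.subgroupOf M, hT.of_injective (Subgroup.subgroupOfEquivOfLe hTM).toMonoidHom
        (Subgroup.subgroupOfEquivOfLe hTM).injective, fun {U} hUp hle => ?_⟩, rfl⟩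
    have h := hmax (U.map M.subtype) (Subgroup.map_subtype_le U) (hUp.map _) (fun t ht =>
      ⟨⟨t, hTM ht⟩, hle ht, rfl⟩)
    rw [← h]
    exact (Subgroup.comap_map_eq_self_of_injective M.subtype_injective U).symm

theorem exists_isMaxPIn_ge {T M : Subgroup G} [Finite G] (hTM : T ≤ M) (hT : IsPGroup p T) :
    ∃ U, T ≤ U ∧ IsMaxPIn p U M := by
  obtain ⟨U, hU, hmax⟩ := (Set.toFinite {U : Subgroup G | T ≤ U ∧ U ≤ M ∧ IsPGroup p U}).exists_maximal
    ⟨T, le_rfl, hTM, hT⟩
  exact ⟨U, hU.1, hU.2.1, hU.2.2, fun V hV hVp hle =>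
    le_antisymm (hmax ⟨hU.1.trans hle, hV, hVp⟩ hle) hle⟩

theorem IsMaxPIn.card_le [Finite G] [Fact p.Prime] {T M U : Subgroup G} (h : IsMaxPIn p T M)
    (hU : U ≤ M) (hUp : IsPGroup p U) : Nat.card U ≤ Nat.card T := by
  obtain ⟨R, hR⟩ := (sylow_subgroupOf_iff h.1 h.2.1).mpr h
  obtain ⟨R', hR'⟩ := (hUp.of_injective (Subgroup.subgroupOfEquivOfLe hU).toMonoidHom
    (Subgroup.subgroupOfEquivOfLe hU).injective).exists_le_sylow
  have h1 := Subgroup.card_le_of_le hR'
  rw [Sylow.card_eq_multiplicity R', ← Sylow.card_eq_multiplicity R, hR,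
    Nat.card_congr (Subgroup.subgroupOfEquivOfLe hU).toEquiv,
    Nat.card_congr (Subgroup.subgroupOfEquivOfLe h.1).toEquiv] at h1
  exact h1

theorem IsMaxPIn.exists_conj_le [Finite G] [Fact p.Prime] {T M U : Subgroup G}
    (h : IsMaxPIn p T M) (hU : U ≤ M) (hUp : IsPGroup p U) :
    ∃ m ∈ M, ∀ u ∈ U, m * u * m⁻¹ ∈ T := by
  obtain ⟨R, hR⟩ := (sylow_subgroupOf_iff h.1 h.2.1).mpr h
  obtain ⟨R', hR'⟩ := (hUp.of_injective (Subgroup.subgroupOfEquivOfLe hU).toMonoidHom
    (Subgroup.subgroupOfEquivOfLe hU).injective).exists_le_sylow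
  obtain ⟨m, hm⟩ := MulAction.exists_smul_eq M R' R
  refine ⟨m, m.2, fun u hu => ?_⟩
  have h1 : m * ⟨u, hU hu⟩ * m⁻¹ ∈ ((m • R' : Sylow p M) : Subgroup M) :=
    ⟨⟨u, hU hu⟩, hR' hu, rfl⟩
  rw [hm, hR] at h1
  exact h1

variable [Finite G] [Fact p.Prime] (S : Sylow p G)

theorem exists_conj_le_sylow {T : Subgroup G} (hT : IsPGroup p T) :
    ∃ g : G, ∀ t ∈ T, g * t * g⁻¹ ∈ (S : Subgroup G) := by
  have h : IsMaxPIn p (S : Subgroup G) ⊤ :=
    ⟨le_top, S.isPGroup', fun U _ hUp hle => S.is_maximal' hUp hle⟩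
  obtain ⟨g, -, hg⟩ := h.exists_conj_le le_top hT
  exact ⟨g, hg⟩

omit [Finite G] [Fact p.Prime] in
theorem isPGroup_of_le_sylow {T : Subgroup G} (h : T ≤ (S : Subgroup G)) : IsPGroup p T :=
  S.isPGroup'.of_injective _ (Subgroup.inclusion_injective h)

theorem fullyNormalized_group_iff {P : Subgroup G} (hP : P ≤ (S : Subgroup G)) :
    (groupFusionSystem (S : Subgroup G)).IsFullyNormalized P ↔
      IsMaxPIn p (normalizerIn (S : Subgroup G) P) (Subgroup.normalizer (P : Set G)) := by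
  have hN := isPGroup_of_le_sylow S (inf_le_left : normalizerIn (S : Subgroup G) P ≤ S)
  constructor
  · intro h
    refine ⟨inf_le_right, hN, fun U hU hUp hle => ?_⟩
    obtain ⟨g, hg⟩ := exists_conj_le_sylow S hUp
    have hPU : P ≤ U := (le_normalizerIn hP).trans hle
    have hQS : P.map (MulAut.conj g).toMonoidHom ≤ (S : Subgroup G) :=
      map_conj_le fun x hx => hg x (hPU hx)
    have h1 := h.2 _ (isConj_group_iff.mpr ⟨hP, hQS, g, rfl⟩)
    have h2 : U.map (MulAut.conj g).toMonoidHom ≤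
        normalizerIn (S : Subgroup G) (P.map (MulAut.conj g).toMonoidHom) :=
      map_conj_le fun u hu => ⟨hg u hu, conj_mem_normalizer_map (hU hu)⟩
    have h3 := (Subgroup.card_le_of_le h2).trans h1
    rw [card_map_conj] at h3
    exact (Subgroup.eq_of_le_of_card_ge hle h3).symm
  · intro h
    refine ⟨hP, fun Q hQ => ?_⟩
    obtain ⟨-, -, g, rfl⟩ := isConj_group_iff.mp hQ
    rw [← card_map_conj _ g⁻¹]
    refine h.card_le (map_conj_le fun u hu => ?_)
      ((isPGroup_of_le_sylow S inf_le_left).map _)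
    have := conj_mem_normalizer_map (g := g⁻¹) hu.2
    rwa [Subgroup.map_map, show (MulAut.conj g⁻¹).toMonoidHom.comp (MulAut.conj g).toMonoidHom =
      MonoidHom.id G from MonoidHom.ext fun x => by simp [mul_assoc], Subgroup.map_id] at this

theorem fullyCentralized_group_iff {P : Subgroup G} (hP : P ≤ (S : Subgroup G)) :
    (groupFusionSystem (S : Subgroup G)).IsFullyCentralized P ↔
      IsMaxPIn p (centralizerIn (S : Subgroup G) P) (Subgroup.centralizer (P : Set G)) := by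
  have hN := isPGroup_of_le_sylow S (inf_le_left : centralizerIn (S : Subgroup G) P ≤ S)
  constructor
  · intro h
    refine ⟨inf_le_right, hN, fun U hU hUp hle => ?_⟩
    have hPp := isPGroup_of_le_sylow S hP
    have hUP : IsPGroup p ↥(P ⊔ U) :=
      hPp.to_sup_of_normal_left' hUp (hU.trans (Subgroup.centralizer_le_normalizer (P : Set G)))
    obtain ⟨g, hg⟩ := exists_conj_le_sylow S hUP
    have hQS : P.map (MulAut.conj g).toMonoidHom ≤ (S : Subgroup G) :=
      map_conj_le fun x hx => hg x (Subgroup.mem_sup_left hx)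
    have h1 := h.2 _ (isConj_group_iff.mpr ⟨hP, hQS, g, rfl⟩)
    have h2 : U.map (MulAut.conj g).toMonoidHom ≤
        centralizerIn (S : Subgroup G) (P.map (MulAut.conj g).toMonoidHom) :=
      map_conj_le fun u hu => ⟨hg u (Subgroup.mem_sup_right hu), conj_mem_centralizer_map (hU hu)⟩
    have h3 := (Subgroup.card_le_of_le h2).trans h1
    rw [card_map_conj] at h3
    exact (Subgroup.eq_of_le_of_card_ge hle h3).symm
  · intro h
    refine ⟨hP, fun Q hQ => ?_⟩
    obtain ⟨-, -, g, rfl⟩ := isConj_group_iff.mp hQ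
    rw [← card_map_conj _ g⁻¹]
    refine h.card_le (map_conj_le fun u hu => ?_)
      ((isPGroup_of_le_sylow S inf_le_left).map _)
    have := conj_mem_centralizer_map (g := g⁻¹) hu.2
    rwa [Subgroup.map_map, show (MulAut.conj g⁻¹).toMonoidHom.comp (MulAut.conj g).toMonoidHom =
      MonoidHom.id G from MonoidHom.ext fun x => by simp [mul_assoc], Subgroup.map_id] at this

theorem fullyCentralized_of_fullyNormalized_group {P : Subgroup G}
    (h : (groupFusionSystem (S : Subgroup G)).IsFullyNormalized P) :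
    (groupFusionSystem (S : Subgroup G)).IsFullyCentralized P := by
  have hP := h.1
  rw [fullyNormalized_group_iff S hP] at h
  rw [fullyCentralized_group_iff S hP]
  refine ⟨inf_le_right, isPGroup_of_le_sylow S inf_le_left, fun U hU hUp hle => ?_⟩
  -- a Sylow subgroup of the normalizer meets the normal centralizer in a Sylow subgroup
  obtain ⟨m, hm, hmU⟩ := h.exists_conj_le
    (hU.trans (Subgroup.centralizer_le_normalizer (P : Set G))) hUp
  have h2 : U.map (MulAut.conj m).toMonoidHom ≤ centralizerIn (S : Subgroup G) P :=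
    map_conj_le fun u hu => ⟨(hmU u hu).1, by
      show m * u * m⁻¹ ∈ Subgroup.centralizer (P : Set G)
      rw [Subgroup.mem_centralizer_iff]
      intro x hx
      have hx' := conj_mem_of_mem_normalizer (Subgroup.inv_mem _ hm) hx
      rw [inv_inv] at hx'
      have := Subgroup.mem_centralizer_iff.mp (hU hu) _ hx'
      calc x * (m * u * m⁻¹) = m * (m⁻¹ * x * m * u) * m⁻¹ := by group
        _ = m * (u * (m⁻¹ * x * m)) * m⁻¹ := by rw [this]
        _ = _ := by group⟩
  have h3 := Subgroup.card_le_of_le h2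
  rw [card_map_conj] at h3
  exact (Subgroup.eq_of_le_of_card_ge hle h3).symm

theorem fullyAutomized_group {P : Subgroup G}
    (h : (groupFusionSystem (S : Subgroup G)).IsFullyNormalized P) :
    (groupFusionSystem (S : Subgroup G)).IsFullyAutomized p P := by
  have hP := h.1
  rw [fullyNormalized_group_iff S hP] at h
  rw [isFullyAutomized_iff S.isPGroup']
  refine ⟨hP, ?_⟩
  obtain ⟨R, hR⟩ := (sylow_subgroupOf_iff h.1 h.2.1).mpr h
  have h1 : ¬ p ∣ (normalizerIn (S : Subgroup G) P).relIndex (Subgroup.normalizer (P : Set G)) := by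
    rw [Subgroup.relIndex, ← hR]
    exact R.not_dvd_index
  rw [autGroup_group hP]
  have e1 : (autInducedBy (⊤ : Subgroup G) P) = P.normalizerMonoidHom.range := by
    ext α
    constructor
    · intro hα
      obtain ⟨g, -, eg⟩ := mem_autInducedBy.mp hα
      exact ⟨⟨g, mem_normalizer_of_mem_autInducedBy eg⟩,
        MulEquiv.ext fun x => Subtype.ext (eg x).symm⟩
    · rintro ⟨g, rfl⟩
      exact mem_autInducedBy.mpr ⟨g, trivial, fun x => rfl⟩
  have e2 : autInducedBy (S : Subgroup G) P =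
      ((normalizerIn (S : Subgroup G) P).subgroupOf (Subgroup.normalizer (P : Set G))).map
        P.normalizerMonoidHom := by
    ext α
    constructor
    · intro hα
      obtain ⟨g, hg, eg⟩ := mem_autInducedBy.mp hα
      exact ⟨⟨g, mem_normalizer_of_mem_autInducedBy eg⟩,
        ⟨hg, mem_normalizer_of_mem_autInducedBy eg⟩, MulEquiv.ext fun x => Subtype.ext (eg x).symm⟩
    · rintro ⟨g, hg, rfl⟩
      exact mem_autInducedBy.mpr ⟨g, hg.1, fun x => rfl⟩
  rw [e1, e2, MonoidHom.range_eq_map, Subgroup.relIndex_map_map]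
  intro hdvd
  refine h1 (hdvd.trans ?_)
  rw [top_sup_eq, Subgroup.relIndex_top_right, Subgroup.relIndex]
  have : ((normalizerIn (S : Subgroup G) P).subgroupOf (Subgroup.normalizer (P : Set G))) ≤
      (normalizerIn (S : Subgroup G) P).subgroupOf (Subgroup.normalizer (P : Set G)) ⊔
        P.normalizerMonoidHom.ker := le_sup_left
  have h2 := Subgroup.relIndex_dvd_of_le_left
    (⊤ : Subgroup (Subgroup.normalizer (P : Set G))) this
  rw [Subgroup.relIndex_top_right, Subgroup.relIndex_top_right] at h2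
  exact h2

theorem receptive_group {P : Subgroup G}
    (h : (groupFusionSystem (S : Subgroup G)).IsFullyCentralized P) :
    (groupFusionSystem (S : Subgroup G)).IsReceptive P := by
  have hP := h.1
  rw [fullyCentralized_group_iff S hP] at h
  refine receptive_of_extend hP fun R f hf hi => ?_
  obtain ⟨hR, -, g, hg⟩ := isMap_group_iff.mp hf
  set M := normalizerIn (S : Subgroup G) P ⊔ Subgroup.centralizer (P : Set G) with hM
  have hMN : normalizerIn (S : Subgroup G) P ≤
      Subgroup.normalizer (Subgroup.centralizer (P : Set G) : Set G) := by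
    intro t ht
    rw [Subgroup.mem_normalizer_iff]
    intro c
    have key : ∀ {t c : G}, t ∈ Subgroup.normalizer (P : Set G) →
        c ∈ Subgroup.centralizer (P : Set G) → t * c * t⁻¹ ∈ Subgroup.centralizer (P : Set G) := by
      intro t c ht hc
      rw [Subgroup.mem_centralizer_iff]
      intro x hx
      have hx' := conj_mem_of_mem_normalizer (Subgroup.inv_mem _ ht) hx
      rw [inv_inv] at hx'
      have := Subgroup.mem_centralizer_iff.mp hc _ hx'
      calc x * (t * c * t⁻¹) = t * (t⁻¹ * x * t * c) * t⁻¹ := by group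
        _ = t * (c * (t⁻¹ * x * t)) * t⁻¹ := by rw [this]
        _ = _ := by group
    refine ⟨key ht.2, fun hc => ?_⟩
    have := key (Subgroup.inv_mem _ ht.2) hc
    simpa [mul_assoc] using this
  have hmem : ∀ x, x ∈ M → ∃ s ∈ normalizerIn (S : Subgroup G) P,
      ∃ c ∈ Subgroup.centralizer (P : Set G), x = s * c := by
    intro x hx
    rw [hM, ← SetLike.mem_coe, Subgroup.coe_mul_of_left_le_normalizer_right _ _ hMN] at hx
    obtain ⟨s, hs, c, hc, rfl⟩ := hx
    exact ⟨s, hs, c, hc, rfl⟩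
  have hmax : IsMaxPIn p (normalizerIn (S : Subgroup G) P) M := by
    refine ⟨le_sup_left, isPGroup_of_le_sylow S inf_le_left, fun U hU hUp hle => ?_⟩
    refine le_antisymm (fun u hu => ?_) hle
    obtain ⟨s, hs, c, hc, rfl⟩ := hmem u (hU hu)
    have hcU : c ∈ U := by simpa using U.mul_mem (U.inv_mem (hle hs)) hu
    have h1 := h.2.2 (U ⊓ Subgroup.centralizer (P : Set G)) inf_le_right
      (hUp.of_injective _ (Subgroup.inclusion_injective inf_le_left))
      (le_inf ((centralizerIn_le_normalizerIn P).trans hle) inf_le_right)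
    have h2 : c ∈ centralizerIn (S : Subgroup G) P := h1 ▸ ⟨hcU, hc⟩
    exact (normalizerIn (S : Subgroup G) P).mul_mem hs (centralizerIn_le_normalizerIn P h2)
  have hTM : (extSub (S : Subgroup G) R f).map (MulAut.conj g).toMonoidHom ≤ M := by
    refine map_conj_le fun t ht => ?_
    obtain ⟨hs, htn, k, hk, ek⟩ := ht
    have hk' : k ∈ normalizerIn (S : Subgroup G) P := by
      refine ⟨hk, mem_normalizer_of_maps_finite fun y hy => ?_⟩
      obtain ⟨x, hx, rfl⟩ := hf.mem_img.mp (hi.symm ▸ hy)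
      rw [← ek x hx, ← hi]
      exact IsMap.apply_mem_img (conj_mem_of_mem_normalizer htn hx)
    have hc : k⁻¹ * (g * t * g⁻¹) ∈ Subgroup.centralizer (P : Set G) := by
      rw [Subgroup.mem_centralizer_iff]
      intro y hy
      obtain ⟨x, hx, rfl⟩ := hf.mem_img.mp (hi.symm ▸ hy)
      have h2 := ek x hx
      rw [hg x hx, hg _ (conj_mem_of_mem_normalizer htn hx)] at h2
      rw [hg x hx]
      have h3 : g * x * g⁻¹ = k⁻¹ * (g * (t * x * t⁻¹) * g⁻¹) * k := by rw [h2]; group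
      calc g * x * g⁻¹ * (k⁻¹ * (g * t * g⁻¹))
          = k⁻¹ * (g * (t * x * t⁻¹) * g⁻¹) * k * (k⁻¹ * (g * t * g⁻¹)) := by rw [← h3]
        _ = k⁻¹ * (g * t * g⁻¹) * (g * x * g⁻¹) := by group
    have := M.mul_mem (Subgroup.mem_sup_left hk' : k ∈ M) (Subgroup.mem_sup_right hc)
    simpa [mul_assoc] using this
  obtain ⟨m, hm, hmT⟩ := hmax.exists_conj_le hTM
    ((isPGroup_of_le_sylow S ((extSub_le R f).trans inf_le_left)).map _)
  obtain ⟨s, hs, c, hc, rfl⟩ := hmem m hm
  refine ⟨fun t => c * g * t * (c * g)⁻¹, isMap_group_iff.mpr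
    ⟨(extSub_le R f).trans inf_le_left, fun t ht => ?_, c * g, fun _ _ => rfl⟩, fun x hx => ?_⟩
  · have h1 := (hmT _ ⟨t, ht, rfl⟩).1
    have h2 := Subgroup.mul_mem _ (Subgroup.mul_mem _ (Subgroup.inv_mem _ hs.1) h1) hs.1
    simpa [mul_assoc, MulAut.conj_apply] using h2
  · have hy : f x ∈ P := hi ▸ IsMap.apply_mem_img hx
    rw [hg x hx] at hy ⊢
    have := Subgroup.mem_centralizer_iff.mp hc _ hy
    calc c * g * x * (c * g)⁻¹ = c * (g * x * g⁻¹) * c⁻¹ := by group
      _ = g * x * g⁻¹ := by rw [← this]; group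

theorem saturated_group : (groupFusionSystem (S : Subgroup G)).IsSaturated p :=
  saturated_of_props (fun _ h => fullyAutomized_group S h)
    fun _ h => receptive_group S (fullyCentralized_of_fullyNormalized_group S h)

end Cfsg.Lib.Fusion
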