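import Cfsg.Agent.Fusion.Essential
import Cfsg.Agent.Fusion.GroupSystem

/-!
Reduction at a site by a subgroup of the automizer normalized by all automorphisms: every
automorphism is such an element times a good one.
-/

set_option autoImplicit false

namespace Cfsg.Lib.Fusion

open Cfsg Cfsg.FusionSystem

variable {Ω : Type*} [Group Ω] {S : Subgroup Ω} {F : FusionSystem S} {p : ℕ}

theorem site_reduce [Finite S] [Fact p.Prime] (hS : IsPGroup p S) (hF : F.IsSaturated p)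
    {Φ : Subgroup Ω → (Ω → Ω) → Prop} (hΦ : IsMapClass F Φ) {Q : Subgroup Ω}
    (hQ : F.IsFullyNormalized Q)
    (hIH : ∀ (T : Subgroup Ω) (f : Ω → Ω), Nat.card Q < Nat.card T → IsMap F T f → Φ T f)
    {K : Subgroup (MulAut Q)} (hKn : ∀ α ∈ F.autGroup Q, ∀ β ∈ K, α * β * α⁻¹ ∈ K)
    {β : MulAut Q} (hβS : β ∈ autInducedBy S Q) (hβK : β ∈ K) (hβI : β ∉ Inn Q) :
    ∀ α ∈ F.autGroup Q, ∃ κ ∈ K ⊓ F.autGroup Q, κ * α ∈ goodAut F Φ hΦ Q hQ.1 := by
  obtain ⟨-, hfa, hrec⟩ := fullyNormalized_props hS hF hQ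
  have := finite_of_le hQ.1
  have hmem : ∀ α ∈ F.autGroup Q, ∀ γ ∈ K ⊓ F.autGroup Q, α * γ * α⁻¹ ∈ K ⊓ F.autGroup Q :=
    fun α hα γ hγ => ⟨hKn α hα γ hγ.1,
      Subgroup.mul_mem _ (Subgroup.mul_mem _ hα hγ.2) (Subgroup.inv_mem _ hα)⟩
  have hmax : IsMaxPIn p (K ⊓ F.autGroup Q ⊓ autInducedBy S Q) (K ⊓ F.autGroup Q) := by
    refine ⟨inf_le_left, (isPGroup_autInducedBy hS Q).of_injective _
      (Subgroup.inclusion_injective inf_le_right), fun U hU hUp hle => ?_⟩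
    obtain ⟨χ, hχ, hχU⟩ := exists_conj_into_autS hfa hUp (hU.trans inf_le_right)
    have h1 : U.map (MulAut.conj χ).toMonoidHom ≤ K ⊓ F.autGroup Q ⊓ autInducedBy S Q :=
      map_conj_le fun u hu => ⟨hmem χ hχ u (hU hu), hχU u hu⟩
    have h2 := Subgroup.card_le_of_le h1
    rw [card_map_conj] at h2
    exact (Subgroup.eq_of_le_of_card_ge hle h2).symm
  intro α hα
  have hβX := autInducedBy_le (F := F) hQ.1 hβS
  have hβ' := hmem α hα β ⟨hβK, hβX⟩
  obtain ⟨κ, hκ, hκU⟩ := hmax.exists_conj_le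
    (U := (Subgroup.zpowers β).map (MulAut.conj α).toMonoidHom)
    (map_conj_le fun γ hγ => hmem α hα γ
      ((Subgroup.zpowers_le (H := K ⊓ F.autGroup Q)).mpr ⟨hβK, hβX⟩ hγ))
    (((isPGroup_autInducedBy hS Q).of_injective _ (Subgroup.inclusion_injective
      (Subgroup.zpowers_le.mpr hβS))).map _)
  refine ⟨κ, hκ, good_of_conj (p := p) hΦ hQ.1 hrec hIH (Subgroup.mul_mem _ hκ.2 hα) hβS hβI ?_⟩
  have := (hκU (α * β * α⁻¹) ⟨β, Subgroup.mem_zpowers β, rfl⟩).2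
  simpa [MulAut.conj_apply, mul_assoc] using this

/-- A noninner induced automorphism whose `p`-th power is inner. -/
theorem exists_noninner_pow [Finite S] [Fact p.Prime] (hS : IsPGroup p S) {Q : Subgroup Ω}
    {β : MulAut Q} (hβ : β ∈ autInducedBy S Q) (hβI : β ∉ Inn Q) :
    ∃ j : ℕ, β ^ p ^ j ∉ Inn Q ∧ β ^ p ^ (j + 1) ∈ Inn Q := by
  classical
  obtain ⟨k, hk⟩ := (isPGroup_autInducedBy hS Q) ⟨β, hβ⟩
  have hex : ∃ i, β ^ p ^ i ∈ Inn Q :=
    ⟨k, by rw [show β ^ p ^ k = 1 from congrArg Subtype.val hk]; exact Subgroup.one_mem _⟩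
  have h0 : Nat.find hex ≠ 0 := fun h => hβI (by
    have := Nat.find_spec hex
    rw [h, pow_zero, pow_one] at this
    exact this)
  obtain ⟨j, hj⟩ := Nat.exists_eq_succ_of_ne_zero h0
  refine ⟨j, Nat.find_min hex (by omega), ?_⟩
  have := Nat.find_spec hex
  rw [hj] at this
  exact this

end Cfsg.Lib.Fusion
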