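import Cfsg.Agent.Fusion.CenterControl
import Cfsg.Agent.Fusion.Sites
import Cfsg.Agent.Transfer.Basic

/-!
Criteria for a subgroup to be normal or central in a saturated fusion system.
-/

set_option autoImplicit false

namespace Cfsg.Lib.Fusion

open Cfsg Cfsg.FusionSystem
open scoped commutatorElement

universe u

variable {Ω : Type u} [Group Ω] {S : Subgroup Ω} {F : FusionSystem S} {p : ℕ}

/-- At a site that is not radical every automorphism is good. -/
theorem good_of_not_radical [Finite S] [Fact p.Prime] (hS : IsPGroup p S) (hF : F.IsSaturated p)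
    {Φ : Subgroup Ω → (Ω → Ω) → Prop} (hΦ : IsMapClass F Φ) {Q : Subgroup Ω}
    (hQ : F.IsFullyNormalized Q)
    (hIH : ∀ (T : Subgroup Ω) (f : Ω → Ω), Nat.card Q < Nat.card T → IsMap F T f → Φ T f)
    (hrad : ¬ F.IsRadical p Q) : ∀ α ∈ F.autGroup Q, Φ Q (autFun α) := by
  obtain ⟨-, hfa, -⟩ := fullyNormalized_props hS hF hQ
  have := finite_of_le hQ.1
  set K := (pCore p (F.autGroup Q)).map (F.autGroup Q).subtype with hK
  have hcn := Cfsg.Lib.Components.pCore_normal' (G := F.autGroup Q) p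
  have hKp : IsPGroup p K := (Cfsg.Lib.Components.isPGroup_pCore p).map _
  have hKle : K ≤ F.autGroup Q := Subgroup.map_subtype_le _
  have hKn : ∀ α ∈ F.autGroup Q, ∀ β ∈ K, α * β * α⁻¹ ∈ K := by
    rintro α hα _ ⟨β, hβ, rfl⟩
    exact ⟨⟨α, hα⟩ * β * ⟨α, hα⟩⁻¹, hcn.conj_mem β hβ _, rfl⟩
  have hKS : K ≤ autInducedBy S Q := by
    obtain ⟨χ, hχ, hχK⟩ := exists_conj_into_autS hfa hKp hKle
    intro β hβ
    have h := hχK (χ⁻¹ * β * χ) (by
      simpa using hKn χ⁻¹ (Subgroup.inv_mem _ hχ) β hβ)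
    rwa [show χ * (χ⁻¹ * β * χ) * χ⁻¹ = β by group] at h
  have hInn : Inn Q ≤ K := fun β hβ => by
    refine ⟨⟨β, inn_le_autGroup hQ.1 hβ⟩, ?_, rfl⟩
    have hn := inn_normal_autGroup F Q
    have hle : (Inn Q).subgroupOf (F.autGroup Q) ≤ pCore p (F.autGroup Q) := le_sSup ⟨hn, ?_⟩
    exact hle hβ
    exact ((hS.of_injective _ (Subgroup.inclusion_injective hQ.1)).of_surjective _
      (MulAut.conj (G := Q)).rangeRestrict_surjective).of_injective
      (Subgroup.subgroupOfEquivOfLe (inn_le_autGroup (F := F) hQ.1)).toMonoidHom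
      (Subgroup.subgroupOfEquivOfLe (inn_le_autGroup (F := F) hQ.1)).injective
  obtain ⟨β, hβ, hβI⟩ : ∃ β ∈ K, β ∉ Inn Q := by
    by_contra h
    push Not at h
    exact hrad ⟨hQ.1, le_antisymm h hInn⟩
  intro α hα
  obtain ⟨κ, hκ, hgood⟩ := site_reduce hS hF hΦ hQ hIH hKn (hKS hβ) hβ hβI α hα
  have h1 : κ⁻¹ * (κ * α) ∈ goodAut F Φ hΦ Q hQ.1 :=
    Subgroup.mul_mem _ (Subgroup.inv_mem _ (autInducedBy_le_good hΦ hQ.1 (hKS hκ.1))) hgood
  rw [inv_mul_cancel_left] at h1
  exact h1.2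

/-- Alperin's theorem with radical sites. -/
theorem alperin_radical [Finite S] [Fact p.Prime] (hS : IsPGroup p S) (hF : F.IsSaturated p)
    {Φ : Subgroup Ω → (Ω → Ω) → Prop} (hΦ : IsMapClass F Φ)
    (htop : ∀ f, IsMap F S f → Φ S f)
    (hsite : ∀ Q : Subgroup Ω, Q < S → F.IsFullyNormalized Q → F.IsCentric Q → F.IsRadical p Q →
      (∀ (T : Subgroup Ω) (f : Ω → Ω), Nat.card Q < Nat.card T → IsMap F T f → Φ T f) →
      ∀ α ∈ F.autGroup Q, Φ Q (autFun α))
    {P : Subgroup Ω} {f : Ω → Ω} (hf : IsMap F P f) : Φ P f := by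
  refine alperin_induction hS hF hΦ htop (fun Q hQS hQn hQc hIH α hα => ?_) hf
  by_cases hr : F.IsRadical p Q
  · exact hsite Q hQS hQn hQc hr hIH α hα
  · exact good_of_not_radical hS hF hΦ hQn hIH hr α hα

theorem stronglyClosed_apply {R : Subgroup Ω} (hR : F.StronglyClosed R) {P : Subgroup Ω}
    {f : Ω → Ω} (hf : IsMap F P f) {x : Ω} (hx : x ∈ P) (hxR : x ∈ R) : f x ∈ R := by
  obtain ⟨φ, hφ, e⟩ := hf.mono (Subgroup.zpowers_le.mpr hx)
  rw [← e ⟨x, Subgroup.mem_zpowers x⟩]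
  exact hR.2 _ (Subgroup.zpowers_le.mpr hxR) φ hφ _

theorem stronglyClosed_of_apply {R : Subgroup Ω} (hRS : R ≤ S)
    (h : ∀ (P : Subgroup Ω) (f : Ω → Ω), IsMap F P f → ∀ x ∈ P, x ∈ R → f x ∈ R) :
    F.StronglyClosed R := ⟨hRS, fun P hP φ hφ x => by
  rw [← toFun'_apply φ x]
  exact h P _ (isMap_of_mem hφ) x x.2 (hP x.2)⟩

theorem normalizes_of_stronglyClosed [Finite S] {R : Subgroup Ω} (hR : F.StronglyClosed R) :
    S ≤ Subgroup.normalizer (R : Set Ω) := fun s hs => by
  haveI := finite_of_le hR.1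
  exact mem_normalizer_of_maps_finite fun x hx =>
    stronglyClosed_apply hR (isMap_conj (F := F) hR.1 hs) hx hx

theorem stronglyClosed_of_isNormal {R : Subgroup Ω} (hR : F.IsNormal R) : F.StronglyClosed R := by
  refine stronglyClosed_of_apply hR.1 fun P f hf x hx hxR => ?_
  obtain ⟨k, -, hkf, hki⟩ := extend_of_isNormal hR hf
  rw [← hkf x hx]
  exact IsMap.img_le_iff.mp hki.le x hxR

theorem img_eq_of_apply [Finite S] {R P : Subgroup Ω} {f : Ω → Ω} (hf : IsMap F P f) (hRP : R ≤ P)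
    (h : ∀ x ∈ R, f x ∈ R) : img R f = R :=
  haveI := finite_of_le (hRP.trans hf.le)
  Subgroup.eq_of_le_of_card_ge (IsMap.img_le_iff.mpr h) (hf.mono hRP).card_img.ge

theorem conj_map_eq [Finite S] {R : Subgroup Ω} (hRS : R ≤ S)
    (hn : S ≤ Subgroup.normalizer (R : Set Ω)) :
    ∀ g ∈ S, R.map (MulAut.conj g).toMonoidHom = R := fun g hg => by
  rw [← img_conj]
  exact img_eq_of_apply (isMap_conj (F := innerFusionSystem S) hRS hg) le_rfl
    fun x hx => conj_mem_of_mem_normalizer (hn hg) hx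

/-- A strongly closed subgroup in all centric radical subgroups is normal. -/
theorem isNormal_of_le_radical [Finite S] [Fact p.Prime] (hS : IsPGroup p S) (hF : F.IsSaturated p)
    {R : Subgroup Ω} (hR : F.StronglyClosed R)
    (h : ∀ P : Subgroup Ω, F.IsFullyNormalized P → F.IsCentric P → F.IsRadical p P → R ≤ P) :
    F.IsNormal R := by
  have hclass := isMapClass_extendsWith (F := F) hR.1
    (conj_map_eq hR.1 (normalizes_of_stronglyClosed hR))
  refine isNormal_of_extendsWith hR.1 fun P f hf =>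
    alperin_radical hS hF hclass (fun g hg => ?_) (fun Q _ hQn hQc hQr _ α hα => ?_) hf
  · exact ⟨g, by rwa [sup_eq_left.mpr hR.1], fun _ _ => rfl,
      img_eq_of_apply hg hR.1 fun x hx => stronglyClosed_apply hR hg (hR.1 hx) hx⟩
  · have hRQ := h Q hQn hQc hQr
    have hm := (isMap_autFun hQn.1).mpr hα
    exact ⟨autFun α, by rwa [sup_eq_left.mpr hRQ], fun _ _ => rfl,
      img_eq_of_apply hm hRQ fun x hx => stronglyClosed_apply hR hm (hRQ hx) hx⟩

/-- A normal `p`-group of automorphisms induced by a normalized subgroup forces it inside. -/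
theorem le_of_radical [Finite S] [Fact p.Prime] (hS : IsPGroup p S) {R P : Subgroup Ω}
    (hRS : R ≤ S) (hn : S ≤ Subgroup.normalizer (R : Set Ω)) (hPc : F.IsCentric P)
    (hPr : F.IsRadical p P) (K : Subgroup (MulAut P)) (hKn : ∀ α ∈ F.autGroup P, ∀ β ∈ K, α * β * α⁻¹ ∈ K)
    (hKle : K ≤ F.autGroup P) (hKp : IsPGroup p K)
    (hK : ∀ g ∈ R, ∀ hg : g ∈ Subgroup.normalizer (P : Set Ω), conjAut P g hg ∈ K) : R ≤ P := by
  have hPS := hPc.1
  haveI := finite_of_le hPS
  have hKI : K ≤ Inn P := by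
    have hsub : K.subgroupOf (F.autGroup P) ≤ pCore p (F.autGroup P) := by
      refine le_sSup ⟨⟨fun β hβ α => hKn α α.2 β hβ⟩, ?_⟩
      exact hKp.of_injective (Subgroup.subgroupOfEquivOfLe hKle).toMonoidHom
        (Subgroup.subgroupOfEquivOfLe hKle).injective
    intro β hβ
    rw [← hPr.2]
    exact ⟨⟨β, hKle hβ⟩, hsub hβ, rfl⟩
  by_contra hle
  set X := P ⊔ R
  have hlt : P < X := lt_of_le_of_ne le_sup_left fun h => hle (h.symm ▸ le_sup_right)
  obtain ⟨u, hu, huP⟩ := SetLike.exists_of_lt (lt_inf_normalizer hS hlt (sup_le hPS hRS))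
  have hu1 : u ∈ ((P ⊔ R : Subgroup Ω) : Set Ω) := hu.1
  rw [Subgroup.coe_mul_of_left_le_normalizer_right P R (hPS.trans hn)] at hu1
  obtain ⟨a, ha, r, hr, rfl⟩ := hu1
  have hrn : r ∈ Subgroup.normalizer (P : Set Ω) := by
    have := Subgroup.mul_mem _ (Subgroup.inv_mem _ (Subgroup.le_normalizer ha)) hu.2
    rwa [inv_mul_cancel_left] at this
  exact huP (P.mul_mem ha (mem_of_inn (hPc.2 P (isConj_refl hPS)) (hRS hr) hrn
    (hKI (hK r hr hrn)) hPS))

/-- A normal subgroup lies in every centric radical subgroup. -/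
theorem le_radical_of_isNormal [Finite S] [Fact p.Prime] (hS : IsPGroup p S) {R P : Subgroup Ω}
    (hR : F.IsNormal R) (hPc : F.IsCentric P) (hPr : F.IsRadical p P) : R ≤ P := by
  have hPS := hPc.1
  haveI := finite_of_le hPS
  haveI := finite_of_le hR.1
  have hn : S ≤ Subgroup.normalizer (R : Set Ω) :=
    normalizes_of_stronglyClosed (stronglyClosed_of_isNormal hR)
  refine le_of_radical hS hR.1 hn hPc hPr (autInducedBy R P) ?_
    ((autInducedBy_mono hR.1).trans (autInducedBy_le hPS))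
    ((isPGroup_autInducedBy hS P).of_injective _ (Subgroup.inclusion_injective (autInducedBy_mono hR.1)))
    fun g hg hgn => conjAut_mem_autInducedBy hgn hg
  intro α hα β hβ
  obtain ⟨g, hg, eg⟩ := mem_autInducedBy.mp hβ
  have hgn : g ∈ Subgroup.normalizer (P : Set Ω) := mem_normalizer_of_mem_autInducedBy eg
  obtain ⟨k, hk, hkf, hki⟩ := extend_of_isNormal hR ((isMap_autFun hPS).mpr hα)
  refine mem_autInducedBy.mpr ⟨k g, IsMap.img_le_iff.mp hki.le g hg, fun x => ?_⟩
  rw [← autFun_apply (α * β * α⁻¹) x, autFun_mul _ _ x.2, autFun_mul _ _ (autFun_mem _ x.2),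
    autFun_apply_mem β (autFun_mem _ x.2), eg]
  have hy : autFun α⁻¹ (x : Ω) ∈ P := autFun_mem _ x.2
  have hgy : g * autFun α⁻¹ (x : Ω) * g⁻¹ ∈ P := conj_mem_of_mem_normalizer hgn hy
  rw [← hkf _ hgy, hk.map_conj (Subgroup.mem_sup_right hg) (Subgroup.mem_sup_left hy), hkf _ hy,
    autFun_inv_apply α x.2]

/-- A strongly closed chain with central factors. -/
theorem isNormal_of_chain [Finite S] [Fact p.Prime] (hS : IsPGroup p S) (hF : F.IsSaturated p)
    {R : Subgroup Ω} (hR : F.StronglyClosed R) (n : ℕ) (C : ℕ → Subgroup Ω) (h0 : C 0 = ⊥)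
    (hn' : R ≤ C n) (hC : ∀ i < n, F.StronglyClosed (C (i + 1)))
    (hcomm : ∀ i < n, ⁅C (i + 1), R⁆ ≤ C i) : F.IsNormal R := by
  refine isNormal_of_le_radical hS hF hR fun P hPn hPc hPr => ?_
  have hPS := hPc.1
  haveI := finite_of_le hPS
  have hnR := normalizes_of_stronglyClosed hR
  let K : Subgroup (MulAut P) :=
    { carrier := {β | β ∈ F.autGroup P ∧ (∀ x ∈ P, x⁻¹ * autFun β x ∈ R) ∧
        ∀ i < n, ∀ x ∈ P, x ∈ C (i + 1) → x⁻¹ * autFun β x ∈ C i}
      one_mem' := ⟨Subgroup.one_mem _, fun x hx => by rw [autFun_apply_mem _ hx]; simp,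
        fun i _ x hx _ => by rw [autFun_apply_mem _ hx]; simp⟩
      mul_mem' := fun {a b} ha hb => ⟨Subgroup.mul_mem _ ha.1 hb.1, fun x hx => by
          rw [autFun_mul _ _ hx]
          have h := R.mul_mem (hb.2.1 x hx) (ha.2.1 _ (autFun_mem b hx))
          rwa [mul_assoc, mul_inv_cancel_left] at h,
        fun i hi x hx hxC => by
          rw [autFun_mul _ _ hx]
          have hbx := stronglyClosed_apply (hC i hi) ((isMap_autFun hPS).mpr hb.1) hx hxC
          have h := (C i).mul_mem (hb.2.2 i hi x hx hxC) (ha.2.2 i hi _ (autFun_mem b hx) hbx)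
          rwa [mul_assoc, mul_inv_cancel_left] at h⟩
      inv_mem' := fun {a} ha => ⟨Subgroup.inv_mem _ ha.1, fun x hx => by
          have h := R.inv_mem (ha.2.1 _ (autFun_mem a⁻¹ hx))
          rwa [autFun_inv_apply a hx, mul_inv_rev, inv_inv] at h,
        fun i hi x hx hxC => by
          have hax := stronglyClosed_apply (hC i hi)
            ((isMap_autFun hPS).mpr (Subgroup.inv_mem _ ha.1)) hx hxC
          have h := (C i).inv_mem (ha.2.2 i hi _ (autFun_mem a⁻¹ hx) hax)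
          rwa [autFun_inv_apply a hx, mul_inv_rev, inv_inv] at h⟩ }
  refine le_of_radical hS hR.1 hnR hPc hPr K ?_ (fun β hβ => hβ.1) ?_ ?_
  · intro α hα β hβ
    have hm := (isMap_autFun hPS).mpr hα
    have key : ∀ x ∈ P, x⁻¹ * autFun (α * β * α⁻¹) x =
        autFun α ((autFun α⁻¹ x)⁻¹ * autFun β (autFun α⁻¹ x)) := fun x hx => by
      have hy := autFun_mem α⁻¹ hx
      rw [hm.map_mul (P.inv_mem hy) (autFun_mem β hy), hm.map_inv hy, autFun_inv_apply α hx,
        ← autFun_mul _ _ hy, ← autFun_mul _ _ hx]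
    refine ⟨Subgroup.mul_mem _ (Subgroup.mul_mem _ hα hβ.1) (Subgroup.inv_mem _ hα),
      fun x hx => ?_, fun i hi x hx hxC => ?_⟩
    · rw [key x hx]
      exact stronglyClosed_apply hR hm (P.mul_mem (P.inv_mem (autFun_mem _ hx))
        (autFun_mem β (autFun_mem _ hx))) (hβ.2.1 _ (autFun_mem _ hx))
    · rw [key x hx]
      have hy := stronglyClosed_apply (hC i hi)
        ((isMap_autFun hPS).mpr (Subgroup.inv_mem _ hα)) hx hxC
      have hv := hβ.2.2 i hi _ (autFun_mem _ hx) hy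
      rcases i with _ | j
      · rw [h0, Subgroup.mem_bot] at hv ⊢
        rw [hv, hm.map_one]
      · exact stronglyClosed_apply (hC j (by omega)) hm (P.mul_mem (P.inv_mem (autFun_mem _ hx))
          (autFun_mem β (autFun_mem _ hx))) hv
  · rintro ⟨β, hβ⟩
    obtain ⟨bp, bq, hbp, hbq, he, ⟨i, hi⟩, hcop⟩ := Cfsg.Lib.Transfer.exists_pPart p β
    have hq : bq ∈ K := (Subgroup.zpowers_le.mpr hβ) hbq
    have hm := (isMap_autFun hPS).mpr hq.1
    have step : ∀ v x : Ω, x ∈ P → x⁻¹ * autFun bq x = v → autFun bq v = v → v = 1 := by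
      intro v x hx hv hfix
      have hvP : v ∈ P := hv ▸ P.mul_mem (P.inv_mem hx) (autFun_mem bq hx)
      have hiter : ∀ i : ℕ, autFun (bq ^ i) x = x * v ^ i := by
        intro i
        induction i with
        | zero => rw [pow_zero, autFun_apply_mem _ hx]; simp
        | succ i ih =>
          rw [pow_succ', autFun_mul _ _ hx, ih, hm.map_mul hx (P.pow_mem hvP i), hm.map_pow hvP,
            hfix, pow_succ', ← mul_assoc, ← hv, mul_inv_cancel_left]
      have h2 := hiter (orderOf bq)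
      rw [pow_orderOf_eq_one, autFun_apply_mem _ hx] at h2
      have h3 : v ^ orderOf bq = 1 := (left_eq_mul.mp h2)
      obtain ⟨j, hj⟩ := hS ⟨v, hPS hvP⟩
      exact orderOf_eq_one_iff.mp (Nat.eq_one_of_dvd_coprimes (hcop.pow_right j)
        (orderOf_dvd_of_pow_eq_one h3) (orderOf_dvd_of_pow_eq_one (congrArg Subtype.val hj)))
    have hfix : ∀ i ≤ n, ∀ x ∈ P, x ∈ C i → autFun bq x = x := by
      intro i
      induction i with
      | zero =>
        intro _ x _ hx
        rw [h0, Subgroup.mem_bot] at hx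
        rw [hx]
        exact hm.map_one
      | succ i ih =>
        intro hi x hx hxC
        exact (inv_mul_eq_one.mp (step _ x hx rfl (ih (by omega) _
          (P.mul_mem (P.inv_mem hx) (autFun_mem bq hx)) (hq.2.2 i (by omega) x hx hxC)))).symm
    have hb1 : bq = 1 := by
      refine MulEquiv.ext fun x => Subtype.ext ?_
      show ((bq x : P) : Ω) = (x : Ω)
      rw [← autFun_apply]
      exact (inv_mul_eq_one.mp (step _ (x : Ω) x.2 rfl (hfix n le_rfl _
        (P.mul_mem (P.inv_mem x.2) (autFun_mem bq x.2)) (hn' (hq.2.1 x x.2))))).symm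
    refine ⟨i, Subtype.ext ?_⟩
    show β ^ p ^ i = 1
    rw [← he, hb1, mul_one, ← hi]
    exact pow_orderOf_eq_one bp
  · intro g hg hgn
    refine ⟨autInducedBy_le hPS (conjAut_mem_autInducedBy hgn (hR.1 hg)), fun x hx => ?_,
      fun i hi x hx hxC => ?_⟩
    · rw [autFun_apply_mem _ hx, conjAut_apply]
      have h1 := conj_mem_of_mem_normalizer (Subgroup.inv_mem _ (hnR (hPS hx))) hg
      have h := R.mul_mem h1 (R.inv_mem hg)
      convert h using 1
      group
    · rw [autFun_apply_mem _ hx, conjAut_apply]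
      have h1 := hcomm i hi (Subgroup.commutator_mem_commutator ((C (i + 1)).inv_mem hxC) hg)
      convert h1 using 1
      simp only [commutatorElement_def, inv_inv, mul_assoc]

theorem isNormal_sup {A B : Subgroup Ω} (hA : F.IsNormal A) (hB : F.IsNormal B) :
    F.IsNormal (A ⊔ B) := by
  refine isNormal_of_extendsWith (sup_le hA.1 hB.1) fun P f hf => ?_
  obtain ⟨k₁, hk₁, hk₁f, hk₁A⟩ := extend_of_isNormal hA hf
  obtain ⟨k, hk, hkk, hkB⟩ := extend_of_isNormal hB hk₁
  refine ⟨k, hk.mono (by rw [sup_assoc]), fun x hx => ?_, ?_⟩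
  · rw [hkk x (Subgroup.mem_sup_left hx), hk₁f x hx]
  · have hm : IsMap F (A ⊔ B) k := hk.mono (sup_le (le_sup_of_le_left le_sup_right) le_sup_right)
    rw [hm.img_sup, hkB, img_congr (f' := k₁) fun x hx => hkk x (Subgroup.mem_sup_right hx), hk₁A]

theorem isNormal_core [Finite S] : F.IsNormal F.core := by
  obtain ⟨A, hA, hmax⟩ := Set.exists_max_image {Q : Subgroup Ω | F.IsNormal Q}
    (fun Q => Nat.card Q) (finite_subgroups_le.subset fun Q hQ => hQ.1) ⟨⊥, isNormal_bot'⟩
  have e : F.core = A := by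
    refine le_antisymm (sSup_le fun Q hQ => ?_) (le_sSup hA)
    have hs : F.IsNormal (A ⊔ Q) := isNormal_sup hA hQ
    haveI := finite_of_le hs.1
    exact le_sup_right.trans (Subgroup.eq_of_le_of_card_ge le_sup_left (hmax _ hs)).ge
  rw [e]
  exact hA

theorem isNormal_of_characteristic {Q U : Subgroup Ω} (hQ : F.IsNormal Q) (hUQ : U ≤ Q)
    (hU : (U.subgroupOf Q).Characteristic) : F.IsNormal U := by
  refine isNormal_of_extendsWith (hUQ.trans hQ.1) fun P f hf => ?_
  obtain ⟨k, hk, hkf, hki⟩ := extend_of_isNormal hQ hf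
  refine ⟨k, hk.mono (sup_le_sup_left hUQ P), hkf, ?_⟩
  obtain ⟨α, -, he⟩ := (hk.mono le_sup_right).exists_aut hki
  rw [img_congr (f' := autFun α) fun x hx => (he x (hUQ hx)).symm]
  have h1 := Subgroup.characteristic_iff_map_eq.mp hU α
  refine le_antisymm (IsMap.img_le_iff.mpr fun x hx => ?_) fun x hx => ?_
  · rw [autFun_apply_mem _ (hUQ hx)]
    exact h1.le ⟨⟨x, hUQ hx⟩, hx, rfl⟩
  · obtain ⟨y, hy, e⟩ := h1.ge (show (⟨x, hUQ hx⟩ : Q) ∈ U.subgroupOf Q from hx)
    have e' : autFun α y = x := by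
      rw [autFun_apply]
      exact congrArg Subtype.val e
    rw [← e']
    exact IsMap.apply_mem_img hy

/-- The upper central series of a normal subgroup is a strongly closed chain. -/
theorem exists_chain_of_isNormal [Finite S] [Fact p.Prime] (hS : IsPGroup p S) {Q : Subgroup Ω}
    (hQ : F.IsNormal Q) : ∃ (n : ℕ) (C : ℕ → Subgroup Ω), C 0 = ⊥ ∧ C n = Q ∧ Monotone C ∧
      (∀ i, F.IsNormal (C i)) ∧ ∀ i, ⁅C (i + 1), Q⁆ ≤ C i := by
  haveI := finite_of_le hQ.1
  haveI := (hS.of_injective _ (Subgroup.inclusion_injective hQ.1)).isNilpotent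
  obtain ⟨n, hn⟩ := Group.IsNilpotent.nilpotent Q
  refine ⟨n, fun i => (Subgroup.upperCentralSeries Q i).map Q.subtype, ?_, ?_, ?_, fun i => ?_, fun i => ?_⟩
  · simp
  · show (Subgroup.upperCentralSeries Q n).map Q.subtype = Q
    rw [hn, ← MonoidHom.range_eq_map, Subgroup.range_subtype]
  · exact fun i j hij => Subgroup.map_mono (Subgroup.upperCentralSeries_mono Q hij)
  · refine isNormal_of_characteristic hQ (Subgroup.map_subtype_le _) ?_
    rw [Subgroup.subgroupOf, Subgroup.comap_map_eq_self_of_injective Q.subtype_injective]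
    infer_instance
  · rw [Subgroup.commutator_le]
    rintro _ ⟨x, hx, rfl⟩ q hq
    exact ⟨⁅x, ⟨q, hq⟩⁆, Subgroup.mem_upperCentralSeries_succ_iff.mp hx ⟨q, hq⟩,
      map_commutatorElement Q.subtype x ⟨q, hq⟩⟩

end Cfsg.Lib.Fusion
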