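import Cfsg.Agent.Fusion.Puig
import Cfsg.Prelude.Def_FusionComponents

/-!
Factor systems along a homomorphism with strongly closed kernel: existence and saturation.
-/

set_option autoImplicit false

namespace Cfsg.Lib.Fusion

open Cfsg Cfsg.FusionSystem

variable {Ω : Type*} [Group Ω] {S : Subgroup Ω} {F : FusionSystem S} {p : ℕ}
  {Ω' : Type*} [Group Ω'] {θ : S →* Ω'} {S' : Subgroup Ω'} {E : FusionSystem S'}

open Classical in
/-- The homomorphism as a function on the ambient group. -/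
noncomputable def qmap (θ : S →* Ω') (x : Ω) : Ω' := if h : x ∈ S then θ ⟨x, h⟩ else 1

theorem qmap_apply {x : Ω} (hx : x ∈ S) : qmap θ x = θ ⟨x, hx⟩ := dif_pos hx

theorem qmap_mul {x y : Ω} (hx : x ∈ S) (hy : y ∈ S) : qmap θ (x * y) = qmap θ x * qmap θ y := by
  rw [qmap_apply hx, qmap_apply hy, qmap_apply (S.mul_mem hx hy), ← map_mul]
  rfl

theorem qmap_inv {x : Ω} (hx : x ∈ S) : qmap θ x⁻¹ = (qmap θ x)⁻¹ := by
  rw [qmap_apply hx, qmap_apply (S.inv_mem hx), ← map_inv]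
  rfl

theorem qmap_one : qmap θ 1 = 1 := by
  rw [qmap_apply S.one_mem]
  exact map_one θ

theorem qmap_conj {x y : Ω} (hx : x ∈ S) (hy : y ∈ S) :
    qmap θ (x * y * x⁻¹) = qmap θ x * qmap θ y * (qmap θ x)⁻¹ := by
  rw [qmap_mul (S.mul_mem hx hy) (S.inv_mem hx), qmap_mul hx hy, qmap_inv hx]

theorem mem_preimageAlong {P' : Subgroup Ω'} {x : Ω} :
    x ∈ preimageAlong θ P' ↔ x ∈ S ∧ qmap θ x ∈ P' := by
  constructor
  · rintro ⟨s, hs, rfl⟩
    refine ⟨s.2, ?_⟩
    rw [show S.subtype s = (s : Ω) from rfl, qmap_apply (θ := θ) s.2]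
    exact hs
  · rintro ⟨hx, h⟩
    exact ⟨⟨x, hx⟩, by rwa [qmap_apply hx] at h, rfl⟩

theorem preimageAlong_le (P' : Subgroup Ω') : preimageAlong θ P' ≤ S := Subgroup.map_subtype_le _

theorem exists_preimage {P' : Subgroup Ω'} (hP' : P' ≤ θ.range) {y : Ω'} (hy : y ∈ P') :
    ∃ x ∈ preimageAlong θ P', qmap θ x = y := by
  obtain ⟨s, rfl⟩ := hP' hy
  exact ⟨s, mem_preimageAlong.mpr ⟨s.2, by rw [qmap_apply (θ := θ) s.2]; exact hy⟩,
    qmap_apply (θ := θ) s.2⟩

/-- The kernel is strongly closed. -/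
def KerClosed (F : FusionSystem S) (θ : S →* Ω') : Prop :=
  ∀ (P : Subgroup Ω) (f : Ω → Ω), IsMap F P f → ∀ x ∈ P, qmap θ x = 1 → qmap θ (f x) = 1

theorem kerClosed_of_stronglyClosed {K : Subgroup Ω} (hK : F.StronglyClosed K)
    (hθ : ∀ s : S, θ s = 1 ↔ (s : Ω) ∈ K) : KerClosed F θ := by
  intro P f hf x hx h
  rw [qmap_apply (hf.le hx)] at h
  have hxK := (hθ _).mp h
  obtain ⟨φ, hφ, e⟩ := hf.mono (inf_le_left : P ⊓ K ≤ P)
  have h2 := hK.2 (P ⊓ K) inf_le_right φ hφ ⟨x, hx, hxK⟩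
  rw [e] at h2
  rw [qmap_apply (hf.mem_S hx)]
  exact (hθ _).mpr h2

namespace KerClosed

variable (hθ : KerClosed F θ)
include hθ

theorem eq_of_qmap_eq {P : Subgroup Ω} {f : Ω → Ω} (hf : IsMap F P f) {x y : Ω} (hx : x ∈ P)
    (hy : y ∈ P) (h : qmap θ x = qmap θ y) : qmap θ (f x) = qmap θ (f y) := by
  have h1 : qmap θ (f (y⁻¹ * x)) = 1 := hθ P f hf _ (P.mul_mem (P.inv_mem hy) hx) (by
    rw [qmap_mul (S.inv_mem (hf.le hy)) (hf.le hx), qmap_inv (hf.le hy), h, inv_mul_cancel])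
  rw [hf.map_mul (P.inv_mem hy) hx, hf.map_inv hy, qmap_mul (S.inv_mem (hf.mem_S hy)) (hf.mem_S hx),
    qmap_inv (hf.mem_S hy), inv_mul_eq_one] at h1
  exact h1.symm

theorem conj_mem_ker {s x : Ω} (hs : s ∈ S) (hx : x ∈ S) (h : qmap θ x = 1) :
    qmap θ (s * x * s⁻¹) = 1 :=
  hθ S _ (isMap_conj le_rfl hs) x hx h

end KerClosed

/-- `E` is the factor system of `F` along `θ`. -/
structure IsQuot (F : FusionSystem S) (θ : S →* Ω') (E : FusionSystem S') : Prop where
  range : θ.range = S'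
  closed : KerClosed F θ
  iff : ∀ (P' : Subgroup Ω') (f' : Ω' → Ω'), IsMap E P' f' ↔
    P' ≤ S' ∧ ∃ f, IsMap F (preimageAlong θ P') f ∧
      ∀ x ∈ preimageAlong θ P', f' (qmap θ x) = qmap θ (f x)

theorem isMap_of_induced {P' : Subgroup Ω'} {φ : (preimageAlong θ P' : Subgroup Ω) →* Ω}
    {φ' : P' →* Ω'} (h : InducedAlong θ φ φ') {f : Ω → Ω} {f' : Ω' → Ω'} (e : ∀ x, φ x = f x)
    (e' : ∀ y, φ' y = f' y) : ∀ x ∈ preimageAlong θ P', f' (qmap θ x) = qmap θ (f x) := by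
  obtain ⟨hP, hφ, hP', hind⟩ := h
  intro x hx
  have h1 := hind ⟨x, hx⟩
  rw [e'] at h1
  rw [qmap_apply (hP hx), qmap_apply (show f x ∈ S from e ⟨x, hx⟩ ▸ hφ ⟨x, hx⟩), h1]
  congr 1
  exact Subtype.ext (e _)

theorem induced_of_isMap {P' : Subgroup Ω'} {f : Ω → Ω} {φ : (preimageAlong θ P' : Subgroup Ω) →* Ω}
    {f' : Ω' → Ω'} {φ' : P' →* Ω'} (hf : IsMap F (preimageAlong θ P') f) (e : ∀ x, φ x = f x)
    (e' : ∀ y, φ' y = f' y)
    (h : ∀ x ∈ preimageAlong θ P', f' (qmap θ x) = qmap θ (f x)) : InducedAlong θ φ φ' := by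
  refine ⟨preimageAlong_le P', fun x => (e x).symm ▸ hf.mem_S x.2, fun x => ?_, fun x => ?_⟩
  · have := (mem_preimageAlong.mp x.2).2
    rwa [qmap_apply (preimageAlong_le P' x.2)] at this
  · rw [e']
    have h1 := h x x.2
    rw [qmap_apply (preimageAlong_le P' x.2), qmap_apply (hf.mem_S x.2)] at h1
    rw [h1]
    congr 1
    exact Subtype.ext (e x).symm

theorem isQuot_of_isFactorSystem {K : Subgroup Ω} (hK : F.StronglyClosed K)
    (hE : F.IsFactorSystem K θ E) : IsQuot F θ E := by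
  obtain ⟨-, hker, hrange, hmaps⟩ := hE
  refine ⟨hrange, kerClosed_of_stronglyClosed hK hker, fun P' f' => ⟨?_, ?_⟩⟩
  · rintro ⟨φ', hφ', e'⟩
    obtain ⟨hP', φ, hφ, hind⟩ := (hmaps P' φ').mp hφ'
    exact ⟨hP', toFun' φ, isMap_of_mem hφ,
      isMap_of_induced hind (fun x => (toFun'_apply φ x).symm) e'⟩
  · rintro ⟨hP', f, ⟨φ, hφ, e⟩, h⟩
    have hf : IsMap F (preimageAlong θ P') f := ⟨φ, hφ, e⟩
    have hPr : P' ≤ θ.range := hrange.symm ▸ hP'
    let φ' : P' →* Ω' := MonoidHom.mk' (fun y => f' y) fun a b => by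
      obtain ⟨x, hx, hxa⟩ := exists_preimage hPr a.2
      obtain ⟨y, hy, hyb⟩ := exists_preimage hPr b.2
      show f' ((a : Ω') * b) = f' a * f' b
      rw [← hxa, ← hyb, ← qmap_mul (hf.le hx) (hf.le hy), h _ (Subgroup.mul_mem _ hx hy), h x hx,
        h y hy, hf.map_mul hx hy, qmap_mul (hf.mem_S hx) (hf.mem_S hy)]
    exact ⟨φ', (hmaps P' φ').mpr ⟨hP', φ, hφ, induced_of_isMap hf e (fun _ => rfl) h⟩,
      fun _ => rfl⟩

/-- The factor system along `θ`. -/
def factorSystem [Finite S] (F : FusionSystem S) (θ : S →* Ω') (hθ : KerClosed F θ) :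
    FusionSystem θ.range where
  Hom P' := {φ' | P' ≤ θ.range ∧ ∃ φ ∈ F.Hom (preimageAlong θ P'), InducedAlong θ φ φ'}
  le_of_mem := by
    rintro P' φ' ⟨hP', φ, hφ, hind⟩
    refine ⟨hP', fun y => ?_⟩
    obtain ⟨x, hx, e⟩ := exists_preimage hP' y.2
    have h := isMap_of_induced hind (fun x => (toFun'_apply φ x).symm)
      (fun y => (toFun'_apply φ' y).symm) x hx
    rw [e, toFun'_apply] at h
    rw [h, qmap_apply ((isMap_of_mem hφ).mem_S hx)]
    exact ⟨_, rfl⟩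
  injective_of_mem := by
    rintro P' φ' ⟨hP', φ, hφ, hind⟩
    rw [injective_iff_map_eq_one]
    intro y hy
    have hf := isMap_of_mem hφ
    have hrel := isMap_of_induced hind (fun x => (toFun'_apply φ x).symm)
      (fun y => (toFun'_apply φ' y).symm)
    obtain ⟨k, hk, -, hl, -⟩ := hf.exists_inv
    obtain ⟨x, hx, e⟩ := exists_preimage hP' y.2
    have h := hrel x hx
    rw [e, toFun'_apply, hy] at h
    have h2 := hθ _ k hk _ (IsMap.apply_mem_img hx) h.symm
    rw [hl x hx, e] at h2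
    exact Subtype.ext h2
  conj_mem := by
    intro P' g hP' hg
    obtain ⟨s, rfl⟩ := hg
    refine ⟨hP', conjHom _ (s : Ω), F.conj_mem (preimageAlong_le P') s.2,
      induced_of_isMap (isMap_conj (F := F) (preimageAlong_le P') s.2) (fun x => rfl)
        (f' := fun y => θ s * y * (θ s)⁻¹) (fun y => rfl) fun x hx => ?_⟩
    rw [qmap_conj s.2 (preimageAlong_le P' hx), qmap_apply s.2]
  comp_mem := by
    rintro P' R' φ' ψ' ⟨hP', φ, hφ, hind⟩ ⟨hR', ψ, hψ, hind'⟩ h
    have hrel := isMap_of_induced hind (fun x => (toFun'_apply φ x).symm)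
      (fun y => (toFun'_apply φ' y).symm)
    have hrel' := isMap_of_induced hind' (fun x => (toFun'_apply ψ x).symm)
      (fun y => (toFun'_apply ψ' y).symm)
    have hmem : ∀ x : preimageAlong θ P', φ x ∈ preimageAlong θ R' := fun x => by
      have h1 := hrel x x.2
      rw [toFun'_apply φ x, toFun'_apply_mem φ' (mem_preimageAlong.mp x.2).2] at h1
      exact mem_preimageAlong.mpr ⟨(F.le_of_mem hφ).2 x, h1 ▸ h _⟩
    refine ⟨hP', _, F.comp_mem hφ hψ hmem,
      induced_of_isMap (isMap_of_mem (F.comp_mem hφ hψ hmem)) (fun x => (toFun'_apply _ x).symm)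
        (f' := toFun' ψ' ∘ toFun' φ') (fun y => ?_) fun x hx => ?_⟩
    · show ψ' ⟨φ' y, h y⟩ = toFun' ψ' (toFun' φ' y)
      rw [toFun'_apply φ' y, toFun'_apply_mem ψ' (h y)]
    · show toFun' ψ' (toFun' φ' (qmap θ x)) = _
      rw [hrel x hx, toFun'_apply_mem φ hx, hrel' _ (hmem ⟨x, hx⟩), toFun'_apply_mem _ hx,
        toFun'_apply_mem ψ (hmem ⟨x, hx⟩)]
      rfl
  inv_mem := by
    rintro P' φ' ⟨hP', φ, hφ, hind⟩
    have hf := isMap_of_mem hφ
    have hrel := isMap_of_induced hind (fun x => (toFun'_apply φ x).symm)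
      (fun y => (toFun'_apply φ' y).symm)
    obtain ⟨k, hk, -, hl, hr⟩ := hf.exists_inv
    have hpre : preimageAlong θ φ'.range = img (preimageAlong θ P') (toFun' φ) := by
      have hle : img (preimageAlong θ P') (toFun' φ) ≤ preimageAlong θ φ'.range :=
        IsMap.img_le_iff.mpr fun x hx => mem_preimageAlong.mpr ⟨hf.mem_S hx, by
          rw [← hrel x hx, toFun'_apply_mem φ' (mem_preimageAlong.mp hx).2]
          exact ⟨_, rfl⟩⟩
      refine le_antisymm (fun z hz => ?_) hle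
      obtain ⟨hzS, y, hy⟩ := mem_preimageAlong.mp hz
      obtain ⟨x, hx, e⟩ := exists_preimage hP' y.2
      -- the kernel is carried onto itself
      let Kθ : Subgroup Ω := preimageAlong θ ⊥
      have hKP : Kθ ≤ preimageAlong θ P' := fun w hw => by
        obtain ⟨h1, h2⟩ := mem_preimageAlong.mp hw
        exact mem_preimageAlong.mpr ⟨h1, (Subgroup.mem_bot.mp h2).symm ▸ P'.one_mem⟩
      have hfK := hf.mono hKP
      have := finite_of_le (preimageAlong_le (θ := θ) ⊥)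
      have hKimg : img Kθ (toFun' φ) = Kθ := by
        refine Subgroup.eq_of_le_of_card_ge (IsMap.img_le_iff.mpr fun w hw => ?_) hfK.card_img.ge
        exact mem_preimageAlong.mpr ⟨hfK.mem_S hw, Subgroup.mem_bot.mpr (hθ _ _ hfK w hw
          (Subgroup.mem_bot.mp (mem_preimageAlong.mp hw).2))⟩
      have hz' : (toFun' φ x)⁻¹ * z ∈ Kθ := by
        refine mem_preimageAlong.mpr ⟨S.mul_mem (S.inv_mem (hf.mem_S hx)) hzS, Subgroup.mem_bot.mpr ?_⟩
        rw [qmap_mul (S.inv_mem (hf.mem_S hx)) hzS, qmap_inv (hf.mem_S hx), ← hrel x hx, e,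
          toFun'_apply, hy, inv_mul_cancel]
      obtain ⟨w, hw, hwe⟩ := hfK.mem_img.mp (hKimg.symm ▸ hz')
      refine hf.mem_img.mpr ⟨x * w, Subgroup.mul_mem _ hx (hKP hw), ?_⟩
      rw [hf.map_mul hx (hKP hw), hwe, mul_inv_cancel_left]
    have hinj : Function.Injective φ' := by
      rw [injective_iff_map_eq_one]
      intro y hy
      obtain ⟨x, hx, e⟩ := exists_preimage hP' y.2
      have h := hrel x hx
      rw [e, toFun'_apply, hy] at h
      have h2 := hθ _ k hk _ (IsMap.apply_mem_img hx) h.symm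
      rw [hl x hx, e] at h2
      exact Subtype.ext h2
    let ψ' : φ'.range →* Ω' := P'.subtype.comp (MonoidHom.ofInjective hinj).symm.toMonoidHom
    have hk' : IsMap F (preimageAlong θ φ'.range) k := hpre ▸ hk
    obtain ⟨ψ, hψ, e⟩ := hk'
    have hψ' : ∀ y : P', ψ' ⟨φ' y, ⟨y, rfl⟩⟩ = y := fun y => congrArg Subtype.val
      ((MonoidHom.ofInjective hinj).symm_apply_apply y)
    refine ⟨ψ', ⟨?_, ψ, hψ, induced_of_isMap (F := F) ⟨ψ, hψ, e⟩ e
      (fun y => (toFun'_apply ψ' y).symm) fun z hz => ?_⟩, hψ'⟩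
    · rintro _ ⟨y, rfl⟩
      obtain ⟨x, hx, e'⟩ := exists_preimage hP' y.2
      have h := hrel x hx
      rw [e', toFun'_apply] at h
      rw [h, qmap_apply (hf.mem_S hx)]
      exact ⟨_, rfl⟩
    · rw [hpre] at hz
      obtain ⟨x, hx, rfl⟩ := hf.mem_img.mp hz
      have hxP := (mem_preimageAlong.mp hx).2
      rw [hl x hx, ← hrel x hx, toFun'_apply_mem φ' hxP, toFun'_apply_mem ψ' ⟨_, rfl⟩]
      exact hψ' _

theorem isFactorSystem_factorSystem [Finite S] (hθ : KerClosed F θ) {K : Subgroup Ω}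
    (hKS : K ≤ S) (hker : ∀ s : S, θ s = 1 ↔ (s : Ω) ∈ K) :
    F.IsFactorSystem K θ (factorSystem F θ hθ) :=
  ⟨hKS, hker, rfl, fun _ _ => Iff.rfl⟩

theorem isQuot_factorSystem [Finite S] (hθ : KerClosed F θ) :
    IsQuot F θ (factorSystem F θ hθ) := by
  refine ⟨rfl, hθ, fun P' f' => ⟨?_, ?_⟩⟩
  · rintro ⟨φ', ⟨hP', φ, hφ, hind⟩, e'⟩
    exact ⟨hP', toFun' φ, isMap_of_mem hφ,
      isMap_of_induced hind (fun x => (toFun'_apply φ x).symm) e'⟩
  · rintro ⟨hP', f, ⟨φ, hφ, e⟩, h⟩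
    have hf : IsMap F (preimageAlong θ P') f := ⟨φ, hφ, e⟩
    let φ' : P' →* Ω' := MonoidHom.mk' (fun y => f' y) fun a b => by
      obtain ⟨x, hx, hxa⟩ := exists_preimage hP' a.2
      obtain ⟨y, hy, hyb⟩ := exists_preimage hP' b.2
      show f' ((a : Ω') * b) = f' a * f' b
      rw [← hxa, ← hyb, ← qmap_mul (hf.le hx) (hf.le hy), h _ (Subgroup.mul_mem _ hx hy), h x hx,
        h y hy, hf.map_mul hx hy, qmap_mul (hf.mem_S hx) (hf.mem_S hy)]
    exact ⟨φ', ⟨hP', φ, hφ, induced_of_isMap hf e (fun _ => rfl) h⟩, fun _ => rfl⟩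

open Classical in
/-- Push a function down along `θ`. -/
noncomputable def pushMap (θ : S →* Ω') (f : Ω → Ω) (y : Ω') : Ω' :=
  if h : ∃ x ∈ S, qmap θ x = y then qmap θ (f h.choose) else 1

namespace IsQuot

variable (h : IsQuot F θ E)
include h

theorem pushMap_apply {P' : Subgroup Ω'} {f : Ω → Ω} (hf : IsMap F (preimageAlong θ P') f) {x : Ω}
    (hx : x ∈ preimageAlong θ P') : pushMap θ f (qmap θ x) = qmap θ (f x) := by
  have hex : ∃ y ∈ S, qmap θ y = qmap θ x := ⟨x, hf.le hx, rfl⟩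
  rw [pushMap, dif_pos hex]
  refine h.closed.eq_of_qmap_eq hf (mem_preimageAlong.mpr ⟨hex.choose_spec.1, ?_⟩) hx hex.choose_spec.2
  rw [hex.choose_spec.2]
  exact (mem_preimageAlong.mp hx).2

theorem isMap_pushMap {P' : Subgroup Ω'} (hP' : P' ≤ S') {f : Ω → Ω}
    (hf : IsMap F (preimageAlong θ P') f) : IsMap E P' (pushMap θ f) :=
  (h.iff _ _).mpr ⟨hP', f, hf, fun _ hx => h.pushMap_apply hf hx⟩

theorem exists_lift {P' : Subgroup Ω'} {f' : Ω' → Ω'} (hf : IsMap E P' f') :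
    ∃ f, IsMap F (preimageAlong θ P') f ∧
      ∀ x ∈ preimageAlong θ P', f' (qmap θ x) = qmap θ (f x) :=
  ((h.iff _ _).mp hf).2

/-- Quotient systems of saturated systems are saturated. -/
theorem saturated [Finite S] [Fact p.Prime] (hS : IsPGroup p S) (hF : F.IsSaturated p) :
    E.IsSaturated p := by
  intro P₀ hP₀
  have hr := h.range
  have : Finite S' := by
    rw [← hr]
    exact Finite.of_surjective θ.rangeRestrict θ.rangeRestrict_surjective
  obtain ⟨P, hconj, hPn⟩ := exists_fullyNormalized (F := F) (preimageAlong_le (θ := θ) P₀)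
  obtain ⟨c, hc, hci⟩ := isConj_iff.mp hconj
  obtain ⟨-, hfa, hrec⟩ := fullyNormalized_props hS hF hPn
  set c' := pushMap θ c
  have hc' : IsMap E P₀ c' := h.isMap_pushMap hP₀ hc
  set P₁ := img P₀ c'
  have hP₁ : P₁ ≤ S' := hc'.img_le
  have hP : P = preimageAlong θ P₁ := by
    refine le_antisymm ?_ ?_
    · rw [← hci]
      refine IsMap.img_le_iff.mpr fun x hx => mem_preimageAlong.mpr ⟨hc.mem_S hx, ?_⟩
      rw [← h.pushMap_apply hc hx]
      exact IsMap.apply_mem_img (mem_preimageAlong.mp hx).2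
    · intro z hz
      obtain ⟨hzS, hzP⟩ := mem_preimageAlong.mp hz
      obtain ⟨y, hy, e⟩ := hc'.mem_img.mp hzP
      obtain ⟨x, hx, rfl⟩ := exists_preimage (hr.symm ▸ hP₀) hy
      rw [show c' (qmap θ x) = qmap θ (c x) from h.pushMap_apply hc hx] at e
      let Kθ : Subgroup Ω := preimageAlong θ ⊥
      have hKP : Kθ ≤ preimageAlong θ P₀ := fun w hw => by
        obtain ⟨h1, h2⟩ := mem_preimageAlong.mp hw
        exact mem_preimageAlong.mpr ⟨h1, (Subgroup.mem_bot.mp h2).symm ▸ P₀.one_mem⟩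
      have hfK := hc.mono hKP
      have := finite_of_le (preimageAlong_le (θ := θ) ⊥)
      have hKimg : img Kθ c = Kθ := by
        refine Subgroup.eq_of_le_of_card_ge (IsMap.img_le_iff.mpr fun w hw => ?_) hfK.card_img.ge
        exact mem_preimageAlong.mpr ⟨hfK.mem_S hw, Subgroup.mem_bot.mpr (h.closed _ _ hfK w hw
          (Subgroup.mem_bot.mp (mem_preimageAlong.mp hw).2))⟩
      have hz' : (c x)⁻¹ * z ∈ Kθ := by
        refine mem_preimageAlong.mpr ⟨S.mul_mem (S.inv_mem (hc.mem_S hx)) hzS, Subgroup.mem_bot.mpr ?_⟩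
        rw [qmap_mul (S.inv_mem (hc.mem_S hx)) hzS, qmap_inv (hc.mem_S hx), e, inv_mul_cancel]
      obtain ⟨w, hw, hwe⟩ := hfK.mem_img.mp (hKimg.symm ▸ hz')
      rw [← hci, hc.mem_img]
      exact ⟨x * w, Subgroup.mul_mem _ hx (hKP hw), by
        rw [hc.map_mul hx (hKP hw), hwe, mul_inv_cancel_left]⟩
  subst hP
  have hPfin := finite_of_le (preimageAlong_le (θ := θ) P₁)
  haveI := finite_of_le hP₁
  set P := preimageAlong θ P₁
  have hPS : P ≤ S := preimageAlong_le P₁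
  have hlift : ∀ y ∈ P₁, ∃ x ∈ P, qmap θ x = y := fun y hy => exists_preimage (hr.symm ▸ hP₁) hy
  have hpush : ∀ α ∈ F.autGroup P, IsMap E P₁ (pushMap θ (autFun α)) ∧
      ∀ x ∈ P, pushMap θ (autFun α) (qmap θ x) = qmap θ (autFun α x) := fun α hα =>
    ⟨h.isMap_pushMap hP₁ ((isMap_autFun hPS).mpr hα),
      fun x hx => h.pushMap_apply ((isMap_autFun hPS).mpr hα) hx⟩
  have hmem : ∀ α ∈ F.autGroup P, ∀ y ∈ P₁, pushMap θ (autFun α) y ∈ P₁ := by
    intro α hα y hy
    obtain ⟨x, hx, rfl⟩ := hlift y hy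
    rw [(hpush α hα).2 x hx]
    exact (mem_preimageAlong.mp (autFun_mem α hx)).2
  have hcomp : ∀ α ∈ F.autGroup P, ∀ β ∈ F.autGroup P, ∀ y ∈ P₁,
      pushMap θ (autFun (α * β)) y = pushMap θ (autFun α) (pushMap θ (autFun β) y) := by
    intro α hα β hβ y hy
    obtain ⟨x, hx, rfl⟩ := hlift y hy
    rw [(hpush _ (Subgroup.mul_mem _ hα hβ)).2 x hx, (hpush β hβ).2 x hx,
      (hpush α hα).2 _ (autFun_mem β hx), autFun_mul _ _ hx]
  have hone : ∀ y ∈ P₁, pushMap θ (autFun (1 : MulAut P)) y = y := by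
    intro y hy
    obtain ⟨x, hx, rfl⟩ := hlift y hy
    rw [(hpush 1 (Subgroup.one_mem _)).2 x hx, autFun_apply_mem _ hx]
    rfl
  obtain ⟨r, hr_apply⟩ : ∃ r : F.autGroup P →* MulAut P₁, ∀ (α : F.autGroup P) (x : Ω) (_ : x ∈ P),
      autFun (r α) (qmap θ x) = qmap θ (autFun α.1 x) := by
   refine ⟨
    { toFun := fun α =>
        { toFun := fun y => ⟨pushMap θ (autFun α.1) y, hmem _ α.2 y y.2⟩
          invFun := fun y => ⟨pushMap θ (autFun (α⁻¹).1) y, hmem _ (α⁻¹).2 y y.2⟩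
          left_inv := fun y => Subtype.ext (by
            show pushMap θ _ (pushMap θ _ (y : Ω')) = y
            rw [← hcomp _ (α⁻¹).2 _ α.2 y y.2, ← Subgroup.coe_mul, inv_mul_cancel]
            exact hone y y.2)
          right_inv := fun y => Subtype.ext (by
            show pushMap θ _ (pushMap θ _ (y : Ω')) = y
            rw [← hcomp _ α.2 _ (α⁻¹).2 y y.2, ← Subgroup.coe_mul, mul_inv_cancel]
            exact hone y y.2)
          map_mul' := fun a b => Subtype.ext ((hpush _ α.2).1.map_mul a.2 b.2) }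
      map_one' := MulEquiv.ext fun y => Subtype.ext (hone y y.2)
      map_mul' := fun α β => MulEquiv.ext fun y => Subtype.ext (hcomp _ α.2 _ β.2 y y.2) },
     fun α x hx => ?_⟩
   rw [autFun_apply_mem _ (mem_preimageAlong.mp hx).2]
   exact (hpush _ α.2).2 x hx
  have hsurj : E.autGroup P₁ ≤ r.range := by
    intro β hβ
    obtain ⟨f, hf, hfe⟩ := h.exists_lift ((isMap_autFun hP₁).mpr hβ)
    have hfi : img P f = P := by
      refine Subgroup.eq_of_le_of_card_ge (IsMap.img_le_iff.mpr fun x hx => ?_) hf.card_img.ge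
      exact mem_preimageAlong.mpr ⟨hf.mem_S hx, hfe x hx ▸ autFun_mem β (mem_preimageAlong.mp hx).2⟩
    obtain ⟨α, hα, hαe⟩ := hf.exists_aut hfi
    refine ⟨⟨α, hα⟩, MulEquiv.ext fun y => Subtype.ext ?_⟩
    obtain ⟨x, hx, e⟩ := hlift y y.2
    rw [← autFun_apply (r ⟨α, hα⟩) y, ← autFun_apply β y, ← e, hr_apply ⟨α, hα⟩ x hx, hαe x hx,
      hfe x hx]
  -- elements of the normalizer downstairs
  have hnorm : ∀ s ∈ S, qmap θ s ∈ Subgroup.normalizer (P₁ : Set Ω') → s ∈ normalizerIn S P := by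
    intro s hs hn
    refine ⟨hs, mem_normalizer_of_maps_finite fun x hx => ?_⟩
    refine mem_preimageAlong.mpr ⟨S.mul_mem (S.mul_mem hs (hPS hx)) (S.inv_mem hs), ?_⟩
    rw [qmap_conj hs (hPS hx)]
    exact conj_mem_of_mem_normalizer hn (mem_preimageAlong.mp hx).2
  have hconjr : ∀ (a : F.autGroup P) (s : Ω), s ∈ S →
      (∀ x : P, ((a.1 x : P) : Ω) = s * x * s⁻¹) →
      ∀ y : P₁, ((r a y : P₁) : Ω') = qmap θ s * y * (qmap θ s)⁻¹ := by
    intro a s hs ea y
    obtain ⟨x, hx, e⟩ := hlift y y.2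
    rw [← autFun_apply (r a) y, ← e, hr_apply a x hx, autFun_apply_mem _ hx, ea ⟨x, hx⟩,
      qmap_conj hs (hPS hx)]
  set A := (autInducedBy S P).subgroupOf (F.autGroup P) with hA
  have hfa' := (isFullyAutomized_iff hS).mp hfa
  refine ⟨P₁, isConj_iff.mpr ⟨c', hc', rfl⟩, ?_, ?_⟩
  · -- fully automized
    have hS'p : IsPGroup p S' := by
      rw [← hr]
      exact hS.of_surjective θ.rangeRestrict θ.rangeRestrict_surjective
    rw [isFullyAutomized_iff hS'p]
    refine ⟨hP₁, fun hdvd => hfa'.2 ?_⟩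
    have hle : A.map r ≤ autInducedBy S' P₁ := by
      rintro _ ⟨a, ha, rfl⟩
      obtain ⟨s, hs, ea⟩ := mem_autInducedBy.mp (Subgroup.mem_subgroupOf.mp ha)
      refine mem_autInducedBy.mpr ⟨qmap θ s, ?_, hconjr a s hs ea⟩
      rw [← hr, qmap_apply hs]
      exact ⟨_, rfl⟩
    have h1 : (autInducedBy S' P₁).relIndex (E.autGroup P₁) ∣ (A.map r).relIndex r.range :=
      (Dvd.intro _ (Subgroup.relIndex_mul_relIndex _ _ _ (autInducedBy_le hP₁) hsurj)).trans
        (Subgroup.relIndex_dvd_of_le_left _ hle)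
    have h2 : (A.map r).relIndex r.range ∣ A.index := by
      have h3 := Subgroup.index_map_dvd (H := A) r.rangeRestrict_surjective
      have h4 : (A.map r).subgroupOf r.range = A.map r.rangeRestrict := by
        ext ⟨y, hy⟩
        constructor
        · rintro ⟨a, ha, e⟩
          exact ⟨a, ha, Subtype.ext e⟩
        · rintro ⟨a, ha, e⟩
          exact ⟨a, ha, congrArg Subtype.val e⟩
      rw [Subgroup.relIndex, h4]
      exact h3
    exact hdvd.trans (h1.trans h2)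
  · -- receptive
    refine receptive_of_extend hP₁ fun R₁ g hg hgi => ?_
    have hR₁ : R₁ ≤ S' := hg.le
    obtain ⟨f, hf, hfe⟩ := h.exists_lift hg
    set R := preimageAlong θ R₁ with hR
    have hfP : ∀ x ∈ R, f x ∈ P := fun x hx => mem_preimageAlong.mpr ⟨hf.mem_S hx, by
      rw [← hfe x hx, ← hgi]
      exact IsMap.apply_mem_img (mem_preimageAlong.mp hx).2⟩
    have hfi : img R f = P := by
      refine le_antisymm (IsMap.img_le_iff.mpr hfP) fun z hz => ?_
      obtain ⟨hzS, hzP⟩ := mem_preimageAlong.mp hz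
      obtain ⟨y, hy, e⟩ := hg.mem_img.mp (hgi.symm ▸ hzP)
      obtain ⟨x, hx, rfl⟩ := exists_preimage (hr.symm ▸ hR₁) hy
      rw [hfe x hx] at e
      let Kθ : Subgroup Ω := preimageAlong θ ⊥
      have hKR : Kθ ≤ R := fun w hw => by
        obtain ⟨h1, h2⟩ := mem_preimageAlong.mp hw
        exact mem_preimageAlong.mpr ⟨h1, (Subgroup.mem_bot.mp h2).symm ▸ R₁.one_mem⟩
      have hfK := hf.mono hKR
      have := finite_of_le (preimageAlong_le (θ := θ) ⊥)
      have hKimg : img Kθ f = Kθ := by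
        refine Subgroup.eq_of_le_of_card_ge (IsMap.img_le_iff.mpr fun w hw => ?_) hfK.card_img.ge
        exact mem_preimageAlong.mpr ⟨hfK.mem_S hw, Subgroup.mem_bot.mpr (h.closed _ _ hfK w hw
          (Subgroup.mem_bot.mp (mem_preimageAlong.mp hw).2))⟩
      have hz' : (f x)⁻¹ * z ∈ Kθ := by
        refine mem_preimageAlong.mpr ⟨S.mul_mem (S.inv_mem (hf.mem_S hx)) hzS, Subgroup.mem_bot.mpr ?_⟩
        rw [qmap_mul (S.inv_mem (hf.mem_S hx)) hzS, qmap_inv (hf.mem_S hx), e, inv_mul_cancel]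
      obtain ⟨w, hw, hwe⟩ := hfK.mem_img.mp (hKimg.symm ▸ hz')
      exact hf.mem_img.mpr ⟨x * w, Subgroup.mul_mem _ hx (hKR hw), by
        rw [hf.map_mul hx (hKR hw), hwe, mul_inv_cancel_left]⟩
    set M := preimageAlong θ (extSub S' R₁ g)
    have hMS : M ≤ S := preimageAlong_le _
    haveI := finite_of_le hMS
    haveI := finite_of_le (preimageAlong_le (θ := θ) R₁)
    have hMR : ∀ m ∈ M, m ∈ normalizerIn S R := fun m hm => by
      refine ⟨hMS hm, mem_normalizer_of_maps_finite fun x hx => mem_preimageAlong.mpr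
        ⟨S.mul_mem (S.mul_mem (hMS hm) (preimageAlong_le _ hx)) (S.inv_mem (hMS hm)), ?_⟩⟩
      rw [qmap_conj (hMS hm) (preimageAlong_le _ hx)]
      exact conj_mem_of_mem_normalizer (mem_preimageAlong.mp hm).2.2.1 (mem_preimageAlong.mp hx).2
    let eM : M →* MulAut P := (MulAut.congr (hf.equiv hfi)).toMonoidHom.comp
      ((normalizerInHom S R).comp (Subgroup.inclusion hMR))
    have heM : ∀ (m : M) (x : Ω), x ∈ R → autFun (eM m) (f x) = f ((m : Ω) * x * (m : Ω)⁻¹) :=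
      fun m x hx => by
        have e := congr_equiv_spec hf hfi (normalizerInHom S R (Subgroup.inclusion hMR m)) hx
        rw [autFun_apply_mem _ hx] at e
        exact e
    have heMX : eM.range ≤ F.autGroup P := by
      rintro _ ⟨m, rfl⟩
      exact congr_mem_autGroup hf hfi (autInducedBy_le hf.le
        (range_normalizerInHom (S := S) R ▸ ⟨_, rfl⟩))
    have hMp : IsPGroup p M := hS.of_injective _ (Subgroup.inclusion_injective hMS)
    let K : Subgroup (MulAut P) := r.ker.map (F.autGroup P).subtype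
    have hAS : autInducedBy S P ≤ F.autGroup P := autInducedBy_le hPS
    have hKn : autInducedBy S P ≤ Subgroup.normalizer (K : Set (MulAut P)) := fun a ha => by
      refine mem_normalizer_of_maps_finite ?_
      rintro _ ⟨κ, hκ, rfl⟩
      exact ⟨⟨a, hAS ha⟩ * κ * ⟨a, hAS ha⟩⁻¹,
        r.normal_ker.conj_mem κ hκ ⟨a, hAS ha⟩, rfl⟩
    let X : Subgroup (MulAut P) := K ⊔ autInducedBy S P
    have hXF : X ≤ F.autGroup P := sup_le (Subgroup.map_subtype_le _) hAS
    have hUX : eM.range ≤ X := by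
      rintro _ ⟨m, rfl⟩
      obtain ⟨-, hm1⟩ := mem_preimageAlong.mp m.2
      obtain ⟨-, -, t, ht, et⟩ := hm1
      obtain ⟨s, hse⟩ := (show t ∈ θ.range from hr.symm ▸ ht)
      have htn : t ∈ Subgroup.normalizer (P₁ : Set Ω') := by
        refine mem_normalizer_of_maps_finite fun y hy => ?_
        obtain ⟨x, hx, rfl⟩ := hg.mem_img.mp (hgi.symm ▸ hy)
        rw [← et x hx, ← hgi]
        exact IsMap.apply_mem_img (conj_mem_of_mem_normalizer
          (mem_preimageAlong.mp m.2).2.2.1 hx)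
      have hq : qmap θ s = t := (qmap_apply s.2).trans hse
      have hsN : (s : Ω) ∈ normalizerIn S P := hnorm s s.2 (hq ▸ htn)
      have hcS : conjAut P (s : Ω) hsN.2 ∈ autInducedBy S P := conjAut_mem_autInducedBy hsN.2 s.2
      have hk : eM m * (conjAut P (s : Ω) hsN.2)⁻¹ ∈ K := by
        refine ⟨⟨eM m, heMX ⟨m, rfl⟩⟩ * ⟨_, hAS hcS⟩⁻¹, ?_, rfl⟩
        rw [SetLike.mem_coe, MonoidHom.mem_ker, map_mul, map_inv, mul_inv_eq_one]
        refine MulEquiv.ext fun y => Subtype.ext ?_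
        rw [hconjr ⟨_, hAS hcS⟩ s s.2 (fun x => conjAut_apply hsN.2 x) y, hq]
        obtain ⟨y', hy', e'⟩ := hlift y y.2
        obtain ⟨x, hx, hxy⟩ := hf.mem_img.mp (hfi.symm ▸ hy')
        rw [← autFun_apply (r _) y, ← e', hr_apply _ y' hy', ← hxy]
        show qmap θ (autFun (eM m) (f x)) = _
        rw [heM m x hx, ← hfe _ (conj_mem_of_mem_normalizer (hMR m m.2).2 hx),
          qmap_conj (hMS m.2) (preimageAlong_le _ hx), et _ (mem_preimageAlong.mp hx).2, hfe x hx]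
      have := Subgroup.mul_mem X (Subgroup.mem_sup_left hk) (Subgroup.mem_sup_right hcS)
      rwa [inv_mul_cancel_right] at this
    have hmaxA : IsMaxPIn p (autInducedBy S P) X := by
      refine ⟨le_sup_right, isPGroup_autInducedBy hS P, fun V hV hVp hle => ?_⟩
      obtain ⟨χ, -, hχ⟩ := exists_conj_into_autS hfa hVp (hV.trans hXF)
      refine (Subgroup.eq_of_le_of_card_ge hle ?_).symm
      exact Nat.card_le_card_of_injective (fun v => (⟨χ * v * χ⁻¹, hχ v v.2⟩ : autInducedBy S P))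
        fun a b hab => Subtype.ext (mul_left_cancel (mul_right_cancel
          (congrArg (fun z : autInducedBy S P => (z : MulAut P)) hab)))
    obtain ⟨ε, hε, hεU⟩ := hmaxA.exists_conj_le hUX
      (hMp.of_surjective _ eM.rangeRestrict_surjective)
    have hεX : ε⁻¹ ∈ ((K ⊔ autInducedBy S P : Subgroup (MulAut P)) : Set (MulAut P)) :=
      X.inv_mem hε
    rw [Subgroup.coe_mul_of_right_le_normalizer_left K (autInducedBy S P) hKn] at hεX
    obtain ⟨κ, hκ, a, ha, hκa⟩ := hεX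
    have hκU : ∀ u ∈ eM.range, κ⁻¹ * u * κ ∈ autInducedBy S P := by
      intro u hu
      have h1 := Subgroup.mul_mem _ (Subgroup.mul_mem _ ha (hεU u hu)) (Subgroup.inv_mem _ ha)
      have hε' : ε = a⁻¹ * κ⁻¹ := by rw [← inv_inv ε, ← hκa, mul_inv_rev]
      rw [hε'] at h1
      convert h1 using 1
      group
    obtain ⟨κ₀, hκ₀, rfl⟩ := hκ
    have hκF : ((κ₀⁻¹ : F.autGroup P) : MulAut P) ∈ F.autGroup P := (κ₀⁻¹).2
    have hg0 : IsMap F R (autFun ((κ₀⁻¹ : F.autGroup P) : MulAut P) ∘ f) :=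
      hf.comp ((isMap_autFun hPS).mpr hκF) hfP
    have hg0i : img R (autFun ((κ₀⁻¹ : F.autGroup P) : MulAut P) ∘ f) = P := by
      rw [img_comp hf (hfi.symm ▸ (isMap_autFun hPS).mpr hκF), hfi, img_autFun]
    obtain ⟨G, hG, hGe⟩ := receptive_extend hrec hg0 hg0i
    have hsub : M ≤ extSub S R (autFun ((κ₀⁻¹ : F.autGroup P) : MulAut P) ∘ f) := by
      intro m hm
      obtain ⟨s, hs, es⟩ := mem_autInducedBy.mp (hκU _ ⟨⟨m, hm⟩, rfl⟩)
      refine ⟨hMS hm, (hMR m hm).2, s, hs, fun x hx => ?_⟩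
      have hz := hfP x hx
      show autFun ((κ₀ : MulAut P))⁻¹ (f (m * x * m⁻¹)) =
        s * autFun ((κ₀ : MulAut P))⁻¹ (f x) * s⁻¹
      rw [← heM ⟨m, hm⟩ x hx, ← es ⟨_, autFun_mem _ hz⟩, ← autFun_apply, ← autFun_mul _ _ hz,
        ← autFun_mul _ _ hz]
      refine congrArg (fun a : MulAut P => autFun a (f x)) ?_
      exact (mul_inv_cancel_right _ (κ₀ : MulAut P)).symm
    have hGM := hG.mono hsub
    refine ⟨pushMap θ G, h.isMap_pushMap ((extSub_le R₁ g).trans inf_le_left) hGM, fun y hy => ?_⟩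
    obtain ⟨x, hx, rfl⟩ := exists_preimage (hr.symm ▸ hR₁) hy
    have hxM : x ∈ M := mem_preimageAlong.mpr ⟨preimageAlong_le _ hx, le_extSub hg hy⟩
    rw [h.pushMap_apply hGM hxM, hGe x hx, hfe x hx]
    show qmap θ (autFun ((κ₀⁻¹ : F.autGroup P) : MulAut P) (f x)) = _
    rw [← hr_apply κ₀⁻¹ (f x) (hfP x hx), map_inv, show r κ₀ = 1 from hκ₀, inv_one,
      autFun_apply_mem _ (mem_preimageAlong.mp (hfP x hx)).2]
    rfl

end IsQuot

end Cfsg.Lib.Fusion
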