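import Cfsg.Agent.Fusion.GTSubsystem
import Cfsg.Agent.Fusion.Factor
import Cfsg.Agent.Transfer.Basic

/-!
Two steps of the Glauberman–Thompson argument: maps are conjugations modulo a normal subgroup,
and the non-constrained case.
-/

set_option autoImplicit false

namespace Cfsg.Lib.Fusion

open Cfsg Cfsg.FusionSystem
open scoped commutatorElement

universe u

variable {Ω : Type u} [Group Ω] {S : Subgroup Ω} {F : FusionSystem S} {p : ℕ}

theorem exists_conj_mod [Finite S] [Fact p.Prime] (hp : p ≠ 2) (hS : IsPGroup p S)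
    (hF : F.IsSaturated p) {V : Subgroup Ω} (hVn : F.IsNormal V)
    (hSV : S ≤ Subgroup.normalizer (V : Set Ω)) (hVbot : V ≠ ⊥) (hVS : V ≠ S)
    (hW : ∀ (R : Subgroup Ω) (hR : R ≤ S) (hn : S ≤ Subgroup.normalizer (R : Set Ω)), V < R →
      IsInner (normalizerTop F hR hn))
    (hGT : ∀ {Ω' : Type u} [Group Ω'] (T : Subgroup Ω') [Finite T], Nat.card T < Nat.card S →
      IsPGroup p T → ∀ E : FusionSystem T, E.IsSaturated p →
        ∀ (𝒜 : Set (Subgroup Ω')) (h𝒜 : IsGTFamily E 𝒜),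
          IsInner (normalizerSystem E h𝒜.inter_le) → IsInner E) :
    ∀ (P : Subgroup Ω) (f : Ω → Ω), IsMap F P f → V ≤ P →
      ∃ s ∈ S, ∀ x ∈ P, (s * x * s⁻¹)⁻¹ * f x ∈ V := by
  haveI := finite_of_le hVn.1
  haveI hVn' : (V.subgroupOf S).Normal := ⟨fun x hx g => by
    have := conj_mem_of_mem_normalizer (hSV g.2) (Subgroup.mem_subgroupOf.mp hx)
    exact Subgroup.mem_subgroupOf.mpr this⟩
  set θ := QuotientGroup.mk' (V.subgroupOf S) with hθ
  have hker : ∀ s : S, θ s = 1 ↔ (s : Ω) ∈ V := fun s => by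
    rw [QuotientGroup.mk'_apply, QuotientGroup.eq_one_iff, Subgroup.mem_subgroupOf]
  have hqV : ∀ x ∈ S, qmap θ x = 1 ↔ x ∈ V := fun x hx => by rw [qmap_apply hx, hker]
  have hclosed : KerClosed F θ := by
    intro P f hf x hx h
    obtain ⟨k, hk, hkf, hki⟩ := extend_of_isNormal hVn hf
    rw [hqV _ (hf.le hx)] at h
    rw [hqV _ (hf.mem_S hx), ← hkf x hx]
    exact IsMap.img_le_iff.mp hki.le x h
  have hrange : θ.range = ⊤ := MonoidHom.range_eq_top.mpr (QuotientGroup.mk'_surjective _)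
  have hSq : IsPGroup p θ.range := hS.of_surjective _ θ.rangeRestrict_surjective
  have hquot := isQuot_factorSystem (θ := θ) hclosed
  set E := factorSystem F θ hclosed
  have hEinner : IsInner E := by
    have hlt : Nat.card θ.range < Nat.card S := by
      rw [hrange, Subgroup.card_top]
      have h := (V.subgroupOf S).card_mul_index
      have hV1 : 1 < Nat.card (V.subgroupOf S) := by
        rw [Nat.card_congr (Subgroup.subgroupOfEquivOfLe hVn.1).toEquiv]
        exact (Subgroup.one_lt_card_iff_ne_bot V).mpr hVbot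
      rw [← Subgroup.index, ← h]
      exact lt_mul_of_one_lt_left (Nat.pos_of_ne_zero Subgroup.index_ne_zero_of_finite) hV1
    haveI : Finite θ.range := Finite.of_surjective θ.rangeRestrict θ.rangeRestrict_surjective
    have hfam := isGTFamily_maxAb E (p := p) hp hSq
    refine hGT θ.range hlt hSq _ (hquot.saturated hS hF) _ hfam ?_
    rw [isInner_normalizerSystem_iff]
    set Wq : Subgroup _ := ⨅ A ∈ maxAb θ.range, A
    set W := preimageAlong θ Wq
    have hWq := hfam.inter_le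
    have hWqne : Wq ≠ ⊥ := by
      refine iInf_maxAb_ne_bot hSq le_rfl ?_
      rw [hrange]
      intro h
      refine hVS (le_antisymm hVn.1 fun x hx => (hqV x hx).mp ?_)
      have := (Subgroup.eq_bot_iff_forall _).mp h (qmap θ x) (Subgroup.mem_top _)
      exact this
    have hVW : V < W := by
      refine lt_of_le_of_ne (fun x hx => mem_preimageAlong.mpr ⟨hVn.1 hx, by
        rw [(hqV x (hVn.1 hx)).mpr hx]; exact Wq.one_mem⟩) fun heq => hWqne ?_
      refine (Subgroup.eq_bot_iff_forall _).mpr fun y hy => ?_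
      obtain ⟨x, hx, rfl⟩ := exists_preimage hWq hy
      exact (hqV x (preimageAlong_le _ hx)).mpr (heq ▸ hx)
    obtain ⟨hSWq, -⟩ := hfam.inter_props
    have hWS : W ≤ S := preimageAlong_le _
    haveI := finite_of_le hWS
    have hnW : S ≤ Subgroup.normalizer (W : Set Ω) := fun g hg => by
      refine mem_normalizer_of_maps_finite fun x hx => mem_preimageAlong.mpr
        ⟨S.mul_mem (S.mul_mem hg (hWS hx)) (S.inv_mem hg), ?_⟩
      rw [qmap_conj hg (hWS hx)]
      exact conj_mem_of_mem_normalizer (hSWq (qmap_apply (θ := θ) hg ▸ ⟨_, rfl⟩))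
        (mem_preimageAlong.mp hx).2
    have hW' := hW W hWS hnW hVW
    intro P f hf hP _ ⟨k, hk, hkf, hki⟩
    obtain ⟨j, hj, hje⟩ := hquot.exists_lift hk
    have hjW : img W j = W := by
      have hWle : W ≤ preimageAlong θ (P ⊔ Wq) := fun x hx => mem_preimageAlong.mpr
        ⟨hWS hx, Subgroup.mem_sup_right (mem_preimageAlong.mp hx).2⟩
      refine Subgroup.eq_of_le_of_card_ge (IsMap.img_le_iff.mpr fun x hx => ?_) (hj.mono hWle).card_img.ge
      refine mem_preimageAlong.mpr ⟨hj.mem_S (hWle hx), ?_⟩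
      rw [← hje x (hWle hx)]
      exact IsMap.img_le_iff.mp hki.le _ (mem_preimageAlong.mp hx).2
    have hWle : W ≤ preimageAlong θ (P ⊔ Wq) := fun x hx => mem_preimageAlong.mpr
      ⟨hWS hx, Subgroup.mem_sup_right (mem_preimageAlong.mp hx).2⟩
    obtain ⟨s, hs, es⟩ := hW' _ j (isMap_normalizerTop.mpr
      ⟨hj, j, (sup_eq_left.mpr hWle).symm ▸ hj, fun _ _ => rfl, hjW⟩)
    refine ⟨qmap θ s, ⟨qmap_apply (θ := θ) hs ▸ ⟨_, rfl⟩, hSWq (qmap_apply (θ := θ) hs ▸ ⟨_, rfl⟩)⟩,
      fun y hy => ?_⟩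
    obtain ⟨x, hx, rfl⟩ := exists_preimage (hP.trans inf_le_left) hy
    have hx' : x ∈ preimageAlong θ (P ⊔ Wq) := mem_preimageAlong.mpr
      ⟨preimageAlong_le _ hx, Subgroup.mem_sup_left hy⟩
    rw [← hkf _ hy, hje x hx', es x hx', qmap_conj hs (preimageAlong_le _ hx)]
  intro P f hf hVP
  set P' := P.subgroupOf S |>.map θ
  have hpre : preimageAlong θ P' = P := by
    ext x
    rw [mem_preimageAlong]
    constructor
    · rintro ⟨hxS, y, hy, e⟩
      rw [qmap_apply hxS, QuotientGroup.mk'_apply, QuotientGroup.mk'_apply, QuotientGroup.eq] at e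
      have h2 : (y : Ω)⁻¹ * x ∈ V := e
      have := P.mul_mem (Subgroup.mem_subgroupOf.mp hy) (hVP h2)
      rwa [mul_inv_cancel_left] at this
    · exact fun hx => ⟨hf.le hx, ⟨x, hf.le hx⟩, hx, (qmap_apply (hf.le hx)).symm⟩
  have hP'le : P' ≤ θ.range := Subgroup.map_le_range _ _
  have hm := hquot.isMap_pushMap hP'le (hpre.symm ▸ hf)
  obtain ⟨t, ⟨s, rfl⟩, e⟩ := hEinner _ _ hm
  refine ⟨s, s.2, fun x hx => ?_⟩
  have hx' : x ∈ preimageAlong θ P' := hpre.symm ▸ hx
  have h2 := hquot.pushMap_apply (hpre.symm ▸ hf) hx'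
  rw [e _ (mem_preimageAlong.mp hx').2, ← qmap_apply (θ := θ) s.2,
    ← qmap_conj s.2 (hf.le hx)] at h2
  have hS1 : (s : Ω) * x * (s : Ω)⁻¹ ∈ S := S.mul_mem (S.mul_mem s.2 (hf.le hx)) (S.inv_mem s.2)
  refine (hqV _ (S.mul_mem (S.inv_mem hS1) (hf.mem_S hx))).mp ?_
  rw [qmap_mul (S.inv_mem hS1) (hf.mem_S hx), qmap_inv hS1, h2, inv_mul_cancel]
theorem isInner_of_noncentric [Finite S] [Fact p.Prime] (hS : IsPGroup p S)
    (hF : F.IsSaturated p) {V : Subgroup Ω} (hVn : F.IsNormal V)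
    (hSV : S ≤ Subgroup.normalizer (V : Set Ω)) (hcen : ¬ centralizerIn S V ≤ V)
    (htop : ∀ f : Ω → Ω, IsMap F S f → ∃ s ∈ S, ∀ x ∈ S, f x = s * x * s⁻¹)
    (hW : ∀ (R : Subgroup Ω) (hR : R ≤ S) (hn : S ≤ Subgroup.normalizer (R : Set Ω)), V < R →
      IsInner (normalizerTop F hR hn))
    (hmod : ∀ (P : Subgroup Ω) (f : Ω → Ω), IsMap F P f → V ≤ P →
      ∃ s ∈ S, ∀ x ∈ P, (s * x * s⁻¹)⁻¹ * f x ∈ V) : IsInner F := by
  classical
  haveI := finite_of_le hVn.1
  have hclass := isMapClass_isMap F (innerFusionSystem S)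
  have hgood : ∀ (P : Subgroup Ω) (f : Ω → Ω), P ≤ S → (∃ s ∈ S, ∀ x ∈ P, f x = s * x * s⁻¹) →
      IsMap (innerFusionSystem S) P f := fun P f hP h => isMap_inner_iff.mpr ⟨hP, h⟩
  have hfinish : (∀ Q : Subgroup Ω, Q < S → F.IsFullyNormalized Q → F.IsCentric Q →
      (∀ (T : Subgroup Ω) (f : Ω → Ω), Nat.card Q < Nat.card T → IsMap F T f →
        IsMap (innerFusionSystem S) T f) →
      ∀ α ∈ F.autGroup Q, IsMap (innerFusionSystem S) Q (autFun α)) → IsInner F := by
    intro hsite P f hf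
    exact (isMap_inner_iff.mp (alperin_induction hS hF hclass
      (fun g hg => hgood S g le_rfl (htop g hg)) hsite hf)).2
  -- not constrained: all automisers are `p`-groups
  set R := V ⊔ centralizerIn S V
  have hRS : R ≤ S := sup_le hVn.1 inf_le_left
  haveI := finite_of_le hRS
  have hVR : V < R := lt_of_le_of_ne le_sup_left fun h => hcen ((le_sup_right : centralizerIn S V ≤ R).trans h.ge)
  have hnR : S ≤ Subgroup.normalizer (R : Set Ω) := fun g hg => by
    refine mem_normalizer_of_maps_finite fun x hx => ?_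
    have hm := isMap_conj (F := F) hRS hg
    have hle : img R (fun x => g * x * g⁻¹) ≤ R := by
      rw [hm.img_sup]
      refine sup_le (le_sup_of_le_left (IsMap.img_le_iff.mpr fun y hy =>
        conj_mem_of_mem_normalizer (hSV hg) hy)) (le_sup_of_le_right (IsMap.img_le_iff.mpr fun y hy => ?_))
      refine mem_centralizerIn.mpr ⟨S.mul_mem (S.mul_mem hg hy.1) (S.inv_mem hg), fun v hv => ?_⟩
      have hv' := conj_mem_of_mem_normalizer (inv_mem (hSV hg)) hv
      rw [inv_inv] at hv'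
      have := (mem_centralizerIn.mp hy).2 _ hv'
      calc g * y * g⁻¹ * v * (g * y * g⁻¹)⁻¹ = g * (y * (g⁻¹ * v * g) * y⁻¹) * g⁻¹ := by group
        _ = v := by rw [this]; group
    exact hle (IsMap.apply_mem_img hx)
  have hRinner := hW R hRS hnR hVR
  obtain ⟨hVfc, -, hVrec⟩ := fullyNormalized_props hS hF (fullyNormalized_of_isNormal hVn)
  refine hfinish fun Q hQS hQn hQc hIH α hα => ?_
  have hαm := (isMap_autFun hQn.1).mpr hα
  by_cases hVQ : V ≤ Q
  swap
  · obtain ⟨k, hk, hkf, -⟩ := extend_of_isNormal hVn hαm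
    haveI := finite_of_le hk.le
    have hlt : Q < Q ⊔ V := lt_of_le_of_ne le_sup_left fun h => hVQ (h.symm ▸ le_sup_right)
    have h2 := hIH (Q ⊔ V) k (lt_of_le_of_ne (Subgroup.card_le_of_le hlt.le) fun h => hlt.ne
      (Subgroup.eq_of_le_of_card_ge hlt.le h.ge)) hk
    exact (h2.mono le_sup_left).congr fun x hx => (hkf x hx).symm
  haveI := finite_of_le hQn.1
  -- elements of order prime to `p` are trivial
  have hp' : ∀ β ∈ F.autGroup Q, (orderOf β).Coprime p → β = 1 := by
    intro β hβ hcop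
    have hβm := (isMap_autFun hQn.1).mpr hβ
    have hpow : ∀ b ∈ S, ∃ i : ℕ, b ^ p ^ i = 1 := fun b hb =>
      let ⟨i, hi⟩ := hS ⟨b, hb⟩
      ⟨i, congrArg Subtype.val hi⟩
    have hβV : ∀ v ∈ V, autFun β v = v := by
      obtain ⟨k, hk, hkf, hki⟩ := extend_of_isNormal hVn hβm
      have hbV : ∀ v ∈ V, autFun β v ∈ V := fun v hv => by
        rw [← hkf v (hVQ hv)]
        exact IsMap.img_le_iff.mp hki.le v hv
      have hi := autFun_apply_img hVQ hβ hQn.1 hbV
      have hbm := hβm.mono hVQ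
      obtain ⟨j, hj, hje⟩ := receptive_extend hVrec hbm hi
      have hRext : R ≤ extSub S V (autFun β) :=
        sup_le (le_extSub hbm) (centralizerIn_le_extSub V _)
      have hjR := hj.mono hRext
      have hjV : img V j = V := (img_congr hje).trans hi
      have hji : img R j = R := by
        refine Subgroup.eq_of_le_of_card_ge ?_ hjR.card_img.ge
        rw [hjR.img_sup, hjV]
        refine sup_le le_sup_left (le_sup_of_le_right (IsMap.img_le_iff.mpr fun y hy => ?_))
        have h2 := hj.mem_centralizerIn (le_extSub hbm) (centralizerIn_le_extSub V _ hy) hy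
        rwa [hjV] at h2
      obtain ⟨t, ht, et⟩ := hRinner R j (isMap_normalizerTop.mpr
        ⟨hjR, j, by rwa [sup_idem], fun _ _ => rfl, hji⟩)
      obtain ⟨k', hk1, hk2⟩ := coprime_conj_trick hcop (hpow t ht)
      have hiter : ∀ i : ℕ, ∀ v ∈ V, autFun (β ^ i) v = t ^ i * v * (t ^ i)⁻¹ := by
        intro i
        induction i with
        | zero => intro v hv; rw [pow_zero, autFun_apply_mem _ (hVQ hv)]; simp
        | succ i ih =>
          intro v hv
          rw [pow_succ β, autFun_mul _ _ (hVQ hv), ih _ (hbV v hv), ← hje v hv,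
            et v (Subgroup.mem_sup_left hv), pow_succ]
          group
      intro v hv
      have := hiter k' v hv
      rw [hk1, hk2] at this
      simpa using this
    obtain ⟨s, hs, es⟩ := hmod Q (autFun β) hβm hVQ
    obtain ⟨k', hk1, hk2⟩ := coprime_conj_trick hcop (hpow s hs)
    have hmodV : ∀ x ∈ Q, x⁻¹ * autFun β x ∈ V := by
      have hiter : ∀ i : ℕ, ∀ x ∈ Q, (s ^ i * x * (s ^ i)⁻¹)⁻¹ * autFun (β ^ i) x ∈ V := by
        intro i
        induction i with
        | zero => intro x hx; rw [pow_zero, pow_zero, autFun_apply_mem _ hx]; simp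
        | succ i ih =>
          intro x hx
          have h2 := ih _ (autFun_mem β hx)
          rw [← autFun_mul _ _ hx, ← pow_succ] at h2
          have h3 := conj_mem_of_mem_normalizer (hSV (S.pow_mem hs i)) (es x hx)
          have h4 := V.mul_mem h3 h2
          convert h4 using 1
          rw [pow_succ]
          group
      intro x hx
      have h5 := hiter k' x hx
      rw [hk1, hk2] at h5
      simpa using h5
    refine MulEquiv.ext fun x => Subtype.ext ?_
    show ((β x : Q) : Ω) = (x : Ω)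
    rw [← autFun_apply]
    set v := (x : Ω)⁻¹ * autFun β x
    have hv : v ∈ V := hmodV x x.2
    have hiter : ∀ i : ℕ, autFun (β ^ i) x = (x : Ω) * v ^ i := by
      intro i
      induction i with
      | zero => rw [pow_zero, autFun_apply]; simp
      | succ i ih =>
        rw [pow_succ', autFun_mul _ _ x.2, ih, hβm.map_mul x.2 (hVQ (V.pow_mem hv i)),
          hβV _ (V.pow_mem hv i), pow_succ', ← mul_assoc, ← mul_inv_cancel_left (x : Ω) (autFun β x)]
    have h2 := hiter (orderOf β)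
    rw [pow_orderOf_eq_one, autFun_apply] at h2
    have h3 : v ^ orderOf β = 1 := (left_eq_mul.mp h2)
    obtain ⟨i, hi⟩ := hpow v (hVn.1 hv)
    have h4 : v = 1 := orderOf_eq_one_iff.mp (Nat.eq_one_of_dvd_coprimes (hcop.pow_right i)
      (orderOf_dvd_of_pow_eq_one h3) (orderOf_dvd_of_pow_eq_one hi))
    exact (inv_mul_eq_one.mp h4).symm
  -- so `α` has `p`-power order and is induced by `S`
  have hXp : IsPGroup p (F.autGroup Q) := by
    intro β
    obtain ⟨bp, bq, hbp, hbq, he, ⟨i, hi⟩, hcop⟩ := Cfsg.Lib.Transfer.exists_pPart p (β : MulAut Q)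
    have hb1 : bq = 1 := hp' bq ((Subgroup.zpowers_le.mpr β.2) hbq) hcop
    refine ⟨i, Subtype.ext ?_⟩
    rw [Subgroup.coe_pow, ← he, hb1, mul_one, Subgroup.coe_one, ← hi]
    exact pow_orderOf_eq_one bp
  obtain ⟨hfaQ, hmaxQ⟩ := (fullyNormalized_props hS hF hQn).2.1
  obtain ⟨Rs, hRs⟩ := hmaxQ
  have hall : (⊤ : Subgroup (F.autGroup Q)) = (autInducedBy S Q).subgroupOf (F.autGroup Q) := by
    rw [← hRs]
    exact Rs.3 (hXp.to_subgroup ⊤) le_top
  obtain ⟨s, hs, e⟩ := mem_autInducedBy.mp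
    (Subgroup.mem_subgroupOf.mp (hall ▸ Subgroup.mem_top (⟨α, hα⟩ : F.autGroup Q)))
  exact hgood Q _ hQn.1 ⟨s, hs, fun x hx => by rw [autFun_apply_mem _ hx]; exact e ⟨x, hx⟩⟩

end Cfsg.Lib.Fusion
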