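import Cfsg.Agent.Fusion.Hyperfocal
import Cfsg.Agent.Fusion.NormalCriteria
import Cfsg.Agent.Components.HSub.Tools
import Cfsg.Agent.S5083

/-!
Automorphisms of order prime to `p` fixing the elements of order `p` (and `4`).
-/

set_option autoImplicit false

namespace Cfsg.Lib.Fusion

open Cfsg Cfsg.FusionSystem

variable {Ω : Type*} [Group Ω] {S : Subgroup Ω} {F : FusionSystem S} {p : ℕ}

/-- Order `p`, or dividing `4` when `p = 2`. -/
def IsSmall (p : ℕ) (x : Ω) : Prop := x ^ p = 1 ∨ (p = 2 ∧ x ^ 4 = 1)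

theorem fix_of_small [Fact p.Prime] {W : Type*} [Group W] [Finite W] (hW : IsPGroup p W)
    (R : Subgroup W) (α : MulAut W) (hcop : (orderOf α).Coprime p) (hinv : ∀ x ∈ R, α x ∈ R)
    (h : ∀ x ∈ R, (x ^ p = 1 ∨ (p = 2 ∧ x ^ 4 = 1)) → α x = x) : ∀ x ∈ R, α x = x := by
  haveI : Finite (MulAut W) := Finite.of_injective (fun f : MulAut W => (f : W → W)) DFunLike.coe_injective
  let φ : MulAut W →* MulAut W := MonoidHom.id _
  haveI : Finite (W ⋊[φ] MulAut W) := Finite.of_equiv _ SemidirectProduct.equivProd.symm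
  let Q : Subgroup (W ⋊[φ] MulAut W) := R.map SemidirectProduct.inl
  have hQ : IsPGroup p Q := (hW.to_subgroup R).map _
  let g : W ⋊[φ] MulAut W := SemidirectProduct.inr α
  have hconj : ∀ w : W, g * SemidirectProduct.inl w * g⁻¹ = SemidirectProduct.inl (α w) := fun w => by
    rw [← map_inv]; exact (SemidirectProduct.inl_aut α w).symm
  have hgN : g ∈ Subgroup.normalizer (Q : Set (W ⋊[φ] MulAut W)) := by
    refine mem_normalizer_of_maps_finite fun x hx => ?_
    obtain ⟨w, hw, rfl⟩ := hx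
    exact ⟨α w, hinv w hw, (hconj w).symm⟩
  have hgo : orderOf g = orderOf α := orderOf_injective _ SemidirectProduct.inr_injective α
  have key : ∀ w : W, (w ∈ R → (w ^ p = 1 ∨ (p = 2 ∧ w ^ 4 = 1)) → Commute g (SemidirectProduct.inl w)) :=
    fun w hw hs => by
      have := hconj w
      rw [h w hw hs, mul_inv_eq_iff_eq_mul] at this
      exact this
  have hall := Cfsg.Lib.HSub.commute_of_small hQ hgN (hgo ▸ hcop)
    (fun x hx hxp => by
      obtain ⟨w, hw, rfl⟩ := hx
      rw [← map_pow] at hxp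
      exact key w hw (Or.inl (SemidirectProduct.inl_injective (hxp.trans (map_one _).symm))))
    (fun h2 x hx hx4 => by
      obtain ⟨w, hw, rfl⟩ := hx
      rw [← map_pow] at hx4
      exact key w hw (Or.inr ⟨h2, SemidirectProduct.inl_injective (hx4.trans (map_one _).symm)⟩))
  intro x hx
  have h1 := hall _ ⟨x, hx, rfl⟩
  have h2 := hconj x
  rw [h1.eq, mul_inv_cancel_right] at h2
  exact (SemidirectProduct.inl_injective h2).symm

/-- An automorphism congruent to the identity modulo fixed points is trivial. -/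
theorem fix_of_fix_diff [Fact p.Prime] {W : Type*} [Group W] (hW : IsPGroup p W) {α : MulAut W}
    (hcop : (orderOf α).Coprime p) {x : W} (hv : α (x⁻¹ * α x) = x⁻¹ * α x) : α x = x := by
  have h : ∀ i : ℕ, (α ^ i) x = x * (x⁻¹ * α x) ^ i := by
    intro i
    induction i with
    | zero => simp
    | succ i ih =>
      rw [pow_succ', MulAut.mul_apply, ih, map_mul, map_pow, hv, pow_succ' (x⁻¹ * α x),
        ← mul_assoc x, mul_inv_cancel_left]
  have h2 := h (orderOf α)
  rw [pow_orderOf_eq_one, MulAut.one_apply] at h2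
  obtain ⟨k, hk⟩ := hW (x⁻¹ * α x)
  exact (inv_mul_eq_one.mp (orderOf_eq_one_iff.mp (Nat.eq_one_of_dvd_coprimes (hcop.pow_right k)
    (orderOf_dvd_of_pow_eq_one (left_eq_mul.mp h2)) (orderOf_dvd_of_pow_eq_one hk)))).symm

/-- Fixing a set closed under `x ↦ x⁻¹ αx`. -/
theorem fix_of_diff_closure [Fact p.Prime] {W : Type*} [Group W] [Finite W] (hW : IsPGroup p W)
    {α : MulAut W} (hcop : (orderOf α).Coprime p) (x : W)
    (h : ∀ w ∈ Subgroup.closure (Set.range fun j : ℕ => x⁻¹ * (α ^ j) x),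
      (w ^ p = 1 ∨ (p = 2 ∧ w ^ 4 = 1)) → α w = w) : α x = x := by
  set R := Subgroup.closure (Set.range fun j : ℕ => x⁻¹ * (α ^ j) x)
  have hR : ∀ j : ℕ, x⁻¹ * (α ^ j) x ∈ R := fun j => Subgroup.subset_closure ⟨j, rfl⟩
  refine fix_of_fix_diff hW hcop (fix_of_small hW R α hcop (fun w hw => ?_) h _ ?_)
  · have hle : R ≤ R.comap α.toMonoidHom := (Subgroup.closure_le _).mpr fun _ ⟨j, hj⟩ => by
      subst hj
      show α (x⁻¹ * (α ^ j) x) ∈ R
      have h1 := R.mul_mem (R.inv_mem (hR 1)) (hR (j + 1))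
      simp only [pow_succ', MulAut.mul_apply, pow_zero, MulAut.one_apply] at h1
      rw [map_mul, map_inv]
      convert h1 using 1
      group
    exact hle hw
  · have := hR 1
    rwa [pow_one] at this

theorem mem_hyperfocal_of_pPrime [Fact p.Prime] [Finite S] {P : Subgroup Ω} (hP : P ≤ S)
    {α : MulAut P} (hα : α ∈ F.autGroup P) (hcop : (orderOf α).Coprime p) (x : P) :
    (x : Ω)⁻¹ * (α x : P) ∈ F.hyperfocalSubgroup p := by
  rw [← autFun_apply α x]
  exact mem_hyperfocalSubgroup (α := ⟨α, hα⟩) hP (Cfsg.Lib.Transfer.mem_pResidual_of_coprime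
    (by rwa [← orderOf_injective (F.autGroup P).subtype (F.autGroup P).subtype_injective ⟨α, hα⟩])) x.2

/-- A `p'`-automorphism fixing the small elements of the hyperfocal subgroup is trivial. -/
theorem eq_one_of_fix_small [Fact p.Prime] [Finite S] (hS : IsPGroup p S) {P : Subgroup Ω}
    (hP : P ≤ S) {α : MulAut P} (hα : α ∈ F.autGroup P) (hcop : (orderOf α).Coprime p)
    (h : ∀ x : P, (x : Ω) ∈ F.hyperfocalSubgroup p → IsSmall p (x : Ω) → α x = x) : α = 1 := by
  haveI := finite_of_le hP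
  refine MulEquiv.ext fun x => fix_of_diff_closure (hS.of_injective _ (Subgroup.inclusion_injective hP))
    hcop x fun w hw hs => h w ?_ ?_
  · have hle : Subgroup.closure (Set.range fun j : ℕ => x⁻¹ * (α ^ j) x) ≤
        (F.hyperfocalSubgroup p).comap P.subtype := (Subgroup.closure_le _).mpr fun _ ⟨j, hj⟩ => by
      subst hj
      exact mem_hyperfocal_of_pPrime hP ((F.autGroup P).pow_mem hα j)
        (hcop.coprime_dvd_left (orderOf_pow_dvd j)) x
    exact hle hw
  · refine hs.imp (fun e => ?_) fun ⟨a, e⟩ => ⟨a, ?_⟩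
    · rw [← Subgroup.coe_pow, e, Subgroup.coe_one]
    · rw [← Subgroup.coe_pow, e, Subgroup.coe_one]

theorem pPart_reduce [Fact p.Prime] [Finite S] {P : Subgroup Ω} (hP : P ≤ S) {A : Subgroup (MulAut P)}
    (h : ∀ α ∈ A, (orderOf α).Coprime p → α = 1) : IsPGroup p A := by
  haveI := finite_of_le hP
  intro α
  obtain ⟨bp, bq, hbp, hbq, he, ⟨i, hi⟩, hcop⟩ := Cfsg.Lib.Transfer.exists_pPart p (α : MulAut P)
  refine ⟨i, Subtype.ext ?_⟩
  rw [Subgroup.coe_pow, ← he, h bq ((Subgroup.zpowers_le.mpr α.2) hbq) hcop, mul_one,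
    Subgroup.coe_one, ← hi]
  exact pow_orderOf_eq_one bp

end Cfsg.Lib.Fusion
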