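import Cfsg.Agent.Quadratic.Natural
import Cfsg.Agent.Fusion.SmallElements
import Cfsg.Agent.Transfer.Basic
import Cfsg.Agent.Fusion.Saturation
import Cfsg.Agent.PGroups.Basic

/-!
Two automorphisms of a `p`-group which act quadratically modulo central fixed elements and do not
generate a `p`-group give a subgroup with two quadratic automorphisms one product of which inverts
an element.
-/

set_option autoImplicit false

namespace Cfsg.Lib.CentralStable

open scoped commutatorElement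

universe u

variable {p : ℕ} [Fact p.Prime]

/-- The output. -/
def Witness {U : Type u} [Group U] (X : Subgroup (MulAut U)) : Prop :=
  ∃ (Y : Subgroup U) (δ ε : MulAut U), δ ∈ X ∧ ε ∈ X ∧ (∀ y ∈ Y, δ y ∈ Y) ∧ (∀ y ∈ Y, ε y ∈ Y) ∧
    (∀ y ∈ Y, δ (y⁻¹ * δ y) = y⁻¹ * δ y) ∧ (∀ y ∈ Y, ε (y⁻¹ * ε y) = y⁻¹ * ε y) ∧
    ∃ y ∈ Y, y ≠ 1 ∧ ((δ * ε * δ) ^ 2) y = y⁻¹

theorem exists_coprime_of_not_isPGroup {X : Type*} [Group X] [Finite X] (h : ¬ IsPGroup p X) :
    ∃ π : X, π ≠ 1 ∧ (orderOf π).Coprime p := by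
  by_contra hno
  push Not at hno
  refine h fun x => ?_
  obtain ⟨a, b, -, -, hab, ⟨k, hk⟩, hb⟩ := Cfsg.Lib.Transfer.exists_pPart p x
  have hb1 : b = 1 := by
    by_contra hb1
    exact hno b hb1 hb
  exact ⟨k, by rw [← hab, hb1, mul_one, ← hk, pow_orderOf_eq_one]⟩

/-- The irreducible case: one element inverts the whole module. -/
theorem exists_neg (hp2 : p ≠ 2) {E : Type u} [AddCommGroup E] [Finite E]
    [Module (ZMod p) E] [Nontrivial E] (α β : E ≃ₗ[ZMod p] E)
    (hα : ∀ e, α (α e - e) = α e - e) (hβ : ∀ e, β (β e - e) = β e - e)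
    (hnp : ¬ IsPGroup p ↥(Subgroup.closure {α, β}))
    (hirr : ∀ N : Submodule (ZMod p) E, (∀ e ∈ N, α e ∈ N) → (∀ e ∈ N, β e ∈ N) → N = ⊥ ∨ N = ⊤) :
    ∃ f₁ f₂ : E, f₁ ≠ 0 ∧ ∃ d ∈ Subgroup.closure {α, β}, ∃ e ∈ Subgroup.closure {α, β},
      ∃ g ∈ Subgroup.closure {α, β}, (∀ x, g x = -x) ∧ d f₁ = f₁ ∧ d f₂ = f₁ + f₂ ∧
        e f₁ = f₁ - f₂ ∧ e f₂ = f₂ := by
  classical
  haveI : Module.Finite (ZMod p) E := Module.Finite.of_finite
  let bb := Module.finBasis (ZMod p) E
  let L : (E ≃ₗ[ZMod p] E) →* Module.End (ZMod p) E :=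
    { toFun := fun g => g.toLinearMap, map_one' := rfl, map_mul' := fun _ _ => rfl }
  have hL : Function.Injective L := fun g h e => LinearEquiv.toLinearMap_injective e
  let T := LinearMap.toMatrixAlgEquiv bb
  set K := Subgroup.closure ({α, β} : Set (E ≃ₗ[ZMod p] E))
  let ρ : K →* Matrix _ _ (ZMod p) := (T.toRingEquiv.toRingHom.toMonoidHom.comp L).comp K.subtype
  have hρ : Function.Injective ρ := T.injective.comp (hL.comp K.subtype_injective)
  let a' : K := ⟨α, Subgroup.subset_closure (Set.mem_insert _ _)⟩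
  let b' : K := ⟨β, Subgroup.subset_closure (Set.mem_insert_of_mem _ rfl)⟩
  have hgen : Subgroup.closure ({a', b'} : Set K) = ⊤ := by
    refine eq_top_iff.mpr ((Subgroup.closure_closure_coe_preimage
      (k := ({α, β} : Set (E ≃ₗ[ZMod p] E)))).ge.trans (Subgroup.closure_mono ?_))
    rintro ⟨z, hz⟩ hz'
    rcases hz' with hz'' | hz''
    · exact Or.inl (Subtype.ext hz'')
    · exact Or.inr (Subtype.ext hz'')
  have hsq : ∀ g : E ≃ₗ[ZMod p] E, (∀ e, g (g e - e) = g e - e) → (L g - 1) * (L g - 1) = 0 := fun g hg =>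
    LinearMap.ext fun e => by
      show g (g e - e) - (g e - e) = 0
      rw [hg, sub_self]
  have hsq' : ∀ g : K, (L g - 1) * (L g - 1) = 0 → (ρ g - 1) * (ρ g - 1) = 0 := fun g h => by
    show (T (L g) - 1) * (T (L g) - 1) = 0
    rw [← map_one T, ← map_sub, ← map_mul, h, map_zero]
  haveI : Finite (E ≃ₗ[ZMod p] E) :=
    Finite.of_injective (fun φ : E ≃ₗ[ZMod p] E => (φ : E → E)) DFunLike.coe_injective
  obtain ⟨v₁, v₂, hind, hact⟩ := Cfsg.Lib.QuadPair.exists_natural_plane hp2 ρ hρ hgen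
    (hsq' a' (hsq α hα)) (hsq' b' (hsq β hβ)) hnp
  set f₁ := bb.equivFun.symm v₁
  set f₂ := bb.equivFun.symm v₂
  have hmove : ∀ (g : K) (v w : Fin _ → ZMod p), Matrix.mulVec (ρ g) v = w →
      (g : E ≃ₗ[ZMod p] E) (bb.equivFun.symm v) = bb.equivFun.symm w := fun g v w h => by
    rw [LinearEquiv.eq_symm_apply, ← h]
    have h' := LinearMap.toMatrix_mulVec_repr bb bb (L g) (bb.equivFun.symm v)
    have hx : (bb.repr (bb.equivFun.symm v) : Fin _ → ZMod p) = v := bb.equivFun.apply_symm_apply v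
    rw [hx] at h'
    exact h'.symm
  have hM : ∀ M : Matrix.SpecialLinearGroup (Fin 2) (ZMod p), ∃ g ∈ K,
      g f₁ = M.1 0 0 • f₁ + M.1 1 0 • f₂ ∧ g f₂ = M.1 0 1 • f₁ + M.1 1 1 • f₂ := fun M => by
    obtain ⟨g, h1, h2⟩ := hact M
    refine ⟨g, g.2, ?_, ?_⟩ <;> [rw [hmove g _ _ h1]; rw [hmove g _ _ h2]] <;>
      rw [map_add, map_smul, map_smul]
  obtain ⟨d, hd, hd1, hd2⟩ := hM ⟨!![1, 1; 0, 1], by simp [Matrix.det_fin_two]⟩
  obtain ⟨e, he, he1, he2⟩ := hM ⟨!![1, 0; -1, 1], by simp [Matrix.det_fin_two]⟩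
  obtain ⟨g, hg, hg1, hg2⟩ := hM ⟨!![-1, 0; 0, -1], by simp [Matrix.det_fin_two]⟩
  simp only [Matrix.of_apply, Matrix.cons_val', Matrix.cons_val_zero, Matrix.cons_val_one,
    Matrix.cons_val_fin_one, one_smul, zero_smul, neg_smul, add_zero, zero_add] at hd1 hd2 he1 he2 hg1 hg2
  have hf₁ : f₁ ≠ 0 := fun h => by
    have : v₁ = 0 := by
      rw [← bb.equivFun.apply_symm_apply v₁, show bb.equivFun.symm v₁ = 0 from h, map_zero]
    exact one_ne_zero (hind 1 0 (by rw [this, smul_zero, zero_smul, add_zero])).1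
  refine ⟨f₁, f₂, hf₁, d, hd, e, he, g, hg, ?_, hd1, hd2, by rw [he1]; abel, he2⟩
  -- the commuting ring
  set A := L α - 1
  set B := L β - 1
  have hA : A * A = 0 := hsq α hα
  have hB : B * B = 0 := hsq β hβ
  set z := A * B + B * A with hz
  have hzA : z * A = A * z := by rw [hz, add_mul, mul_add, mul_assoc B A A, hA, ← mul_assoc A A B, hA]; simp [mul_assoc]
  have hzB : z * B = B * z := by rw [hz, add_mul, mul_add, mul_assoc A B B, hB, ← mul_assoc B B A, hB]; simp [mul_assoc]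
  let R := Subring.closure ({z} : Set (Module.End (ZMod p) E))
  have hRc : ∀ r ∈ R, r * A = A * r ∧ r * B = B * r := fun r hr => by
    induction hr using Subring.closure_induction with
    | mem x hx => rw [Set.mem_singleton_iff.mp hx]; exact ⟨hzA, hzB⟩
    | zero => simp
    | one => simp
    | add x y _ _ hx hy => exact ⟨by rw [add_mul, mul_add, hx.1, hy.1], by rw [add_mul, mul_add, hx.2, hy.2]⟩
    | neg x _ hx => exact ⟨by rw [neg_mul, mul_neg, hx.1], by rw [neg_mul, mul_neg, hx.2]⟩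
    | mul x y _ _ hx hy =>
      exact ⟨by rw [mul_assoc, hy.1, ← mul_assoc, hx.1, mul_assoc],
        by rw [mul_assoc, hy.2, ← mul_assoc, hx.2, mul_assoc]⟩
  have hRg : ∀ r ∈ R, ∀ h ∈ K, ∀ x, r (h x) = h (r x) := by
    intro r hr h hh
    induction hh using Subgroup.closure_induction with
    | mem y hy =>
      intro x
      rcases hy with rfl | hy
      · have := congrArg (fun φ : Module.End (ZMod p) E => φ x) (hRc r hr).1
        simp only [A, Module.End.mul_apply, LinearMap.sub_apply, Module.End.one_apply, map_sub] at this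
        exact sub_left_inj.mp this
      · rw [Set.mem_singleton_iff.mp hy]
        have := congrArg (fun φ : Module.End (ZMod p) E => φ x) (hRc r hr).2
        simp only [B, Module.End.mul_apply, LinearMap.sub_apply, Module.End.one_apply, map_sub] at this
        exact sub_left_inj.mp this
    | one => intro x; rfl
    | mul a b _ _ ha hb =>
      intro x
      show r (a (b x)) = a (b (r x))
      rw [ha, hb]
    | inv a _ ha =>
      intro x
      have h1 := ha (a⁻¹ x)
      rw [show a (a⁻¹ x) = x from a.apply_symm_apply x] at h1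
      rw [h1]
      exact (a.symm_apply_apply _).symm
  -- invariance through `A` and `B`
  have hinv : ∀ N : Submodule (ZMod p) E, (∀ x ∈ N, A x ∈ N) → (∀ x ∈ N, B x ∈ N) → N = ⊥ ∨ N = ⊤ :=
    fun N h1 h2 => hirr N
      (fun x hx => by
        have := N.add_mem (h1 x hx) hx
        rwa [show A x + x = α x from sub_add_cancel (α x) x] at this)
      (fun x hx => by
        have := N.add_mem (h2 x hx) hx
        rwa [show B x + x = β x from sub_add_cancel (β x) x] at this)
  have hRinj : ∀ r ∈ R, r ≠ 0 → ∀ x, r x = 0 → x = 0 := by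
    intro r hr hr0 x hx
    rcases hinv (LinearMap.ker r)
      (fun w hw => by
        rw [LinearMap.mem_ker] at hw ⊢
        show (r * A) w = 0
        rw [(hRc r hr).1, Module.End.mul_apply, hw, map_zero])
      (fun w hw => by
        rw [LinearMap.mem_ker] at hw ⊢
        show (r * B) w = 0
        rw [(hRc r hr).2, Module.End.mul_apply, hw, map_zero]) with h | h
    · exact (Submodule.eq_bot_iff _).mp h x hx
    · exact absurd (LinearMap.ker_eq_top.mp h) hr0
  obtain ⟨w, hw⟩ := exists_ne (0 : E)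
  obtain ⟨m, hm, hm0⟩ : ∃ m, A m = 0 ∧ m ≠ 0 := by
    by_cases h : A w = 0
    · exact ⟨w, h, hw⟩
    · exact ⟨A w, congrArg (fun φ : Module.End (ZMod p) E => φ w) hA, h⟩
  have hz0 : z ≠ 0 := by
    intro h0
    -- a common fixed vector
    obtain ⟨x, hxA, hxB, hx0⟩ : ∃ x, A x = 0 ∧ B x = 0 ∧ x ≠ 0 := by
      by_cases h : B m = 0
      · exact ⟨m, hm, h, hm0⟩
      · refine ⟨B m, ?_, congrArg (fun φ : Module.End (ZMod p) E => φ m) hB, h⟩
        have := congrArg (fun φ : Module.End (ZMod p) E => φ m) h0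
        simp only [hz, LinearMap.add_apply, Module.End.mul_apply, hm, map_zero, add_zero,
          LinearMap.zero_apply] at this
        exact this
    let N : Submodule (ZMod p) E := LinearMap.ker A ⊓ LinearMap.ker B
    rcases hinv N (fun u hu => by rw [LinearMap.mem_ker.mp hu.1]; exact N.zero_mem)
      (fun u hu => by rw [LinearMap.mem_ker.mp hu.2]; exact N.zero_mem) with h | h
    · exact hx0 ((Submodule.eq_bot_iff _).mp h x ⟨hxA, hxB⟩)
    · refine hnp fun k => ⟨0, Subtype.ext ?_⟩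
      rw [pow_zero, pow_one]
      refine (Subgroup.closure_le (⊥ : Subgroup (E ≃ₗ[ZMod p] E))).mpr ?_ k.2
      have h1 : ∀ y, A y = 0 ∧ B y = 0 := fun y => (h ▸ Submodule.mem_top : y ∈ N)
      rintro y (rfl | hy)
      · exact LinearEquiv.ext fun v => sub_eq_zero.mp (h1 v).1
      · rw [Set.mem_singleton_iff.mp hy]
        exact LinearEquiv.ext fun v => sub_eq_zero.mp (h1 v).2
  haveI : Finite (Module.End (ZMod p) E) :=
    Finite.of_injective (fun φ : Module.End (ZMod p) E => (φ : E → E)) DFunLike.coe_injective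
  let φ₁ : R × R → E := fun rs => (rs.1 : Module.End (ZMod p) E) m + (rs.2 : Module.End (ZMod p) E) (B m)
  have hsurj : Function.Surjective φ₁ := by
    let N : AddSubgroup E :=
      { carrier := Set.range φ₁
        zero_mem' := ⟨(0, 0), by simp [φ₁]⟩
        add_mem' := by
          rintro _ _ ⟨a, rfl⟩ ⟨b, rfl⟩
          exact ⟨a + b, by simp [φ₁]; abel⟩
        neg_mem' := by
          rintro _ ⟨a, rfl⟩
          exact ⟨-a, by simp [φ₁]; abel⟩ }
    let N' : Submodule (ZMod p) E := AddSubgroup.toZModSubmodule p N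
    have hmem : ∀ x, x ∈ N' ↔ ∃ a, φ₁ a = x := fun x => Iff.rfl
    rcases hinv N' (fun x hx => by
        obtain ⟨⟨r, s⟩, rfl⟩ := (hmem x).mp hx
        refine (hmem _).mpr ⟨(⟨(s : Module.End (ZMod p) E) * z, R.mul_mem s.2 (Subring.subset_closure rfl)⟩, 0), ?_⟩
        have e1 := congrArg (fun φ : Module.End (ZMod p) E => φ m) (hRc r r.2).1
        have e2 := congrArg (fun φ : Module.End (ZMod p) E => φ (B m)) (hRc s s.2).1
        simp only [Module.End.mul_apply] at e1 e2
        simp only [φ₁, map_add, ← e1, ← e2, hm, map_zero, zero_add, hz, Module.End.mul_apply,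
          LinearMap.add_apply, ZeroMemClass.coe_zero, LinearMap.zero_apply, add_zero])
      (fun x hx => by
        obtain ⟨⟨r, s⟩, rfl⟩ := (hmem x).mp hx
        refine (hmem _).mpr ⟨(0, r), ?_⟩
        have e1 := congrArg (fun φ : Module.End (ZMod p) E => φ m) (hRc r r.2).2
        have e2 := congrArg (fun φ : Module.End (ZMod p) E => φ (B m)) (hRc s s.2).2
        have e3 : B (B m) = 0 := congrArg (fun φ : Module.End (ZMod p) E => φ m) hB
        simp only [Module.End.mul_apply] at e1 e2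
        simp only [φ₁, map_add, ← e1, ← e2, e3, map_zero, add_zero, ZeroMemClass.coe_zero,
          LinearMap.zero_apply, zero_add]) with h | h
    · exact absurd ((Submodule.eq_bot_iff _).mp h m ((hmem m).mpr ⟨(1, 0), by simp [φ₁]⟩)) hm0
    · exact fun x => (hmem x).mp (h ▸ Submodule.mem_top)
  let φ₂ : R × R → E := fun rs => (rs.1 : Module.End (ZMod p) E) f₁ + (rs.2 : Module.End (ZMod p) E) f₂
  have hinj2 : ∀ a : R × R, φ₂ a = 0 → a = 0 := by
    rintro ⟨r, s⟩ h
    have h2 : d (φ₂ (r, s)) = 0 := by rw [h, map_zero]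
    simp only [φ₂, map_add] at h h2
    rw [← hRg r r.2 d hd, ← hRg s s.2 d hd, hd1, hd2, map_add, ← add_assoc, add_right_comm, h, zero_add] at h2
    have hs : s = 0 := by
      by_contra hs
      exact hf₁ (hRinj s s.2 (fun e0 => hs (Subtype.ext e0)) f₁ h2)
    subst hs
    have hr : r = 0 := by
      by_contra hr
      refine hf₁ (hRinj r r.2 (fun e0 => hr (Subtype.ext e0)) f₁ ?_)
      simpa using h
    subst hr
    rfl
  have hinj2' : Function.Injective φ₂ := fun a b h => sub_eq_zero.mp (hinj2 (a - b) (by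
    simp only [φ₂, Prod.fst_sub, Prod.snd_sub, AddSubgroupClass.coe_sub, LinearMap.sub_apply] at h ⊢
    rw [sub_add_sub_comm, h, sub_self]))
  have hsurj2 : Function.Surjective φ₂ :=
    ((Nat.bijective_iff_injective_and_card φ₂).mpr ⟨hinj2', le_antisymm
      (Nat.card_le_card_of_injective φ₂ hinj2') (Nat.card_le_card_of_surjective φ₁ hsurj)⟩).2
  intro x
  obtain ⟨⟨r, s⟩, rfl⟩ := hsurj2 x
  simp only [φ₂, map_add, ← hRg r r.2 g hg, ← hRg s s.2 g hg, hg1, hg2, map_neg]
  abel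

theorem exists_witness (hp2 : p ≠ 2) (n : ℕ) : ∀ {U : Type u} [Group U] [Finite U], Nat.card U = n →
    IsPGroup p U → ∀ (V : Subgroup U) (α β : MulAut U), V ≤ Subgroup.center U →
      (∀ v ∈ V, α v = v) → (∀ v ∈ V, β v = v) →
      (∀ u, (u⁻¹ * α u)⁻¹ * α (u⁻¹ * α u) ∈ V) → (∀ u, (u⁻¹ * β u)⁻¹ * β (u⁻¹ * β u) ∈ V) →
      ¬ IsPGroup p ↥(Subgroup.closure {α, β}) → Witness (Subgroup.closure {α, β}) := by
  induction n using Nat.strong_induction_on with
  | _ n ih =>
  intro U _ _ hn hU V α β hV hαV hβV hα hβ hnp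
  classical
  have hpp : p.Prime := Fact.out
  haveI : Finite (MulAut U) := Finite.of_injective (fun f : MulAut U => (f : U → U)) DFunLike.coe_injective
  set X := Subgroup.closure ({α, β} : Set (MulAut U)) with hX
  have hαX : α ∈ X := Subgroup.subset_closure (Set.mem_insert _ _)
  have hβX : β ∈ X := Subgroup.subset_closure (Set.mem_insert_of_mem _ rfl)
  have hinvX : ∀ M : Subgroup U, (∀ m ∈ M, α m ∈ M) → (∀ m ∈ M, β m ∈ M) →
      ∀ γ ∈ X, M.map γ.toMonoidHom = M := by
    intro M h1 h2 γ hγ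
    induction hγ using Subgroup.closure_induction with
    | mem x hx =>
      refine Subgroup.eq_of_le_of_card_ge ?_ (Subgroup.card_map_of_injective x.injective).ge
      rcases hx with rfl | hx
      · rintro _ ⟨m, hm, rfl⟩; exact h1 m hm
      · rw [Set.mem_singleton_iff.mp hx]
        rintro _ ⟨m, hm, rfl⟩; exact h2 m hm
    | one => exact Subgroup.map_id M
    | mul a b _ _ ha hb =>
      conv_rhs => rw [← ha, ← hb, Subgroup.map_map]
      rfl
    | inv a _ ha =>
      conv_lhs => rw [← ha, Subgroup.map_map]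
      convert Subgroup.map_id M
      ext x
      exact a.symm_apply_apply x
  have hmemX : ∀ M : Subgroup U, (∀ m ∈ M, α m ∈ M) → (∀ m ∈ M, β m ∈ M) →
      ∀ γ ∈ X, ∀ m ∈ M, γ m ∈ M := fun M h1 h2 γ hγ m hm =>
    hinvX M h1 h2 γ hγ ▸ ⟨m, hm, rfl⟩
  -- a proper invariant subgroup with an action that is not a `p`-group
  by_cases hsmall : ∃ M : Subgroup U, M ≠ ⊤ ∧ ∃ h1 : ∀ m ∈ M, α m ∈ M, ∃ h2 : ∀ m ∈ M, β m ∈ M,
      ¬ ∃ k : ℕ, ∀ γ ∈ X, ∀ m ∈ M, (γ ^ p ^ k) m = m
  · obtain ⟨M, hMt, h1, h2, hM⟩ := hsmall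
    let res : X →* MulAut M :=
      { toFun := fun γ => ((γ : MulAut U).subgroupMap M).trans
          (MulEquiv.subgroupCongr (hinvX M h1 h2 γ γ.2))
        map_one' := MulEquiv.ext fun m => Subtype.ext rfl
        map_mul' := fun a b => MulEquiv.ext fun m => Subtype.ext rfl }
    let α' := res ⟨α, hαX⟩
    let β' := res ⟨β, hβX⟩
    have hrange : res.range = Subgroup.closure {α', β'} := by
      have htop : (⊤ : Subgroup X) = Subgroup.closure {⟨α, hαX⟩, ⟨β, hβX⟩} := by
        refine (eq_top_iff.mpr ((Subgroup.closure_closure_coe_preimage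
          (k := ({α, β} : Set (MulAut U)))).ge.trans (Subgroup.closure_mono ?_))).symm
        rintro ⟨z, hz⟩ hz'
        rcases hz' with hz'' | hz''
        · exact Or.inl (Subtype.ext hz'')
        · exact Or.inr (Subtype.ext hz'')
      rw [MonoidHom.range_eq_map, htop, MonoidHom.map_closure, Set.image_insert_eq, Set.image_singleton]
    haveI : Finite (MulAut M) := Finite.of_injective (fun f : MulAut M => (f : M → M)) DFunLike.coe_injective
    have hnp' : ¬ IsPGroup p ↥(Subgroup.closure {α', β'}) := by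
      rw [← hrange]
      intro h
      obtain ⟨k, hk⟩ := IsPGroup.iff_card.mp h
      refine hM ⟨k, fun γ hγ m hm => ?_⟩
      have h3 : res ⟨γ, hγ⟩ ^ p ^ k = 1 := by
        have := pow_card_eq_one' (x := (⟨res ⟨γ, hγ⟩, ⟨_, rfl⟩⟩ : res.range))
        rw [hk] at this
        exact congrArg Subtype.val this
      rw [← map_pow] at h3
      have h4 := congrArg (fun f : MulAut M => (f ⟨m, hm⟩ : U)) h3
      exact h4
    have hlt : Nat.card M < n := hn ▸ lt_of_le_of_ne (Subgroup.card_le_card_group M)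
      fun h => hMt (M.eq_top_of_card_eq h)
    obtain ⟨Y, δ, ε, hδ, hε, hδY, hεY, hδq, hεq, y, hy, hy1, hyk⟩ := ih _ hlt (U := M) rfl
      (hU.to_subgroup M) (V.subgroupOf M) α' β'
      (fun v hv => Subgroup.mem_center_iff.mpr fun w =>
        Subtype.ext (Subgroup.mem_center_iff.mp (hV hv) w))
      (fun v hv => Subtype.ext (hαV v hv)) (fun v hv => Subtype.ext (hβV v hv))
      (fun u => hα u) (fun u => hβ u) hnp'
    rw [← hrange] at hδ hε
    obtain ⟨δ₀, rfl⟩ := hδ
    obtain ⟨ε₀, rfl⟩ := hε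
    refine ⟨Y.map M.subtype, δ₀, ε₀, δ₀.2, ε₀.2, ?_, ?_, ?_, ?_, y, ⟨y, hy, rfl⟩,
      fun h => hy1 (Subtype.ext h), ?_⟩
    · rintro _ ⟨w, hw, rfl⟩; exact ⟨_, hδY w hw, rfl⟩
    · rintro _ ⟨w, hw, rfl⟩; exact ⟨_, hεY w hw, rfl⟩
    · rintro _ ⟨w, hw, rfl⟩; exact congrArg Subtype.val (hδq w hw)
    · rintro _ ⟨w, hw, rfl⟩; exact congrArg Subtype.val (hεq w hw)
    · rw [← map_mul, ← map_mul, ← map_pow] at hyk
      exact congrArg Subtype.val hyk
  push Not at hsmall
  -- elements of order prime to `p` fix every proper invariant subgroup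
  have hfix : ∀ M : Subgroup U, M ≠ ⊤ → (∀ m ∈ M, α m ∈ M) → (∀ m ∈ M, β m ∈ M) →
      ∀ γ ∈ X, (orderOf γ).Coprime p → ∀ m ∈ M, γ m = m := by
    intro M hM h1 h2 γ hγ hcop m hm
    obtain ⟨k, hk⟩ := hsmall M hM h1 h2
    obtain ⟨i, hi⟩ := exists_pow_eq_self_of_coprime (n := p ^ k) (x := γ) (hcop.pow_right k).symm
    have h3 : ∀ j : ℕ, ((γ ^ p ^ k) ^ j) m = m := fun j => by
      induction j with
      | zero => rfl
      | succ j ihj => rw [pow_succ, MulAut.mul_apply, hk γ hγ m hm, ihj]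
    have := h3 i
    rwa [hi] at this
  obtain ⟨π₀, hπ1, hπc⟩ := exists_coprime_of_not_isPGroup hnp
  have hπc' : (orderOf (π₀ : MulAut U)).Coprime p := by rwa [Subgroup.orderOf_coe]
  have hnfix : ∀ γ : MulAut U, (orderOf γ).Coprime p → (∀ u, γ (u⁻¹ * γ u) = u⁻¹ * γ u) → γ = 1 :=
    fun γ hc h => MulEquiv.ext fun u => Cfsg.Lib.Fusion.fix_of_fix_diff hU hc (h u)
  have hVt : V ≠ ⊤ := fun h => hπ1 (Subtype.ext (MulEquiv.ext fun u => by
    have hγ : ∀ γ ∈ X, γ u = u := fun γ hγ => by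
      induction hγ using Subgroup.closure_induction with
      | mem x hx =>
        rcases hx with rfl | hx
        · exact hαV u (h ▸ Subgroup.mem_top u)
        · rw [Set.mem_singleton_iff.mp hx]; exact hβV u (h ▸ Subgroup.mem_top u)
      | one => rfl
      | mul a b _ _ ha hb => rw [MulAut.mul_apply, hb, ha]
      | inv a _ ha => conv_lhs => rw [← ha]; exact a.symm_apply_apply u
    exact hγ _ π₀.2))
  haveI : Nontrivial U := by
    by_contra h
    rw [not_nontrivial_iff_subsingleton] at h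
    exact hVt (Subsingleton.elim _ _)
  haveI := hU.isNilpotent
  -- a maximal invariant subgroup containing the Frattini subgroup and `V`
  have hΦV : frattini U ⊔ V ≠ ⊤ := fun h => hVt (frattini_nongenerating (sup_comm _ V ▸ h))
  obtain ⟨M, hMmax⟩ := exists_maximal_of_wellFoundedGT
    (fun M : Subgroup U => M ≠ ⊤ ∧ frattini U ⊔ V ≤ M ∧ (∀ m ∈ M, α m ∈ M) ∧ ∀ m ∈ M, β m ∈ M)
    ⟨frattini U ⊔ V, hΦV, le_rfl, fun m hm => by
      rw [Subgroup.mem_sup_of_normal_left] at hm
      obtain ⟨a, ha, b, hb, rfl⟩ := hm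
      rw [map_mul]
      exact Subgroup.mul_mem_sup ((Subgroup.characteristic_iff_map_eq (H := frattini U)).mp inferInstance α ▸ ⟨a, ha, rfl⟩)
        (by rw [hαV b hb]; exact hb), fun m hm => by
      rw [Subgroup.mem_sup_of_normal_left] at hm
      obtain ⟨a, ha, b, hb, rfl⟩ := hm
      rw [map_mul]
      exact Subgroup.mul_mem_sup ((Subgroup.characteristic_iff_map_eq (H := frattini U)).mp inferInstance β ▸ ⟨a, ha, rfl⟩)
        (by rw [hβV b hb]; exact hb)⟩
  obtain ⟨hMt, hMge, hMα, hMβ⟩ := hMmax.1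
  have hΦM : frattini U ≤ M := le_sup_left.trans hMge
  have hVM : V ≤ M := le_sup_right.trans hMge
  haveI hMn : M.Normal := ⟨fun m hm g => by
    have h1 : ⁅g, m⁆ ∈ M := hΦM (Cfsg.Lib.PGroups.commutator_le_frattini hU
      (Subgroup.commutator_mem_commutator (Subgroup.mem_top g) (Subgroup.mem_top m)))
    have := M.mul_mem h1 hm
    rwa [commutatorElement_def, inv_mul_cancel_right] at this⟩
  have hMfix : ∀ γ ∈ X, (orderOf γ).Coprime p → ∀ m ∈ M, γ m = m := hfix M hMt hMα hMβ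
  -- the module `U / M`
  letI hW : CommGroup (U ⧸ M) :=
    { (inferInstance : Group (U ⧸ M)) with
      mul_comm := fun a b => by
        obtain ⟨x, rfl⟩ := QuotientGroup.mk_surjective a
        obtain ⟨y, rfl⟩ := QuotientGroup.mk_surjective b
        rw [← QuotientGroup.mk_mul, ← QuotientGroup.mk_mul, QuotientGroup.eq]
        refine hΦM (Cfsg.Lib.PGroups.commutator_le_frattini hU ?_)
        rw [show (x * y)⁻¹ * (y * x) = ⁅y⁻¹, x⁻¹⁆ by rw [commutatorElement_def]; group]
        exact Subgroup.commutator_mem_commutator (Subgroup.mem_top _) (Subgroup.mem_top _) }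
  have hexp : ∀ w : U ⧸ M, w ^ p = 1 := fun w => by
    obtain ⟨x, rfl⟩ := QuotientGroup.mk_surjective w
    rw [← QuotientGroup.mk_pow, QuotientGroup.eq_one_iff]
    exact hΦM (Cfsg.Lib.PGroups.pow_mem_frattini hU x)
  haveI : Finite (Additive (U ⧸ M)) := inferInstanceAs (Finite (U ⧸ M))
  haveI : Nontrivial (U ⧸ M) := QuotientGroup.nontrivial_iff.mpr hMt
  letI : Module (ZMod p) (Additive (U ⧸ M)) :=
    AddCommGroup.zmodModule (n := p) fun v => congrArg Additive.ofMul (hexp (Additive.toMul v))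
  let E := Additive (U ⧸ M)
  let mkE : U → E := fun u => Additive.ofMul (QuotientGroup.mk u : U ⧸ M)
  let θ : X →* (E ≃ₗ[ZMod p] E) :=
    { toFun := fun γ =>
        { toFun := fun e => Additive.ofMul (QuotientGroup.congr M M (γ : MulAut U)
            (hinvX M hMα hMβ γ γ.2) (Additive.toMul e))
          map_add' := fun a b => congrArg Additive.ofMul (map_mul _ _ _)
          map_smul' := fun c v => ZMod.map_smul
            (AddMonoidHom.mk' (fun e : E => Additive.ofMul (QuotientGroup.congr M M (γ : MulAut U)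
              (hinvX M hMα hMβ γ γ.2) (Additive.toMul e)))
              fun a b => congrArg Additive.ofMul (map_mul _ _ _)) c v
          invFun := fun e => Additive.ofMul ((QuotientGroup.congr M M (γ : MulAut U)
            (hinvX M hMα hMβ γ γ.2)).symm (Additive.toMul e))
          left_inv := fun e => congrArg Additive.ofMul (MulEquiv.symm_apply_apply _ _)
          right_inv := fun e => congrArg Additive.ofMul (MulEquiv.apply_symm_apply _ _) }
      map_one' := LinearEquiv.ext fun e => by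
        obtain ⟨u, rfl⟩ : ∃ u : U, Additive.ofMul (QuotientGroup.mk u : U ⧸ M) = e :=
          ⟨_, congrArg Additive.ofMul (QuotientGroup.mk_surjective (Additive.toMul e)).choose_spec⟩
        rfl
      map_mul' := fun a b => LinearEquiv.ext fun e => by
        obtain ⟨u, rfl⟩ : ∃ u : U, Additive.ofMul (QuotientGroup.mk u : U ⧸ M) = e :=
          ⟨_, congrArg Additive.ofMul (QuotientGroup.mk_surjective (Additive.toMul e)).choose_spec⟩
        rfl }
  have hθ : ∀ (γ : X) (u : U), θ γ (mkE u) = mkE ((γ : MulAut U) u) := fun γ u => rfl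
  have hmk : ∀ u v : U, mkE u = mkE v ↔ u⁻¹ * v ∈ M := fun u v =>
    ⟨fun h => QuotientGroup.eq.mp (Additive.ofMul.injective h),
      fun h => congrArg Additive.ofMul (QuotientGroup.eq.mpr h)⟩
  have hmkmul : ∀ u v : U, mkE (u * v) = mkE u + mkE v := fun u v => rfl
  have hmkinv : ∀ u : U, mkE u⁻¹ = -mkE u := fun u => rfl
  have hmksurj : ∀ e : E, ∃ u, mkE u = e := fun e => by
    obtain ⟨u, hu⟩ := QuotientGroup.mk_surjective (Additive.toMul e)
    exact ⟨u, congrArg Additive.ofMul hu⟩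
  have hquad : ∀ γ : X, (∀ u, (u⁻¹ * (γ : MulAut U) u)⁻¹ * (γ : MulAut U) (u⁻¹ * (γ : MulAut U) u) ∈ V) →
      ∀ e, θ γ (θ γ e - e) = θ γ e - e := by
    intro γ h e
    obtain ⟨u, rfl⟩ := hmksurj e
    rw [hθ, show mkE ((γ : MulAut U) u) - mkE u = mkE (u⁻¹ * (γ : MulAut U) u) by
      rw [hmkmul, hmkinv]; abel, hθ]
    exact ((hmk _ _).mpr (hVM (h u))).symm
  -- faithful on elements of order prime to `p`
  have hfaith : ∀ γ : X, (orderOf (γ : MulAut U)).Coprime p → θ γ = 1 → (γ : MulAut U) = 1 := by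
    intro γ hc h
    refine hnfix _ hc fun u => hMfix _ γ.2 hc _ ((hmk u _).mp ?_)
    have := congrArg (fun f : E ≃ₗ[ZMod p] E => f (mkE u)) h
    exact this.symm
  set αE := θ ⟨α, hαX⟩
  set βE := θ ⟨β, hβX⟩
  have hrangeθ : θ.range = Subgroup.closure {αE, βE} := by
    have htop : (⊤ : Subgroup X) = Subgroup.closure {⟨α, hαX⟩, ⟨β, hβX⟩} := by
      refine (eq_top_iff.mpr ((Subgroup.closure_closure_coe_preimage
        (k := ({α, β} : Set (MulAut U)))).ge.trans (Subgroup.closure_mono ?_))).symm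
      rintro ⟨z, hz⟩ hz'
      rcases hz' with hz'' | hz''
      · exact Or.inl (Subtype.ext hz'')
      · exact Or.inr (Subtype.ext hz'')
    rw [MonoidHom.range_eq_map, htop, MonoidHom.map_closure, Set.image_insert_eq, Set.image_singleton]
  have hnpE : ¬ IsPGroup p ↥(Subgroup.closure {αE, βE}) := by
    rw [← hrangeθ]
    intro h
    obtain ⟨k, hk⟩ := h ⟨θ π₀, π₀, rfl⟩
    have hk' : θ π₀ ^ p ^ k = 1 := congrArg Subtype.val hk
    have h1 : θ π₀ = 1 := orderOf_eq_one_iff.mp (Nat.eq_one_of_dvd_coprimes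
      (hπc.pow_right k) (orderOf_map_dvd θ π₀) (orderOf_dvd_of_pow_eq_one hk'))
    exact hπ1 (Subtype.ext (hfaith π₀ hπc' h1))
  have hirr : ∀ N : Submodule (ZMod p) E, (∀ e ∈ N, αE e ∈ N) → (∀ e ∈ N, βE e ∈ N) → N = ⊥ ∨ N = ⊤ := by
    intro N h1 h2
    let M' : Subgroup U :=
      { carrier := {u | mkE u ∈ N}
        one_mem' := N.zero_mem
        mul_mem' := fun {a b} ha hb => N.add_mem ha hb
        inv_mem' := fun {a} ha => N.neg_mem ha }
    have hle : M ≤ M' := fun m hm => by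
      show mkE m ∈ N
      rw [show mkE m = 0 from congrArg Additive.ofMul ((QuotientGroup.eq_one_iff m).mpr hm)]
      exact N.zero_mem
    by_cases htop : M' = ⊤
    · refine Or.inr (eq_top_iff.mpr fun e _ => ?_)
      obtain ⟨u, rfl⟩ := hmksurj e
      exact (htop ▸ Subgroup.mem_top u : u ∈ M')
    · have hge : M' ≤ M := hMmax.2 ⟨htop, hMge.trans hle, fun m hm => h1 _ hm, fun m hm => h2 _ hm⟩ hle
      refine Or.inl ((Submodule.eq_bot_iff _).mpr fun e he => ?_)
      obtain ⟨u, rfl⟩ := hmksurj e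
      exact congrArg Additive.ofMul ((QuotientGroup.eq_one_iff u).mpr (hge he))
  obtain ⟨f₁, f₂, hf₁, d, hd, e, he, g, hg, hgneg, hd1, hd2, he1, he2⟩ :=
    exists_neg hp2 αE βE (hquad _ hα) (hquad _ hβ) hnpE hirr
  rw [← hrangeθ] at hd he hg
  obtain ⟨d₀, rfl⟩ := hd
  obtain ⟨e₀, rfl⟩ := he
  obtain ⟨g₀, rfl⟩ := hg
  -- an involution inverting the module
  have hpodd : p % 2 = 1 := hpp.eq_two_or_odd.resolve_left hp2
  have hno : orderOf g₀ ≠ 0 := (orderOf_pos g₀).ne'
  set t : X := g₀ ^ ordCompl[2] (orderOf g₀) with ht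
  have htneg : ∀ x, θ t x = -x := by
    obtain ⟨j, hj⟩ : Odd (ordCompl[2] (orderOf g₀)) :=
      Nat.not_even_iff_odd.mp fun h => Nat.not_dvd_ordCompl Nat.prime_two hno h.two_dvd
    intro x
    have hsq : ∀ i : ℕ, ∀ y, ((θ g₀) ^ (2 * i)) y = y := fun i => by
      induction i with
      | zero => intro y; rfl
      | succ i ihi =>
        intro y
        rw [show 2 * (i + 1) = 2 * i + 1 + 1 by ring, pow_succ, pow_succ]
        show ((θ g₀) ^ (2 * i)) (θ g₀ (θ g₀ y)) = y
        rw [ihi, hgneg, hgneg, neg_neg]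
    rw [ht, map_pow, hj, pow_succ]
    show ((θ g₀) ^ (2 * j)) (θ g₀ x) = -x
    rw [hsq, hgneg]
  obtain ⟨b, hb⟩ : ∃ b : ℕ, t ^ 2 ^ b = 1 := ⟨(orderOf g₀).factorization 2, by
    rw [ht, ← pow_mul, mul_comm, Nat.ordProj_mul_ordCompl_eq_self, pow_orderOf_eq_one]⟩
  have htc : (orderOf (t : MulAut U)).Coprime p := by
    rw [Subgroup.orderOf_coe]
    exact Nat.Coprime.coprime_dvd_left (orderOf_dvd_of_pow_eq_one hb)
      (((Nat.coprime_primes Nat.prime_two hpp).mpr (Ne.symm hp2)).pow_left b)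
  set τ : MulAut U := (t : MulAut U) with hτ
  have hτ2 : τ * τ = 1 := by
    refine hfaith (t * t) ?_ (LinearEquiv.ext fun x => ?_)
    · rw [Subgroup.orderOf_coe, ← pow_two]
      exact Nat.Coprime.coprime_dvd_left (orderOf_pow_dvd 2) (by rwa [← Subgroup.orderOf_coe])
    · rw [map_mul]
      show θ t (θ t x) = x
      rw [htneg, htneg, neg_neg]
  have hττ : ∀ u, τ (τ u) = u := fun u => by rw [← MulAut.mul_apply, hτ2]; rfl
  have hτM : ∀ m ∈ M, τ m = m := hMfix τ t.2 htc
  have hpowU : ∀ x : U, ∃ q : ℕ, x ^ (2 * q + 1) = 1 := fun x => by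
    obtain ⟨k, hk⟩ := hU x
    obtain ⟨q, hq⟩ := (show Odd (p ^ k) from (Nat.odd_iff.mpr hpodd).pow)
    exact ⟨q, hq ▸ hk⟩
  -- inverted representatives
  have hex : ∀ u : U, ∃ m ∈ Subgroup.zpowers (u * τ u), u * m ∈ {w : U | τ w = w⁻¹} ∧ m ∈ M := by
    intro u
    set c := u * τ u with hc
    have hcM : c ∈ M := by
      have h1 := htneg (mkE u)
      rw [hθ, ← hτ, ← hmkinv] at h1
      have := (hmk _ _).mp h1.symm
      rwa [inv_inv] at this
    have hτc : τ c = c := hτM c hcM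
    have hcomm : Commute c u := by
      have h1 : τ c = τ u * u := by rw [hc, map_mul, hττ]
      rw [hτc] at h1
      show c * u = u * c
      calc c * u = u * (τ u * u) := by rw [hc]; group
        _ = u * c := by rw [← h1]
    obtain ⟨q, hq⟩ := hpowU c
    refine ⟨c ^ q, ⟨q, zpow_natCast c q⟩, ?_, M.pow_mem hcM q⟩
    show τ (u * c ^ q) = (u * c ^ q)⁻¹
    rw [eq_inv_iff_mul_eq_one, map_mul, map_pow, hτc,
      show τ u = u⁻¹ * c by rw [hc]; group]
    calc u⁻¹ * c * c ^ q * (u * c ^ q) = u⁻¹ * c * (c ^ q * u) * c ^ q := by group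
      _ = u⁻¹ * (c * u) * c ^ q * c ^ q := by rw [(hcomm.pow_left q).eq]; group
      _ = u⁻¹ * (u * c) * c ^ q * c ^ q := by rw [hcomm.eq]
      _ = c ^ (2 * q + 1) := by rw [pow_succ', two_mul, pow_add]; group
      _ = 1 := hq
  have hcent : ∀ w, τ w = w⁻¹ → ∀ m ∈ M, Commute w m := by
    intro w hw m hm
    have h1 := hτM _ (hMn.conj_mem m hm w)
    rw [map_mul, map_mul, map_inv, hw, hτM m hm, inv_inv] at h1
    have h2 : Commute (w ^ 2) m := by
      show w ^ 2 * m = m * w ^ 2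
      calc w ^ 2 * m = w * (w * m * w⁻¹) * w := by rw [pow_two]; group
        _ = w * (w⁻¹ * m * w) * w := by rw [h1]
        _ = m * w ^ 2 := by rw [pow_two]; group
    obtain ⟨q, hq⟩ := hpowU w
    have h3 : w = ((w ^ 2) ^ q)⁻¹ := by
      rw [eq_inv_iff_mul_eq_one, ← pow_mul, ← pow_succ', hq]
    rw [h3]
    exact (h2.pow_left q).inv_left
  have huniq : ∀ w w', τ w = w⁻¹ → τ w' = w'⁻¹ → mkE w = mkE w' → w = w' := by
    intro w w' hw hw' h
    set m := w⁻¹ * w' with hm
    have hmM : m ∈ M := (hmk _ _).mp h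
    have e : w' = w * m := by rw [hm, mul_inv_cancel_left]
    have hc := hcent w hw m hmM
    rw [e, map_mul, hw, hτM m hmM, mul_inv_rev, hc.inv_inv.eq.symm] at hw'
    have hm2 : m ^ 2 = 1 := by
      rw [pow_two, ← eq_inv_iff_mul_eq_one]
      exact mul_left_cancel hw'
    obtain ⟨q, hq⟩ := hpowU m
    rw [pow_succ, pow_mul, hm2, one_pow, one_mul] at hq
    exact (inv_mul_eq_one.mp hq)
  obtain ⟨u₁, rfl⟩ := hmksurj f₁
  obtain ⟨u₂, rfl⟩ := hmksurj f₂
  obtain ⟨m₁, -, hx₁, hm₁⟩ := hex u₁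
  obtain ⟨m₂, -, hx₂, hm₂⟩ := hex u₂
  set x₁ := u₁ * m₁
  set x₂ := u₂ * m₂
  have hmk₁ : mkE x₁ = mkE u₁ := ((hmk _ _).mpr (by simp [x₁, hm₁])).symm
  have hmk₂ : mkE x₂ = mkE u₂ := ((hmk _ _).mpr (by simp [x₂, hm₂])).symm
  simp only [← hmk₁, ← hmk₂] at hd1 hd2 he1 he2 hf₁
  replace hx₁ : τ x₁ = x₁⁻¹ := hx₁
  replace hx₂ : τ x₂ = x₂⁻¹ := hx₂
  -- lifts commuting with `τ`
  have hlift : ∀ γ : X, ∃ γ' : X, θ γ' = θ γ ∧ ∀ w, τ w = w⁻¹ → τ ((γ' : MulAut U) w) = ((γ' : MulAut U) w)⁻¹ := by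
    intro γ
    set k : X := γ * t * γ⁻¹ * t⁻¹ with hk
    have hkθ : θ k = 1 := LinearEquiv.ext fun x => by
      have htinv : θ t⁻¹ x = -x := by
        rw [map_inv]
        refine (θ t).injective ?_
        rw [htneg (-x), neg_neg]
        exact (θ t).apply_symm_apply x
      rw [hk, map_mul, map_mul, map_mul]
      show θ γ (θ t (θ γ⁻¹ (θ t⁻¹ x))) = x
      rw [htneg, htinv, show (θ γ⁻¹) (-x) = -((θ γ⁻¹) x) from map_neg (θ γ⁻¹) x, neg_neg, map_inv]
      exact (θ γ).apply_symm_apply x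
    have htt : t * t = 1 := Subtype.ext hτ2
    have htinv : t⁻¹ = t := inv_eq_of_mul_eq_one_right htt
    have hkinv : t * k * t = k⁻¹ := by
      rw [hk, mul_inv_rev, mul_inv_rev, mul_inv_rev, inv_inv, inv_inv, htinv]
      simp [mul_assoc, htt]
    obtain ⟨q, hq⟩ : ∃ q : ℕ, k ^ (2 * q + 1) = 1 := by
      obtain ⟨a, b', ha, hb', hab, ⟨j, hj⟩, hcop⟩ := Cfsg.Lib.Transfer.exists_pPart p k
      have hb1 : b' = 1 := by
        obtain ⟨i, rfl⟩ := hb'
        refine Subtype.ext (hfaith _ (by rwa [Subgroup.orderOf_coe]) ?_)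
        rw [map_zpow, hkθ, one_zpow]
      rw [hb1, mul_one] at hab
      obtain ⟨q, hq⟩ := (show Odd (p ^ j) from (Nat.odd_iff.mpr hpodd).pow)
      exact ⟨q, by rw [← hq, ← hab, ← hj, pow_orderOf_eq_one]⟩
    set l : X := k ^ (q + 1)
    have hl2 : l * l = k := by
      rw [← pow_add, show q + 1 + (q + 1) = (2 * q + 1) + 1 by ring, pow_succ, hq, one_mul]
    have hlt : t * l = l⁻¹ * t := by
      have h1 : t * l * t = l⁻¹ := by
        have : ∀ i : ℕ, t * k ^ i * t = (k ^ i)⁻¹ := fun i => by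
          have h0 := conj_pow (a := t) (b := k) (i := i)
          rw [htinv, hkinv, inv_pow] at h0
          exact h0.symm
        exact this (q + 1)
      rw [← h1, mul_assoc, htt, mul_one]
    refine ⟨l⁻¹ * γ, by rw [map_mul, map_inv, map_pow, hkθ, one_pow, inv_one, one_mul], fun w hw => ?_⟩
    have hcomm : t * (l⁻¹ * γ) = l⁻¹ * γ * t := by
      have h1 : γ * t = k * t * γ := by rw [hk]; group
      have h2 : t * l⁻¹ = l * t := by
        calc t * l⁻¹ = l * (l⁻¹ * t) * l⁻¹ := by group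
          _ = l * (t * l) * l⁻¹ := by rw [hlt]
          _ = l * t := by group
      rw [← mul_assoc, h2, mul_assoc l⁻¹, h1, ← hl2]
      group
    have := congrArg (fun z : X => (z : MulAut U) w) hcomm
    simp only [Subgroup.coe_mul, MulAut.mul_apply] at this
    rw [← hτ] at this
    rw [Subgroup.coe_mul, MulAut.mul_apply, this, hw, map_inv, map_inv]
  obtain ⟨δ, hδθ, hδτ⟩ := hlift d₀
  obtain ⟨ε, hεθ, hετ⟩ := hlift e₀
  set z := ⁅x₁, x₂⁆ with hzdef
  have hzM : z ∈ M := hΦM (Cfsg.Lib.PGroups.commutator_le_frattini hU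
    (Subgroup.commutator_mem_commutator (Subgroup.mem_top _) (Subgroup.mem_top _)))
  -- the subgroup
  set Y := Subgroup.closure ({x₁, x₂} : Set U) with hY
  have hgY : ∀ (γ : X) (a b : U), τ a = a⁻¹ → τ b = b⁻¹ → Subgroup.closure ({a, b} : Set U) = Y →
      (∀ w, τ w = w⁻¹ → τ ((γ : MulAut U) w) = ((γ : MulAut U) w)⁻¹) →
      θ γ (mkE a) = mkE a → θ γ (mkE b) = mkE a + mkE b →
      (∀ y ∈ Y, (γ : MulAut U) y ∈ Y) ∧
        ∀ y ∈ Y, (γ : MulAut U) (y⁻¹ * (γ : MulAut U) y) = y⁻¹ * (γ : MulAut U) y := by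
    intro γ a b ha hb hab hγτ h1 h2
    have haY : a ∈ Y := hab ▸ Subgroup.subset_closure (Set.mem_insert _ _)
    have hbY : b ∈ Y := hab ▸ Subgroup.subset_closure (Set.mem_insert_of_mem _ rfl)
    have e1 : (γ : MulAut U) a = a := huniq _ _ (hγτ a ha) ha (by rw [← hθ, h1])
    obtain ⟨c, ⟨i, hi⟩, hc, hcM⟩ := hex (a * b)
    have e2 : (γ : MulAut U) b = a * b * c := huniq _ _ (hγτ b hb) hc (by
      rw [← hθ, h2, ← hmkmul]
      exact ((hmk _ _).mpr (by rw [inv_mul_cancel_left]; exact hcM)))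
    have hzz : a * b * τ (a * b) = ⁅a, b⁆ := by rw [map_mul, ha, hb, commutatorElement_def]; group
    have hi' : c = ⁅a, b⁆ ^ i := by rw [← hzz]; exact hi.symm
    subst hi'
    set w := ⁅a, b⁆
    have hwM : w ∈ M := hΦM (Cfsg.Lib.PGroups.commutator_le_frattini hU
      (Subgroup.commutator_mem_commutator (Subgroup.mem_top _) (Subgroup.mem_top _)))
    have hwa : Commute a w := hcent a ha w hwM
    have hwb : Commute b w := hcent b hb w hwM
    have e3 : (γ : MulAut U) w = w := by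
      rw [show w = a * b * a⁻¹ * b⁻¹ from commutatorElement_def a b, map_mul, map_mul, map_mul, map_inv,
        map_inv, e1, e2]
      have hcw : Commute (w ^ i) a⁻¹ := (hwa.symm.zpow_left i).inv_right
      calc a * (a * b * w ^ i) * a⁻¹ * (a * b * w ^ i)⁻¹
          = a * (a * b) * (w ^ i * a⁻¹) * (w ^ i)⁻¹ * b⁻¹ * a⁻¹ := by group
        _ = a * (a * b) * (a⁻¹ * w ^ i) * (w ^ i)⁻¹ * b⁻¹ * a⁻¹ := by rw [hcw.eq]
        _ = a * (a * b * a⁻¹ * b⁻¹) * a⁻¹ := by group
        _ = w * (a * a⁻¹) := by rw [← commutatorElement_def, ← mul_assoc, hwa.eq, mul_assoc]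
        _ = a * b * a⁻¹ * b⁻¹ := by rw [mul_inv_cancel, mul_one]; exact commutatorElement_def a b
    have hwY : w ∈ Y := by
      rw [show w = a * b * a⁻¹ * b⁻¹ from commutatorElement_def a b]
      exact Y.mul_mem (Y.mul_mem (Y.mul_mem haY hbY) (Y.inv_mem haY)) (Y.inv_mem hbY)
    set Z := Subgroup.closure ({a, w} : Set U)
    have haZ : a ∈ Z := Subgroup.subset_closure (Set.mem_insert _ _)
    have hwZ : w ∈ Z := Subgroup.subset_closure (Set.mem_insert_of_mem _ rfl)
    have hZfix : ∀ x ∈ Z, (γ : MulAut U) x = x := fun x hx => by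
      refine (Subgroup.closure_le (MonoidHom.eqLocus (γ : MulAut U).toMonoidHom (MonoidHom.id U))).mpr ?_ hx
      rintro _ (rfl | rfl)
      · exact e1
      · exact e3
    have hYn : Y ≤ Subgroup.normalizer (Z : Set U) := by
      rw [← hab, Subgroup.closure_le]
      have hcz : ∀ v ∈ ({a, b} : Set U), ∀ x ∈ Z, v * x * v⁻¹ ∈ Z := by
        intro v hv x hx
        induction hx using Subgroup.closure_induction with
        | mem x hx =>
          rcases hx with hx | hx
          · rw [hx]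
            rcases hv with hv | hv
            · rw [hv]; simpa using haZ
            · rw [Set.mem_singleton_iff.mp hv]
              have : b * a * b⁻¹ = w⁻¹ * a := by
                rw [show w = a * b * a⁻¹ * b⁻¹ from commutatorElement_def a b]; group
              rw [this]
              exact Z.mul_mem (Z.inv_mem hwZ) haZ
          · rw [Set.mem_singleton_iff.mp hx]
            have : Commute v w := by
              rcases hv with hv | hv
              · rw [hv]; exact hwa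
              · rw [Set.mem_singleton_iff.mp hv]; exact hwb
            rw [this.eq, mul_inv_cancel_right]
            exact hwZ
        | one => simp [Z.one_mem]
        | mul x y _ _ hx hy =>
          rw [show v * (x * y) * v⁻¹ = (v * x * v⁻¹) * (v * y * v⁻¹) by group]
          exact Z.mul_mem hx hy
        | inv x _ hx =>
          rw [show v * x⁻¹ * v⁻¹ = (v * x * v⁻¹)⁻¹ by group]
          exact Z.inv_mem hx
      intro v hv
      exact Cfsg.Lib.Fusion.mem_normalizer_of_maps_finite (hcz v hv)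
    have hdiff : ∀ y ∈ Y, y⁻¹ * (γ : MulAut U) y ∈ Z := by
      intro y hy
      rw [← hab] at hy
      induction hy using Subgroup.closure_induction with
      | mem x hx =>
        rcases hx with hx | hx
        · rw [hx, e1, inv_mul_cancel]; exact Z.one_mem
        · rw [Set.mem_singleton_iff.mp hx, e2]
          rw [show b⁻¹ * (a * b * w ^ i) = (b⁻¹ * a * b) * w ^ i by group]
          refine Z.mul_mem ?_ (Z.zpow_mem hwZ i)
          have := Cfsg.Lib.Fusion.conj_mem_of_mem_normalizer (inv_mem (hYn hbY)) haZ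
          rwa [inv_inv] at this
      | one => simp [Z.one_mem]
      | mul x y hx' hy' hx hy =>
        rw [map_mul, show (x * y)⁻¹ * ((γ : MulAut U) x * (γ : MulAut U) y) =
          (y⁻¹ * (x⁻¹ * (γ : MulAut U) x) * y) * (y⁻¹ * (γ : MulAut U) y) by group]
        refine Z.mul_mem ?_ hy
        have := Cfsg.Lib.Fusion.conj_mem_of_mem_normalizer (inv_mem (hYn (hab ▸ hy'))) hx
        rwa [inv_inv] at this
      | inv x hx' hx =>
        rw [map_inv, show x⁻¹⁻¹ * ((γ : MulAut U) x)⁻¹ = x * (x⁻¹ * (γ : MulAut U) x)⁻¹ * x⁻¹ by group]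
        exact Cfsg.Lib.Fusion.conj_mem_of_mem_normalizer (hYn (hab ▸ hx')) (Z.inv_mem hx)
    have hZY : Z ≤ Y := (Subgroup.closure_le _).mpr (by rintro _ (rfl | rfl); exacts [haY, hwY])
    refine ⟨fun y hy => ?_, fun y hy => hZfix _ (hdiff y hy)⟩
    have := Y.mul_mem hy (hZY (hdiff y hy))
    rwa [mul_inv_cancel_left] at this
  obtain ⟨hδY, hδq⟩ := hgY δ x₁ x₂ hx₁ hx₂ rfl hδτ (by rw [hδθ, hd1]) (by rw [hδθ, hd2])
  have hclo : Subgroup.closure ({x₂⁻¹, x₁} : Set U) = Y := by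
    refine le_antisymm ((Subgroup.closure_le _).mpr ?_) ((Subgroup.closure_le _).mpr ?_)
    · rintro _ (rfl | rfl)
      · exact Y.inv_mem (Subgroup.subset_closure (Set.mem_insert_of_mem _ rfl))
      · exact Subgroup.subset_closure (Set.mem_insert _ _)
    · rintro _ (rfl | rfl)
      · exact Subgroup.subset_closure (Set.mem_insert_of_mem _ rfl)
      · have := Subgroup.inv_mem _
          (Subgroup.subset_closure (Set.mem_insert x₂⁻¹ {x₁}) : x₂⁻¹ ∈ Subgroup.closure _)
        rwa [inv_inv] at this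
  obtain ⟨hεY, hεq⟩ := hgY ε x₂⁻¹ x₁ (by rw [map_inv, hx₂]) hx₁ hclo hετ
    (by rw [hmkinv, map_neg, hεθ, he2]) (by rw [hmkinv, hεθ, he1]; abel)
  refine ⟨Y, δ, ε, δ.2, ε.2, hδY, hεY, hδq, hεq, x₁, Subgroup.subset_closure (Set.mem_insert _ _),
    fun h => hf₁ ((congrArg mkE h).trans rfl), ?_⟩
  set κ : X := (δ * ε * δ) ^ 2 with hκ
  show (κ : MulAut U) x₁ = x₁⁻¹
  have hκτ : τ ((κ : MulAut U) x₁) = ((κ : MulAut U) x₁)⁻¹ := by
    simp only [hκ, pow_two, Subgroup.coe_mul, MulAut.mul_apply]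
    exact hδτ _ (hετ _ (hδτ _ (hδτ _ (hετ _ (hδτ _ hx₁)))))
  refine huniq _ _ hκτ (by rw [map_inv, hx₁]) ?_
  rw [← hθ, hκ, pow_two, map_mul, map_mul, map_mul, hδθ, hεθ, hmkinv]
  show θ d₀ (θ e₀ (θ d₀ (θ d₀ (θ e₀ (θ d₀ (mkE x₁)))))) = -mkE x₁
  rw [hd1, he1, map_sub, hd1, hd2, show mkE x₁ - (mkE x₁ + mkE x₂) = -mkE x₂ by abel, map_neg, hd2,
    map_neg, map_add, he1, he2, show mkE x₁ - mkE x₂ + mkE x₂ = mkE x₁ by abel, map_neg, hd1]

end Cfsg.Lib.CentralStable
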