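import Cfsg.Prelude.Def_LocalEven
import Cfsg.Agent.Fusion.CentralQuotientStable
import Cfsg.Agent.Quadratic.BaerSuzuki
import Cfsg.Agent.Components.Cores
import Cfsg.Agent.Components.ZJ.Closed
import Cfsg.Agent.Components.KInf.Stable

/-!
`p`-stability in the normalizer form passes to quotients by central `p`-subgroups.
-/

set_option autoImplicit false

namespace Cfsg.Lib.CentralStable

open Subgroup
open scoped commutatorElement

universe u

variable {p : ℕ} [Fact p.Prime] {G : Type u} [Group G] [Finite G]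

theorem fixes_of_quadratic {G' : Type*} [Group G'] {P : Subgroup G'} {a : G'}
    (ha : a ∈ normalizer (P : Set G')) (hq : ⁅⁅P, zpowers a⁆, zpowers a⁆ = ⊥) {x : G'} (hx : x ∈ P) :
    a * (x⁻¹ * (a * x * a⁻¹)) * a⁻¹ = x⁻¹ * (a * x * a⁻¹) := by
  have h1 : ⁅x⁻¹, a⁆ ∈ ⁅P, zpowers a⁆ := commutator_mem_commutator (inv_mem hx) (mem_zpowers a)
  have h2 := commutator_mem_commutator h1 (mem_zpowers a)
  rw [hq, mem_bot] at h2
  have h3 : ⁅x⁻¹, a⁆ = x⁻¹ * (a * x * a⁻¹) := by rw [commutatorElement_def]; group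
  rw [h3, commutatorElement_eq_one_iff_mul_comm] at h2
  rw [← h2, mul_inv_cancel_right]

/-- heredity -/
theorem normalizerPStable_quotient_central (hp2 : p ≠ 2) (hst : Cfsg.IsNormalizerPStable p G)
    (V : Subgroup G) [V.Normal] (hVc : V ≤ Subgroup.center G) (hVp : IsPGroup p V) :
    Cfsg.IsNormalizerPStable p (G ⧸ V) := by
  classical
  intro Ub hUb gb hgb hquad
  set π := QuotientGroup.mk' V
  have hπ : Function.Surjective π := QuotientGroup.mk'_surjective V
  set U := Ub.comap π with hUdef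
  have hU : IsPGroup p U := hUb.comap_of_ker_isPGroup π (by rw [QuotientGroup.ker_mk']; exact hVp)
  have hVU : V ≤ U := fun v hv => by
    rw [hUdef, mem_comap, show π v = 1 from (QuotientGroup.eq_one_iff v).mpr hv]; exact one_mem _
  obtain ⟨a, rfl⟩ := hπ gb
  set H := normalizer (U : Set G)
  have hH : H = (normalizer (Ub : Set (G ⧸ V))).comap π :=
    (comap_normalizer_eq_of_surjective _ hπ).symm
  have haH : a ∈ H := by rw [hH]; exact hgb
  set Θ := U.normalizerMonoidHom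
  haveI : Finite (MulAut U) := Finite.of_injective (fun f : MulAut U => (f : U → U)) DFunLike.coe_injective
  have hΘ : ∀ (h : H) (x : U), ((Θ h x : U) : G) = h * x * (h : G)⁻¹ := fun h x => rfl
  set Γ := Θ.range
  -- the projection to the automizer
  let N := normalizer (Ub : Set (G ⧸ V))
  let ψ : H →* N ⧸ (centralizer (Ub : Set (G ⧸ V))).subgroupOf N :=
    (QuotientGroup.mk' _).comp ((π.comp H.subtype).codRestrict N fun h => by
      have := h.2
      simp only [hH] at this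
      exact this)
  have hψ : Function.Surjective ψ := by
    intro q
    obtain ⟨⟨n, hn⟩, rfl⟩ := QuotientGroup.mk'_surjective _ q
    obtain ⟨x, rfl⟩ := hπ n
    exact ⟨⟨x, by rw [hH]; exact hn⟩, rfl⟩
  have hker : Θ.ker ≤ ψ.ker := by
    intro h hh
    rw [MonoidHom.mem_ker] at hh ⊢
    refine (QuotientGroup.eq_one_iff _).mpr (mem_subgroupOf.mpr (mem_centralizer_iff.mpr fun w hw => ?_))
    obtain ⟨x, rfl⟩ := hπ w
    show π x * π h = π h * π x
    have h1 : (h : G) * x * (h : G)⁻¹ = x := by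
      have := congrArg (fun f : MulAut U => ((f ⟨x, hw⟩ : U) : G)) hh
      exact this
    rw [← map_mul, ← map_mul]
    exact congrArg π (mul_inv_eq_iff_eq_mul.mp h1).symm
  by_contra hna
  obtain ⟨c, hc⟩ : ∃ c : Γ, ¬ IsPGroup p ↥(zpowers (⟨Θ ⟨a, haH⟩, _, rfl⟩ : Γ) ⊔
      (zpowers (⟨Θ ⟨a, haH⟩, _, rfl⟩ : Γ)).map (MulAut.conj c).toMonoidHom) := by
    by_contra hall
    push Not at hall
    obtain ⟨M, hMn, hMp, haM⟩ := Cfsg.Lib.BaerSuzuki.baer_suzuki _ hall
    set M₀ : Subgroup H := M.comap Θ.rangeRestrict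
    haveI : M₀.Normal := hMn.comap _
    have hM₀ : IsPGroup p (M₀.map ψ) := by
      rintro ⟨_, h, hh, rfl⟩
      obtain ⟨k, hk⟩ := hMp ⟨_, hh⟩
      refine ⟨k, Subtype.ext ?_⟩
      show ψ h ^ p ^ k = 1
      rw [← map_pow, ← MonoidHom.mem_ker]
      refine hker (MonoidHom.mem_ker.mpr ?_)
      have := congrArg (fun z : M => ((z : Γ) : MulAut U)) hk
      simp only [SubgroupClass.coe_pow, OneMemClass.coe_one] at this
      rw [map_pow]
      exact this
    haveI : (M₀.map ψ).Normal := Normal.map inferInstance ψ hψ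
    exact hna (Cfsg.Lib.Components.le_pCore hM₀ ⟨⟨a, haH⟩, haM (mem_zpowers _), rfl⟩)
  obtain ⟨_, h₀, rfl⟩ := c
  set α := Θ ⟨a, haH⟩
  set β := Θ h₀ * α * (Θ h₀)⁻¹
  have hnp : ¬ IsPGroup p ↥(Subgroup.closure ({α, β} : Set (MulAut U))) := by
    intro h
    refine hc (IsPGroup.of_injective (hG := h)
      ((Γ.subtype.comp (Subgroup.subtype _)).codRestrict _ fun z => ?_) ?_)
    · have hle : (zpowers (⟨α, _, rfl⟩ : Γ) ⊔
          (zpowers (⟨α, _, rfl⟩ : Γ)).map (MulAut.conj (⟨Θ h₀, h₀, rfl⟩ : Γ)).toMonoidHom).map Γ.subtype ≤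
          Subgroup.closure ({α, β} : Set (MulAut U)) := by
        rw [Subgroup.map_sup, Subgroup.map_map, MonoidHom.map_zpowers, MonoidHom.map_zpowers]
        exact sup_le (zpowers_le.mpr (subset_closure (Set.mem_insert _ _)))
          (zpowers_le.mpr (subset_closure (Set.mem_insert_of_mem _ rfl)))
      exact hle ⟨_, z.2, rfl⟩
    · intro z w e
      exact Subtype.ext (Subtype.ext (congrArg Subtype.val e :))
  have hVU' : ∀ v : U, v ∈ V.subgroupOf U → ∀ h : H, Θ h v = v := fun v hv h => Subtype.ext (by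
    rw [hΘ, Subgroup.mem_center_iff.mp (hVc (mem_subgroupOf.mp hv)) h, mul_inv_cancel_right])
  have hq : ∀ x : U, (x⁻¹ * α x)⁻¹ * α (x⁻¹ * α x) ∈ V.subgroupOf U := fun x => by
    rw [mem_subgroupOf]
    refine QuotientGroup.eq.mp ?_
    have h := fixes_of_quadratic hgb hquad (x := π (x : G)) x.2
    simp only [← map_inv, ← map_mul] at h
    rw [QuotientGroup.mk'_apply, QuotientGroup.mk'_apply] at h
    simp only [α, Subgroup.coe_mul, Subgroup.coe_inv, hΘ]
    exact h.symm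
  have hqβ : ∀ x : U, (x⁻¹ * β x)⁻¹ * β (x⁻¹ * β x) ∈ V.subgroupOf U := fun x => by
    set w := (Θ h₀)⁻¹ x
    have hx : Θ h₀ w = x := (Θ h₀).apply_symm_apply x
    have e1 : ∀ z : U, β (Θ h₀ z) = Θ h₀ (α z) := fun z => by
      show Θ h₀ (α ((Θ h₀)⁻¹ (Θ h₀ z))) = _
      rw [show (Θ h₀)⁻¹ (Θ h₀ z) = z from (Θ h₀).symm_apply_apply z]
    rw [← hx, e1, ← map_inv, ← map_mul, e1, ← map_inv, ← map_mul, hVU' _ (hq w) h₀]
    exact hq w
  obtain ⟨Y, δ, ε, hδ, hε, hδY, hεY, hδq, hεq, y, hy, hy1, hκ⟩ := exists_witness hp2 _ (U := U) rfl hU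
    (V.subgroupOf U) α β (fun v hv => Subgroup.mem_center_iff.mpr fun w =>
      Subtype.ext (Subgroup.mem_center_iff.mp (hVc hv) w))
    (fun v hv => hVU' v hv _) (fun v hv => by
      show Θ h₀ (α ((Θ h₀)⁻¹ v)) = v
      have h1 : (Θ h₀)⁻¹ v = v := by
        rw [← map_inv]
        exact hVU' v hv _
      rw [h1, hVU' v hv, hVU' v hv]) hq hqβ hnp
  have hle : Subgroup.closure ({α, β} : Set (MulAut U)) ≤ Γ := (Subgroup.closure_le _).mpr (by
    rintro _ (rfl | rfl)
    · exact ⟨_, rfl⟩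
    · exact ⟨h₀ * ⟨a, haH⟩ * h₀⁻¹, by rw [map_mul, map_mul, map_inv]⟩)
  obtain ⟨dl, rfl⟩ := hle hδ
  obtain ⟨el, rfl⟩ := hle hε
  set Y' := Y.map U.subtype with hY'
  have hY'p : IsPGroup p Y' := (hU.to_subgroup Y).map _
  set N' := normalizer (Y' : Set G)
  set C' := (centralizer (Y' : Set G)).subgroupOf N'
  haveI : Finite Y' := inferInstance
  have key : ∀ h : H, (∀ z ∈ Y, Θ h z ∈ Y) → (∀ z ∈ Y, Θ h (z⁻¹ * Θ h z) = z⁻¹ * Θ h z) →
      ∃ hn : (h : G) ∈ N', (QuotientGroup.mk (⟨h, hn⟩ : N') : N' ⧸ C') ∈ Cfsg.pCore p (N' ⧸ C') := by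
    intro h hhY hhq
    have hn : (h : G) ∈ N' := Cfsg.Lib.Fusion.mem_normalizer_of_maps_finite fun w hw => by
      obtain ⟨z, hz, rfl⟩ := hw
      exact ⟨_, hhY z hz, hΘ h z⟩
    refine ⟨hn, hst Y' hY'p h hn ?_⟩
    have hcom : ⁅Y', zpowers (h : G)⁆ ≤ centralizer ({(h : G)} : Set G) := by
      rw [commutator_le]
      rintro _ ⟨z, hz, rfl⟩ _ ⟨i, rfl⟩
      rw [mem_centralizer_singleton_iff]
      have hfix : ∀ v ∈ Y, Commute ((h : G)) (((v : G))⁻¹ * ((h : G) * v * (h : G)⁻¹)) := fun v hv => by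
        have h1 := congrArg (fun w : U => (w : G)) (hhq v hv)
        simp only [hΘ, Subgroup.coe_mul, Subgroup.coe_inv] at h1
        exact mul_inv_eq_iff_eq_mul.mp h1
      set c := (z : G) * ((h : G) * (z : G)⁻¹ * (h : G)⁻¹) with hc
      have hcc : Commute (h : G) c := by
        have := hfix z⁻¹ (inv_mem hz)
        simpa [hc] using this
      have hpw : ∀ j : ℤ, (h : G) ^ j * (z : G)⁻¹ * ((h : G) ^ j)⁻¹ = (z : G)⁻¹ * c ^ j := by
        intro j
        have h1 : (h : G) * (z : G)⁻¹ * (h : G)⁻¹ = (z : G)⁻¹ * c := by rw [hc]; group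
        induction j using Int.induction_on with
        | zero => simp
        | succ j ih =>
          rw [zpow_add_one, zpow_add_one]
          calc (h : G) ^ (j : ℤ) * h * (z : G)⁻¹ * ((h : G) ^ (j : ℤ) * h)⁻¹
              = (h : G) ^ (j : ℤ) * ((h : G) * (z : G)⁻¹ * (h : G)⁻¹) * ((h : G) ^ (j : ℤ))⁻¹ := by group
            _ = (h : G) ^ (j : ℤ) * (z : G)⁻¹ * ((h : G) ^ (j : ℤ))⁻¹ *
                ((h : G) ^ (j : ℤ) * c * ((h : G) ^ (j : ℤ))⁻¹) := by rw [h1]; group
            _ = (z : G)⁻¹ * c ^ (j : ℤ) * c := by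
              rw [ih, (hcc.zpow_left _).eq, mul_inv_cancel_right]
            _ = (z : G)⁻¹ * (c ^ (j : ℤ) * c) := by rw [mul_assoc]
        | pred j ih =>
          rw [zpow_sub_one, zpow_sub_one]
          have h2 : (h : G)⁻¹ * (z : G)⁻¹ * (h : G) = (z : G)⁻¹ * c⁻¹ := by
            calc (h : G)⁻¹ * (z : G)⁻¹ * (h : G) = (h : G)⁻¹ * (z : G)⁻¹ * ((h : G) * c) * c⁻¹ := by group
              _ = (h : G)⁻¹ * (z : G)⁻¹ * (c * (h : G)) * c⁻¹ := by rw [hcc.eq]
              _ = (h : G)⁻¹ * ((z : G)⁻¹ * c) * (h : G) * c⁻¹ := by group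
              _ = (h : G)⁻¹ * ((h : G) * (z : G)⁻¹ * (h : G)⁻¹) * (h : G) * c⁻¹ := by rw [h1]
              _ = (z : G)⁻¹ * c⁻¹ := by group
          calc (h : G) ^ (-(j : ℤ)) * (h : G)⁻¹ * (z : G)⁻¹ * ((h : G) ^ (-(j : ℤ)) * (h : G)⁻¹)⁻¹
              = (h : G) ^ (-(j : ℤ)) * ((h : G)⁻¹ * (z : G)⁻¹ * h) * ((h : G) ^ (-(j : ℤ)))⁻¹ := by group
            _ = (h : G) ^ (-(j : ℤ)) * (z : G)⁻¹ * ((h : G) ^ (-(j : ℤ)))⁻¹ *
                ((h : G) ^ (-(j : ℤ)) * c⁻¹ * ((h : G) ^ (-(j : ℤ)))⁻¹) := by rw [h2]; group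
            _ = (z : G)⁻¹ * c ^ (-(j : ℤ)) * c⁻¹ := by
              rw [ih, (hcc.inv_right.zpow_left _).eq, mul_inv_cancel_right]
            _ = (z : G)⁻¹ * (c ^ (-(j : ℤ)) * c⁻¹) := by rw [mul_assoc]
      have e : ⁅(z : G), (h : G) ^ i⁆ = c ^ i := by
        rw [commutatorElement_def]
        calc (z : G) * (h : G) ^ i * (z : G)⁻¹ * ((h : G) ^ i)⁻¹
            = (z : G) * ((h : G) ^ i * (z : G)⁻¹ * ((h : G) ^ i)⁻¹) := by group
          _ = c ^ i := by rw [hpw, mul_inv_cancel_left]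
      show ⁅(z : G), (h : G) ^ i⁆ * h = h * ⁅(z : G), (h : G) ^ i⁆
      rw [e]
      exact (hcc.zpow_right i).eq.symm
    rw [commutator_eq_bot_iff_le_centralizer]
    refine hcom.trans ?_
    intro w hw
    rw [mem_centralizer_singleton_iff] at hw
    refine mem_centralizer_iff.mpr fun v hv => ?_
    obtain ⟨i, rfl⟩ := hv
    exact ((show Commute w (h : G) from hw).symm.zpow_left i).eq
  obtain ⟨hdn, hd⟩ := key dl hδY hδq
  obtain ⟨hen, he⟩ := key el hεY hεq
  let kN : N' := (⟨dl, hdn⟩ * ⟨el, hen⟩ * ⟨dl, hdn⟩) ^ 2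
  have hk : (QuotientGroup.mk kN : N' ⧸ C') ∈ Cfsg.pCore p (N' ⧸ C') := by
    rw [QuotientGroup.mk_pow, QuotientGroup.mk_mul, QuotientGroup.mk_mul]
    exact pow_mem (mul_mem (mul_mem hd he) hd) 2
  obtain ⟨j, hj⟩ := (Cfsg.Lib.Components.isPGroup_pCore p) ⟨_, hk⟩
  have hj' : kN ^ p ^ j ∈ C' := by
    rw [← QuotientGroup.eq_one_iff, QuotientGroup.mk_pow]
    exact congrArg Subtype.val hj
  set κ : H := (dl * el * dl) ^ 2
  have hκy : Θ κ y = y⁻¹ := by rw [map_pow, map_mul, map_mul]; exact hκ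
  have hodd : Odd (p ^ j) :=
    (Nat.odd_iff.mpr ((Fact.out : p.Prime).eq_two_or_odd.resolve_left hp2)).pow
  have hiter : ∀ i : ℕ, Θ (κ ^ (2 * i + 1)) y = y⁻¹ := fun i => by
    induction i with
    | zero => rw [mul_zero, zero_add, pow_one]; exact hκy
    | succ i ih =>
      rw [show 2 * (i + 1) + 1 = (2 * i + 1) + 2 by ring, pow_add, map_mul, MulAut.mul_apply, pow_two,
        map_mul, MulAut.mul_apply, hκy, map_inv, hκy, inv_inv, ih]
  obtain ⟨q, hq'⟩ := hodd
  have h1 : Θ (κ ^ p ^ j) y = y := by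
    refine Subtype.ext ?_
    rw [hΘ]
    have h2 := mem_centralizer_iff.mp (mem_subgroupOf.mp hj') (y : G) ⟨y, hy, rfl⟩
    have e : ((kN ^ p ^ j : N') : G) = ((κ ^ p ^ j : H) : G) := by
      simp only [kN, κ, SubgroupClass.coe_pow, Subgroup.coe_mul]
    rw [e] at h2
    rw [← h2, mul_inv_cancel_right]
  rw [hq', hiter q] at h1
  obtain ⟨k, hk1⟩ := hU y
  obtain ⟨r, hr⟩ := (show Odd (p ^ k) from
    (Nat.odd_iff.mpr ((Fact.out : p.Prime).eq_two_or_odd.resolve_left hp2)).pow)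
  rw [hr, pow_succ, pow_mul, pow_two, show y * y = 1 from mul_eq_one_iff_eq_inv.mpr h1.symm, one_pow,
    one_mul] at hk1
  exact hy1 hk1


/-- heredity to quotients by `p'`-subgroups -/
theorem normalizerPStable_quotient_coprime {N : Subgroup G} [N.Normal] (hN : (Nat.card N).Coprime p)
    (hst : Cfsg.IsNormalizerPStable p G) : Cfsg.IsNormalizerPStable p (G ⧸ N) := by
  classical
  intro Ub hUb gb hgb hquad
  set π := QuotientGroup.mk' N
  have hπ : Function.Surjective π := QuotientGroup.mk'_surjective N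
  set M := normalizer (Ub : Set (G ⧸ N))
  set H := M.comap π
  set N' := N.subgroupOf H
  have hN' : (Nat.card N').Coprime p := hN.coprime_dvd_left
    (Subgroup.card_dvd_of_injective
      ({ toFun := fun x => ⟨((x : H) : G), x.2⟩, map_one' := rfl, map_mul' := fun _ _ => rfl } : N' →* N)
      fun a b e => Subtype.ext (Subtype.ext (congrArg (fun z : N => (z : G)) e :)))
  have hs := Cfsg.Lib.ZJ.stable_quotient_of_normalizer (N := N') hN'
    (Cfsg.Lib.ZJ.normalizerPStable_subgroup hst H)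
  let f₀ : H →* M := (π.comp H.subtype).codRestrict M fun h => h.2
  have hf₀ : Function.Surjective f₀ := fun m => by
    obtain ⟨x, hx⟩ := hπ (m : G ⧸ N)
    exact ⟨⟨x, show π x ∈ M from hx ▸ m.2⟩, Subtype.ext hx⟩
  let f : H ⧸ N' →* M := QuotientGroup.lift N' f₀ fun h hh =>
    Subtype.ext ((QuotientGroup.eq_one_iff _).mpr hh)
  have hf : Function.Surjective f := fun m => by
    obtain ⟨h, rfl⟩ := hf₀ m
    exact ⟨h, rfl⟩
  have hfi : Function.Injective f := by
    rw [injective_iff_map_eq_one]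
    intro q
    induction q using QuotientGroup.induction_on with
    | H h =>
      intro e
      have : π (h : G) = 1 := congrArg Subtype.val e
      exact (QuotientGroup.eq_one_iff h).mpr ((QuotientGroup.eq_one_iff (h : G)).mp this)
  set B := (Ub.subgroupOf M).comap f
  haveI : (Ub.subgroupOf M).Normal := Subgroup.normal_in_normalizer
  haveI : B.Normal := inferInstance
  have hB : IsPGroup p B := (hUb.comap_subtype (K := M)).comap_of_injective f hfi
  -- the `p`-part
  obtain ⟨a, b, ha, hb, hab, ⟨k, hk⟩, hbc⟩ :=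
    Cfsg.Lib.Transfer.exists_pPart p (⟨gb, hgb⟩ : M)
  have hquadM : ⁅⁅Ub.subgroupOf M, zpowers (⟨gb, hgb⟩ : M)⁆, zpowers (⟨gb, hgb⟩ : M)⁆ = ⊥ := by
    rw [← map_eq_bot_iff_of_injective _ M.subtype_injective, map_commutator, map_commutator,
      MonoidHom.map_zpowers, subgroupOf_map_subtype, inf_eq_left.mpr (le_normalizer (H := Ub))]
    exact hquad
  have hq' : ∀ x ∈ zpowers (⟨gb, hgb⟩ : M), ⁅⁅Ub.subgroupOf M, zpowers x⁆, zpowers x⁆ = ⊥ :=
    fun x hx => le_bot_iff.mp (hquadM ▸ commutator_mono (commutator_mono le_rfl (zpowers_le.mpr hx))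
      (zpowers_le.mpr hx))
  obtain ⟨ab, rfl⟩ := hf a
  have h := hs B hB ab (fun x => by
    obtain ⟨i, hi⟩ : ∃ i : ℤ, ab ^ i = x := x.2
    refine ⟨k, Subtype.ext (hfi ?_)⟩
    simp only [SubgroupClass.coe_pow, OneMemClass.coe_one, ← hi]
    rw [map_one, map_pow, map_zpow, ← zpow_natCast, ← zpow_mul, mul_comm, zpow_mul, zpow_natCast,
      ← hk, pow_orderOf_eq_one, one_zpow]) (by
    rw [← map_eq_bot_iff_of_injective _ hfi, map_commutator, map_commutator, MonoidHom.map_zpowers,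
      map_comap_eq_self_of_surjective hf]
    exact hq' _ ha)
  -- `b` centralizes
  set C := (centralizer (Ub : Set (G ⧸ N))).subgroupOf M
  have hbC : b ∈ C := by
    refine mem_subgroupOf.mpr (mem_centralizer_iff.mpr fun x hx => ?_)
    have hq := hq' b hb
    rw [← map_eq_bot_iff_of_injective _ M.subtype_injective, map_commutator, map_commutator,
      MonoidHom.map_zpowers, subgroupOf_map_subtype, inf_eq_left.mpr (le_normalizer (H := Ub))] at hq
    have hfix := fixes_of_quadratic b.2 hq hx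
    set bb : G ⧸ N := (b : G ⧸ N)
    set c := x⁻¹ * (bb * x * bb⁻¹) with hc
    have hcU : c ∈ Ub := Ub.mul_mem (Ub.inv_mem hx) ((mem_normalizer_iff.mp b.2 x).mp hx)
    have hit : ∀ i : ℕ, bb ^ i * x * (bb ^ i)⁻¹ = x * c ^ i := fun i => by
      induction i with
      | zero => simp
      | succ i ih =>
        calc bb ^ (i + 1) * x * (bb ^ (i + 1))⁻¹ = bb * (bb ^ i * x * (bb ^ i)⁻¹) * bb⁻¹ := by
              rw [pow_succ']; group
          _ = (bb * x * bb⁻¹) * (bb * c ^ i * bb⁻¹) := by rw [ih]; group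
          _ = x * c * c ^ i := by rw [← conj_pow, hfix, hc, mul_inv_cancel_left]
          _ = x * c ^ (i + 1) := by rw [pow_succ', mul_assoc]
    have h5 := hit (orderOf b)
    rw [show bb ^ orderOf b = 1 from congrArg Subtype.val (pow_orderOf_eq_one b),
      inv_one, mul_one, one_mul, left_eq_mul] at h5
    obtain ⟨i, hi⟩ := hUb ⟨c, hcU⟩
    have hc1 : c = 1 := orderOf_eq_one_iff.mp (Nat.eq_one_of_dvd_coprimes (hbc.pow_right i)
      (orderOf_dvd_of_pow_eq_one h5) (orderOf_dvd_of_pow_eq_one (congrArg Subtype.val hi)))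
    rw [hc, inv_mul_eq_one] at hc1
    calc x * bb = bb * x * bb⁻¹ * bb := by rw [← hc1]
      _ = bb * x := by group
  let F : (H ⧸ N') ⧸ centralizer (B : Set (H ⧸ N')) →* M ⧸ C := QuotientGroup.map _ _ f fun x hx =>
    mem_comap.mpr (mem_subgroupOf.mpr (mem_centralizer_iff.mpr fun y hy => by
      obtain ⟨w, hw⟩ := hf ⟨y, le_normalizer hy⟩
      have hwB : w ∈ B := by show f w ∈ Ub.subgroupOf M; rw [hw]; exact hy
      have := congrArg (fun z => ((f z : M) : G ⧸ N)) (mem_centralizer_iff.mp hx w hwB)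
      simpa [hw] using this))
  have hF : Function.Surjective F := fun q => by
    obtain ⟨m, rfl⟩ := QuotientGroup.mk_surjective q
    obtain ⟨w, rfl⟩ := hf m
    exact ⟨QuotientGroup.mk w, rfl⟩
  have h2 := Cfsg.Lib.ZJ.map_pCore_le hF (mem_map_of_mem F h)
  rw [show (QuotientGroup.mk (⟨gb, hgb⟩ : M) : M ⧸ C) = QuotientGroup.mk (f ab) from
    QuotientGroup.eq.mpr (by
      have hc := C.inv_mem hbC
      rw [← hab, mul_inv_rev, inv_mul_cancel_right]
      exact hc)]
  exact h2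

/-- quotient by a normal `p`-subgroup on which the group acts as a `p`-group -/
theorem normalizerPStable_quotient_hyper (hp2 : p ≠ 2) (n : ℕ) :
    ∀ {G : Type u} [Group G] [Finite G] (Q : Subgroup G) [Q.Normal], Nat.card Q = n →
      IsPGroup p Q → (∀ g : G, ∃ k : ℕ, g ^ p ^ k ∈ centralizer (Q : Set G)) →
      Cfsg.IsNormalizerPStable p G → Cfsg.IsNormalizerPStable p (G ⧸ Q) := by
  induction n using Nat.strong_induction_on with
  | _ n ih =>
  intro G _ _ Q _ hn hQ hact hst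
  classical
  by_cases hQ1 : Q = ⊥
  · subst hQ1
    haveI : ((⊥ : Subgroup G)).Normal := inferInstance
    exact normalizerPStable_quotient_central hp2 hst ⊥ bot_le IsPGroup.of_bot
  haveI : Nontrivial Q := (nontrivial_iff_ne_bot Q).mpr hQ1
  set V := Q ⊓ Subgroup.center G
  have hV1 : V ≠ ⊥ := by
    set C := centralizer (Q : Set G)
    haveI : C.Normal := normal_centralizer
    have hX : IsPGroup p (G ⧸ C) := fun x => by
      obtain ⟨g, rfl⟩ := QuotientGroup.mk_surjective x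
      obtain ⟨k, hk⟩ := hact g
      exact ⟨k, by rw [← QuotientGroup.mk_pow]; exact (QuotientGroup.eq_one_iff _).mpr hk⟩
    let φ : G ⧸ C →* MulAut Q := QuotientGroup.lift C MulAut.conjNormal fun c hc => by
      refine MulEquiv.ext fun q => Subtype.ext ?_
      rw [MulAut.conjNormal_apply, ← mem_centralizer_iff.mp hc q q.2, mul_inv_cancel_right]
      rfl
    letI : MulDistribMulAction (G ⧸ C) Q := MulDistribMulAction.compHom Q φ
    obtain ⟨m, hm, hm'⟩ := hQ.nontrivial_iff_card.mp inferInstance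
    have hdvd : p ∣ Nat.card Q := hm' ▸ dvd_pow_self p hm.ne'
    obtain ⟨b, hb, hb1⟩ := hX.exists_fixed_point_of_prime_dvd_card_of_fixed_point Q hdvd
      (show (1 : Q) ∈ MulAction.fixedPoints (G ⧸ C) Q from fun x => smul_one x)
    intro h
    have hmem : (b : G) ∈ V := ⟨b.2, Subgroup.mem_center_iff.mpr fun g => by
      have := congrArg Subtype.val (hb (QuotientGroup.mk g))
      change g * b * g⁻¹ = b at this
      exact mul_inv_eq_iff_eq_mul.mp this⟩
    rw [h, mem_bot] at hmem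
    exact hb1 (Subtype.ext hmem.symm)
  have hVQ : V ≤ Q := inf_le_left
  haveI hVn : V.Normal := inferInstance
  set π := QuotientGroup.mk' V
  haveI : (Q.map π).Normal := Normal.map inferInstance π (QuotientGroup.mk'_surjective V)
  have hlt : Nat.card (Q.map π) < n := by
    rw [← hn]
    have h1 : Nat.card (Q.map π) = V.relIndex Q := by
      rw [← relIndex_bot_left, ← Subgroup.map_bot π, relIndex_map_map, bot_sup_eq,
        QuotientGroup.ker_mk', sup_eq_left.mpr hVQ]
    have h2 : Nat.card V * V.relIndex Q = Nat.card Q := by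
      rw [← relIndex_bot_left V, relIndex_mul_relIndex ⊥ V Q bot_le hVQ, relIndex_bot_left]
    have h3 : 1 < Nat.card V := (one_lt_card_iff_ne_bot V).mpr hV1
    rw [h1]
    have h4 : 0 < V.relIndex Q := Nat.pos_of_ne_zero fun h => by
      rw [h, mul_zero] at h2; exact Nat.card_pos.ne' h2.symm
    calc V.relIndex Q < Nat.card V * V.relIndex Q := lt_mul_of_one_lt_left h4 h3
      _ = _ := h2
  have h1 := ih _ hlt (Q.map π) rfl (hQ.map π) (fun x => by
    obtain ⟨g, rfl⟩ := QuotientGroup.mk_surjective x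
    obtain ⟨k, hk⟩ := hact g
    refine ⟨k, mem_centralizer_iff.mpr ?_⟩
    rintro _ ⟨q, hq, rfl⟩
    show π q * π g ^ p ^ k = π g ^ p ^ k * π q
    rw [← map_pow, ← map_mul, ← map_mul, mem_centralizer_iff.mp hk q hq])
    (normalizerPStable_quotient_central hp2 hst V inf_le_right (hQ.to_le hVQ))
  exact Cfsg.Lib.KInf.normalizerPStable_of_injective
    (QuotientGroup.quotientQuotientEquivQuotient V Q hVQ).symm.toMonoidHom
    (QuotientGroup.quotientQuotientEquivQuotient V Q hVQ).symm.injective h1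

end Cfsg.Lib.CentralStable
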