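import Cfsg.Agent.Fusion.GroupSystem
import Cfsg.Agent.Fusion.StableHeredity
import Cfsg.Agent.Components.ZJ.Stable

/-!
A group that is `p`-stable in the normalizer form has a `p`-stable fusion system.
-/

set_option autoImplicit false

namespace Cfsg.Lib.CentralStable

open Cfsg.Lib.Fusion
open scoped commutatorElement

universe u

variable {p : ℕ} [Fact p.Prime] {Ω : Type u} [Group Ω] [Finite Ω]

omit [Finite Ω] in
/-- If `g` fixes every `q⁻¹ * g q g⁻¹`, then `g` acts quadratically on `Q`. -/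
theorem commutator_eq_bot_of_fixes {Q : Subgroup Ω} {g : Ω} (hg : g ∈ Subgroup.normalizer (Q : Set Ω))
    (h : ∀ q ∈ Q, g * (q⁻¹ * (g * q * g⁻¹)) * g⁻¹ = q⁻¹ * (g * q * g⁻¹)) :
    ⁅⁅Q, Subgroup.zpowers g⁆, Subgroup.zpowers g⁆ = ⊥ := by
  rw [Subgroup.commutator_eq_bot_iff_le_centralizer, Subgroup.commutator_le]
  intro q hq _ hy
  obtain ⟨i, rfl⟩ := Subgroup.mem_zpowers_iff.mp hy
  set d := q⁻¹ * (g * q * g⁻¹) with hd
  have hc : Commute g d := mul_inv_eq_iff_eq_mul.mp (h q hq)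
  have h1 : g * q * g⁻¹ = q * d := by rw [hd]; group
  have hn : ∀ i : ℤ, g ^ i * q * (g ^ i)⁻¹ = q * d ^ i := by
    intro i
    induction i using Int.induction_on with
    | zero => simp
    | succ n ih =>
      calc g ^ ((n : ℤ) + 1) * q * (g ^ ((n : ℤ) + 1))⁻¹
          = g * (g ^ (n : ℤ) * q * (g ^ (n : ℤ))⁻¹) * g⁻¹ := by group
        _ = (g * q * g⁻¹) * (g * d ^ (n : ℤ) * g⁻¹) := by rw [ih]; group
        _ = q * d ^ ((n : ℤ) + 1) := by
          rw [(hc.zpow_right _).eq, h1, mul_inv_cancel_right]; group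
    | pred n ih =>
      have h2 : g⁻¹ * q * g = q * d⁻¹ := by
        calc g⁻¹ * q * g = g⁻¹ * ((g * q * g⁻¹) * d⁻¹) * g := by rw [h1]; group
          _ = q * (g⁻¹ * (d⁻¹ * g)) := by group
          _ = q * d⁻¹ := by rw [← (hc.inv_right).eq]; group
      calc g ^ (-(n : ℤ) - 1) * q * (g ^ (-(n : ℤ) - 1))⁻¹
          = g⁻¹ * (g ^ (-(n : ℤ)) * q * (g ^ (-(n : ℤ)))⁻¹) * g := by group
        _ = (g⁻¹ * q * g) * (g⁻¹ * (d ^ (-(n : ℤ)) * g)) := by rw [ih]; group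
        _ = q * d ^ (-(n : ℤ) - 1) := by
          rw [← (hc.zpow_right _).eq, h2, inv_mul_cancel_left]; group
  refine Subgroup.mem_centralizer_iff.mpr fun z hz => ?_
  obtain ⟨j, rfl⟩ := Subgroup.mem_zpowers_iff.mp hz
  refine Commute.zpow_left ?_ j
  show g * ⁅q, g ^ i⁆ = ⁅q, g ^ i⁆ * g
  have he : ⁅q, g ^ i⁆ = q * (d ^ i)⁻¹ * q⁻¹ := by
    calc ⁅q, g ^ i⁆ = q * (g ^ i * q * (g ^ i)⁻¹)⁻¹ := by rw [commutatorElement_def]; group
      _ = _ := by rw [hn]; group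
  rw [he]
  have hc2 : Commute d (d ^ i) := Commute.self_zpow d i
  calc g * (q * (d ^ i)⁻¹ * q⁻¹) = (g * q * g⁻¹) * (g * (d ^ i)⁻¹) * (q⁻¹) := by group
    _ = q * d * ((d ^ i)⁻¹ * g) * q⁻¹ := by rw [h1, (hc.zpow_right i).inv_right.eq]
    _ = q * (d ^ i)⁻¹ * (d * g * q⁻¹) := by
      rw [show q * d * ((d ^ i)⁻¹ * g) * q⁻¹ = q * (d * (d ^ i)⁻¹) * g * q⁻¹ by group,
        hc2.inv_right.eq]
      group
    _ = q * (d ^ i)⁻¹ * q⁻¹ * g := by rw [hd]; group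

/-- The fusion system of a stable group is stable. -/
theorem fusion_stable_of_normalizerPStable (P : Sylow p Ω) (hG : Cfsg.IsNormalizerPStable p Ω)
    {Q : Subgroup Ω} (hQ : Q ≤ (P : Subgroup Ω)) (χ : MulAut ↥Q)
    (hχ : χ ∈ (Cfsg.groupFusionSystem (P : Subgroup Ω)).autGroup Q)
    (hq : ∀ a : ↥Q, (χ a⁻¹) * a * (χ a⁻¹) * (χ (χ a)) = 1) :
    χ ∈ ((Cfsg.pCore p ↥((Cfsg.groupFusionSystem (P : Subgroup Ω)).autGroup Q)).map
      ((Cfsg.groupFusionSystem (P : Subgroup Ω)).autGroup Q).subtype : Subgroup (MulAut ↥Q)) := by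
  classical
  rw [autGroup_group hQ] at hχ ⊢
  obtain ⟨g, -, eg⟩ := mem_autInducedBy.mp hχ
  have hg := mem_normalizer_of_mem_autInducedBy eg
  set N := Subgroup.normalizer (Q : Set Ω)
  set C := (Subgroup.centralizer (Q : Set Ω)).subgroupOf N
  let θ : ↥N →* ↥(Cfsg.autInducedBy ⊤ Q) :=
    MonoidHom.codRestrict
      { toFun := fun n : ↥N => conjAut Q (n : Ω) n.2
        map_one' := MulEquiv.ext fun q => Subtype.ext (by rw [conjAut_apply]; simp)
        map_mul' := fun a b => MulEquiv.ext fun q => Subtype.ext (by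
          rw [MulAut.mul_apply, conjAut_apply, conjAut_apply, conjAut_apply, Subgroup.coe_mul]
          group) }
      _ fun n => conjAut_mem_autInducedBy n.2 trivial
  have hC : C ≤ θ.ker := fun c hc => Subtype.ext (MulEquiv.ext fun q => Subtype.ext (by
    show ((conjAut Q (c : Ω) _ q : Q) : Ω) = q
    have h : (q : Ω) * (c : Ω) = (c : Ω) * q := Subgroup.mem_centralizer_iff.mp hc q q.2
    rw [conjAut_apply, ← h]
    group))
  have hsurj : Function.Surjective (QuotientGroup.lift C θ hC) := by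
    rintro ⟨α, hα⟩
    obtain ⟨a, -, ea⟩ := mem_autInducedBy.mp hα
    exact ⟨QuotientGroup.mk ⟨a, mem_normalizer_of_mem_autInducedBy ea⟩,
      Subtype.ext (MulEquiv.ext fun q => Subtype.ext ((conjAut_apply _ q).trans (ea q).symm))⟩
  have hquad : ⁅⁅Q, Subgroup.zpowers g⁆, Subgroup.zpowers g⁆ = ⊥ := by
    refine commutator_eq_bot_of_fixes hg fun q hq' => ?_
    have h := congrArg Subtype.val (hq ⟨q, hq'⟩)
    simp only [Subgroup.coe_mul, eg, Subgroup.coe_inv, Subgroup.coe_one] at h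
    calc g * (q⁻¹ * (g * q * g⁻¹)) * g⁻¹ = (q⁻¹ * (g * q * g⁻¹)) *
          (g * q⁻¹ * g⁻¹ * q * (g * q⁻¹ * g⁻¹) * (g * (g * q * g⁻¹) * g⁻¹)) := by group
      _ = _ := by rw [h, mul_one]
  have hmem := hG Q (P.isPGroup'.to_le hQ) g hg hquad
  refine ⟨QuotientGroup.lift C θ hC (QuotientGroup.mk ⟨g, hg⟩),
    Cfsg.Lib.ZJ.map_pCore_le hsurj ⟨_, hmem, rfl⟩, ?_⟩
  exact MulEquiv.ext fun q => Subtype.ext ((conjAut_apply _ q).trans (eg q).symm)

end Cfsg.Lib.CentralStable
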