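import Cfsg.Agent.Fusion.Simple
import Cfsg.Agent.Fusion.GroupSystem

/-!
A simplicity criterion for group fusion systems: `N_G(S)` is generated by elements centralizing
`S`, elements of `S`, and elements lying in some `O^{p'}(N_G(R))`, `R` fully normalized centric.
-/

set_option autoImplicit false

namespace Cfsg.Lib.Fusion

open Cfsg Cfsg.FusionSystem

variable {G : Type*} [Group G] [Finite G] {p : ℕ} [Fact p.Prime]

/-- The elements lying in the subgroup generated by `p`-elements of a suitable local subgroup. -/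
def localResidual (p : ℕ) (S : Subgroup G) : Set G :=
  {g | g ∈ Subgroup.normalizer (S : Set G) ∧ ∃ R : Subgroup G,
    (groupFusionSystem S).IsFullyNormalized R ∧ (groupFusionSystem S).IsCentric R ∧
    g ∈ Subgroup.closure {x : G | x ∈ Subgroup.normalizer (R : Set G) ∧ ∃ k : ℕ, x ^ p ^ k = 1}}

theorem isMap_conj_of_localResidual (S : Sylow p G) {E : FusionSystem (S : Subgroup G)}
    (hEs : E.IsSaturated p) (hinv : E.IsInvariantIn (groupFusionSystem (S : Subgroup G)))
    {g : G} (hg : g ∈ localResidual p (S : Subgroup G)) :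
    IsMap E (S : Subgroup G) (fun x => g * x * g⁻¹) := by
  obtain ⟨hgS, R, hRn, hRc, hgR⟩ := hg
  have hF := saturated_group S
  set F := groupFusionSystem (S : Subgroup G)
  have hfa : F.IsFullyAutomized p R := (fullyNormalized_props S.2 hF hRn).2.1
  have hgen : g ∈ Subgroup.normalizer (R : Set G) ∧ IsMap E R (fun x => g * x * g⁻¹) := by
    clear hgS
    induction hgR using Subgroup.closure_induction with
    | mem x hx =>
      obtain ⟨hxn, k, hk⟩ := hx
      refine ⟨hxn, ?_⟩
      have h1 : conjAut R x hxn ∈ F.autGroup R := by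
        rw [show F.autGroup R = autInducedBy ⊤ R from autGroup_group hRn.1]
        exact conjAut_mem_autInducedBy hxn trivial
      have h2 : ∀ i : ℕ, ∀ y : R, (((conjAut R x hxn) ^ i) y : G) = x ^ i * y * (x ^ i)⁻¹ := by
        intro i
        induction i with
        | zero => intro y; simp
        | succ i ih =>
          intro y
          rw [pow_succ, MulAut.mul_apply, ih, conjAut_apply, pow_succ]
          group
      have h3 : (conjAut R x hxn) ^ p ^ k = 1 := by
        refine MulEquiv.ext fun y => Subtype.ext ?_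
        rw [h2, hk]
        simp
      refine ((isMap_autFun hRn.1).mpr (mem_autGroup_of_isPGroup hinv hfa h1 ⟨k, h3⟩)).congr
        fun y hy => ?_
      rw [autFun_apply_mem _ hy, conjAut_apply]
    | one => exact ⟨Subgroup.one_mem _, (isMap_id hRn.1).congr fun y _ => by simp⟩
    | mul x y _ _ hx hy =>
      refine ⟨Subgroup.mul_mem _ hx.1 hy.1,
        (hy.2.comp hx.2 fun z hz => conj_mem_of_mem_normalizer hy.1 hz).congr fun z _ => ?_⟩
      show _ = x * (y * z * y⁻¹) * x⁻¹
      group
    | inv x _ hx =>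
      refine ⟨Subgroup.inv_mem _ hx.1, ?_⟩
      obtain ⟨d, hd, -, hdl, -⟩ := hx.2.exists_inv
      have hi : R ≤ img R (fun z => x * z * x⁻¹) := fun z hz =>
        hx.2.mem_img.mpr ⟨x⁻¹ * z * x, by
          simpa using conj_mem_of_mem_normalizer (Subgroup.inv_mem _ hx.1) hz, by group⟩
      refine (hd.mono hi).congr fun z hz => ?_
      have h4 := hdl (x⁻¹ * z * x) (by
        simpa using conj_mem_of_mem_normalizer (Subgroup.inv_mem _ hx.1) hz)
      rw [show x * (x⁻¹ * z * x) * x⁻¹ = z by group] at h4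
      rw [h4]
      group
  exact isMap_of_restrict_centric S.2 hF hEs hinv.1
    (isMap_group_iff.mpr ⟨le_rfl, fun x hx => conj_mem_of_mem_normalizer hgS hx, g, fun _ _ => rfl⟩)
    hRc hgen.2

/-- The criterion. -/
theorem isSimple_of_localResidual (S : Sylow p G) (hS1 : (S : Subgroup G) ≠ ⊥)
    (hsc : ∀ T : Subgroup G, (groupFusionSystem (S : Subgroup G)).StronglyClosed T →
      T = ⊥ ∨ T = (S : Subgroup G))
    (hgen : Subgroup.normalizer ((S : Subgroup G) : Set G) ≤ Subgroup.closure
      (localResidual p (S : Subgroup G) ∪ ((S : Subgroup G) : Set G) ∪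
        Subgroup.centralizer ((S : Subgroup G) : Set G))) :
    (groupFusionSystem (S : Subgroup G)).IsSimple p := by
  have hF := saturated_group S
  set F := groupFusionSystem (S : Subgroup G)
  refine ⟨hF, hS1, fun T E hE => ?_⟩
  rcases hsc T hE.1.2.2.2.1 with hT | hT
  · exact Or.inl hT
  subst hT
  refine Or.inr ⟨rfl, ?_⟩
  have hEs := hE.1.1
  have hinv := hE.1.2.2
  have hsub := hinv.1
  let K : Subgroup G :=
    { carrier := {g | g ∈ Subgroup.normalizer ((S : Subgroup G) : Set G) ∧
        IsMap E (S : Subgroup G) (fun x => g * x * g⁻¹)}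
      one_mem' := ⟨Subgroup.one_mem _, (isMap_id le_rfl).congr fun y _ => by simp⟩
      mul_mem' := fun {a b} ha hb => ⟨Subgroup.mul_mem _ ha.1 hb.1,
        (hb.2.comp ha.2 fun z hz => conj_mem_of_mem_normalizer hb.1 hz).congr fun z _ => by
          show _ = a * (b * z * b⁻¹) * a⁻¹
          group⟩
      inv_mem' := fun {a} ha => ⟨Subgroup.inv_mem _ ha.1, by
        obtain ⟨d, hd, -, hdl, -⟩ := ha.2.exists_inv
        have hi : (S : Subgroup G) ≤ img (S : Subgroup G) (fun z => a * z * a⁻¹) := fun z hz =>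
          ha.2.mem_img.mpr ⟨a⁻¹ * z * a, by
            simpa using conj_mem_of_mem_normalizer (Subgroup.inv_mem _ ha.1) hz, by group⟩
        refine (hd.mono hi).congr fun z hz => ?_
        have h4 := hdl (a⁻¹ * z * a) (by
          simpa using conj_mem_of_mem_normalizer (Subgroup.inv_mem _ ha.1) hz)
        rw [show a * (a⁻¹ * z * a) * a⁻¹ = z by group] at h4
        rw [h4]
        group⟩ }
  have hK : Subgroup.normalizer ((S : Subgroup G) : Set G) ≤ K := by
    refine hgen.trans ((Subgroup.closure_le _).mpr ?_)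
    rintro g ((hg | hg) | hg)
    · exact ⟨hg.1, isMap_conj_of_localResidual S hEs hinv hg⟩
    · exact ⟨Subgroup.le_normalizer hg, isMap_conj le_rfl hg⟩
    · have hgz : ∀ x ∈ (S : Subgroup G), g * x * g⁻¹ = x := fun x hx => by
        rw [← Subgroup.mem_centralizer_iff.mp hg x hx, mul_inv_cancel_right]
      refine ⟨Subgroup.mem_normalizer_iff.mpr fun x => ⟨fun hx => by rwa [hgz x hx], fun hx => ?_⟩,
        (isMap_id le_rfl).congr fun y hy => hgz y hy⟩
      have h2 := hgz _ hx
      rwa [show x = g * x * g⁻¹ from mul_right_cancel (b := g⁻¹) (by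
        rw [← mul_left_cancel_iff (a := g)]; simpa [mul_assoc] using h2.symm)]
  intro P
  refine hom_eq_iff_isMap.mpr fun f => ⟨fun h => isMap_of_le hsub h, fun h => ?_⟩
  obtain ⟨α, hα, f₀, hf₀, e⟩ := invariant_frattini hinv h
  rw [show F.autGroup (S : Subgroup G) = autInducedBy ⊤ (S : Subgroup G) from autGroup_group le_rfl] at hα
  obtain ⟨g, -, hge⟩ := mem_autInducedBy.mp hα
  have hgN : g ∈ Subgroup.normalizer ((S : Subgroup G) : Set G) :=
    mem_normalizer_of_maps_finite fun x hx => by rw [← hge ⟨x, hx⟩]; exact SetLike.coe_mem _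
  refine (hf₀.comp (hK hgN).2 fun x hx => hf₀.mem_S hx).congr fun x hx => ?_
  rw [e x hx, autFun_apply_mem _ (hf₀.mem_S hx)]
  exact hge ⟨f₀ x, hf₀.mem_S hx⟩

/-- A centric subgroup normal in a Sylow subgroup. -/
theorem fullyNormalized_centric_of_normal (S : Sylow p G) {R : Subgroup G} (hR : R ≤ (S : Subgroup G))
    (hn : (S : Subgroup G) ≤ Subgroup.normalizer (R : Set G))
    (hc : (S : Subgroup G) ⊓ Subgroup.centralizer (R : Set G) ≤ R) :
    (groupFusionSystem (S : Subgroup G)).IsFullyNormalized R ∧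
      (groupFusionSystem (S : Subgroup G)).IsCentric R := by
  have hfn : (groupFusionSystem (S : Subgroup G)).IsFullyNormalized R := ⟨hR, fun U hU => by
    rw [show normalizerIn (S : Subgroup G) R = (S : Subgroup G) from inf_eq_left.mpr hn]
    exact Subgroup.card_le_of_le inf_le_left⟩
  exact ⟨hfn, centric_of_fullyCentralized S.2 (saturated_group S)
    (fullyNormalized_props S.2 (saturated_group S) hfn).1 hc⟩

/-- The elements lying in the `p`-residual of the normalizer of a centric normal subgroup of `S`. -/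
def normalResidual (p : ℕ) (S : Subgroup G) : Set G :=
  {g | g ∈ Subgroup.normalizer (S : Set G) ∧ ∃ R : Subgroup G, R ≤ S ∧
    S ≤ Subgroup.normalizer (R : Set G) ∧ S ⊓ Subgroup.centralizer (R : Set G) ≤ R ∧
    g ∈ Subgroup.closure {x : G | x ∈ Subgroup.normalizer (R : Set G) ∧ ∃ k : ℕ, x ^ p ^ k = 1}}

omit [Finite G] [Fact p.Prime] in
theorem apply_mem_normalizer (e : G ≃* G) {H : Subgroup G} {x : G}
    (hx : x ∈ Subgroup.normalizer (H : Set G)) :
    e x ∈ Subgroup.normalizer ((H.map e.toMonoidHom : Subgroup G) : Set G) :=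
  Subgroup.le_normalizer_map e.toMonoidHom ⟨x, hx, rfl⟩

omit [Finite G] [Fact p.Prime] in
theorem apply_normalResidual (e : G ≃* G) {S : Subgroup G} {g : G} (hg : g ∈ normalResidual p S) :
    e g ∈ normalResidual p (S.map e.toMonoidHom) := by
  obtain ⟨hgS, R, hR, hn, hc, hgR⟩ := hg
  refine ⟨apply_mem_normalizer e hgS, R.map e.toMonoidHom, Subgroup.map_mono hR, ?_, ?_, ?_⟩
  · rintro _ ⟨x, hx, rfl⟩
    exact apply_mem_normalizer e (hn hx)
  · rintro _ ⟨⟨x, hx, rfl⟩, hxc⟩
    refine ⟨x, hc ⟨hx, Subgroup.mem_centralizer_iff.mpr fun r hr => e.injective ?_⟩, rfl⟩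
    have := Subgroup.mem_centralizer_iff.mp hxc (e r) ⟨r, hr, rfl⟩
    simpa using this
  · have h1 : e g ∈ (Subgroup.closure {x : G | x ∈ Subgroup.normalizer (R : Set G) ∧
        ∃ k : ℕ, x ^ p ^ k = 1}).map e.toMonoidHom := ⟨g, hgR, rfl⟩
    rw [MonoidHom.map_closure] at h1
    refine Subgroup.closure_mono ?_ h1
    rintro _ ⟨x, ⟨hx, k, hk⟩, rfl⟩
    exact ⟨apply_mem_normalizer e hx, k, by
      show (e x) ^ p ^ k = 1
      rw [← map_pow, hk, map_one]⟩

/-- The criterion checked in a convenient Sylow subgroup. -/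
theorem isSimple_of_normalResidual (S₀ S : Sylow p G) (hS1 : (S₀ : Subgroup G) ≠ ⊥)
    (hsc : ∀ T : Subgroup G, (groupFusionSystem (S₀ : Subgroup G)).StronglyClosed T →
      T = ⊥ ∨ T = (S₀ : Subgroup G))
    (hgen : Subgroup.normalizer ((S₀ : Subgroup G) : Set G) ≤ Subgroup.closure
      (normalResidual p (S₀ : Subgroup G) ∪ ((S₀ : Subgroup G) : Set G) ∪
        Subgroup.centralizer ((S₀ : Subgroup G) : Set G))) :
    (groupFusionSystem (S : Subgroup G)).IsSimple p := by
  obtain ⟨g, hg⟩ := MulAction.exists_smul_eq G S₀ S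
  set e : G ≃* G := MulAut.conj g
  have hmap : (S₀ : Subgroup G).map e.toMonoidHom = (S : Subgroup G) := by rw [← hg]; rfl
  refine isSimple_of_localResidual S (fun h => hS1 ?_) (fun T hT => ?_) ?_
  · rw [← hmap, Subgroup.map_eq_bot_iff_of_injective _ e.injective] at h
    exact h
  · have hT0 : (groupFusionSystem (S₀ : Subgroup G)).StronglyClosed (T.comap e.toMonoidHom) := by
      have hle : T.comap e.toMonoidHom ≤ (S₀ : Subgroup G) := fun x hx => by
        obtain ⟨y, hy, he⟩ := hmap.ge (hT.1 hx)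
        exact e.injective he ▸ hy
      refine stronglyClosed_of_apply hle fun P f hf x hx hxT => ?_
      obtain ⟨hP, hfS, a, ha⟩ := isMap_group_iff.mp hf
      have hm : IsMap (groupFusionSystem (S : Subgroup G)) (P.map e.toMonoidHom)
          (fun y => e a * y * (e a)⁻¹) := isMap_group_iff.mpr ⟨hmap ▸ Subgroup.map_mono hP, by
        rintro _ ⟨y, hy, rfl⟩
        show e a * e y * (e a)⁻¹ ∈ _
        rw [← map_inv, ← map_mul, ← map_mul, ← ha y hy]
        exact hmap ▸ ⟨f y, hfS y hy, rfl⟩, e a, fun _ _ => rfl⟩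
      have h1 := stronglyClosed_apply hT hm ⟨x, hx, rfl⟩ (Subgroup.mem_comap.mp hxT)
      show e (f x) ∈ T
      rw [ha x hx, map_mul, map_mul, map_inv]
      exact h1
    have hT' : (T.comap e.toMonoidHom).map e.toMonoidHom = T :=
      Subgroup.map_comap_eq_self_of_surjective e.surjective T
    rcases hsc _ hT0 with h | h
    · exact Or.inl (by rw [← hT', h, Subgroup.map_bot])
    · exact Or.inr (by rw [← hT', h, hmap])
  · intro x hx
    have h0 : e.symm x ∈ Subgroup.normalizer ((S₀ : Subgroup G) : Set G) := by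
      have h1 := apply_mem_normalizer e.symm hx
      rwa [← hmap, Subgroup.map_map,
        show e.symm.toMonoidHom.comp e.toMonoidHom = MonoidHom.id G from MonoidHom.ext e.symm_apply_apply,
        Subgroup.map_id] at h1
    have h2 : x ∈ (Subgroup.closure (normalResidual p (S₀ : Subgroup G) ∪ ((S₀ : Subgroup G) : Set G) ∪
        Subgroup.centralizer ((S₀ : Subgroup G) : Set G))).map e.toMonoidHom :=
      ⟨e.symm x, hgen h0, e.apply_symm_apply x⟩
    rw [MonoidHom.map_closure] at h2
    refine Subgroup.closure_mono ?_ h2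
    rintro _ ⟨y, ((hy | hy) | hy), rfl⟩
    · left; left
      obtain ⟨hyS, R, hR, hn, hc, hyR⟩ := hmap ▸ apply_normalResidual e hy
      obtain ⟨h3, h4⟩ := fullyNormalized_centric_of_normal S hR hn hc
      exact ⟨hyS, R, h3, h4, hyR⟩
    · left; right
      exact hmap ▸ ⟨y, hy, rfl⟩
    · right
      refine Subgroup.mem_centralizer_iff.mpr fun z hz => ?_
      obtain ⟨w, hw, rfl⟩ := hmap.ge hz
      show e w * e y = e y * e w
      rw [← map_mul, ← map_mul, Subgroup.mem_centralizer_iff.mp hy w hw]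

end Cfsg.Lib.Fusion
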