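import Cfsg.Agent.Fusion.Saturation

/-!
Alperin's theorem in the form of an induction principle, and the standard facts at a site of the
induction (a fully normalized centric proper subgroup all of whose extendable maps are good).
-/

set_option autoImplicit false

namespace Cfsg.Lib.Fusion

open Cfsg Cfsg.FusionSystem

variable {Ω : Type*} [Group Ω] {S : Subgroup Ω} {F : FusionSystem S} {p : ℕ}

/-- A property of maps closed under the operations of a fusion system. -/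
structure IsMapClass (F : FusionSystem S) (Φ : Subgroup Ω → (Ω → Ω) → Prop) : Prop where
  conj : ∀ (P : Subgroup Ω) (g : Ω), P ≤ S → g ∈ S → Φ P (fun x => g * x * g⁻¹)
  congr : ∀ (P : Subgroup Ω) (f f' : Ω → Ω), IsMap F P f → (∀ x ∈ P, f' x = f x) →
    Φ P f → Φ P f'
  mono : ∀ (P R : Subgroup Ω) (f : Ω → Ω), IsMap F P f → R ≤ P → Φ P f → Φ R f
  comp : ∀ (P Q : Subgroup Ω) (f g : Ω → Ω), IsMap F P f → IsMap F Q g → (∀ x ∈ P, f x ∈ Q) →
    Φ P f → Φ Q g → Φ P (g ∘ f)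
  inv : ∀ (P : Subgroup Ω) (f g : Ω → Ω), IsMap F P f → IsMap F (img P f) g →
    (∀ x ∈ P, g (f x) = x) → Φ P f → Φ (img P f) g

/-- The class of maps belonging to another system on the same group. -/
theorem isMapClass_isMap (F E : FusionSystem S) : IsMapClass F (IsMap E) where
  conj _ _ hP hg := isMap_conj hP hg
  congr _ _ _ _ e h := h.congr e
  mono _ _ _ _ hR h := h.mono hR
  comp _ _ _ _ _ _ hfQ hf hg := hf.comp hg hfQ
  inv := by
    intro P f g _ hg hl hf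
    obtain ⟨k, hk, -, hkl, -⟩ := hf.exists_inv
    refine hk.congr fun y hy => ?_
    obtain ⟨x, hx, rfl⟩ := hf.mem_img.mp hy
    rw [hl x hx, hkl x hx]

theorem centric_of_fullyCentralized [Finite S] [Fact p.Prime] (hS : IsPGroup p S)
    (hF : F.IsSaturated p) {Q : Subgroup Ω} (hQ : F.IsFullyCentralized Q)
    (hC : centralizerIn S Q ≤ Q) : F.IsCentric Q := by
  refine ⟨hQ.1, fun R hR => ?_⟩
  obtain ⟨f, hf, hi⟩ := isConj_iff.mp (isConj_symm hR)
  obtain ⟨f', hf', hag⟩ := receptive_extend (receptive_of_fullyCentralized hS hF hQ) hf hi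
  intro c hc
  have hc' := centralizerIn_le_extSub R f hc
  have hi' : img R f' = Q := (img_congr hag).trans hi
  have h1 : f' c ∈ Q := hC (hi' ▸ hf'.mem_centralizerIn (le_extSub hf) hc' hc)
  obtain ⟨x, hx, hxc⟩ := hf.mem_img.mp (hi.symm ▸ h1)
  rw [← hag x hx] at hxc
  exact hf'.injOn (le_extSub hf hx) hc' hxc ▸ hx

/-- Alperin's fusion theorem as an induction principle. -/
theorem alperin_induction [Finite S] [Fact p.Prime] (hS : IsPGroup p S) (hF : F.IsSaturated p)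
    {Φ : Subgroup Ω → (Ω → Ω) → Prop} (hΦ : IsMapClass F Φ)
    (htop : ∀ f, IsMap F S f → Φ S f)
    (hsite : ∀ Q : Subgroup Ω, Q < S → F.IsFullyNormalized Q → F.IsCentric Q →
      (∀ (T : Subgroup Ω) (f : Ω → Ω), Nat.card Q < Nat.card T → IsMap F T f → Φ T f) →
      ∀ α ∈ F.autGroup Q, Φ Q (autFun α))
    {P : Subgroup Ω} {f : Ω → Ω} (hf : IsMap F P f) : Φ P f := by
  suffices ∀ (n : ℕ) (P : Subgroup Ω) (f : Ω → Ω), IsMap F P f →
      Nat.card S - Nat.card P = n → Φ P f from this _ P f hf rfl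
  intro n
  induction n using Nat.strong_induction_on with
  | _ n ih =>
  intro P f hf hn
  rcases hf.le.eq_or_lt with rfl | hlt
  · exact htop f hf
  have big : ∀ (T : Subgroup Ω) (g : Ω → Ω), Nat.card P < Nat.card T → IsMap F T g → Φ T g :=
    fun T g hPT hg => ih _ (by
      have := Subgroup.card_le_of_le hg.le
      omega) T g hg rfl
  have grow : ∀ R : Subgroup Ω, R ≤ S → Nat.card R = Nat.card P →
      Nat.card P < Nat.card (normalizerIn S R) := by
    intro R hR hcard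
    have hRS : R < S := by
      refine lt_of_le_of_ne hR fun h => hlt.ne ?_
      subst h
      exact Subgroup.eq_of_le_of_card_ge hlt.le hcard.le
    have : Finite (normalizerIn S R) := finite_of_le inf_le_left
    rw [← hcard]
    exact lt_of_le_of_ne (Subgroup.card_le_of_le (le_normalizerIn hR)) fun h =>
      (lt_normalizerIn hS hRS).ne (Subgroup.eq_of_le_of_card_ge (le_normalizerIn hR) h.ge)
  obtain ⟨Q, hPQ, hQ⟩ := exists_fullyNormalized (F := F) hf.le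
  obtain ⟨hfc, hfa, hrec⟩ := fullyNormalized_props hS hF hQ
  have hcQ : Nat.card Q = Nat.card P := isConj_card hPQ
  have hQS : Q < S := by
    refine lt_of_le_of_ne hQ.1 fun h => hlt.ne ?_
    subst h
    exact Subgroup.eq_of_le_of_card_ge hlt.le hcQ.le
  have haut : ∀ α ∈ F.autGroup Q, Φ Q (autFun α) := by
    by_cases hC : centralizerIn S Q ≤ Q
    · exact hsite Q hQS hQ (centric_of_fullyCentralized hS hF hfc hC)
        fun T g hT hg => big T g (hcQ ▸ hT) hg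
    intro α hα
    obtain ⟨c, hc, hcQn⟩ := SetLike.not_le_iff_exists.mp hC
    have hm : IsMap F Q (autFun α) := (isMap_autFun hQ.1).mpr hα
    obtain ⟨f', hf', hag⟩ := receptive_extend hrec hm (img_autFun α)
    have hlt' : Q < extSub S Q (autFun α) :=
      lt_of_le_of_ne (le_extSub hm) fun h => hcQn (h ▸ centralizerIn_le_extSub Q _ hc)
    have := finite_of_le hf'.le
    have hcard : Nat.card P < Nat.card (extSub S Q (autFun α)) := by
      rw [← hcQ]
      exact lt_of_le_of_ne (Subgroup.card_le_of_le hlt'.le) fun h =>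
        hlt'.ne (Subgroup.eq_of_le_of_card_ge hlt'.le h.ge)
    exact hΦ.congr Q f' _ (hf'.mono hlt'.le) (fun x hx => (hag x hx).symm)
      (hΦ.mono _ _ _ hf' hlt'.le (big _ _ hcard hf'))
  -- maps from `R` to `Q` which are good
  have good : ∀ R : Subgroup Ω, F.IsConj P R →
      ∃ h, IsMap F R h ∧ img R h = Q ∧ Φ R h := by
    intro R hPR
    obtain ⟨h₀, hh₀, hi₀⟩ := isConj_iff.mp (isConj_trans (isConj_symm hPR) hPQ)
    obtain ⟨χ, -, h, hh, hi, -, -⟩ := exists_map_normalizer hS hfa hrec hh₀ hi₀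
    exact ⟨h, hh.mono (le_normalizerIn hh₀.le), hi, hΦ.mono _ _ _ hh (le_normalizerIn hh₀.le)
      (big _ _ (grow R hh₀.le (isConj_card hPR)) hh)⟩
  obtain ⟨a, ha, hai, haP⟩ := good P (isConj_refl hf.le)
  obtain ⟨b, hb, hbi, hbP⟩ := good (img P f) (isConj_iff.mpr ⟨f, hf, rfl⟩)
  obtain ⟨a', ha', ha'i, hal, har⟩ := ha.exists_inv
  obtain ⟨b', hb', hb'i, hbl, hbr⟩ := hb.exists_inv
  have ha'P := hΦ.inv P a a' ha ha' hal haP
  have hb'P := hΦ.inv _ b b' hb hb' hbl hbP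
  rw [hai] at ha' ha'i har ha'P
  rw [hbi] at hb' hb'i hbr hb'P
  have h1 : ∀ x ∈ Q, a' x ∈ P := fun x hx => ha'i ▸ IsMap.apply_mem_img hx
  have hfa' := ha'.comp hf h1
  have h2 : ∀ x ∈ Q, (f ∘ a') x ∈ img P f := fun x hx => IsMap.apply_mem_img (h1 x hx)
  have hmid := hfa'.comp hb h2
  have hmidi : img Q (b ∘ f ∘ a') = Q := by
    subst ha'i
    rw [img_comp hfa' (hb.mono (IsMap.img_le_iff.mpr h2)), img_comp ha' hf, hbi]
  obtain ⟨α, hα, hαe⟩ := hmid.exists_aut hmidi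
  have haQ : ∀ x ∈ P, a x ∈ Q := fun x hx => hai ▸ IsMap.apply_mem_img hx
  have hm : IsMap F Q (autFun α) := (isMap_autFun hQ.1).mpr hα
  have h3 : ∀ x ∈ P, (autFun α ∘ a) x ∈ Q := fun x hx => autFun_mem α (haQ x hx)
  refine hΦ.congr P _ f ((ha.comp hm haQ).comp hb' h3) (fun x hx => ?_)
    (hΦ.comp P Q _ b' (ha.comp hm haQ) hb' h3
      (hΦ.comp P Q a _ ha hm haQ haP (haut α hα)) hb'P)
  show f x = b' (autFun α (a x))
  rw [hαe _ (haQ x hx)]
  show f x = b' (b (f (a' (a x))))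
  rw [hal x hx, hbl _ (IsMap.apply_mem_img hx)]

/-! ### Sites -/

/-- The good automorphisms at a subgroup. -/
def goodAut (F : FusionSystem S) (Φ : Subgroup Ω → (Ω → Ω) → Prop) (hΦ : IsMapClass F Φ)
    (Q : Subgroup Ω) (hQ : Q ≤ S) : Subgroup (MulAut Q) where
  carrier := {α | α ∈ F.autGroup Q ∧ Φ Q (autFun α)}
  one_mem' := ⟨Subgroup.one_mem _, hΦ.congr Q _ _ (isMap_conj hQ S.one_mem)
    (fun x hx => by rw [autFun_apply_mem _ hx]; simp) (hΦ.conj Q 1 hQ S.one_mem)⟩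
  mul_mem' := by
    rintro α β ⟨hα, hα'⟩ ⟨hβ, hβ'⟩
    refine ⟨Subgroup.mul_mem _ hα hβ, ?_⟩
    have ha : IsMap F Q (autFun α) := (isMap_autFun hQ).mpr hα
    have hb : IsMap F Q (autFun β) := (isMap_autFun hQ).mpr hβ
    exact hΦ.congr Q _ _ (hb.comp ha fun x hx => autFun_mem β hx)
      (fun x hx => autFun_mul α β hx) (hΦ.comp Q Q _ _ hb ha (fun x hx => autFun_mem β hx) hβ' hα')
  inv_mem' := by
    rintro α ⟨hα, hα'⟩
    refine ⟨Subgroup.inv_mem _ hα, ?_⟩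
    have hb : IsMap F Q (autFun α⁻¹) := (isMap_autFun hQ).mpr (Subgroup.inv_mem _ hα)
    have hl : ∀ x ∈ Q, autFun α⁻¹ (autFun α x) = x := fun x hx => by
      have := autFun_inv_apply α⁻¹ hx
      rwa [inv_inv] at this
    have key : ∀ g : Ω → Ω, IsMap F Q g → (∀ x ∈ Q, g (autFun α x) = x) → Φ Q g := by
      intro g hg hgl
      have h1 := hΦ.inv Q (autFun α) g ((isMap_autFun hQ).mpr hα)
      rw [img_autFun α] at h1
      exact h1 hg hgl hα'
    exact key _ hb hl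

theorem mem_goodAut {Φ : Subgroup Ω → (Ω → Ω) → Prop} {hΦ : IsMapClass F Φ} {Q : Subgroup Ω}
    {hQ : Q ≤ S} {α : MulAut Q} :
    α ∈ goodAut F Φ hΦ Q hQ ↔ α ∈ F.autGroup Q ∧ Φ Q (autFun α) := Iff.rfl

theorem inn_le_autInducedBy {Q : Subgroup Ω} (hQ : Q ≤ S) : Inn Q ≤ autInducedBy S Q := by
  rintro _ ⟨q, rfl⟩
  exact mem_autInducedBy.mpr ⟨q, hQ q.2, fun x => by simp [MulAut.conj_apply]⟩

theorem mem_of_inn {Q : Subgroup Ω} (hC : centralizerIn S Q ≤ Q) {g : Ω} (hg : g ∈ S)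
    (hn : g ∈ Subgroup.normalizer (Q : Set Ω)) (h : conjAut Q g hn ∈ Inn Q) (hQ : Q ≤ S) :
    g ∈ Q := by
  obtain ⟨q, hq⟩ := h
  have : (q : Ω)⁻¹ * g ∈ centralizerIn S Q := mem_centralizerIn.mpr
    ⟨S.mul_mem (S.inv_mem (hQ q.2)) hg, fun x hx => by
      have h1 : (q : Ω) * x * (q : Ω)⁻¹ = g * x * g⁻¹ :=
        congrArg (fun α : MulAut Q => ((α ⟨x, hx⟩ : Q) : Ω)) hq
      calc (q : Ω)⁻¹ * g * x * ((q : Ω)⁻¹ * g)⁻¹ = (q : Ω)⁻¹ * (g * x * g⁻¹) * q := by group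
        _ = x := by rw [← h1]; group⟩
  simpa using Q.mul_mem q.2 (hC this)

/-- At a site, an automorphism carrying a non-inner induced automorphism to an induced one is
good. -/
theorem good_of_conj [Finite S] [Fact p.Prime] {Φ : Subgroup Ω → (Ω → Ω) → Prop}
    (hΦ : IsMapClass F Φ) {Q : Subgroup Ω} (hQ : Q ≤ S) (hrec : F.IsReceptive Q)
    (hIH : ∀ (T : Subgroup Ω) (f : Ω → Ω), Nat.card Q < Nat.card T → IsMap F T f → Φ T f)
    {α : MulAut Q} (hα : α ∈ F.autGroup Q) {β : MulAut Q} (hβ : β ∈ autInducedBy S Q)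
    (hβI : β ∉ Inn Q) (hc : α * β * α⁻¹ ∈ autInducedBy S Q) :
    α ∈ goodAut F Φ hΦ Q hQ := by
  obtain ⟨g, hg, eg⟩ := mem_autInducedBy.mp hβ
  obtain ⟨h, hh, eh⟩ := mem_autInducedBy.mp hc
  have hgn := mem_normalizer_of_mem_autInducedBy eg
  have hgQ : g ∉ Q := fun hgQ => hβI ⟨⟨g, hgQ⟩, MulEquiv.ext fun x => Subtype.ext (by
    rw [eg x]; rfl)⟩
  have hm : IsMap F Q (autFun α) := (isMap_autFun hQ).mpr hα
  have hgext : g ∈ extSub S Q (autFun α) := by
    refine ⟨hg, hgn, h, hh, fun x hx => ?_⟩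
    rw [show g * x * g⁻¹ = ((β ⟨x, hx⟩ : Q) : Ω) from (eg ⟨x, hx⟩).symm, autFun_apply,
      autFun_apply_mem α hx, ← eh]
    simp
  obtain ⟨f, hf, hag⟩ := receptive_extend hrec hm (img_autFun α)
  have hlt : Q < extSub S Q (autFun α) :=
    lt_of_le_of_ne (le_extSub hm) fun h => hgQ (h ▸ hgext)
  have := finite_of_le hf.le
  have hcard : Nat.card Q < Nat.card (extSub S Q (autFun α)) :=
    lt_of_le_of_ne (Subgroup.card_le_of_le hlt.le) fun h =>
      hlt.ne (Subgroup.eq_of_le_of_card_ge hlt.le h.ge)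
  exact ⟨hα, hΦ.congr Q f _ (hf.mono hlt.le) (fun x hx => (hag x hx).symm)
    (hΦ.mono _ _ _ hf hlt.le (hIH _ _ hcard hf))⟩

theorem autInducedBy_le_good {Φ : Subgroup Ω → (Ω → Ω) → Prop} (hΦ : IsMapClass F Φ)
    {Q : Subgroup Ω} (hQ : Q ≤ S) : autInducedBy S Q ≤ goodAut F Φ hΦ Q hQ := by
  intro α hα
  refine ⟨autInducedBy_le hQ hα, ?_⟩
  obtain ⟨g, hg, eg⟩ := mem_autInducedBy.mp hα
  exact hΦ.congr Q _ _ (isMap_conj hQ hg)
    (fun x hx => by rw [autFun_apply_mem α hx, eg]) (hΦ.conj Q g hQ hg)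

/-- If some non-inner `p`-subgroup of the automizer is normalized by every automorphism then all
automorphisms at the site are good. -/
theorem good_of_normal [Finite S] [Fact p.Prime] (hS : IsPGroup p S) (hF : F.IsSaturated p)
    {Φ : Subgroup Ω → (Ω → Ω) → Prop} (hΦ : IsMapClass F Φ) {Q : Subgroup Ω}
    (hQ : F.IsFullyNormalized Q)
    (hIH : ∀ (T : Subgroup Ω) (f : Ω → Ω), Nat.card Q < Nat.card T → IsMap F T f → Φ T f)
    {K : Subgroup (MulAut Q)} (hKX : K ≤ F.autGroup Q) (hK : IsPGroup p K) (hKI : ¬ K ≤ Inn Q)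
    (hKn : ∀ α ∈ F.autGroup Q, ∀ β ∈ K, α * β * α⁻¹ ∈ K) :
    ∀ α ∈ F.autGroup Q, α ∈ goodAut F Φ hΦ Q hQ.1 := by
  obtain ⟨-, hfa, hrec⟩ := fullyNormalized_props hS hF hQ
  obtain ⟨χ, hχ, hχK⟩ := exists_conj_into_autS hfa hK hKX
  have hKS : K ≤ autInducedBy S Q := by
    intro β hβ
    have := hχK _ (hKn χ⁻¹ (Subgroup.inv_mem _ hχ) β hβ)
    simpa [mul_assoc] using this
  obtain ⟨β, hβ, hβI⟩ := SetLike.not_le_iff_exists.mp hKI
  exact fun α hα => good_of_conj (p := p) hΦ hQ.1 hrec hIH hα (hKS hβ) hβI (hKS (hKn α hα β hβ))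

end Cfsg.Lib.Fusion
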