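import Cfsg.Agent.Fusion.Constrained

/-!
The normalizer system of a subgroup, and its model when the subgroup is fully normalized and
centric.
-/

set_option autoImplicit false

namespace Cfsg.Lib.Fusion

open Cfsg Cfsg.FusionSystem

variable {Ω : Type*} [Group Ω] {S : Subgroup Ω} {F : FusionSystem S} {p : ℕ}

theorem mem_normalizerHom_iff {Q P : Subgroup Ω} {φ : P →* Ω} :
    φ ∈ F.normalizerHom Q P ↔ P ≤ normalizerIn S Q ∧ (∀ x : P, φ x ∈ normalizerIn S Q) ∧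
      φ ∈ F.Hom P ∧ ExtendsWith F Q P (toFun' φ) := by
  constructor
  · rintro ⟨hφ, hP, hv, ψ, hψ, hag, hQψ⟩
    refine ⟨hP, hv, hφ, toFun' ψ, isMap_of_mem hψ, fun x hx => ?_, ?_⟩
    · rw [toFun'_apply_mem ψ (Subgroup.mem_sup_left hx), toFun'_apply_mem φ hx]
      exact hag ⟨x, hx⟩
    · apply SetLike.coe_injective
      rw [((isMap_of_mem hψ).mono le_sup_right).coe_img]
      conv_rhs => rw [← hQψ]
      ext y
      constructor
      · rintro ⟨q, hq, rfl⟩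
        exact ⟨⟨q, Subgroup.mem_sup_right hq⟩, hq, (toFun'_apply ψ ⟨q, _⟩).symm⟩
      · rintro ⟨q, hq, rfl⟩
        exact ⟨q, hq, toFun'_apply ψ q⟩
  · rintro ⟨hP, hv, hφ, k, hk, hag, hki⟩
    obtain ⟨ψ, hψ, e⟩ := hk
    refine ⟨hφ, hP, hv, ψ, hψ, fun x => ?_, ?_⟩
    · rw [e]
      exact (hag x x.2).trans (toFun'_apply φ x)
    · conv_rhs => rw [← hki]
      ext y
      rw [(IsMap.mono ⟨ψ, hψ, e⟩ le_sup_right).mem_img]
      constructor
      · rintro ⟨x, hx, rfl⟩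
        exact ⟨x, hx, (e x).symm⟩
      · rintro ⟨x, hx, rfl⟩
        exact ⟨⟨x, Subgroup.mem_sup_right hx⟩, hx, e _⟩

theorem ExtendsWith.congr {A P : Subgroup Ω} {f f' : Ω → Ω} (e : ∀ x ∈ P, f' x = f x)
    (h : ExtendsWith F A P f) : ExtendsWith F A P f' :=
  let ⟨k, hk, hkf, hki⟩ := h
  ⟨k, hk, fun x hx => (hkf x hx).trans (e x hx).symm, hki⟩

theorem extendsWith_conj {A P : Subgroup Ω} {g : Ω} (hPA : P ⊔ A ≤ S) (hg : g ∈ normalizerIn S A) :
    ExtendsWith F A P (fun x => g * x * g⁻¹) :=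
  ⟨fun x => g * x * g⁻¹, isMap_conj hPA hg.1, fun _ _ => rfl,
    (img_conj A g).trans (Subgroup.map_conj_eq_of_mem_normalizer hg.2)⟩
where
  Subgroup.map_conj_eq_of_mem_normalizer {A : Subgroup Ω} {g : Ω}
      (hg : g ∈ Subgroup.normalizer (A : Set Ω)) : A.map (MulAut.conj g).toMonoidHom = A := by
    ext x
    rw [Subgroup.mem_normalizer_iff] at hg
    constructor
    · rintro ⟨y, hy, rfl⟩
      exact (hg y).mp hy
    · intro hx
      refine ⟨g⁻¹ * x * g, (hg _).mpr ?_, ?_⟩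
      · simpa [mul_assoc] using hx
      · simp [mul_assoc]

/-- `N_F(Q)`. -/
def normalizerSystem (F : FusionSystem S) {Q : Subgroup Ω} (hQ : Q ≤ S) :
    FusionSystem (normalizerIn S Q) where
  Hom P := F.normalizerHom Q P
  le_of_mem h := ⟨h.2.1, h.2.2.1⟩
  injective_of_mem h := F.injective_of_mem h.1
  conj_mem := by
    intro P g hP hg
    refine mem_normalizerHom_iff.mpr ⟨hP, fun x => ?_, F.conj_mem (hP.trans inf_le_left) hg.1, ?_⟩
    · exact (normalizerIn S Q).mul_mem ((normalizerIn S Q).mul_mem hg (hP x.2))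
        ((normalizerIn S Q).inv_mem hg)
    · refine (extendsWith_conj (sup_le (hP.trans inf_le_left) hQ) hg).congr fun x hx => ?_
      rw [toFun'_apply_mem _ hx]
      rfl
  comp_mem := by
    intro P R φ ψ hφ hψ h
    obtain ⟨hP, hv, hφm, he⟩ := mem_normalizerHom_iff.mp hφ
    obtain ⟨-, hv', hψm, he'⟩ := mem_normalizerHom_iff.mp hψ
    refine mem_normalizerHom_iff.mpr ⟨hP, fun x => hv' _, F.comp_mem hφm hψm h, ?_⟩
    refine (he.comp (Q := R) (fun x hx => ?_) he').congr fun x hx => ?_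
    · rw [toFun'_apply_mem φ hx]
      exact h _
    · show toFun' _ x = toFun' ψ (toFun' φ x)
      rw [toFun'_apply_mem _ hx, toFun'_apply_mem φ hx, toFun'_apply_mem ψ (h ⟨x, hx⟩)]
      rfl
  inv_mem := by
    intro P φ hφ
    obtain ⟨hP, hv, hφm, he⟩ := mem_normalizerHom_iff.mp hφ
    obtain ⟨ψ, hψ, hl⟩ := F.inv_mem hφm
    refine ⟨ψ, mem_normalizerHom_iff.mpr ⟨?_, ?_, hψ, ?_⟩, hl⟩
    · rintro _ ⟨x, rfl⟩
      exact hv x
    · rintro ⟨_, x, rfl⟩
      rw [hl x]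
      exact hP x.2
    · have h := he.inv (g := toFun' ψ) fun x hx => by
        rw [toFun'_apply_mem φ hx, toFun'_apply_mem ψ ⟨⟨x, hx⟩, rfl⟩]
        exact hl ⟨x, hx⟩
      rwa [← (isMap_of_mem hφm).range_eq fun x => (toFun'_apply φ x).symm] at h

theorem isNormalizerSystem_normalizerSystem {Q : Subgroup Ω} (hQ : Q ≤ S) :
    F.IsNormalizerSystem Q (normalizerSystem F hQ) := fun _ => rfl

theorem isMap_of_isNormalizerSystem {Q : Subgroup Ω} {N : FusionSystem (normalizerIn S Q)}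
    (hN : F.IsNormalizerSystem Q N) {P : Subgroup Ω} {f : Ω → Ω} :
    IsMap N P f ↔ P ≤ normalizerIn S Q ∧ (∀ x ∈ P, f x ∈ normalizerIn S Q) ∧ IsMap F P f ∧
      ExtendsWith F Q P f := by
  constructor
  · rintro ⟨φ, hφ, e⟩
    rw [hN P, mem_normalizerHom_iff] at hφ
    obtain ⟨hP, hv, hm, he⟩ := hφ
    exact ⟨hP, fun x hx => e ⟨x, hx⟩ ▸ hv ⟨x, hx⟩, ⟨φ, hm, e⟩,
      he.congr fun x hx => ((toFun'_apply_mem φ hx).trans (e ⟨x, hx⟩)).symm⟩
  · rintro ⟨hP, hv, ⟨φ, hm, e⟩, he⟩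
    refine ⟨φ, ?_, e⟩
    rw [hN P, mem_normalizerHom_iff]
    exact ⟨hP, fun x => (e x).symm ▸ hv x x.2, hm,
      he.congr fun x hx => (toFun'_apply_mem φ hx).trans (e ⟨x, hx⟩)⟩

universe u

/-- The normalizer system of a fully normalized centric subgroup has a model. -/
theorem exists_normalizer_model {Ω : Type u} [Group Ω] {S : Subgroup Ω} {F : FusionSystem S}
    [Finite S] [Fact p.Prime] (hS : IsPGroup p S) (hF : F.IsSaturated p)
    {Q : Subgroup Ω} (hc : F.IsCentric Q) (hn : F.IsFullyNormalized Q) :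
    ∃ (L : Type u) (_ : Group L) (ι : normalizerIn S Q →* L),
      (normalizerSystem F hc.1).IsModel p L ι ∧
      ((Q.subgroupOf _).map ι).Normal ∧
      Subgroup.centralizer (((Q.subgroupOf _).map ι : Subgroup L) : Set L) ≤
        (Q.subgroupOf _).map ι := by
  obtain ⟨L, _, _, ι, hinj, hind, hnor, hcen, hA, hB⟩ := exists_model hS hF hc hn
  have hTp : IsPGroup p (normalizerIn S Q) :=
    hS.of_injective _ (Subgroup.inclusion_injective inf_le_left)
  have hQp : IsPGroup p ((Q.subgroupOf (normalizerIn S Q)).map ι) := (hTp.to_subgroup _).map _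
  refine ⟨L, inferInstance, ι, ⟨inferInstance, ⟨hinj, fun P hP φ hφ => ⟨fun h => ?_, fun ⟨g, hg⟩ => ?_⟩⟩,
    ⟨IsPGroup.toSylow (P := ι.range) (hTp.of_surjective _ (MonoidHom.rangeRestrict_surjective _))
      hind, rfl⟩, ?_⟩, hnor, hcen⟩
  · obtain ⟨-, -, -, f, hf, hag, hi⟩ := mem_normalizerHom_iff.mp h
    obtain ⟨g, hg⟩ := hA (P ⊔ Q) le_sup_right (sup_le hP (le_normalizerIn hc.1)) f hf hi
    refine ⟨g, fun x => hg ⟨x, hP x.2⟩ (Subgroup.mem_sup_left x.2) ⟨φ x, hφ x⟩ ?_⟩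
    show φ x = f x
    rw [hag x x.2, toFun'_apply]
  · let A : Subgroup (normalizerIn S Q) := ι.range.comap ((MulAut.conj g).toMonoidHom.comp ι)
    let A' : Subgroup Ω := A.map (normalizerIn S Q).subtype
    have hQA : Q ≤ A' := fun q hq => by
      obtain ⟨s, hs, e'⟩ := hnor.conj_mem (ι ⟨q, le_normalizerIn hc.1 hq⟩) ⟨_, hq, rfl⟩ g
      exact ⟨⟨q, le_normalizerIn hc.1 hq⟩, ⟨s, e'⟩, rfl⟩
    have hPA : P ≤ A' := fun x hx => ⟨⟨x, hP hx⟩, ⟨⟨φ ⟨x, hx⟩, hφ _⟩, hg ⟨x, hx⟩⟩, rfl⟩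
    obtain ⟨f, hf, hi, hfe⟩ := hB A' hQA (Subgroup.map_subtype_le _) g fun x hx => by
      obtain ⟨y, hy, hyx⟩ := hx
      obtain rfl := Subtype.ext hyx
      exact hy
    have hag : ∀ x : P, φ x = f x := fun x =>
      hfe ⟨x, hP x.2⟩ (hPA x.2) ⟨φ x, hφ x⟩ (hg x)
    refine mem_normalizerHom_iff.mpr ⟨hP, hφ, (hf.mono hPA).mem_of_agree hag,
      f, hf.mono (sup_le hPA hQA), fun x hx => ?_, hi⟩
    rw [toFun'_apply_mem φ hx]
    exact (hag ⟨x, hx⟩).symm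
  · have h1 := Cfsg.Lib.Components.le_pCore (p := p) (hn := hnor) hQp
    refine (Subgroup.centralizer_le (SetLike.coe_subset_coe.mpr h1)).trans ?_
    exact hcen.trans h1

end Cfsg.Lib.Fusion
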