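import Cfsg.Agent.Fusion.CenterPower
import Cfsg.Agent.Fusion.NormalizerSystem

/-!
The centralizer system `C_F(Q)`.
-/

set_option autoImplicit false

namespace Cfsg.Lib.Fusion

open Cfsg Cfsg.FusionSystem

variable {Ω : Type*} [Group Ω] {S : Subgroup Ω} {F : FusionSystem S}

/-- The map extends to a map fixing `A` pointwise. -/
def FixExt (F : FusionSystem S) (A P : Subgroup Ω) (f : Ω → Ω) : Prop :=
  ∃ k, IsMap F (P ⊔ A) k ∧ (∀ x ∈ P, k x = f x) ∧ ∀ x ∈ A, k x = x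

theorem FixExt.congr {A P : Subgroup Ω} {f f' : Ω → Ω} (e : ∀ x ∈ P, f' x = f x)
    (h : FixExt F A P f) : FixExt F A P f' :=
  let ⟨k, hk, hkf, hki⟩ := h
  ⟨k, hk, fun x hx => (hkf x hx).trans (e x hx).symm, hki⟩

theorem fix_img {A : Subgroup Ω} {k : Ω → Ω} (h : ∀ x ∈ A, k x = x) : img A k = A :=
  (img_congr (f' := id) h).trans (img_id A)

theorem FixExt.comp {A P R : Subgroup Ω} {f g : Ω → Ω} (hfR : ∀ x ∈ P, f x ∈ R)
    (h1 : FixExt F A P f) (h2 : FixExt F A R g) : FixExt F A P (g ∘ f) := by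
  obtain ⟨k, hk, hkf, hki⟩ := h1
  obtain ⟨l, hl, hlg, hli⟩ := h2
  have h : ∀ x ∈ P ⊔ A, k x ∈ R ⊔ A := by
    refine IsMap.img_le_iff.mp ?_
    rw [hk.img_sup, fix_img hki]
    exact sup_le_sup_right (IsMap.img_le_iff.mpr fun x hx => (hkf x hx).symm ▸ hfR x hx) A
  exact ⟨l ∘ k, hk.comp hl h, fun x hx => by
    show l (k x) = g (f x)
    rw [hkf x hx, hlg _ (hfR x hx)], fun x hx => by
    show l (k x) = x
    rw [hki x hx, hli x hx]⟩

theorem FixExt.inv {A P : Subgroup Ω} {f g : Ω → Ω} (hl : ∀ x ∈ P, g (f x) = x)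
    (h : FixExt F A P f) : FixExt F A (img P f) g := by
  obtain ⟨k, hk, hkf, hki⟩ := h
  obtain ⟨m, hm, -, hml, -⟩ := hk.exists_inv
  rw [hk.img_sup, fix_img hki, img_congr hkf] at hm
  refine ⟨m, hm, fun y hy => ?_, fun x hx => ?_⟩
  · obtain ⟨x, hx, rfl⟩ := ((hk.mono le_sup_left).congr fun x hx => (hkf x hx).symm).mem_img.mp hy
    rw [hl x hx, ← hkf x hx, hml x (Subgroup.mem_sup_left hx)]
  · conv_lhs => rw [← hki x hx]
    exact hml x (Subgroup.mem_sup_right hx)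

theorem mem_centralizerHom_iff {Q P : Subgroup Ω} {φ : P →* Ω} :
    φ ∈ F.centralizerHom Q P ↔ P ≤ centralizerIn S Q ∧ (∀ x : P, φ x ∈ centralizerIn S Q) ∧
      φ ∈ F.Hom P ∧ FixExt F Q P (toFun' φ) := by
  constructor
  · rintro ⟨hφ, hP, hv, ψ, hψ, hag, hfix⟩
    refine ⟨hP, hv, hφ, toFun' ψ, isMap_of_mem hψ, fun x hx => ?_, fun x hx => ?_⟩
    · rw [toFun'_apply_mem ψ (Subgroup.mem_sup_left hx), toFun'_apply_mem φ hx]
      exact hag ⟨x, hx⟩
    · rw [toFun'_apply_mem ψ (Subgroup.mem_sup_right hx)]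
      exact hfix ⟨x, hx⟩
  · rintro ⟨hP, hv, hφ, k, ⟨ψ, hψ, e⟩, hag, hki⟩
    refine ⟨hφ, hP, hv, ψ, hψ, fun x => ?_, fun x => ?_⟩
    · rw [e]
      exact (hag x x.2).trans (toFun'_apply φ x)
    · rw [e]
      exact hki x x.2

/-- `C_F(Q)`. -/
def centralizerSystem (F : FusionSystem S) {Q : Subgroup Ω} (hQ : Q ≤ S) :
    FusionSystem (centralizerIn S Q) where
  Hom P := F.centralizerHom Q P
  le_of_mem h := ⟨h.2.1, h.2.2.1⟩
  injective_of_mem h := F.injective_of_mem h.1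
  conj_mem := by
    intro P g hP hg
    refine mem_centralizerHom_iff.mpr ⟨hP, fun x => ?_, F.conj_mem (hP.trans inf_le_left) hg.1, ?_⟩
    · exact (centralizerIn S Q).mul_mem ((centralizerIn S Q).mul_mem hg (hP x.2))
        ((centralizerIn S Q).inv_mem hg)
    · refine FixExt.congr (f := fun x => g * x * g⁻¹) (fun x hx => ?_)
        ⟨_, isMap_conj (sup_le (hP.trans inf_le_left) hQ) hg.1, fun _ _ => rfl, fun x hx => ?_⟩
      · rw [toFun'_apply_mem _ hx]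
        rfl
      · show g * x * g⁻¹ = x
        rw [← Subgroup.mem_centralizer_iff.mp hg.2 x hx, mul_inv_cancel_right]
  comp_mem := by
    intro P R φ ψ hφ hψ h
    obtain ⟨hP, hv, hφm, he⟩ := mem_centralizerHom_iff.mp hφ
    obtain ⟨-, hv', hψm, he'⟩ := mem_centralizerHom_iff.mp hψ
    refine mem_centralizerHom_iff.mpr ⟨hP, fun x => hv' _, F.comp_mem hφm hψm h, ?_⟩
    refine (he.comp (R := R) (fun x hx => ?_) he').congr fun x hx => ?_
    · rw [toFun'_apply_mem φ hx]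
      exact h _
    · show toFun' _ x = toFun' ψ (toFun' φ x)
      rw [toFun'_apply_mem _ hx, toFun'_apply_mem φ hx, toFun'_apply_mem ψ (h ⟨x, hx⟩)]
      rfl
  inv_mem := by
    intro P φ hφ
    obtain ⟨hP, hv, hφm, he⟩ := mem_centralizerHom_iff.mp hφ
    obtain ⟨ψ, hψ, hl⟩ := F.inv_mem hφm
    refine ⟨ψ, mem_centralizerHom_iff.mpr ⟨?_, ?_, hψ, ?_⟩, hl⟩
    · rintro _ ⟨x, rfl⟩
      exact hv x
    · rintro ⟨_, x, rfl⟩
      rw [hl x]
      exact hP x.2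
    · have h := he.inv (g := toFun' ψ) fun x hx => by
        rw [toFun'_apply_mem φ hx, toFun'_apply_mem ψ ⟨⟨x, hx⟩, rfl⟩]
        exact hl ⟨x, hx⟩
      rwa [← (isMap_of_mem hφm).range_eq fun x => (toFun'_apply φ x).symm] at h

theorem isCentralizerSystem_centralizerSystem {Q : Subgroup Ω} (hQ : Q ≤ S) :
    F.IsCentralizerSystem Q (centralizerSystem F hQ) := fun _ => rfl

theorem isMap_of_isCentralizerSystem {Q : Subgroup Ω} {C : FusionSystem (centralizerIn S Q)}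
    (hC : F.IsCentralizerSystem Q C) {P : Subgroup Ω} {f : Ω → Ω} :
    IsMap C P f ↔ P ≤ centralizerIn S Q ∧ (∀ x ∈ P, f x ∈ centralizerIn S Q) ∧ IsMap F P f ∧
      FixExt F Q P f := by
  constructor
  · intro h
    obtain ⟨φ, hφ, e⟩ := h
    rw [hC P] at hφ
    obtain ⟨hP, hv, hφm, he⟩ := mem_centralizerHom_iff.mp hφ
    refine ⟨hP, fun x hx => e ⟨x, hx⟩ ▸ hv _, ⟨φ, hφm, e⟩, he.congr fun x hx => ?_⟩
    rw [toFun'_apply_mem φ hx]
    exact (e ⟨x, hx⟩).symm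
  · rintro ⟨hP, hv, ⟨φ, hφ, e⟩, he⟩
    refine ⟨φ, ?_, e⟩
    rw [hC P]
    refine mem_centralizerHom_iff.mpr ⟨hP, fun x => e x ▸ hv x x.2, hφ, he.congr fun x hx => ?_⟩
    rw [toFun'_apply_mem φ hx]
    exact e ⟨x, hx⟩

end Cfsg.Lib.Fusion
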