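import Cfsg.Agent.Fusion.GTApply
import Cfsg.Agent.Fusion.NormalCriteria

/-!
Glauberman's factorization: a saturated system is generated by the centralizer of the `p`-th
powers of `Z(S)` and the normalizer of `J(S)`.
-/

set_option autoImplicit false

namespace Cfsg.Lib.Fusion

open Cfsg Cfsg.FusionSystem
open scoped commutatorElement

universe u

variable {Ω : Type u} [Group Ω] {S : Subgroup Ω} {F : FusionSystem S} {p : ℕ}

/-- The `p`-th powers of the centre, generated. -/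
def centerPow (p : ℕ) (T : Subgroup Ω) : Subgroup Ω := powerClosure p 1 (T ⊓ Subgroup.centralizer (T : Set Ω))

theorem centerPow_le_center (p : ℕ) (T : Subgroup Ω) :
    centerPow p T ≤ T ⊓ Subgroup.centralizer (T : Set Ω) :=
  (Subgroup.closure_le _).mpr fun _ ⟨_, hx, hy⟩ => hy ▸ Subgroup.pow_mem _ hx _

theorem centerPow_le_centerPow {T Q : Subgroup Ω} (h : T ⊓ Subgroup.centralizer (T : Set Ω) ≤ Q ⊓ Subgroup.centralizer (Q : Set Ω)) :
    centerPow p T ≤ centerPow p Q :=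
  (Subgroup.closure_le _).mpr fun _ ⟨x, hx, hy⟩ => Subgroup.subset_closure ⟨x, h hx, hy⟩

theorem thompsonAOf_eq (T : Subgroup Ω) : thompsonSubgroupAOf T = sSup (maxAb T) := by
  refine le_antisymm (Subgroup.map_le_iff_le_comap.mpr (sSup_le fun A hA => ?_)) (sSup_le fun A hA => ?_)
  · exact Subgroup.map_le_iff_le_comap.mp (le_sSup (map_mem_maxAb.mp hA))
  · have e : (A.subgroupOf T).map T.subtype = A := by
      rw [Subgroup.subgroupOf_map_subtype, inf_eq_left.mpr hA.1]
    rw [← e]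
    refine Subgroup.map_mono (le_sSup (map_mem_maxAb.mpr ?_))
    rwa [e]

theorem thompsonAOf_le (T : Subgroup Ω) : thompsonSubgroupAOf T ≤ T := Subgroup.map_subtype_le _

theorem thompsonAOf_img {T : Subgroup Ω} [Finite T] {f : Ω → Ω} (hf : IsMap F T f)
    (hi : ∀ x ∈ T, f x ∈ T) : img (thompsonSubgroupAOf T) f = thompsonSubgroupAOf T := by
  haveI := finite_of_le (thompsonAOf_le T)
  refine Subgroup.eq_of_le_of_card_ge (IsMap.img_le_iff.mpr fun x hx => ?_)
    (hf.mono (thompsonAOf_le T)).card_img.ge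
  obtain ⟨φ, hφ, e⟩ := hf
  have hf : IsMap F T f := ⟨φ, hφ, e⟩
  have hle : thompsonSubgroupAOf T ≤ ((thompsonSubgroupAOf T).comap φ).map T.subtype := by
    conv_lhs => rw [thompsonAOf_eq]
    refine sSup_le fun A hA a ha => ⟨⟨a, hA.1 ha⟩, ?_, rfl⟩
    show φ ⟨a, _⟩ ∈ thompsonSubgroupAOf T
    rw [e, thompsonAOf_eq]
    exact (le_sSup (maxAb_img hA hf hA.1 fun y hy => hi y (hA.1 hy))) (IsMap.apply_mem_img ha)
  obtain ⟨⟨w, hw⟩, hm, rfl⟩ := hle hx
  have : φ ⟨w, hw⟩ ∈ thompsonSubgroupAOf T := hm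
  rw [e] at this
  exact this

theorem center_le_thompsonAOf {T : Subgroup Ω} [Finite T] :
    T ⊓ Subgroup.centralizer (T : Set Ω) ≤ thompsonSubgroupAOf T := by
  obtain ⟨A, hA⟩ := maxAb_nonempty (T := T)
  rw [thompsonAOf_eq]
  exact (centralizerIn_self_le_maxAb hA).trans (le_sSup hA)

theorem thompsonAOf_normalized [Finite S] {T : Subgroup Ω} (hT : T ≤ S) {g : Ω} (hg : g ∈ S)
    (hgn : g ∈ Subgroup.normalizer (T : Set Ω)) :
    g ∈ Subgroup.normalizer (thompsonSubgroupAOf T : Set Ω) := by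
  haveI := finite_of_le hT
  haveI := finite_of_le ((thompsonAOf_le T).trans hT)
  have h := thompsonAOf_img (isMap_conj (F := innerFusionSystem S) hT hg)
    fun x hx => conj_mem_of_mem_normalizer hgn hx
  exact mem_normalizer_of_maps_finite fun x hx => h.le (IsMap.apply_mem_img hx)

/-- An element outside `Q` centralizing the `p`-th powers of the centre of `Q`. -/
theorem exists_centralizing_outside [Finite S] [Fact p.Prime] (hS : IsPGroup p S)
    {T Q : Subgroup Ω} (hTS : T ≤ S) (hQT : Q ≤ T) (hn : T ≤ Subgroup.normalizer (Q : Set Ω))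
    (hJ : ¬ thompsonSubgroupAOf T ≤ Q) :
    ∃ h ∈ T, h ∉ Q ∧ ∀ v ∈ centerPow p Q, h * v * h⁻¹ = v := by
  haveI := finite_of_le hTS
  haveI := finite_of_le (hQT.trans hTS)
  have hTp : IsPGroup p T := hS.of_injective _ (Subgroup.inclusion_injective hTS)
  set M := Q ⊓ Subgroup.centralizer (Q : Set Ω) with hM
  have hMab : IsMulCommutative M :=
    ⟨⟨fun a b => Subtype.ext (Subgroup.mem_centralizer_iff.mp b.2.2 a a.2.1)⟩⟩
  have hMQ : M ≤ Q := inf_le_left
  have hMn : T ≤ Subgroup.normalizer (M : Set Ω) := fun t ht => by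
    haveI := finite_of_le (hMQ.trans (hQT.trans hTS))
    refine mem_normalizer_of_maps_finite fun m hm => ⟨conj_mem_of_mem_normalizer (hn ht) hm.1,
      Subgroup.mem_centralizer_iff.mpr fun q hq => ?_⟩
    have hq' := conj_mem_of_mem_normalizer (inv_mem (hn ht)) hq
    rw [inv_inv] at hq'
    have := Subgroup.mem_centralizer_iff.mp hm.2 _ hq'
    calc q * (t * m * t⁻¹) = t * (t⁻¹ * q * t * m) * t⁻¹ := by group
      _ = _ := by rw [this]; group
  obtain ⟨A, hA, hAQ⟩ : ∃ A ∈ maxAb T, ¬ A ≤ Q := by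
    by_contra hne
    push Not at hne
    exact hJ (by rw [thompsonAOf_eq]; exact sSup_le hne)
  have hsuff : ∀ g ∈ T, g ∉ Q → (∀ m ∈ M, g * m * g⁻¹ = m) →
      ∃ h ∈ T, h ∉ Q ∧ ∀ v ∈ centerPow p Q, h * v * h⁻¹ = v :=
    fun g hgT hgQ hg => ⟨g, hgT, hgQ, fun v hv => hg v (centerPow_le_center p Q hv)⟩
  by_cases hMA : M ≤ A
  · obtain ⟨g, hg, hgQ⟩ := SetLike.not_le_iff_exists.mp hAQ
    haveI := hA.2.1
    refine hsuff g (hA.1 hg) hgQ fun m hm => ?_
    rw [show g * m = m * g from congrArg Subtype.val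
      (IsMulCommutative.is_comm.comm (⟨g, hg⟩ : A) ⟨m, hMA hm⟩), mul_inv_cancel_right]
  have hMM : ⁅M, M⁆ = ⊥ := Subgroup.commutator_eq_bot_iff_le_centralizer.mpr
    fun a ha => Subgroup.mem_centralizer_iff.mpr fun b hb =>
      Subgroup.mem_centralizer_iff.mp ha.2 b hb.1
  obtain ⟨A', hA', -, hMA', hMN⟩ := exists_maxAb_normalized' (Or.inr hMab) hTp (hMQ.trans hQT) hMn
    le_rfl Subgroup.le_normalizer ⟨A, hA, hMM.le.trans bot_le, hMA⟩
  haveI := hA'.2.1
  have hA'Q : ¬ A' ≤ Q := fun hle => hMA' fun m hm => by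
    -- an element centralizing `A'` lies in it
    have hc : A' ≤ Subgroup.centralizer ({m} : Set Ω) := fun a ha =>
      Subgroup.mem_centralizer_iff.mpr fun x hx => by
        rw [Set.mem_singleton_iff.mp hx]
        exact (Subgroup.mem_centralizer_iff.mp hm.2 a (hle ha)).symm
    have h1 : A' ≤ Subgroup.centralizer (A' : Set Ω) := fun a ha =>
      Subgroup.mem_centralizer_iff.mpr fun b hb =>
        congrArg Subtype.val (IsMulCommutative.is_comm.comm (⟨b, hb⟩ : A') ⟨a, ha⟩)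
    have h2 : Subgroup.zpowers m ≤ Subgroup.centralizer (A' : Set Ω) :=
      Subgroup.zpowers_le.mpr (Subgroup.mem_centralizer_iff.mpr fun a ha =>
        (Subgroup.mem_centralizer_iff.mp (hc ha) m rfl).symm)
    have h3 : Subgroup.zpowers m ≤ Subgroup.centralizer ((Subgroup.zpowers m : Subgroup Ω) : Set Ω) :=
      fun a ha => Subgroup.mem_centralizer_iff.mpr fun b hb => by
        obtain ⟨i, rfl⟩ := ha
        obtain ⟨j, rfl⟩ := hb
        exact zpow_mul_comm m j i
    have h4 : A' ⊔ Subgroup.zpowers m ≤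
        Subgroup.centralizer ((A' ⊔ Subgroup.zpowers m : Subgroup Ω) : Set Ω) :=
      sup_le (Subgroup.le_centralizer_iff.mp (sup_le h1 h2))
        (Subgroup.le_centralizer_iff.mp (sup_le (Subgroup.le_centralizer_iff.mp h2) h3))
    have hle' : A' ⊔ Subgroup.zpowers m ≤ T :=
      sup_le hA'.1 (Subgroup.zpowers_le.mpr (hQT (hMQ hm)))
    have := finite_of_le hle'
    have heq : A' = A' ⊔ Subgroup.zpowers m := Subgroup.eq_of_le_of_card_ge le_sup_left
      (hA'.2.2 _ hle' ⟨⟨fun a b => Subtype.ext (Subgroup.mem_centralizer_iff.mp (h4 b.2) a a.2)⟩⟩)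
    rw [heq]
    exact Subgroup.mem_sup_right (Subgroup.mem_zpowers m)
  obtain ⟨g, hg, hgQ⟩ := SetLike.not_le_iff_exists.mp hA'Q
  -- a power of order `p` modulo `Q`
  obtain ⟨i, hi1, hi2⟩ : ∃ i, g ^ p ^ i ∉ Q ∧ g ^ p ^ (i + 1) ∈ Q := by
    classical
    obtain ⟨k, hk⟩ := hTp ⟨g, hA'.1 hg⟩
    have hex : ∃ j, g ^ p ^ j ∈ Q := ⟨k, by
      rw [show g ^ p ^ k = 1 from congrArg Subtype.val hk]; exact Q.one_mem⟩
    obtain ⟨i, hi⟩ : ∃ i, Nat.find hex = i + 1 := by
      refine ⟨Nat.find hex - 1, (Nat.succ_pred_eq_of_ne_zero fun h0 => hgQ ?_).symm⟩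
      have := Nat.find_spec hex
      rwa [h0, pow_zero, pow_one] at this
    exact ⟨i, Nat.find_min hex (by omega), hi ▸ Nat.find_spec hex⟩
  set h := g ^ p ^ i
  have hhA : h ∈ A' := A'.pow_mem hg _
  refine ⟨h, hA'.1 hhA, hi1, ?_⟩
  have hfix : ∀ m ∈ M, h * m ^ p * h⁻¹ = m ^ p := by
    intro m hm
    set e := m⁻¹ * (h * m * h⁻¹) with he
    have heM : e ∈ M := M.mul_mem (M.inv_mem hm) (conj_mem_of_mem_normalizer (hMn (hA'.1 hhA)) hm)
    have heA : e ∈ A' := by
      have h1 := A'.mul_mem (conj_mem_of_mem_normalizer (inv_mem (hMN hm)) hhA) (A'.inv_mem hhA)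
      rw [inv_inv] at h1
      rwa [show m⁻¹ * h * m * h⁻¹ = e by rw [he]; group] at h1
    have hc : h * e = e * h :=
      congrArg Subtype.val (IsMulCommutative.is_comm.comm (⟨h, hhA⟩ : A') ⟨e, heA⟩)
    have hstep : h * m * h⁻¹ = m * e := by rw [he, mul_inv_cancel_left]
    have hpow : ∀ n : ℕ, h ^ n * m * (h ^ n)⁻¹ = m * e ^ n := by
      intro n
      induction n with
      | zero => simp
      | succ n ih =>
        calc h ^ (n + 1) * m * (h ^ (n + 1))⁻¹ = h * (h ^ n * m * (h ^ n)⁻¹) * h⁻¹ := by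
              rw [pow_succ']; group
          _ = (h * m * h⁻¹) * (h * e ^ n * h⁻¹) := by rw [ih]; group
          _ = m * e * e ^ n := by
              rw [hstep, (Commute.pow_right (show Commute h e from hc) n).eq, mul_inv_cancel_right]
          _ = m * e ^ (n + 1) := by rw [pow_succ', mul_assoc]
    have hep : e ^ p = 1 := by
      have h5 := hpow p
      have hhp : h ^ p ∈ Q := by rw [← pow_mul, ← pow_succ]; exact hi2
      rw [Subgroup.mem_centralizer_iff.mp hm.2 _ hhp, mul_inv_cancel_right] at h5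
      exact mul_eq_left.mp h5.symm
    have hcomm : Commute m e := Subgroup.mem_centralizer_iff.mp heM.2 m hm.1
    rw [← conj_pow, hstep, hcomm.mul_pow, hep, mul_one]
  let X : Subgroup Ω :=
    { carrier := {v | h * v * h⁻¹ = v}
      one_mem' := by simp
      mul_mem' := fun {a b} (ha : h * a * h⁻¹ = a) (hb : h * b * h⁻¹ = b) =>
        show h * (a * b) * h⁻¹ = a * b by
          calc h * (a * b) * h⁻¹ = (h * a * h⁻¹) * (h * b * h⁻¹) := by group
            _ = a * b := by rw [ha, hb]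
      inv_mem' := fun {a} (ha : h * a * h⁻¹ = a) => show h * a⁻¹ * h⁻¹ = a⁻¹ by
        calc h * a⁻¹ * h⁻¹ = (h * a * h⁻¹)⁻¹ := by group
          _ = a⁻¹ := by rw [ha] }
  intro v hv
  refine ((Subgroup.closure_le X).mpr ?_ hv : v ∈ X)
  rintro _ ⟨x, hx, rfl⟩
  show h * x ^ p ^ 1 * h⁻¹ = x ^ p ^ 1
  rw [pow_one]
  exact hfix x hx

theorem centerPow_img {Q : Subgroup Ω} {f : Ω → Ω} (hf : IsMap F Q f) (hi : img Q f = Q) :
    ∀ v ∈ centerPow p Q, f v ∈ centerPow p Q := by
  obtain ⟨φ, hφ, e⟩ := hf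
  have hf : IsMap F Q f := ⟨φ, hφ, e⟩
  have hle : centerPow p Q ≤ ((centerPow p Q).comap φ).map Q.subtype := by
    refine (Subgroup.closure_le _).mpr ?_
    rintro _ ⟨x, hx, rfl⟩
    refine ⟨⟨x ^ p ^ 1, Q.pow_mem hx.1 _⟩, ?_, rfl⟩
    show φ ⟨x ^ p ^ 1, _⟩ ∈ centerPow p Q
    rw [e, hf.map_pow hx.1]
    refine Subgroup.subset_closure ⟨f x, ⟨IsMap.img_le_iff.mp hi.le x hx.1,
      Subgroup.mem_centralizer_iff.mpr fun q hq => ?_⟩, rfl⟩
    obtain ⟨w, hw, rfl⟩ := hf.mem_img.mp (hi.symm ▸ hq)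
    rw [← hf.map_mul hw hx.1, ← hf.map_mul hx.1 hw, Subgroup.mem_centralizer_iff.mp hx.2 w hw]
  intro v hv
  obtain ⟨⟨w, hw⟩, hm, rfl⟩ := hle hv
  have : φ ⟨w, hw⟩ ∈ centerPow p Q := hm
  rw [e] at this
  exact this

theorem thompson_main [Fact p.Prime] (n : ℕ) : ∀ {Ω : Type u} [Group Ω] (S : Subgroup Ω) [Finite S],
    Nat.card S = n → IsPGroup p S → ∀ (m : ℕ) (F : FusionSystem S), mapCount F = m →
      F.IsSaturated p → ∀ Φ : Subgroup Ω → (Ω → Ω) → Prop, IsMapClass F Φ →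
      (∀ (P : Subgroup Ω) (f : Ω → Ω), IsMap F P f → centerPow p S ≤ P →
        (∀ v ∈ centerPow p S, f v = v) → Φ P f) →
      (∀ (P : Subgroup Ω) (f : Ω → Ω), IsMap F P f → thompsonSubgroupAOf S ≤ P →
        img (thompsonSubgroupAOf S) f = thompsonSubgroupAOf S → Φ P f) →
      ∀ (P : Subgroup Ω) (f : Ω → Ω), IsMap F P f → Φ P f := by
  induction n using Nat.strong_induction_on with
  | _ n ihS =>
  intro Ω _ S _ hcard hS m
  induction m using Nat.strong_induction_on with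
  | _ m ihF =>
  intro F hm hF Φ hΦ hC hJ
  classical
  set Z := S ⊓ Subgroup.centralizer (S : Set Ω)
  set V := centerPow p S
  have hVZ : V ≤ Z := centerPow_le_center p S
  have hVS : V ≤ S := hVZ.trans inf_le_left
  have hZc : ∀ T : Subgroup Ω, T ≤ S → Z ≤ T → Z ≤ T ⊓ Subgroup.centralizer (T : Set Ω) :=
    fun T hT hZT => le_inf hZT (inf_le_right.trans (Subgroup.centralizer_le hT))
  have hJS : thompsonSubgroupAOf S ≤ S := thompsonAOf_le S
  have htopJ : ∀ g, IsMap F S g → img (thompsonSubgroupAOf S) g = thompsonSubgroupAOf S :=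
    fun g hg => thompsonAOf_img hg fun x hx => hg.mem_S hx
  -- proper normalizer subsystems
  have h1 : ∀ (R : Subgroup Ω), R ≤ S → S ≤ Subgroup.normalizer (R : Set Ω) → ¬ F.IsNormal R →
      ∀ (P : Subgroup Ω) (f : Ω → Ω), IsMap F P f → R ≤ P → img R f = R → Φ P f := by
    intro R hR hn hnn P f hf hRP hi
    set E := normalizerTop F hR hn
    have hle : ∀ (P : Subgroup Ω) (f : Ω → Ω), IsMap E P f → IsMap F P f :=
      fun P f h => (isMap_normalizerTop.mp h).1
    obtain ⟨P₀, f₀, hf₀, hf₀'⟩ : ∃ (P : Subgroup Ω) (f : Ω → Ω), IsMap F P f ∧ ¬ IsMap E P f := by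
      by_contra hne
      push Not at hne
      exact hnn (isNormal_of_extendsWith hR fun P f hf => (isMap_normalizerTop.mp (hne P f hf)).2)
    have hΦE : IsMapClass E Φ :=
      { conj := hΦ.conj
        congr := fun P f f' h => hΦ.congr P f f' (hle _ _ h)
        mono := fun P R f h => hΦ.mono P R f (hle _ _ h)
        comp := fun P Q f g h h' => hΦ.comp P Q f g (hle _ _ h) (hle _ _ h')
        inv := fun P f g h h' => hΦ.inv P f g (hle _ _ h) (hle _ _ h') }
    exact ihF _ (hm ▸ mapCount_lt hle hf₀ hf₀') E rfl (saturated_normalizerTop hS hF hR hn) Φ hΦE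
      (fun P g hg => hC P g (hle _ _ hg)) (fun P g hg => hJ P g (hle _ _ hg)) P f
      (isMap_normalizerTop.mpr ⟨hf, f, (sup_eq_left.mpr hRP).symm ▸ hf, fun _ _ => rfl, hi⟩)
  by_cases hex : ∃ V₀, F.IsNormal V₀ ∧ V ≤ V₀
  · obtain ⟨V₀, ⟨hV₀n, hVV₀⟩, hV₀max⟩ := Set.exists_max_image
      {V₀ : Subgroup Ω | F.IsNormal V₀ ∧ V ≤ V₀}
      (fun V₀ => Nat.card V₀) (finite_subgroups_le.subset fun V₀ hV => hV.1.1) hex
    haveI := finite_of_le hV₀n.1
    have hnot : ∀ R : Subgroup Ω, R ≤ S → V₀ < R → ¬ F.IsNormal R := fun R hR hlt hRn => by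
      haveI := finite_of_le hR
      exact hlt.ne (Subgroup.eq_of_le_of_card_ge hlt.le (hV₀max R ⟨hRn, hVV₀.trans hlt.le⟩))
    have hSV₀ := normalizes_of_stronglyClosed (stronglyClosed_of_isNormal hV₀n)
    by_cases hJV : thompsonSubgroupAOf S ≤ V₀
    · intro P f hf
      obtain ⟨k, hk, hkf, hki⟩ := extend_of_isNormal hV₀n hf
      have e : thompsonSubgroupAOf V₀ = thompsonSubgroupAOf S := by
        have h : maxAb V₀ = maxAb S := by
          ext A
          constructor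
          · intro hA
            refine ⟨hA.1.trans hV₀n.1, hA.2.1, fun B hB hBc => ?_⟩
            obtain ⟨B', hB'⟩ := maxAb_nonempty (T := S)
            have hB'V : B' ≤ V₀ := ((thompsonAOf_eq S).ge.trans' (le_sSup hB')).trans hJV
            exact (hB'.2.2 B hB hBc).trans (hA.2.2 B' hB'V hB'.2.1)
          · intro hA
            exact ⟨((thompsonAOf_eq S).ge.trans' (le_sSup hA)).trans hJV, hA.2.1,
              fun B hB hBc => hA.2.2 B (hB.trans hV₀n.1) hBc⟩
        rw [thompsonAOf_eq, thompsonAOf_eq, h]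
      have hkV : img (thompsonSubgroupAOf S) k = thompsonSubgroupAOf S := by
        rw [← e]
        exact thompsonAOf_img (hk.mono le_sup_right) fun x hx => IsMap.img_le_iff.mp hki.le x hx
      exact hΦ.congr P k f (hk.mono le_sup_left) (fun x hx => (hkf x hx).symm)
        (hΦ.mono _ _ _ hk le_sup_left (hJ _ k hk (hJV.trans le_sup_right) hkV))
    -- a normal subgroup `V₁ ∋ V` whose centralizer is not in `V₀`
    obtain ⟨V₁, hV₁n, hVV₁, hV₁V₀, hCV₁⟩ : ∃ V₁, F.IsNormal V₁ ∧ V ≤ V₁ ∧ V₁ ≤ V₀ ∧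
        ¬ centralizerIn S V₁ ≤ V₀ := by
      by_cases hcen : centralizerIn S V₀ ≤ V₀
      · have hZV : Z ≤ V₀ := fun x hx => hcen ⟨hx.1, Subgroup.centralizer_le hV₀n.1 hx.2⟩
        obtain ⟨h, hh, hhV, hhfix⟩ := exists_centralizing_outside hS le_rfl hV₀n.1 hSV₀ hJV
        have hle : centerPow p V₀ ≤ V₀ := (centerPow_le_center p V₀).trans inf_le_left
        refine ⟨centerPow p V₀, isNormal_of_extendsWith (hle.trans hV₀n.1) fun P f hf => ?_,
          centerPow_le_centerPow (hZc V₀ hV₀n.1 hZV), hle,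
          fun hc => hhV (hc (mem_centralizerIn.mpr ⟨hh, hhfix⟩))⟩
        obtain ⟨k, hk, hkf, hki⟩ := extend_of_isNormal hV₀n hf
        refine ⟨k, hk.mono (sup_le_sup_left hle P), hkf,
          img_eq_of_apply (hk.mono le_sup_right) hle (centerPow_img (hk.mono le_sup_right) hki)⟩
      · exact ⟨V₀, hV₀n, hVV₀, le_rfl, hcen⟩
    have hsc₁ := stronglyClosed_of_isNormal hV₁n
    have hsc₀ := stronglyClosed_of_isNormal hV₀n
    set R := V₀ ⊔ centralizerIn S V₁
    have hRS : R ≤ S := sup_le hV₀n.1 inf_le_left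
    have hVR : V₀ < R := lt_of_le_of_ne le_sup_left fun h =>
      hCV₁ ((le_sup_right : centralizerIn S V₁ ≤ R).trans h.ge)
    haveI := finite_of_le hRS
    have hRimg : ∀ (P : Subgroup Ω) (g : Ω → Ω), IsMap F P g → R ≤ P → img R g = R := by
      intro P g hg hRP
      refine Subgroup.eq_of_le_of_card_ge ?_ (hg.mono hRP).card_img.ge
      rw [(hg.mono hRP).img_sup]
      refine sup_le (le_sup_of_le_left (IsMap.img_le_iff.mpr fun x hx =>
        stronglyClosed_apply hsc₀ hg ((le_sup_left.trans hRP) hx) hx)) (le_sup_of_le_right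
        (IsMap.img_le_iff.mpr fun x hx => ?_))
      have hV₁P : V₁ ≤ P := hV₁V₀.trans (le_sup_left.trans hRP)
      have h2 := hg.mem_centralizerIn hV₁P ((le_sup_right.trans hRP) hx) hx
      rwa [img_eq_of_apply hg hV₁P fun v hv => stronglyClosed_apply hsc₁ hg (hV₁P hv) hv] at h2
    have hnR : S ≤ Subgroup.normalizer (R : Set Ω) := fun g hg =>
      mem_normalizer_of_maps_finite fun x hx =>
        (hRimg S _ (isMap_conj le_rfl hg) hRS).le (IsMap.apply_mem_img hx)
    intro P f hf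
    obtain ⟨k, hk, hkf, -⟩ := extend_of_isNormal hV₀n hf
    haveI := finite_of_le hV₁n.1
    have hk₁ := hk.mono (hV₁V₀.trans le_sup_right : V₁ ≤ P ⊔ V₀)
    have hk₁i : img V₁ k = V₁ := img_eq_of_apply hk₁ le_rfl fun v hv =>
      stronglyClosed_apply hsc₁ hk₁ hv hv
    obtain ⟨-, -, hV₁rec⟩ := fullyNormalized_props hS hF (fullyNormalized_of_isNormal hV₁n)
    obtain ⟨j, hj, hje⟩ := receptive_extend hV₁rec hk₁ hk₁i
    have hext : P ⊔ V₀ ⊔ R ≤ extSub S V₁ k := by
      refine sup_le (fun g hg => mem_extSub.mpr ⟨hk.le hg,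
        normalizes_of_stronglyClosed hsc₁ (hk.le hg), k g, hk.mem_S hg,
        fun v hv => hk.map_conj hg ((hV₁V₀.trans le_sup_right) hv)⟩) (sup_le (fun g hg => ?_)
        (centralizerIn_le_extSub V₁ _))
      exact mem_extSub.mpr ⟨hV₀n.1 hg, normalizes_of_stronglyClosed hsc₁ (hV₀n.1 hg), k g,
        hk.mem_S (Subgroup.mem_sup_right hg),
        fun v hv => hk.map_conj (Subgroup.mem_sup_right hg) ((hV₁V₀.trans le_sup_right) hv)⟩
    have hjm := hj.mono hext
    have hjgood : Φ (P ⊔ V₀ ⊔ R) j :=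
      h1 R hRS hnR (hnot R hRS hVR) _ j hjm le_sup_right (hRimg _ j hjm le_sup_right)
    obtain ⟨d, hd, -, hdl, -⟩ := hjm.exists_inv
    have hdgood := hΦ.inv _ _ _ hjm hd hdl hjgood
    -- `j⁻¹ ∘ k` centralizes `V`
    set B := img (P ⊔ V₀ ⊔ R) j
    haveI := finite_of_le hjm.le
    have hkB : ∀ x ∈ P ⊔ V₀, k x ∈ B := by
      intro x hx
      have hjx := hjm.mem_S (Subgroup.mem_sup_left hx)
      have hc : (j x)⁻¹ * k x ∈ centralizerIn S V₁ := mem_centralizerIn.mpr
        ⟨S.mul_mem (S.inv_mem hjx) (hk.mem_S hx), fun v hv => by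
          obtain ⟨w, hw, rfl⟩ := hk₁.mem_img.mp (hk₁i.symm ▸ hv)
          have hwP : w ∈ P ⊔ V₀ := (hV₁V₀.trans le_sup_right) hw
          have hxw : x * w * x⁻¹ ∈ V₁ :=
            conj_mem_of_mem_normalizer (normalizes_of_stronglyClosed hsc₁ (hk.le hx)) hw
          have e2 : k x * k w * (k x)⁻¹ = j x * k w * (j x)⁻¹ := by
            rw [← hk.map_conj hx hwP, ← hje _ hxw,
              hjm.map_conj (Subgroup.mem_sup_left hx) (Subgroup.mem_sup_left hwP), hje w hw]
          calc (j x)⁻¹ * k x * k w * ((j x)⁻¹ * k x)⁻¹ = (j x)⁻¹ * (k x * k w * (k x)⁻¹) * j x := by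
                group
            _ = k w := by rw [e2]; group⟩
      have hRB : R ≤ B := (hRimg _ j hjm le_sup_right).ge.trans (img_mono le_sup_right j)
      have := B.mul_mem (IsMap.apply_mem_img (f := j) (Subgroup.mem_sup_left hx : x ∈ P ⊔ V₀ ⊔ R))
        (hRB (Subgroup.mem_sup_right hc))
      rwa [mul_inv_cancel_left] at this
    have hβ : IsMap F (P ⊔ V₀) (d ∘ k) := hk.comp hd hkB
    have hβgood : Φ (P ⊔ V₀) (d ∘ k) := by
      refine hC _ _ hβ (hVV₀.trans le_sup_right) fun v hv => ?_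
      show d (k v) = v
      rw [← hje v (hVV₁ hv)]
      exact hdl v (Subgroup.mem_sup_left (Subgroup.mem_sup_right (hVV₀ hv)))
    have hdk : ∀ x ∈ P ⊔ V₀, (d ∘ k) x ∈ P ⊔ V₀ ⊔ R := fun x hx => by
      obtain ⟨w, hw, e⟩ := hjm.mem_img.mp (hkB x hx)
      show d (k x) ∈ _
      rw [← e, hdl w hw]
      exact hw
    have hkgood : Φ (P ⊔ V₀) (j ∘ (d ∘ k)) := hΦ.comp _ _ _ _ hβ hjm hdk hβgood hjgood
    refine hΦ.congr P (j ∘ (d ∘ k)) f ((hβ.comp hjm hdk).mono le_sup_left) (fun x hx => ?_)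
      (hΦ.mono _ _ _ (hβ.comp hjm hdk) le_sup_left hkgood)
    show f x = j (d (k x))
    obtain ⟨w, hw, e⟩ := hjm.mem_img.mp (hkB x (Subgroup.mem_sup_left hx))
    rw [← e, hdl w hw, e, hkf x hx]
  -- no normal subgroup contains `V`
  push Not at hex
  have hH : ∀ (U : Subgroup Ω), U ≤ S → ¬ F.IsNormal U →
      (∀ (R : Subgroup Ω) (g : Ω → Ω), Nat.card (normalizerIn S U) ≤ Nat.card R → IsMap F R g →
        Φ R g) →
      ∀ (P : Subgroup Ω) (g : Ω → Ω), U ≤ P → P ≤ normalizerIn S U → IsMap F P g → img U g = U →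
        Φ P g := by
    intro U
    induction hk : Nat.card S - Nat.card (normalizerIn S U) using Nat.strong_induction_on
      generalizing U with
    | _ k ihU =>
    intro hUS hUn hbig P g hUP hPN hg hgi
    obtain ⟨U', hUU', hU'⟩ := exists_fullyNormalized (F := F) hUS
    obtain ⟨-, hU'fa, hU'rec⟩ := fullyNormalized_props hS hF hU'
    obtain ⟨c₀, hc₀, hc₀i⟩ := isConj_iff.mp hUU'
    obtain ⟨χ, -, c, hc, hci, -, hcN⟩ := exists_map_normalizer hS hU'fa hU'rec hc₀ hc₀i
    have hU'not : ¬ F.IsNormal U' := by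
      intro h
      obtain ⟨r, hr, hri⟩ := isConj_iff.mp (isConj_symm hUU')
      have h2 : img U' r = U' := img_eq_of_apply hr le_rfl fun w hw =>
        stronglyClosed_apply (stronglyClosed_of_isNormal h) hr hw hw
      rw [hri] at h2
      exact hUn (h2 ▸ h)
    have hcP := hc.mono hPN
    have hcgood : Φ (normalizerIn S U) c := hbig _ c le_rfl hc
    have hgN : ∀ x ∈ P, g x ∈ normalizerIn S U := fun x hx => by
      have h := hg.mem_normalizerIn hUP hx (hPN hx).2
      rwa [hgi] at h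
    obtain ⟨d, hd, -, hdl, -⟩ := hcP.exists_inv
    set P' := img P c
    have hdP : ∀ w ∈ P', d w ∈ P := fun w hw => by
      obtain ⟨x, hx, rfl⟩ := hcP.mem_img.mp hw
      rwa [hdl x hx]
    have hg' : IsMap F P' (c ∘ (g ∘ d)) :=
      (hd.comp hg hdP).comp hc fun w hw => hgN _ (hdP w hw)
    have hU'P : U' ≤ P' := hci ▸ img_mono hUP c
    have hg'i : img U' (c ∘ (g ∘ d)) = U' := by
      haveI := finite_of_le hU'.1
      refine Subgroup.eq_of_le_of_card_ge (IsMap.img_le_iff.mpr fun w hw => ?_)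
        (hg'.mono hU'P).card_img.ge
      obtain ⟨x, hx, rfl⟩ := (hcP.mono hUP).mem_img.mp (hci.symm ▸ hw)
      show c (g (d (c x))) ∈ U'
      rw [hdl x (hUP hx)]
      exact IsMap.img_le_iff.mp hci.le _ (IsMap.img_le_iff.mp hgi.le x hx)
    set T' := normalizerIn S U'
    have hP'T : P' ≤ T' := IsMap.img_le_iff.mpr fun x hx => hcN x (hPN hx)
    have hg'T : ∀ w ∈ P', (c ∘ (g ∘ d)) w ∈ T' := fun w hw => hcN _ (hgN _ (hdP w hw))
    suffices hgood : Φ P' (c ∘ (g ∘ d)) by
      have hm2 : IsMap F P ((c ∘ (g ∘ d)) ∘ c) :=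
        hcP.comp hg' fun x hx => IsMap.apply_mem_img hx
      have h2 : Φ P ((c ∘ (g ∘ d)) ∘ c) := hΦ.comp _ _ _ _ hcP hg'
        (fun x hx => IsMap.apply_mem_img hx) (hΦ.mono _ _ _ hc hPN hcgood) hgood
      obtain ⟨e, he, -, hel, -⟩ := hc.exists_inv
      have hcinv : Φ (img (normalizerIn S U) c) e := hΦ.inv _ _ _ hc he hel hcgood
      have hmem : ∀ x ∈ P, ((c ∘ (g ∘ d)) ∘ c) x ∈ img (normalizerIn S U) c := fun x hx => by
        show c (g (d (c x))) ∈ _
        rw [hdl x hx]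
        exact IsMap.apply_mem_img (hgN x hx)
      refine hΦ.congr P (e ∘ ((c ∘ (g ∘ d)) ∘ c)) g (hm2.comp he hmem) (fun x hx => ?_)
        (hΦ.comp _ _ _ _ hm2 he hmem h2 hcinv)
      show g x = e (c (g (d (c x))))
      rw [hdl x hx, hel _ (hgN x hx)]
    haveI : Finite T' := finite_of_le inf_le_left
    have hTge : Nat.card (normalizerIn S U) ≤ Nat.card T' :=
      card_le_of_isMap hc le_rfl inf_le_left hcN
    rcases eq_or_ne T' S with hT | hT
    · exact h1 U' hU'.1 (fun s hs => (hT.ge hs).2) hU'not P' _ hg' hU'P hg'i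
    · have hT'S : T' ≤ S := inf_le_left
      have hT'p : IsPGroup p T' := hS.of_injective _ (Subgroup.inclusion_injective hT'S)
      have hT'lt : T' < S := lt_of_le_of_ne hT'S hT
      have hcardlt : Nat.card T' < n := by
        refine hcard ▸ lt_of_le_of_ne (Subgroup.card_le_of_le hT'S) fun h => hT ?_
        exact Subgroup.eq_of_le_of_card_ge hT'S h.ge
      have hZT : Z ≤ T' := fun z hz => ⟨hz.1, Subgroup.centralizer_le_normalizer _
        (Subgroup.centralizer_le hU'.1 hz.2)⟩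
      set W1 := thompsonSubgroupAOf T'
      have hW1S : W1 ≤ S := (thompsonAOf_le T').trans hT'S
      have hW1not : ¬ F.IsNormal W1 := fun h =>
        hex W1 h (hVZ.trans ((hZc T' hT'S hZT).trans center_le_thompsonAOf))
      haveI : Finite (normalizerIn S T') := finite_of_le inf_le_left
      haveI : Finite (normalizerIn S W1) := finite_of_le inf_le_left
      have h3 := lt_normalizerIn hS hT'lt
      have h2 : normalizerIn S T' ≤ normalizerIn S W1 := fun s hs =>
        ⟨hs.1, thompsonAOf_normalized hT'S hs.1 hs.2⟩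
      have hlt : Nat.card T' < Nat.card (normalizerIn S W1) :=
        lt_of_lt_of_le (lt_of_le_of_ne (Subgroup.card_le_of_le h3.le) fun h => h3.ne
          (Subgroup.eq_of_le_of_card_ge h3.le h.ge)) (Subgroup.card_le_of_le h2)
      have hsys := isNormalizerSystem_normalizerSystem (F := F) hU'.1
      have hF' : ∀ {P : Subgroup Ω} {f : Ω → Ω}, IsMap (normalizerSystem F hU'.1) P f → IsMap F P f :=
        fun h => ((isMap_of_isNormalizerSystem hsys).mp h).2.2.1
      have hΦN : IsMapClass (normalizerSystem F hU'.1) Φ :=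
        { conj := fun P g hP hg => hΦ.conj P g (hP.trans hT'S) (hT'S hg)
          congr := fun P f f' h => hΦ.congr P f f' (hF' h)
          mono := fun P R f h => hΦ.mono P R f (hF' h)
          comp := fun P Q f g h h' => hΦ.comp P Q f g (hF' h) (hF' h')
          inv := fun P f g h h' => hΦ.inv P f g (hF' h) (hF' h') }
      have hbound : Nat.card S - Nat.card (normalizerIn S W1) < k := by
        have h4 : Nat.card (normalizerIn S W1) ≤ Nat.card S := Subgroup.card_le_of_le inf_le_left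
        omega
      refine ihS _ hcardlt T' rfl hT'p _ _ rfl (saturated_normalizerSystem hS hF hU') Φ hΦN
        (fun P1 g1 hg1 hV1 hfix => hC P1 g1 (hF' hg1)
          ((centerPow_le_centerPow (hZc T' hT'S hZT)).trans hV1)
          fun v hv => hfix v (centerPow_le_centerPow (hZc T' hT'S hZT) hv))
        (fun P1 g1 hg1 hW hi1 => ihU _ hbound W1 rfl hW1S hW1not
          (fun R w hR hw => hbig R w (by omega) hw) P1 g1 hW
          (hg1.le.trans ((le_normalizerIn hT'S).trans h2)) (hF' hg1) hi1)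
        P' _ ((isMap_of_isNormalizerSystem hsys).mpr
          ⟨hP'T, hg'T, hg', _, (sup_eq_left.mpr hU'P).symm ▸ hg', fun _ _ => rfl, hg'i⟩)
  intro P f hf
  refine alperin_induction hS hF hΦ (fun g hg => hJ S g hg hJS (htopJ g hg)) ?_ hf
  intro Q hQS hQn hQc hIH α hα
  have hQle := hQn.1
  haveI := finite_of_le hQle
  have hαm := (isMap_autFun hQle).mpr hα
  have hZQ : Z ≤ Q := fun z hz => hQc.2 Q (isConj_refl hQle)
    ⟨hz.1, Subgroup.centralizer_le hQle hz.2⟩
  set T := normalizerIn S Q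
  have hTS : T ≤ S := inf_le_left
  haveI : Finite T := finite_of_le hTS
  have hQT : Q < T := lt_normalizerIn hS hQS
  have hQTc : Nat.card Q < Nat.card T := lt_of_le_of_ne (Subgroup.card_le_of_le hQT.le) fun h =>
    hQT.ne (Subgroup.eq_of_le_of_card_ge hQT.le h.ge)
  by_cases hJQ : thompsonSubgroupAOf T ≤ Q
  · have hmx : maxAb T = maxAb Q := by
      ext A
      constructor
      · exact fun hA => ⟨((thompsonAOf_eq T).ge.trans' (le_sSup hA)).trans hJQ, hA.2.1,
          fun B hB hBc => hA.2.2 B (hB.trans hQT.le) hBc⟩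
      · intro hA
        refine ⟨hA.1.trans hQT.le, hA.2.1, fun B hB hBc => ?_⟩
        obtain ⟨B', hB'⟩ := maxAb_nonempty (T := T)
        have hB'Q : B' ≤ Q := ((thompsonAOf_eq T).ge.trans' (le_sSup hB')).trans hJQ
        exact (hB'.2.2 B hB hBc).trans (hA.2.2 B' hB'Q hB'.2.1)
    have e : thompsonSubgroupAOf T = thompsonSubgroupAOf Q := by
      rw [thompsonAOf_eq, thompsonAOf_eq, hmx]
    have hR1not : ¬ F.IsNormal (thompsonSubgroupAOf T) := fun h =>
      hex _ h (hVZ.trans ((hZc T hTS (hZQ.trans hQT.le)).trans center_le_thompsonAOf))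
    have hTN : T ≤ normalizerIn S (thompsonSubgroupAOf T) := fun s hs =>
      ⟨hTS hs, thompsonAOf_normalized hTS (hTS hs) (Subgroup.le_normalizer hs)⟩
    haveI : Finite (normalizerIn S (thompsonSubgroupAOf T)) := finite_of_le inf_le_left
    refine hH _ ((thompsonAOf_le T).trans hTS) hR1not
      (fun R g hR hg => hIH R g (hQTc.trans_le ((Subgroup.card_le_of_le hTN).trans hR)) hg)
      Q _ hJQ (hQT.le.trans hTN) hαm ?_
    rw [e]
    exact thompsonAOf_img hαm fun x hx => autFun_mem α hx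
  · obtain ⟨h, hhT, hhQ, hhfix⟩ := exists_centralizing_outside hS hTS hQT.le inf_le_right hJQ
    set V₁ := centerPow p Q
    have hV₁Q : V₁ ≤ Q := (centerPow_le_center p Q).trans inf_le_left
    have hVV₁ : V ≤ V₁ := centerPow_le_centerPow (hZc Q hQle hZQ)
    have hchar : ∀ χ ∈ F.autGroup Q, ∀ v ∈ V₁, autFun χ v ∈ V₁ := fun χ hχ =>
      centerPow_img ((isMap_autFun hQle).mpr hχ) (img_autFun χ)
    let K : Subgroup (MulAut Q) :=
      { carrier := {χ | χ ∈ F.autGroup Q ∧ ∀ v ∈ V₁, autFun χ v = v}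
        one_mem' := ⟨Subgroup.one_mem _, fun v hv => autFun_apply_mem _ (hV₁Q hv)⟩
        mul_mem' := fun {a b} ha hb => ⟨Subgroup.mul_mem _ ha.1 hb.1, fun v hv => by
          rw [autFun_mul _ _ (hV₁Q hv), hb.2 v hv, ha.2 v hv]⟩
        inv_mem' := fun {a} ha => ⟨Subgroup.inv_mem _ ha.1, fun v hv => by
          conv_lhs => rw [← ha.2 v hv]
          simpa using autFun_inv_apply a⁻¹ (hV₁Q hv)⟩ }
    have hKn : ∀ γ ∈ F.autGroup Q, ∀ β ∈ K, γ * β * γ⁻¹ ∈ K := fun γ hγ β hβ =>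
      ⟨Subgroup.mul_mem _ (Subgroup.mul_mem _ hγ hβ.1) (Subgroup.inv_mem _ hγ), fun v hv => by
        rw [autFun_mul _ _ (hV₁Q hv), autFun_mul _ _ (autFun_mem _ (hV₁Q hv)),
          hβ.2 _ (hchar _ (Subgroup.inv_mem _ hγ) v hv), autFun_inv_apply γ (hV₁Q hv)]⟩
    have hhn : h ∈ Subgroup.normalizer (Q : Set Ω) := hhT.2
    have hβS := conjAut_mem_autInducedBy (K := S) hhn (hTS hhT)
    have hβK : conjAut Q h hhn ∈ K := ⟨autInducedBy_le hQle hβS, fun v hv => by
      rw [autFun_apply_mem _ (hV₁Q hv), conjAut_apply]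
      exact hhfix v hv⟩
    obtain ⟨κ, hκ, hgood⟩ := site_reduce hS hF hΦ hQn hIH hKn hβS hβK
      (fun hI => hhQ (mem_of_inn (hQc.2 Q (isConj_refl hQle)) (hTS hhT) hhn hI hQle)) α hα
    have hκgood : κ⁻¹ ∈ goodAut F Φ hΦ Q hQle := by
      have hκi := K.inv_mem hκ.1
      exact ⟨hκi.1, hC Q _ ((isMap_autFun hQle).mpr hκi.1) (hVV₁.trans hV₁Q)
        fun v hv => hκi.2 v (hVV₁ hv)⟩
    have := Subgroup.mul_mem _ hκgood hgood
    rw [inv_mul_cancel_left] at this
    exact this.2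

end Cfsg.Lib.Fusion
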