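import Cfsg.Agent.Fusion.ModelTools
import Cfsg.Agent.Fusion.Qd
import Cfsg.Prelude.Def_FusionReduction

/-!
`Qd(p)`-free fusion systems: the criterion by maps of the system.
-/

set_option autoImplicit false

namespace Cfsg.Lib.Fusion

open Cfsg Cfsg.FusionSystem

variable {Ω : Type*} [Group Ω] {S : Subgroup Ω} {F : FusionSystem S} {p : ℕ}

/-- The map `f` induces `M` on the quotient given by `π`. -/
def MapRel {Q0 : Subgroup Ω} (π : Q0 →* V2 p) (f : Ω → Ω)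
    (M : Matrix.SpecialLinearGroup (Fin 2) (ZMod p)) : Prop :=
  ∀ x : Q0, ∃ y : Q0, (y : Ω) = f x ∧ π y = actV M (π x)

/-- Some subgroup has maps inducing `SL₂(p)` on a quotient of order `p²`. -/
def HasQd (F : FusionSystem S) (p : ℕ) : Prop :=
  ∃ (Q0 : Subgroup Ω) (π : Q0 →* V2 p), Q0 ≤ S ∧ Function.Surjective π ∧
    ∀ M, ∃ f, IsMap F Q0 f ∧ MapRel π f M

/-- The same with maps stabilizing the centric subgroup `R`. -/
def HasQdAt (F : FusionSystem S) (p : ℕ) (R : Subgroup Ω) : Prop :=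
  F.IsCentric R ∧ ∃ (Q0 : Subgroup Ω) (π : Q0 →* V2 p), Q0 ≤ normalizerIn S R ∧
    Function.Surjective π ∧ ∀ M, ∃ f, IsMap F (Q0 ⊔ R) f ∧ img R f = R ∧ MapRel π f M

theorem MapRel.congr {Q0 : Subgroup Ω} {π : Q0 →* V2 p} {f f' : Ω → Ω}
    {M : Matrix.SpecialLinearGroup (Fin 2) (ZMod p)} (h : MapRel π f M)
    (e : ∀ x ∈ Q0, f' x = f x) : MapRel π f' M := fun x =>
  let ⟨y, hy, hyπ⟩ := h x
  ⟨y, hy.trans (e x x.2).symm, hyπ⟩

theorem hasQd_of_group {G : Type*} [Group G] [Finite G] [Fact p.Prime] {T : Subgroup Ω}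
    {E : FusionSystem T} (hTS : T ≤ S) (hs : E.IsSubsystemOf F) {ι : T →* G}
    (h : E.IsRealizedBy ι) (hsyl : ∃ U : Sylow p G, (U : Subgroup G) = ι.range)
    (hinv : Involves ↥(qd p) G) : HasQd F p := by
  obtain ⟨Q0, π, w⟩ := exists_isQdWitness hinv
  obtain ⟨U, hU⟩ := hsyl
  obtain ⟨R, hR⟩ := w.pgroup.exists_le_sylow
  obtain ⟨a, rfl⟩ := MulAction.exists_smul_eq G R U
  have hmem : ∀ x ∈ Q0, a * x * a⁻¹ ∈ ι.range := fun x hx => by
    rw [← hU, Sylow.coe_subgroup_smul, Subgroup.mem_smul_pointwise_iff_exists]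
    exact ⟨x, hR hx, rfl⟩
  let A : Subgroup T := Q0.comap ((MulAut.conj a⁻¹).toMonoidHom.comp ι)
  let Q1 : Subgroup Ω := A.map T.subtype
  have hA : ∀ x : T, (x : Ω) ∈ Q1 ↔ a⁻¹ * ι x * a ∈ Q0 := fun x => by
    refine ⟨fun ⟨y, hy, e⟩ => ?_, fun hx => ⟨x, ?_, rfl⟩⟩
    · obtain rfl : y = x := Subtype.ext e
      simpa [A, mul_assoc] using hy
    · simpa [A, mul_assoc] using hx
  have hQ1 : Q1 ≤ T := Subgroup.map_subtype_le _
  let π1 : Q1 →* V2 p := π.comp (((MulAut.conj a⁻¹).toMonoidHom.comp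
    (ι.comp (Subgroup.inclusion hQ1))).codRestrict Q0 fun x => by
      simpa [mul_assoc, Subgroup.inclusion] using (hA ⟨x, hQ1 x.2⟩).mp x.2)
  have hπ1 : ∀ (x : Q1) (z : Q0), (z : G) = a⁻¹ * ι ⟨x, hQ1 x.2⟩ * a → π1 x = π z := by
    intro x z hz
    refine congrArg π (Subtype.ext ?_)
    rw [hz]
    show a⁻¹ * _ * a⁻¹⁻¹ = _
    rw [inv_inv]
    rfl
  refine ⟨Q1, π1, hQ1.trans hTS, fun v => ?_, fun M => ?_⟩
  · obtain ⟨z, rfl⟩ := w.surj v
    obtain ⟨s, hs⟩ := hmem z z.2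
    have hs' : (z : G) = a⁻¹ * ι s * a := by rw [hs]; group
    exact ⟨⟨s, (hA s).mpr (hs' ▸ z.2)⟩, hπ1 _ z hs'⟩
  · obtain ⟨g, hg⟩ := w.rel M
    obtain ⟨f, hf, -, hfe⟩ := exists_isMap_of_elt h hQ1 (a * g * a⁻¹) fun x hx => by
      obtain ⟨y, hy, -⟩ := hg ⟨_, (hA x).mp hx⟩
      have h2 : a * g * a⁻¹ * ι x * (a * g * a⁻¹)⁻¹ = a * (g * (a⁻¹ * ι x * a) * g⁻¹) * a⁻¹ := by
        group
      rw [h2, ← show (y : G) = g * (a⁻¹ * ι x * a) * g⁻¹ from hy]
      exact hmem y y.2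
    refine ⟨f, isMap_of_isSubsystemOf hs hf, fun x => ?_⟩
    obtain ⟨y, hy, hyπ⟩ := hg ⟨_, (hA ⟨x, hQ1 x.2⟩).mp x.2⟩
    obtain ⟨s, hs⟩ := hmem y y.2
    have hs' : (y : G) = a⁻¹ * ι s * a := by rw [hs]; group
    refine ⟨⟨s, (hA s).mpr (hs' ▸ y.2)⟩, ?_, ?_⟩
    · refine (hfe ⟨x, hQ1 x.2⟩ x.2 s).mpr ?_
      rw [hs, hy]
      group
    · rw [hπ1 _ y hs', hyπ, hπ1 x ⟨_, (hA ⟨x, hQ1 x.2⟩).mp x.2⟩ rfl]

theorem exists_hasQdAt [Finite S] [Fact p.Prime] (hS : IsPGroup p S) (hF : F.IsSaturated p)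
    (h : HasQd F p) : ∃ R, HasQdAt F p R := by
  obtain ⟨Q0, π, hQ0, hπ, hrel⟩ := h
  obtain ⟨P, hconj, hP⟩ := exists_fullyNormalized (F := F) hQ0
  obtain ⟨c, hc, hci⟩ := isConj_iff.mp hconj
  obtain ⟨k, hk, -, hl, hr⟩ := hc.exists_inv
  rw [hci] at hk hr
  have hkmem : ∀ y ∈ P, k y ∈ Q0 := fun y hy => by
    obtain ⟨x, hx, rfl⟩ := hc.mem_img.mp (hci ▸ hy)
    rwa [hl x hx]
  let π' : P →* V2 p := π.comp (MonoidHom.mk' (fun y => (⟨k y, hkmem y y.2⟩ : Q0))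
    fun a b => Subtype.ext (hk.map_mul a.2 b.2))
  obtain ⟨hfc, -, hrec⟩ := fullyNormalized_props hS hF hP
  set R := P ⊔ centralizerIn S P
  have hRS : R ≤ S := sup_le hP.1 inf_le_left
  have hCR : centralizerIn S R ≤ R := fun x hx => Subgroup.mem_sup_right
    ⟨hx.1, Subgroup.centralizer_le (fun y hy => Subgroup.mem_sup_left hy) hx.2⟩
  have hcen : F.IsCentric R := by
    obtain ⟨R', hRR', hR'⟩ := exists_fullyNormalized (F := F) hRS
    obtain ⟨d, hd, hdi⟩ := isConj_iff.mp hRR'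
    refine centric_of_isConj ?_ (isConj_symm hRR')
    refine centric_of_fullyCentralized hS hF (fullyNormalized_props hS hF hR').1 fun z hz => ?_
    -- pull back along a map which extends to the centralizer
    have hdP : F.IsConj P (img P d) := isConj_iff.mpr ⟨d, hd.mono le_sup_left, rfl⟩
    have hcard := hfc.2 _ hdP
    obtain ⟨hzS, hzC⟩ := mem_centralizerIn.mp hz
    have hz' : z ∈ centralizerIn S (img P d) := mem_centralizerIn.mpr ⟨hzS, fun y hy =>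
      hzC y (hdi ▸ img_mono le_sup_left d hy)⟩
    have hsub : centralizerIn S (img P d) ≤ R' := by
      have hle : img (centralizerIn S P) d ≤ centralizerIn S (img P d) :=
        IsMap.img_le_iff.mpr fun y hy => hd.mem_centralizerIn le_sup_left
          (Subgroup.mem_sup_right hy) hy
      have : Finite (centralizerIn S (img P d)) := finite_of_le inf_le_left
      rw [← Subgroup.eq_of_le_of_card_ge hle
        (by rw [(hd.mono le_sup_right).card_img]; exact hcard), ← hdi]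
      exact img_mono le_sup_right d
    exact hsub hz'
  refine ⟨R, hcen, P, π', ?_, ?_, fun M => ?_⟩
  · exact le_sup_left.trans (le_normalizerIn hRS)
  · intro v
    obtain ⟨x, rfl⟩ := hπ v
    refine ⟨⟨c x, hci ▸ IsMap.apply_mem_img x.2⟩, congrArg π (Subtype.ext ?_)⟩
    exact hl x x.2
  · obtain ⟨f, hf, hfrel⟩ := hrel M
    have hfQ : ∀ x ∈ Q0, f x ∈ Q0 := fun x hx => by
      obtain ⟨y, hy, -⟩ := hfrel ⟨x, hx⟩
      exact hy ▸ y.2
    have hg : IsMap F P (c ∘ f ∘ k) :=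
      (hk.comp hf hkmem).comp hc fun y hy => hfQ _ (hkmem y hy)
    have hgi : img P (c ∘ f ∘ k) = P := by
      have := finite_of_le hP.1
      refine Subgroup.eq_of_le_of_card_ge (IsMap.img_le_iff.mpr fun y hy => ?_) hg.card_img.ge
      exact hci ▸ IsMap.apply_mem_img (hfQ _ (hkmem y hy))
    obtain ⟨g, hgm, hge⟩ := receptive_extend hrec hg hgi
    have hRext : R ≤ extSub S P (c ∘ f ∘ k) :=
      sup_le (le_extSub hg) (centralizerIn_le_extSub P _)
    refine ⟨g, hgm.mono (sup_le (le_extSub hg) hRext), ?_, fun y => ?_⟩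
    · have := finite_of_le hRS
      refine Subgroup.eq_of_le_of_card_ge ?_ (hgm.mono hRext).card_img.ge
      refine IsMap.img_le_iff.mpr ?_
      intro y hy
      have hgP : img P g = P := (img_congr hge).trans hgi
      have hle : img R g ≤ R := by
        rw [(hgm.mono hRext).img_sup, hgP]
        refine sup_le_sup_left (IsMap.img_le_iff.mpr fun z hz => ?_) P
        have := hgm.mem_centralizerIn (le_extSub hg) (centralizerIn_le_extSub P _ hz) hz
        rwa [hgP] at this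
      exact hle (IsMap.apply_mem_img hy)
    · obtain ⟨z, hz, hzπ⟩ := hfrel ⟨k y, hkmem y y.2⟩
      refine ⟨⟨c z, hci ▸ IsMap.apply_mem_img z.2⟩, ?_, ?_⟩
      · show c z = g y
        rw [hge y y.2, hz]
        rfl
      · show π ⟨k (c z), _⟩ = actV M (π ⟨k y, _⟩)
        rw [← hzπ]
        exact congrArg π (Subtype.ext (hl z z.2))

theorem HasQdAt.transport [Finite S] [Fact p.Prime] (hS : IsPGroup p S) (hF : F.IsSaturated p)
    {R R' : Subgroup Ω} (h : HasQdAt F p R) (hc : F.IsConj R R')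
    (hn : F.IsFullyNormalized R') : HasQdAt F p R' := by
  obtain ⟨hcen, Q0, π, hQ0, hπ, hrel⟩ := h
  obtain ⟨-, hfa, hrec⟩ := fullyNormalized_props hS hF hn
  obtain ⟨c0, hc0, hci0⟩ := isConj_iff.mp hc
  obtain ⟨χ, -, c, hcm, hci, -, hcN⟩ := exists_map_normalizer hS hfa hrec hc0 hci0
  have hQR : Q0 ⊔ R ≤ normalizerIn S R := sup_le hQ0 (le_normalizerIn hcen.1)
  obtain ⟨k, hk, -, hl, hr⟩ := (hcm.mono hQR).exists_inv
  set P := img Q0 c
  have hcQ := hcm.mono hQ0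
  have hsplit : img (Q0 ⊔ R) c = P ⊔ R' := by rw [(hcm.mono hQR).img_sup, hci]
  have hkP : ∀ y ∈ P, k y ∈ Q0 := fun y hy => by
    obtain ⟨x, hx, rfl⟩ := hcQ.mem_img.mp hy
    rwa [hl x (Subgroup.mem_sup_left hx)]
  let π' : P →* V2 p := π.comp (MonoidHom.mk' (fun y => (⟨k y, hkP y y.2⟩ : Q0))
    fun a b => Subtype.ext (hk.map_mul (img_mono le_sup_left c a.2) (img_mono le_sup_left c b.2)))
  refine ⟨centric_of_isConj hcen hc, P, π', ?_, ?_, fun M => ?_⟩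
  · exact IsMap.img_le_iff.mpr fun x hx => hcN x (hQ0 hx)
  · intro v
    obtain ⟨x, rfl⟩ := hπ v
    exact ⟨⟨c x, IsMap.apply_mem_img x.2⟩,
      congrArg π (Subtype.ext (hl x (Subgroup.mem_sup_left x.2)))⟩
  · obtain ⟨f, hf, hfi, hfrel⟩ := hrel M
    have hfQ : ∀ x ∈ Q0, f x ∈ Q0 := fun x hx => by
      obtain ⟨y, hy, -⟩ := hfrel ⟨x, hx⟩
      exact hy ▸ y.2
    have hfQR : ∀ x ∈ Q0 ⊔ R, f x ∈ Q0 ⊔ R := IsMap.img_le_iff.mp (by
      rw [hf.img_sup, hfi]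
      exact sup_le_sup_right (IsMap.img_le_iff.mpr hfQ) R)
    have hkm : IsMap F (P ⊔ R') k := hsplit ▸ hk
    have hkQR : ∀ y ∈ P ⊔ R', k y ∈ Q0 ⊔ R := fun y hy => by
      obtain ⟨x, hx, rfl⟩ := (hcm.mono hQR).mem_img.mp (hsplit ▸ hy)
      rwa [hl x hx]
    have hg : IsMap F (P ⊔ R') (c ∘ f ∘ k) :=
      (hkm.comp hf hkQR).comp (hcm.mono hQR) fun y hy => hfQR _ (hkQR y hy)
    refine ⟨c ∘ f ∘ k, hg, ?_, fun y => ?_⟩
    · have := finite_of_le hn.1
      refine Subgroup.eq_of_le_of_card_ge (IsMap.img_le_iff.mpr fun y hy => ?_)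
        (hg.mono le_sup_right).card_img.ge
      obtain ⟨x, hx, rfl⟩ := (hcm.mono (le_normalizerIn hcen.1)).mem_img.mp (hci.symm ▸ hy)
      show c (f (k (c x))) ∈ R'
      rw [hl x (Subgroup.mem_sup_right hx), ← hci]
      exact IsMap.apply_mem_img ((IsMap.img_le_iff.mp hfi.le) x hx)
    · obtain ⟨z, hz, hzπ⟩ := hfrel ⟨k y, hkP y y.2⟩
      refine ⟨⟨c z, IsMap.apply_mem_img z.2⟩, ?_, ?_⟩
      · show c z = c (f (k y))
        rw [hz]
      · show π ⟨k (c z), _⟩ = actV M (π ⟨k y, _⟩)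
        rw [← hzπ]
        exact congrArg π (Subtype.ext (hl z (Subgroup.mem_sup_left z.2)))

/-- At a fully normalized such subgroup every model involves `Qd(p)`. -/
theorem HasQdAt.involves [Finite S] [Fact p.Prime] (hS : IsPGroup p S)
    {R : Subgroup Ω} (h : HasQdAt F p R) {N : FusionSystem (normalizerIn S R)}
    (hN : F.IsNormalizerSystem R N) {L : Type*} [Group L] [Finite L]
    {ι : normalizerIn S R →* L} (hι : N.IsRealizedBy ι) : Involves ↥(qd p) L := by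
  obtain ⟨-, Q0, π, hQ0, hπ, hrel⟩ := h
  let T := normalizerIn S R
  let A : Subgroup L := (Q0.subgroupOf T).map ι
  let e : Q0 ≃* A := (Subgroup.subgroupOfEquivOfLe hQ0).symm.trans
    ((Q0.subgroupOf T).equivMapOfInjective ι hι.1)
  have he : ∀ x : Q0, (e x : L) = ι ⟨x, hQ0 x.2⟩ := fun x => rfl
  refine involves_of_isQdWitness (π := π.comp e.symm.toMonoidHom) ⟨?_, ?_, fun M => ?_⟩
  · exact ((hS.of_injective _ (Subgroup.inclusion_injective inf_le_left)).to_subgroup _).map _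
  · exact hπ.comp e.symm.surjective
  · obtain ⟨f, hf, hfi, hfrel⟩ := hrel M
    have hmN : IsMap N Q0 f := (isMap_of_isNormalizerSystem hN).mpr ⟨hQ0, fun x hx => by
      obtain ⟨y, hy, -⟩ := hfrel ⟨x, hx⟩
      exact hy ▸ hQ0 y.2, hf.mono le_sup_left, f, hf, fun _ _ => rfl, hfi⟩
    obtain ⟨g, hg⟩ := exists_elt_of_isMap hι hmN
    refine ⟨g, fun a => ?_⟩
    obtain ⟨x, rfl⟩ := e.surjective a
    obtain ⟨y, hy, hyπ⟩ := hfrel x
    refine ⟨e y, ?_, ?_⟩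
    · rw [he, he]
      exact hg ⟨x, hQ0 x.2⟩ x.2 ⟨y, hQ0 y.2⟩ hy
    · show π (e.symm (e y)) = actV M (π (e.symm (e x)))
      rw [e.symm_apply_apply, e.symm_apply_apply, hyπ]

/-- The witness can be placed at a fully normalized centric radical subgroup. -/
theorem exists_radical_hasQdAt [Finite S] [Fact p.Prime] (hS : IsPGroup p S)
    (hF : F.IsSaturated p) (h : HasQd F p) :
    ∃ Q, F.IsFullyNormalized Q ∧ F.IsRadical p Q ∧ HasQdAt F p Q := by
  obtain ⟨R0, hR0⟩ := exists_hasQdAt hS hF h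
  obtain ⟨R, hR, hmax⟩ := Set.exists_max_image {R | HasQdAt F p R} (fun R => Nat.card R)
    (finite_subgroups_le.subset fun R hR => hR.1.1) ⟨R0, hR0⟩
  obtain ⟨Q, hRQ, hQ⟩ := exists_fullyNormalized (F := F) hR.1.1
  have hQat := HasQdAt.transport hS hF hR hRQ hQ
  obtain ⟨L, _, ι, hM, hnor, hcen⟩ := exists_normalizer_model hS hF hQat.1 hQ
  obtain ⟨hL, hreal, hsyl, -⟩ := hM
  have hN := isNormalizerSystem_normalizerSystem (F := F) hQat.1.1
  refine ⟨Q, hQ, radical_of_pCore_le hS hQat.1.1 hN hreal hnor hcen ?_, hQat⟩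
  let T := normalizerIn S Q
  let A : Subgroup T := (pCore p L).comap ι
  let R1 : Subgroup Ω := A.map T.subtype
  have hR1T : R1 ≤ T := Subgroup.map_subtype_le _
  have hTp : IsPGroup p T := hS.of_injective _ (Subgroup.inclusion_injective inf_le_left)
  have hQL := Cfsg.Lib.Components.le_pCore (p := p) (hn := hnor)
    ((hTp.to_subgroup (Q.subgroupOf T)).map ι)
  have hQR1 : Q ≤ R1 := fun q hq =>
    ⟨⟨q, le_normalizerIn hQ.1 hq⟩, hQL ⟨_, hq, rfl⟩, rfl⟩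
  have hR1 : ∀ x : T, (x : Ω) ∈ R1 ↔ ι x ∈ pCore p L := fun x =>
    ⟨fun ⟨y, hy, e⟩ => Subtype.ext e ▸ hy, fun hx => ⟨x, hx, rfl⟩⟩
  have hat : HasQdAt F p R1 := by
    obtain ⟨Q0, π, hQ0, hπ, hrel⟩ := And.right hQat
    have hS1 : R1 ≤ S := hR1T.trans inf_le_left
    have hnorm : Q0 ≤ normalizerIn S R1 := fun x hx => ⟨(hQ0 hx).1, by
      have := finite_of_le hS1
      refine mem_normalizer_of_maps_finite fun y hy => ?_
      have h2 : ι (⟨x, hQ0 hx⟩ * ⟨y, hR1T hy⟩ * ⟨x, hQ0 hx⟩⁻¹) ∈ pCore p L := by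
        rw [_root_.map_mul, _root_.map_mul, _root_.map_inv]
        exact (Cfsg.Lib.Components.pCore_normal' p).conj_mem _ ((hR1 ⟨y, hR1T hy⟩).mp hy) _
      exact (hR1 _).mpr h2⟩
    refine ⟨centric_of_le (centric_of_isConj hR.1 hRQ) hQR1 hS1, Q0, π, hnorm, hπ, fun M => ?_⟩
    obtain ⟨f, hf, hfi, hfrel⟩ := hrel M
    have hfN : IsMap (normalizerSystem F hQ.1) Q0 f := (isMap_of_isNormalizerSystem hN).mpr
      ⟨hQ0, fun x hx => by
        obtain ⟨y, hy, -⟩ := hfrel ⟨x, hx⟩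
        exact hy ▸ hQ0 y.2, hf.mono le_sup_left, f, hf, fun _ _ => rfl, hfi⟩
    obtain ⟨g, hg⟩ := exists_elt_of_isMap hreal hfN
    -- the conjugation by `g` on `Q0 ⊔ R1`
    let B : Subgroup T := ι.range.comap ((MulAut.conj g).toMonoidHom.comp ι)
    have hBR : R1 ≤ B.map T.subtype := fun x hx => ⟨⟨x, hR1T hx⟩,
      pCore_le_range hsyl ((Cfsg.Lib.Components.pCore_normal' p).conj_mem _
        ((hR1 ⟨x, hR1T hx⟩).mp hx) g), rfl⟩
    have hBQ : Q0 ≤ B.map T.subtype := fun x hx => by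
      obtain ⟨y, hy, -⟩ := hfrel ⟨x, hx⟩
      exact ⟨⟨x, hQ0 hx⟩, ⟨⟨y, hQ0 y.2⟩, hg ⟨x, hQ0 hx⟩ hx _ hy⟩, rfl⟩
    have hB : ∀ x : T, (x : Ω) ∈ Q0 ⊔ R1 → g * ι x * g⁻¹ ∈ ι.range := fun x hx => by
      obtain ⟨y, hy, e⟩ := sup_le hBQ hBR hx
      obtain rfl : y = x := Subtype.ext e
      exact hy
    obtain ⟨f', hf', hf'T, hfe⟩ := exists_isMap_of_elt hreal (sup_le hQ0 hR1T) g hB
    refine ⟨f', isMap_of_isSubsystemOf (isSubsystemOf_of_isNormalizerSystem hN) hf', ?_,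
      hfrel.congr fun x hx => ?_⟩
    · have := finite_of_le hS1
      refine Subgroup.eq_of_le_of_card_ge (IsMap.img_le_iff.mpr fun y hy => ?_)
        (hf'.mono le_sup_right).card_img.ge
      have e := (hfe ⟨y, hR1T hy⟩ (Subgroup.mem_sup_right hy)
        ⟨_, hf'T y (Subgroup.mem_sup_right hy)⟩).mp rfl
      refine (hR1 ⟨_, hf'T y (Subgroup.mem_sup_right hy)⟩).mpr ?_
      rw [e]
      exact (Cfsg.Lib.Components.pCore_normal' p).conj_mem _ ((hR1 _).mp hy) g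
    · obtain ⟨y, hy, -⟩ := hfrel ⟨x, hx⟩
      rw [← hy]
      exact ((hfe ⟨x, hQ0 hx⟩ (Subgroup.mem_sup_left hx) ⟨y, hQ0 y.2⟩).mpr
        (hg ⟨x, hQ0 hx⟩ hx _ hy)).symm
  have hle : Nat.card R1 ≤ Nat.card Q := by
    rw [isConj_card hRQ]
    exact hmax R1 hat
  have hfin := finite_of_le (hR1T.trans (inf_le_left : T ≤ S))
  have heq : Q = R1 := Subgroup.eq_of_le_of_card_ge hQR1 hle
  intro x hx
  obtain ⟨s, rfl⟩ := pCore_le_range hsyl hx
  exact ⟨s, Subgroup.mem_subgroupOf.mpr ((SetLike.ext_iff.mp heq _).mpr ((hR1 s).mpr hx)), rfl⟩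

theorem hasQd_of_model [Finite S] [Fact p.Prime] {Q : Subgroup Ω}
    {N : FusionSystem (normalizerIn S Q)} (hN : F.IsNormalizerSystem Q N) {L : Type*} [Group L]
    {ι : normalizerIn S Q →* L} (hM : N.IsModel p L ι) (hinv : Involves ↥(qd p) L) :
    HasQd F p :=
  haveI := hM.1
  hasQd_of_group inf_le_left (isSubsystemOf_of_isNormalizerSystem hN) hM.2.1 hM.2.2.1 hinv

universe u

/-- A system is `Qd(p)`-free exactly when no subgroup has such automorphisms. -/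
theorem isSectionFree_qd_iff {Ω : Type u} [Group Ω] {S : Subgroup Ω} {F : FusionSystem S}
    [Finite S] [Fact p.Prime] (hS : IsPGroup p S) (hF : F.IsSaturated p) :
    F.IsSectionFree p ↥(qd p) ↔ ¬ HasQd F p := by
  constructor
  · intro hfree h
    obtain ⟨Q, hn, -, hat⟩ := exists_radical_hasQdAt hS hF h
    obtain ⟨L, _, ι, hM, -, -⟩ := exists_normalizer_model hS hF hat.1 hn
    haveI := hM.1
    exact hfree Q hn hat.1 _ (isNormalizerSystem_normalizerSystem hat.1.1) L ι hM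
      (hat.involves hS (isNormalizerSystem_normalizerSystem hat.1.1) hM.2.1)
  · intro h Q _ _ N hN L _ ι hM hinv
    exact h (hasQd_of_model hN hM hinv)

end Cfsg.Lib.Fusion
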