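import Mathlib
import Cfsg.Prelude.Def_PLocal
import Cfsg.Prelude.Def_LocalEven

/-!
`Qd(2)` is the symmetric group of degree 4.
-/

set_option autoImplicit false

namespace Cfsg.Lib.Fusion.QdTwo

open Matrix

abbrev SL3 := Matrix.SpecialLinearGroup (Fin 3) (ZMod 2)

/-- Four affine points. -/
abbrev Pt := {v : Fin 3 → ZMod 2 // v 2 = 1}

/-- Matrices fixing the last coordinate. -/
def affine : Subgroup SL3 where
  carrier := {M | ∀ v : Fin 3 → ZMod 2, (M.1 *ᵥ v) 2 = v 2}
  one_mem' v := by simp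
  mul_mem' {M N} hM hN v := by
    rw [Matrix.SpecialLinearGroup.coe_mul, ← Matrix.mulVec_mulVec, hM, hN]
  inv_mem' {M} hM v := by
    conv_rhs => rw [← Matrix.one_mulVec v]
    rw [← Matrix.SpecialLinearGroup.coe_one, ← mul_inv_cancel M, Matrix.SpecialLinearGroup.coe_mul,
      ← Matrix.mulVec_mulVec, hM]

theorem qd_two_eq : Cfsg.qd 2 = affine := by
  have hiff : ∀ M : SL3, M ∈ affine ↔ M.1 2 0 = 0 ∧ M.1 2 1 = 0 ∧ M.1 2 2 = 1 := by
    intro M
    constructor
    · intro h
      refine ⟨?_, ?_, ?_⟩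
      · simpa [Matrix.mulVec_single] using h (Pi.single 0 1)
      · simpa [Matrix.mulVec_single] using h (Pi.single 1 1)
      · simpa [Matrix.mulVec_single] using h (Pi.single 2 1)
    · rintro ⟨a, b, c⟩ v
      simp [Matrix.mulVec, dotProduct, Fin.sum_univ_three, a, b, c]
  refine le_antisymm ((Subgroup.closure_le _).mpr fun M hM => (hiff M).mpr hM) fun M hM => ?_
  exact Subgroup.subset_closure ((hiff M).mp hM)

def act : affine →* Equiv.Perm Pt where
  toFun M :=
    { toFun := fun v => ⟨M.1.1 *ᵥ v.1, (M.2 v.1).trans v.2⟩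
      invFun := fun v => ⟨(M⁻¹).1.1 *ᵥ v.1, ((M⁻¹).2 v.1).trans v.2⟩
      left_inv := fun v => Subtype.ext <| by
        show (M⁻¹).1.1 *ᵥ (M.1.1 *ᵥ v.1) = v.1
        rw [Matrix.mulVec_mulVec, ← Matrix.SpecialLinearGroup.coe_mul, ← Subgroup.coe_mul,
          inv_mul_cancel, Subgroup.coe_one, Matrix.SpecialLinearGroup.coe_one, Matrix.one_mulVec]
      right_inv := fun v => Subtype.ext <| by
        show M.1.1 *ᵥ ((M⁻¹).1.1 *ᵥ v.1) = v.1
        rw [Matrix.mulVec_mulVec, ← Matrix.SpecialLinearGroup.coe_mul, ← Subgroup.coe_mul,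
          mul_inv_cancel, Subgroup.coe_one, Matrix.SpecialLinearGroup.coe_one, Matrix.one_mulVec] }
  map_one' := Equiv.ext fun v => Subtype.ext (by simp)
  map_mul' M N := Equiv.ext fun v => Subtype.ext (by simp [Matrix.mulVec_mulVec])

theorem act_injective : Function.Injective act := by
  refine (injective_iff_map_eq_one act).mpr fun M hM => ?_
  have h : ∀ v : Pt, M.1.1 *ᵥ v.1 = v.1 := fun v =>
    congrArg Subtype.val (congrArg (fun e : Equiv.Perm Pt => e v) hM)
  have h2 : M.1.1 *ᵥ Pi.single 2 1 = Pi.single 2 1 := h ⟨_, Pi.single_eq_same (M := fun _ => ZMod 2) 2 1⟩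
  have hj : ∀ j, M.1.1 *ᵥ Pi.single j 1 = Pi.single j 1 := by
    intro j
    by_cases e : j = 2
    · exact e ▸ h2
    · have hv := h ⟨Pi.single j 1 + Pi.single 2 1, by simp [Ne.symm e]⟩
      rw [Matrix.mulVec_add, h2] at hv
      exact add_right_cancel hv
  refine Subtype.ext (Subtype.ext (Matrix.ext fun i j => ?_))
  have := congrFun (hj j) i
  simpa [Matrix.mulVec_single, Matrix.one_apply, Pi.single_apply] using this

/-- Entries of the upper two rows. -/
abbrev Six := {q : (ZMod 2 × ZMod 2 × ZMod 2) × (ZMod 2 × ZMod 2 × ZMod 2) //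
  q.1.1 * q.2.2.1 - q.1.2.1 * q.2.1 = 1}

theorem card_six : Fintype.card Six = 24 := by decide +kernel

theorem card_pt : Fintype.card Pt = 4 := by decide +kernel

theorem card_affine : 24 ≤ Nat.card affine := by
  let f : Six → affine := fun q =>
    ⟨⟨!![q.1.1.1, q.1.1.2.1, q.1.1.2.2; q.1.2.1, q.1.2.2.1, q.1.2.2.2; 0, 0, 1], by
      have := q.2
      rw [Matrix.det_fin_three]
      simp
      linear_combination this⟩, fun v => by
      simp [Matrix.mulVec, dotProduct, Fin.sum_univ_three]⟩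
  have hf : Function.Injective f := by
    intro a b h
    have e : ∀ i j, (f a).1.1 i j = (f b).1.1 i j := fun i j => by rw [h]
    have := e 0 0
    have := e 0 1
    have := e 0 2
    have := e 1 0
    have := e 1 1
    have := e 1 2
    refine Subtype.ext (Prod.ext (Prod.ext ?_ (Prod.ext ?_ ?_)) (Prod.ext ?_ (Prod.ext ?_ ?_))) <;>
      simp_all [f]
  rw [← card_six, ← Nat.card_eq_fintype_card]
  exact Nat.card_le_card_of_injective f hf

theorem nonempty_mulEquiv : Nonempty (Cfsg.qd 2 ≃* Equiv.Perm (Fin 4)) := by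
  rw [qd_two_eq]
  have hcard : Nat.card (Equiv.Perm Pt) = 24 := by
    rw [Nat.card_perm, Nat.card_eq_fintype_card, card_pt]; rfl
  have hbij : Function.Bijective act := (Nat.bijective_iff_injective_and_card act).mpr
    ⟨act_injective, le_antisymm (Nat.card_le_card_of_injective act act_injective)
      (hcard.le.trans card_affine)⟩
  exact ⟨(MulEquiv.ofBijective act hbij).trans
    (Fintype.equivFinOfCardEq card_pt).permCongrHom⟩

theorem involves_congr {H K : Type*} [Group H] [Group K] {G : Type*} [Group G] (e : H ≃* K)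
    (h : Cfsg.Involves H G) : Cfsg.Involves K G := by
  obtain ⟨A, R, hn, ⟨φ⟩⟩ := h
  exact ⟨A, R, hn, ⟨φ.trans e⟩⟩

end Cfsg.Lib.Fusion.QdTwo
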