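import Cfsg.Agent.Fusion.CenterControl
import Cfsg.Agent.Fusion.QdFusion
import Cfsg.Agent.Fusion.QdTwo
import Cfsg.Agent.Components.Sfour.WeakClosure

/-!
The abelian Thompson subgroup controls the centre of a fusion system.
-/

set_option autoImplicit false

namespace Cfsg.Lib.Fusion

open Cfsg Cfsg.FusionSystem

universe u

/-- The functor `Q ↦ J(Q)`. -/
abbrev jFun : ∀ (Q : Type u) [Group Q], Subgroup Q := fun Q _ => thompsonSubgroupA Q

theorem jFun_map {p : ℕ} (Q R : Type u) [Group Q] [Group R] [Finite Q] (_ : IsPGroup p Q)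
    (φ : Q ≃* R) : (jFun Q).map φ.toMonoidHom = jFun R := by
  have key : ∀ (A B : Type u) [Group A] [Group B] (ψ : A ≃* B), ∀ X ∈ maxAbelianSubgroups A,
      X.map ψ.toMonoidHom ∈ maxAbelianSubgroups B := by
    intro A B _ _ ψ X hX
    haveI := hX.1
    refine ⟨Subgroup.map_isMulCommutative X ψ.toMonoidHom, fun Y hY => ?_⟩
    haveI := hY
    have h := hX.2 (Y.map ψ.symm.toMonoidHom) (Subgroup.map_isMulCommutative Y _)
    rwa [Subgroup.card_map_of_injective ψ.symm.injective,
      ← Subgroup.card_map_of_injective (f := ψ.toMonoidHom) ψ.injective] at h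
  refine le_antisymm (Subgroup.map_le_iff_le_comap.mpr (sSup_le fun X hX => ?_))
    (sSup_le fun X hX => ?_)
  · exact Subgroup.map_le_iff_le_comap.mp (le_sSup (key Q R φ X hX))
  · have e : (X.map φ.symm.toMonoidHom).map φ.toMonoidHom = X := by
      rw [Subgroup.map_map]
      convert Subgroup.map_id X
      ext x
      simp
    rw [← e]
    exact Subgroup.map_mono (le_sSup (key R Q φ.symm X hX))

theorem jFun_center {p : ℕ} (Q : Type u) [Group Q] [Finite Q] (_ : IsPGroup p Q) :
    Subgroup.center Q ≤ jFun Q := by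
  obtain ⟨A, hA, hmax⟩ := Set.exists_max_image {A : Subgroup Q | IsMulCommutative A}
    (fun A => Nat.card A) (Set.toFinite _) ⟨⊥, inferInstanceAs (IsMulCommutative (⊥ : Subgroup Q))⟩
  have hAm : A ∈ maxAbelianSubgroups Q := ⟨hA, fun B hB => hmax B hB⟩
  intro z hz
  refine le_sSup hAm (?_ : z ∈ A)
  have hc : IsMulCommutative (Subgroup.closure ((A : Set Q) ∪ {z}) : Subgroup Q) := by
    refine Subgroup.isMulCommutative_closure fun a ha b hb => ?_
    rcases ha with ha | rfl
    · rcases hb with hb | rfl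
      · exact congrArg Subtype.val (hA.is_comm.comm (⟨a, ha⟩ : A) ⟨b, hb⟩)
      · exact Subgroup.mem_center_iff.mp hz a
    · exact (Subgroup.mem_center_iff.mp hz b).symm
  have hle : A ≤ Subgroup.closure ((A : Set Q) ∪ {z}) := fun a ha =>
    Subgroup.subset_closure (Or.inl ha)
  rw [Subgroup.eq_of_le_of_card_ge hle (hmax _ hc)]
  exact Subgroup.subset_closure (Or.inr rfl)

variable {p : ℕ} [Fact p.Prime]

theorem localControl_jFun_pow : LocalControl p jFun.{u} p := by
  intro L _ _ U y hyU hyc hcen hN _ l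
  have hQn : (pCore p L).Normal := Cfsg.Lib.Components.pCore_normal' p
  have hQU : pCore p L ≤ (U : Subgroup L) :=
    Cfsg.Lib.Thompson.le_sylow_of_normal (hn := hQn) (Cfsg.Lib.Components.isPGroup_pCore p) U
  have hyQ : y ∈ pCore p L := hcen (Subgroup.mem_centralizer_iff.mpr fun q hq => hyc q (hQU hq))
  refine Cfsg.Lib.JWeak.weaklyClosed_pow U ⟨y, ⟨hyU, Subgroup.mem_centralizer_iff.mpr hyc⟩, rfl⟩
    (Subgroup.mem_centralizer_iff.mpr fun n hn => mul_inv_eq_iff_eq_mul.mp (hN n hn)) ?_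
  exact hQU (hQn.conj_mem _ ((pCore p L).pow_mem hyQ p) l)

theorem localControl_jFun_odd (hp : p ≠ 2) : LocalControl p jFun.{u} 1 := by
  intro L _ _ U y hyU hyc hcen hN _ l
  simp only [pow_one] at hN ⊢
  have hQn : (pCore p L).Normal := Cfsg.Lib.Components.pCore_normal' p
  have hQU : pCore p L ≤ (U : Subgroup L) :=
    Cfsg.Lib.Thompson.le_sylow_of_normal (hn := hQn) (Cfsg.Lib.Components.isPGroup_pCore p) U
  have hyQ : y ∈ pCore p L := hcen (Subgroup.mem_centralizer_iff.mpr fun q hq => hyc q (hQU hq))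
  exact Cfsg.Lib.JWeak.weaklyClosed_odd hp U hyU
    (Subgroup.mem_centralizer_iff.mpr fun n hn => mul_inv_eq_iff_eq_mul.mp (hN n hn))
    (hQU (hQn.conj_mem y hyQ l))

theorem localControlOn_jFun_two [Fact (Nat.Prime 2)] :
    LocalControlOn 2 jFun.{u} 1 (fun L _ => ¬ Involves (Equiv.Perm (Fin 4)) L) := by
  intro L _ _ h4 U y hyU hyc hcen hN _ l
  simp only [pow_one] at hN ⊢
  have hQn : (pCore 2 L).Normal := Cfsg.Lib.Components.pCore_normal' 2
  have hQU : pCore 2 L ≤ (U : Subgroup L) :=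
    Cfsg.Lib.Thompson.le_sylow_of_normal (hn := hQn) (Cfsg.Lib.Components.isPGroup_pCore 2) U
  have hyQ : y ∈ pCore 2 L := hcen (Subgroup.mem_centralizer_iff.mpr fun q hq => hyc q (hQU hq))
  exact Cfsg.Lib.JWeak.weaklyClosed_two h4 U hyU
    (Subgroup.mem_centralizer_iff.mpr fun n hn => mul_inv_eq_iff_eq_mul.mp (hN n hn))
    (hQU (hQn.conj_mem y hyQ l))

variable {Ω : Type u} [Group Ω] {S : Subgroup Ω} {F : FusionSystem S}

theorem not_hasQd_two [Finite S] [Fact (Nat.Prime 2)] (hS : IsPGroup 2 S) (hF : F.IsSaturated 2)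
    (h : F.IsSectionFree 2 (Equiv.Perm (Fin 4))) : ¬ HasQd F 2 := by
  obtain ⟨e⟩ := QdTwo.nonempty_mulEquiv
  exact (isSectionFree_qd_iff hS hF).mp fun Q h1 h2 N h3 L _ ι h5 hi =>
    h Q h1 h2 N h3 L ι h5 (QdTwo.involves_congr e hi)

theorem modelsGood_two [Finite S] [Fact (Nat.Prime 2)] (hS : IsPGroup 2 S) (hF : F.IsSaturated 2)
    (h : F.IsSectionFree 2 (Equiv.Perm (Fin 4))) :
    ModelsGood F 2 (fun L _ => ¬ Involves (Equiv.Perm (Fin 4)) L) := by
  intro T E hTS hs L _ ι hM hi
  obtain ⟨e⟩ := QdTwo.nonempty_mulEquiv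
  haveI := hM.1
  exact not_hasQd_two hS hF h
    (hasQd_of_group hTS hs hM.2.1 hM.2.2.1 (QdTwo.involves_congr e.symm hi))

theorem normalizerIn_thompsonAOf [Finite S] (hS : IsPGroup p S) :
    normalizerIn S (thompsonSubgroupAOf S) = S :=
  le_antisymm inf_le_left fun _ hg =>
    ⟨hg, fnImage_normalized (W := jFun) jFun_map hS le_rfl hg (Subgroup.le_normalizer hg)⟩

theorem pow_center_normalizer_le [Finite S] (hS : IsPGroup p S) (hF : F.IsSaturated p)
    {N : FusionSystem (normalizerIn S (thompsonSubgroupAOf S))}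
    (hN : F.IsNormalizerSystem (thompsonSubgroupAOf S) N) {y : Ω} (hy : y ∈ S)
    (hyc : ∀ s ∈ S, s * y = y * s) (hz : y ^ p ∈ N.center) : y ^ p ∈ F.center :=
  mem_center_of_control (W := jFun) jFun_map jFun_center localControl_jFun_pow hS hF hN hy hyc hz

/-- Glauberman's theorem: the centre of the normalizer system of `J(S)` is the centre. -/
theorem center_normalizer_eq [Finite S] (hS : IsPGroup p S) (hF : F.IsSaturated p)
    (hp : p ≠ 2 ∨ F.IsSectionFree p (Equiv.Perm (Fin 4)))
    {N : FusionSystem (normalizerIn S (thompsonSubgroupAOf S))}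
    (hN : F.IsNormalizerSystem (thompsonSubgroupAOf S) N) : N.center = F.center := by
  haveI : Finite (normalizerIn S (thompsonSubgroupAOf S)) := finite_of_le inf_le_left
  refine le_antisymm (fun z hz => ?_)
    (center_le_center_normalizer (W := jFun) jFun_map jFun_center hS hN)
  have hzS : z ∈ S := (mem_S_of_center hz).1
  have hzc : ∀ s ∈ S, s * z = z * s := fun s hs =>
    comm_of_center hz s ((normalizerIn_thompsonAOf hS).ge hs)
  have hz1 : z ^ 1 ∈ N.center := by rwa [pow_one]
  suffices z ^ 1 ∈ F.center by rwa [pow_one] at this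
  by_cases h2 : p = 2
  · subst h2
    exact mem_center_of_control_on (W := jFun) jFun_map jFun_center localControlOn_jFun_two hS hF
      (modelsGood_two hS hF (hp.resolve_left (fun h => h rfl))) hN hzS hzc hz1
  · exact mem_center_of_control (W := jFun) jFun_map jFun_center (localControl_jFun_odd h2)
      hS hF hN hzS hzc hz1

end Cfsg.Lib.Fusion
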