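import Cfsg.Agent.Fusion.JControl
import Cfsg.Agent.Fusion.Factor
import Cfsg.Agent.Fusion.GTSteps
import Cfsg.Agent.Components.CD.Lattice
import Cfsg.Agent.S5083
import Cfsg.Agent.S5194
import Cfsg.Agent.Fusion.CentralizerSystem

/-!
A system whose automizers on the characteristic subgroups are `p`-groups is inner.
-/

set_option autoImplicit false

namespace Cfsg.Lib.Fusion

open Cfsg Cfsg.FusionSystem

universe u

variable {Ω : Type u} [Group Ω] {S : Subgroup Ω} {F : FusionSystem S} {p : ℕ}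

/-- An automorphism acting trivially on a section chain has order dividing the exponent. -/
theorem chain_pow_eq_one {R : Subgroup Ω} (γ : MulAut R) (V : Set Ω) {n : ℕ}
    (hfix : ∀ x : R, (x : Ω) ∈ V → γ x = x) (hmod : ∀ x : R, ((x⁻¹ * γ x : R) : Ω) ∈ V)
    (hexp : ∀ x : R, x ^ n = 1) : γ ^ n = 1 := by
  refine MulEquiv.ext fun x => ?_
  have h : ∀ i : ℕ, (γ ^ i) x = x * (x⁻¹ * γ x) ^ i := by
    intro i
    induction i with
    | zero => simp
    | succ i ih =>
      rw [pow_succ', MulAut.mul_apply, ih, map_mul, map_pow, hfix _ (hmod x), pow_succ' (x⁻¹ * γ x),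
        ← mul_assoc x, mul_inv_cancel_left]
  rw [h, hexp, mul_one, MulAut.one_apply]

/-- Powers of two agreeing automorphisms agree. -/
theorem autFun_pow_agree {R J : Subgroup Ω} (γ : MulAut R) (β : MulAut J) (hJR : J ≤ R)
    (h : ∀ x ∈ J, autFun γ x = autFun β x) (n : ℕ) :
    ∀ x ∈ J, autFun (γ ^ n) x = autFun (β ^ n) x := by
  induction n with
  | zero =>
    intro x hx
    rw [autFun_apply_mem _ (hJR hx), autFun_apply_mem _ hx]
    simp
  | succ n ih =>
    intro x hx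
    rw [pow_succ', pow_succ', autFun_mul _ _ (hJR hx), autFun_mul _ _ hx, ih x hx,
      h _ (autFun_mem _ hx)]

theorem autFun_one {R : Subgroup Ω} {x : Ω} (hx : x ∈ R) : autFun (1 : MulAut R) x = x := by
  rw [autFun_apply_mem _ hx]
  rfl

theorem eq_one_of_autFun {Q : Subgroup Ω} {α : MulAut Q} (h : ∀ x ∈ Q, autFun α x = x) : α = 1 :=
  MulEquiv.ext fun x => Subtype.ext ((autFun_apply α x).symm.trans (h x x.2))

theorem exists_aut_extension [Finite S] {Q J : Subgroup Ω} {α : MulAut Q} {k : Ω → Ω}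
    (hk : IsMap F (Q ⊔ J) k) (hkf : ∀ x ∈ Q, k x = autFun α x) (hki : img J k = J) :
    ∃ γ ∈ F.autGroup (Q ⊔ J), (∀ x ∈ Q ⊔ J, autFun γ x = k x) := by
  refine hk.exists_aut ?_
  rw [hk.img_sup, hki, img_congr hkf, img_autFun]

/-- Automizers are `p`-groups if they extend to a self-centralizing normal subgroup with this property. -/
theorem isPGroup_aut_of_ext [Finite S] [Fact p.Prime] (hS : IsPGroup p S) {J Q : Subgroup Ω}
    (hQS : Q ≤ S) (hnJ : S ≤ Subgroup.normalizer (J : Set Ω)) (hcJ : centralizerIn S J ≤ J)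
    (hJp : IsPGroup p (F.autGroup J))
    {α : MulAut Q} (hext : ExtendsWith F J Q (autFun α)) : ∃ i : ℕ, α ^ p ^ i = 1 := by
  obtain ⟨k, hk, hkf, hki⟩ := hext
  have hRS := hk.le
  have hQR : Q ≤ Q ⊔ J := le_sup_left
  have hJR : J ≤ Q ⊔ J := le_sup_right
  obtain ⟨γ, -, hγk⟩ := exists_aut_extension hk hkf hki
  obtain ⟨β, hβ, hβk⟩ := (hk.mono hJR).exists_aut hki
  obtain ⟨i, hi⟩ := hJp ⟨β, hβ⟩
  have hi' : β ^ p ^ i = 1 := by simpa using congrArg Subtype.val hi
  set γ1 := γ ^ p ^ i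
  have hfix : ∀ x ∈ J, autFun γ1 x = x := fun x hx => by
    rw [autFun_pow_agree γ β hJR (fun y hy => (hγk y (hJR hy)).trans (hβk y hy).symm) _ x hx, hi',
      autFun_one hx]
  have hfix' : ∀ x : (Q ⊔ J : Subgroup Ω), (x : Ω) ∈ J → γ1 x = x := fun x hx =>
    Subtype.ext ((autFun_apply γ1 x).symm.trans (hfix x hx))
  have hmod : ∀ x : (Q ⊔ J : Subgroup Ω), ((x⁻¹ * γ1 x : (Q ⊔ J : Subgroup Ω)) : Ω) ∈ J := by
    intro x
    refine hcJ ⟨hRS (x⁻¹ * γ1 x).2, Subgroup.mem_centralizer_iff.mpr fun j hj => ?_⟩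
    have hc : (x : Ω) * j * (x : Ω)⁻¹ ∈ J := conj_mem_of_mem_normalizer (hnJ (hRS x.2)) hj
    have h1 : γ1 (x * ⟨j, hJR hj⟩ * x⁻¹) = x * ⟨j, hJR hj⟩ * x⁻¹ := hfix' _ hc
    rw [map_mul, map_mul, map_inv, hfix' ⟨j, hJR hj⟩ hj] at h1
    have h2 : (⟨j, hJR hj⟩ : (Q ⊔ J : Subgroup Ω)) * (x⁻¹ * γ1 x) = x⁻¹ * γ1 x * ⟨j, hJR hj⟩ := by
      calc (⟨j, hJR hj⟩ : (Q ⊔ J : Subgroup Ω)) * (x⁻¹ * γ1 x)
          = x⁻¹ * (x * ⟨j, hJR hj⟩ * x⁻¹) * γ1 x := by group
        _ = x⁻¹ * (γ1 x * ⟨j, hJR hj⟩ * (γ1 x)⁻¹) * γ1 x := by rw [h1]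
        _ = x⁻¹ * γ1 x * ⟨j, hJR hj⟩ := by group
    exact congrArg Subtype.val h2
  obtain ⟨m, hm⟩ := IsPGroup.iff_card.mp hS
  haveI : Finite S := inferInstance
  have hexp : ∀ x : (Q ⊔ J : Subgroup Ω), x ^ Nat.card S = 1 := fun x => Subtype.ext (by
    have := congrArg Subtype.val (pow_card_eq_one' (x := (⟨x, hRS x.2⟩ : S)))
    simpa only [Subgroup.coe_pow, Subgroup.coe_one] using this)
  have h1 : γ ^ (p ^ i * Nat.card S) = 1 := by
    rw [pow_mul]; exact chain_pow_eq_one γ1 J hfix' hmod hexp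
  refine ⟨i + m, eq_one_of_autFun fun x hx => ?_⟩
  rw [pow_add, ← hm, ← autFun_pow_agree γ α hQR (fun y hy => (hγk y (hQR hy)).trans (hkf y hy)) _ x hx,
    h1, autFun_one (hQR hx)]

theorem fullyNormalized_of_normalized [Finite S] {V : Subgroup Ω} (hV : V ≤ S)
    (hn : S ≤ Subgroup.normalizer (V : Set Ω)) : F.IsFullyNormalized V := by
  haveI : Finite (normalizerIn S V) := finite_of_le inf_le_left
  exact ⟨hV, fun R _ => Nat.card_le_card_of_injective
    (fun x => (⟨x, x.2.1, hn x.2.1⟩ : normalizerIn S V))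
    fun a b e => Subtype.ext (congrArg (fun z : normalizerIn S V => (z : Ω)) e)⟩

theorem aut_trivial_of_central [Finite S] [Fact p.Prime] (hS : IsPGroup p S) (hF : F.IsSaturated p)
    {Z : Subgroup Ω} (hZS : Z ≤ S) (hc : ∀ z ∈ Z, ∀ s ∈ S, s * z = z * s)
    (hp : IsPGroup p (F.autGroup Z)) {f : Ω → Ω} (hf : IsMap F Z f) (hi : img Z f = Z) :
    ∀ z ∈ Z, f z = z := by
  haveI := finite_of_le hZS
  have hn : S ≤ Subgroup.normalizer (Z : Set Ω) := fun s hs =>
    mem_normalizer_of_maps_finite fun z hz => by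
      rw [hc z hz s hs, mul_inv_cancel_right]; exact hz
  obtain ⟨-, Rs, hRs⟩ := (fullyNormalized_props hS hF (fullyNormalized_of_normalized hZS hn)).2.1
  have hall : (⊤ : Subgroup (F.autGroup Z)) = (autInducedBy S Z).subgroupOf (F.autGroup Z) := by
    rw [← hRs]
    exact Rs.3 (hp.to_subgroup ⊤) le_top
  obtain ⟨α, hα, he⟩ := hf.exists_aut hi
  obtain ⟨s, hs, e⟩ := mem_autInducedBy.mp
    (Subgroup.mem_subgroupOf.mp (hall ▸ Subgroup.mem_top (⟨α, hα⟩ : F.autGroup Z)))
  intro z hz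
  rw [← he z hz, autFun_apply_mem _ hz, e ⟨z, hz⟩]
  show s * z * s⁻¹ = z
  rw [hc z hz s hs, mul_inv_cancel_right]

theorem centralizerIn_thompsonAOf [Finite S] :
    centralizerIn S (thompsonSubgroupAOf S) ≤ thompsonSubgroupAOf S := by
  obtain ⟨A, hA, hmax⟩ := Set.exists_max_image {A : Subgroup S | IsMulCommutative A}
    (fun A => Nat.card A) (Set.toFinite _) ⟨⊥, inferInstanceAs (IsMulCommutative (⊥ : Subgroup S))⟩
  have hAm : A ∈ maxAbelianSubgroups S := ⟨hA, fun B hB => hmax B hB⟩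
  intro x hx
  refine ⟨⟨x, hx.1⟩, le_sSup hAm ?_, rfl⟩
  rw [← Cfsg.Lib.CD.maxAb_centralizer hAm]
  exact Subgroup.mem_centralizer_iff.mpr fun a ha => Subtype.ext
    (Subgroup.mem_centralizer_iff.mp hx.2 a ⟨a, le_sSup hAm ha, rfl⟩)

theorem HasQd.mono {E : FusionSystem S} (hle : ∀ (P : Subgroup Ω) (f : Ω → Ω), IsMap E P f → IsMap F P f)
    (h : HasQd E p) : HasQd F p := by
  obtain ⟨Q0, π, hQ, hsurj, hM⟩ := h
  exact ⟨Q0, π, hQ, hsurj, fun M => let ⟨f, hf, hr⟩ := hM M; ⟨f, hle _ _ hf, hr⟩⟩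

theorem IsQuot.hasQd {Ω' : Type*} [Group Ω'] {S' : Subgroup Ω'} {θ : S →* Ω'} {E : FusionSystem S'}
    (hq : IsQuot F θ E) (h : HasQd E p) : HasQd F p := by
  obtain ⟨Q0, π, hQ, hsurj, hM⟩ := h
  let ρ : (preimageAlong θ Q0 : Subgroup Ω) →* Q0 :=
    { toFun := fun x => ⟨qmap θ x, (mem_preimageAlong.mp x.2).2⟩
      map_one' := Subtype.ext qmap_one
      map_mul' := fun x y => Subtype.ext
        (qmap_mul (preimageAlong_le _ x.2) (preimageAlong_le _ y.2)) }
  refine ⟨preimageAlong θ Q0, π.comp ρ, preimageAlong_le _, ?_, fun M => ?_⟩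
  · refine hsurj.comp fun y => ?_
    obtain ⟨x, hx, e⟩ := exists_preimage (hq.range.symm ▸ hQ) y.2
    exact ⟨⟨x, hx⟩, Subtype.ext e⟩
  · obtain ⟨f', hf', hr⟩ := hM M
    obtain ⟨f, hf, he⟩ := hq.exists_lift hf'
    refine ⟨f, hf, fun x => ?_⟩
    obtain ⟨y, hy, hyπ⟩ := hr (ρ x)
    have hmem : f x ∈ preimageAlong θ Q0 := mem_preimageAlong.mpr
      ⟨hf.mem_S x.2, by rw [← he x x.2]; exact hy ▸ y.2⟩
    refine ⟨⟨f x, hmem⟩, rfl, ?_⟩
    have : ρ ⟨f x, hmem⟩ = y := Subtype.ext ((he x x.2).symm.trans hy.symm)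
    show π (ρ ⟨f x, hmem⟩) = _
    rw [this]
    exact hyπ

theorem sectionFree_of_not_hasQd [Finite S] [Fact p.Prime] (hS : IsPGroup p S) (hF : F.IsSaturated p)
    (h : p ≠ 2 ∨ ¬ HasQd F p) : p ≠ 2 ∨ F.IsSectionFree p (Equiv.Perm (Fin 4)) := by
  by_cases h2 : p = 2
  · refine Or.inr fun Q h1 h2' N h3 L _ ι h5 hi => ?_
    obtain ⟨e⟩ := QdTwo.nonempty_mulEquiv
    subst h2
    exact (isSectionFree_qd_iff hS hF).mpr (h.resolve_left fun a => a rfl) Q h1 h2' N h3 L ι h5
      (QdTwo.involves_congr e.symm hi)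
  · exact Or.inl h2

theorem inner_of_char_aut_aux [Fact p.Prime] (n : ℕ) :
    ∀ {Ω : Type u} [Group Ω] (S : Subgroup Ω) [Finite S], Nat.card S = n → IsPGroup p S →
      ∀ F : FusionSystem S, F.IsSaturated p → (p ≠ 2 ∨ ¬ HasQd F p) →
        (∀ Q : Subgroup Ω, Q ≤ S → Q ≠ ⊥ → (Q.subgroupOf S).Characteristic →
          IsPGroup p (F.autGroup Q)) → IsInner F := by
  induction n using Nat.strong_induction_on with
  | _ n ih =>
  intro Ω _ S _ hn hS F hF hqd h
  classical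
  by_cases hbot : S = ⊥
  · intro P f hf
    refine ⟨1, S.one_mem, fun x hx => ?_⟩
    have h1 : x = 1 := Subgroup.mem_bot.mp (hbot ▸ hf.le hx)
    rw [h1, hf.map_one]; simp
  set Z := S ⊓ Subgroup.centralizer (S : Set Ω) with hZdef
  set J := thompsonSubgroupAOf S
  have hJS : J ≤ S := Subgroup.map_subtype_le _
  have hZS : Z ≤ S := inf_le_left
  haveI := finite_of_le hZS
  haveI : Nontrivial S := (Subgroup.nontrivial_iff_ne_bot S).mpr hbot
  have hZeq : Z.subgroupOf S = Subgroup.center S := by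
    ext x
    rw [Subgroup.mem_subgroupOf, Subgroup.mem_center_iff]
    exact ⟨fun hx y => Subtype.ext (Subgroup.mem_centralizer_iff.mp hx.2 y y.2),
      fun hx => ⟨x.2, Subgroup.mem_centralizer_iff.mpr fun y hy =>
        congrArg Subtype.val (hx ⟨y, hy⟩)⟩⟩
  have hZchar : (Z.subgroupOf S).Characteristic := hZeq.symm ▸ inferInstance
  have hZne : Z ≠ ⊥ := fun e => by
    haveI : Nontrivial (Subgroup.center S) := hS.center_nontrivial
    exact (Subgroup.nontrivial_iff_ne_bot _).mp this (by rw [← hZeq, e, Subgroup.bot_subgroupOf])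
  have hJeq : J.subgroupOf S = thompsonSubgroupA S :=
    Subgroup.comap_map_eq_self_of_injective S.subtype_injective _
  have hJchar : (J.subgroupOf S).Characteristic :=
    Subgroup.characteristic_iff_map_eq.mpr fun φ => by rw [hJeq]; exact jFun_map S S hS φ
  have hZJ : Z ≤ J := fun z hz => mem_fnImage_of_center (W := jFun) jFun_center hS hz.1
    (Subgroup.mem_centralizer_iff.mp hz.2)
  have hJne : J ≠ ⊥ := fun e => hZne (le_bot_iff.mp (e ▸ hZJ))
  have hnJ : S ≤ Subgroup.normalizer (J : Set Ω) := fun s hs =>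
    ((normalizerIn_thompsonAOf hS).ge hs).2
  have hzc : ∀ z ∈ Z, ∀ s ∈ S, s * z = z * s := fun z hz => Subgroup.mem_centralizer_iff.mp hz.2
  have hnZ : S ≤ Subgroup.normalizer (Z : Set Ω) := fun s hs =>
    mem_normalizer_of_maps_finite fun z hz => by
      rw [hzc z hz s hs, mul_inv_cancel_right]; exact hz
  -- the normalizer of `J(S)`
  set EJ := normalizerTop F hJS hnJ
  have hEJF : ∀ (P : Subgroup Ω) (f : Ω → Ω), IsMap EJ P f → IsMap F P f :=
    fun P f hf => (isMap_normalizerTop.mp hf).1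
  have hEJinner : IsInner EJ := by
    have hsat := saturated_normalizerTop hS hF hJS hnJ
    rw [Cfsg.Agent.S5083.result p hS EJ hsat fun Q hQ => ?_]
    · exact isInner_iff.mpr fun P => rfl
    intro α
    obtain ⟨i, hi⟩ := isPGroup_aut_of_ext (F := F) hS hQ hnJ centralizerIn_thompsonAOf
      (h J hJS hJne hJchar) (α := α.1) (isMap_normalizerTop.mp ((isMap_autFun hQ).mpr α.2)).2
    exact ⟨i, Subtype.ext (by rw [Subgroup.coe_pow, hi]; rfl)⟩
  -- the normalizer of `Z(S)`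
  set E := normalizerTop F hZS hnZ
  have hEF : ∀ (P : Subgroup Ω) (f : Ω → Ω), IsMap E P f → IsMap F P f :=
    fun P f hf => (isMap_normalizerTop.mp hf).1
  have hEsat := saturated_normalizerTop hS hF hZS hnZ
  have hfixZ : ∀ (P : Subgroup Ω) (f : Ω → Ω), IsMap E P f → ∀ x ∈ P, x ∈ Z → f x = x := by
    intro P f hf x hx hxZ
    obtain ⟨k, hk, hkf, hki⟩ := (isMap_normalizerTop.mp hf).2
    rw [← hkf x hx]
    exact aut_trivial_of_central hS hF hZS hzc (h Z hZS hZne hZchar) (hk.mono le_sup_right) hki x hxZ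
  have hextE : ∀ (P : Subgroup Ω) (f : Ω → Ω), IsMap E P f →
      ∃ k, IsMap E (P ⊔ Z) k ∧ (∀ x ∈ P, k x = f x) ∧ img Z k = Z := by
    intro P f hf
    obtain ⟨k, hk, hkf, hki⟩ := (isMap_normalizerTop.mp hf).2
    exact ⟨k, isMap_normalizerTop.mpr ⟨hk, k, by rw [sup_assoc, sup_idem]; exact hk,
      fun _ _ => rfl, hki⟩, hkf, hki⟩
  haveI hZn : (Z.subgroupOf S).Normal := hZeq.symm ▸ inferInstance
  set θ := QuotientGroup.mk' (Z.subgroupOf S) with hθ
  have hker : ∀ x ∈ S, qmap θ x = 1 ↔ x ∈ Z := fun x hx => by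
    rw [qmap_apply hx, hθ, QuotientGroup.mk'_apply, QuotientGroup.eq_one_iff, Subgroup.mem_subgroupOf]
  have hclosed : KerClosed E θ := fun P f hf x hx h1 => by
    rw [hfixZ P f hf x hx ((hker x (hf.le hx)).mp h1)]
    exact h1
  have hquot := isQuot_factorSystem (θ := θ) hclosed
  set Eq := factorSystem E θ hclosed
  have hSq : IsPGroup p θ.range := hS.of_surjective _ θ.rangeRestrict_surjective
  haveI : Finite θ.range := Finite.of_surjective θ.rangeRestrict θ.rangeRestrict_surjective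
  have hlt : Nat.card θ.range < n := by
    rw [MonoidHom.range_eq_top.mpr (QuotientGroup.mk'_surjective _), Subgroup.card_top, ← hn,
      ← Subgroup.index, ← (Z.subgroupOf S).card_mul_index]
    refine lt_mul_of_one_lt_left (Nat.pos_of_ne_zero Subgroup.index_ne_zero_of_finite) ?_
    rw [Nat.card_congr (Subgroup.subgroupOfEquivOfLe hZS).toEquiv]
    exact (Subgroup.one_lt_card_iff_ne_bot Z).mpr hZne
  have hqinner : IsInner Eq := by
    refine ih _ hlt θ.range rfl hSq Eq (hquot.saturated hS hEsat)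
      (hqd.imp id fun hno hh => hno ((hquot.hasQd hh).mono hEF)) ?_
    intro Q hQr hQne hQchar
    have hpre : (preimageAlong θ Q).subgroupOf S = Q.comap θ :=
      Subgroup.comap_map_eq_self_of_injective S.subtype_injective _
    have hpne : preimageAlong θ Q ≠ ⊥ := fun e => hQne ((Subgroup.eq_bot_iff_forall Q).mpr fun y hy => by
      obtain ⟨x, hx, rfl⟩ := exists_preimage hQr hy
      rw [e, Subgroup.mem_bot] at hx
      rw [hx, qmap_one])
    have hpchar : ((preimageAlong θ Q).subgroupOf S).Characteristic := by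
      rw [hpre, Subgroup.characteristic_iff_le_comap]
      intro φ x hx
      have hmap : (Z.subgroupOf S).map φ.toMonoidHom = Z.subgroupOf S :=
        Subgroup.characteristic_iff_map_eq.mp hZchar φ
      let ψ := QuotientGroup.congr (Z.subgroupOf S) (Z.subgroupOf S) φ hmap
      let r : θ.range ≃* S ⧸ Z.subgroupOf S :=
        (MulEquiv.subgroupCongr (MonoidHom.range_eq_top.mpr (QuotientGroup.mk'_surjective _))).trans
          Subgroup.topEquiv
      have hc := Subgroup.characteristic_iff_le_comap.mp hQchar ((r.trans ψ).trans r.symm)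
      have := hc (show (⟨θ x, x, rfl⟩ : θ.range) ∈ Q.subgroupOf θ.range from hx)
      exact this
    intro α
    have hα : IsMap Eq Q (autFun α.1) := (isMap_autFun hQr).mpr α.2
    obtain ⟨f, hf, he⟩ := hquot.exists_lift hα
    haveI := finite_of_le (preimageAlong_le (θ := θ) Q)
    have hfi : img (preimageAlong θ Q) f = preimageAlong θ Q :=
      Subgroup.eq_of_le_of_card_ge (IsMap.img_le_iff.mpr fun x hx => mem_preimageAlong.mpr
        ⟨hf.mem_S hx, by rw [← he x hx]; exact autFun_mem _ (mem_preimageAlong.mp hx).2⟩)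
        hf.card_img.ge
    obtain ⟨β, hβ, hβf⟩ := (hEF _ _ hf).exists_aut hfi
    obtain ⟨i, hi⟩ := h _ (preimageAlong_le Q) hpne hpchar ⟨β, hβ⟩
    have hi' : β ^ p ^ i = 1 := by simpa using congrArg Subtype.val hi
    have hpow : ∀ (m : ℕ), ∀ x ∈ preimageAlong θ Q,
        autFun (α.1 ^ m) (qmap θ x) = qmap θ (autFun (β ^ m) x) := by
      intro m
      induction m with
      | zero =>
        intro x hx
        rw [pow_zero, pow_zero, autFun_one hx, autFun_one (mem_preimageAlong.mp hx).2]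
      | succ m ihm =>
        intro x hx
        rw [pow_succ', pow_succ', autFun_mul _ _ (mem_preimageAlong.mp hx).2, autFun_mul _ _ hx,
          ihm x hx, hβf _ (autFun_mem _ hx), he _ (autFun_mem _ hx)]
    refine ⟨i, Subtype.ext (eq_one_of_autFun fun y hy => ?_)⟩
    obtain ⟨x, hx, rfl⟩ := exists_preimage hQr hy
    rw [Subgroup.coe_pow, hpow _ x hx, hi', autFun_one hx]
  have hEinner : IsInner E := by
    rw [Cfsg.Agent.S5083.result p hS E hEsat fun Q hQ => ?_]
    · exact isInner_iff.mpr fun P => rfl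
    intro α
    obtain ⟨k, hk, hkf, hki⟩ := hextE Q _ ((isMap_autFun hQ).mpr α.2)
    obtain ⟨γ₀, -, hγk₀⟩ := exists_aut_extension hk hkf hki
    set R := Q ⊔ Z with hR
    obtain ⟨γ, hγk⟩ : ∃ γ : MulAut R, ∀ x ∈ R, autFun γ x = k x := ⟨_, hγk₀⟩
    have hRS : R ≤ S := hk.le
    have hpre : preimageAlong θ ((R.subgroupOf S).map θ) = R := by
      ext x
      rw [mem_preimageAlong]
      constructor
      · rintro ⟨hxS, y, hy, e⟩
        rw [qmap_apply hxS, hθ, QuotientGroup.mk'_apply, QuotientGroup.mk'_apply, QuotientGroup.eq] at e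
        have h2 : (y : Ω)⁻¹ * x ∈ Z := e
        have := R.mul_mem (Subgroup.mem_subgroupOf.mp hy) ((le_sup_right : Z ≤ R) h2)
        rwa [mul_inv_cancel_left] at this
      · exact fun hx => ⟨hk.le hx, ⟨x, hk.le hx⟩, hx, (qmap_apply (hk.le hx)).symm⟩
    have hm := hquot.isMap_pushMap (Subgroup.map_le_range θ (R.subgroupOf S)) (hpre.symm ▸ hk)
    obtain ⟨t, ⟨s, rfl⟩, e⟩ := hqinner _ _ hm
    have hkq : ∀ x ∈ R, qmap θ (k x) = θ s * qmap θ x * (θ s)⁻¹ := fun x hx => by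
      have hx' : x ∈ preimageAlong θ ((R.subgroupOf S).map θ) := hpre.symm ▸ hx
      rw [← hquot.pushMap_apply (hpre.symm ▸ hk) hx', e _ (mem_preimageAlong.mp hx').2]
    have hγq : ∀ (m : ℕ), ∀ x ∈ R,
        qmap θ (autFun (γ ^ m) x) = θ s ^ m * qmap θ x * (θ s ^ m)⁻¹ := by
      intro m
      induction m with
      | zero => intro x hx; rw [pow_zero, autFun_one hx]; simp
      | succ m ihm =>
        intro x hx
        rw [pow_succ', autFun_mul _ _ hx, hγk _ (autFun_mem _ hx), hkq _ (autFun_mem _ hx), ihm x hx]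
        group
    set γ1 := γ ^ Nat.card S
    have hfix' : ∀ x : R, (x : Ω) ∈ Z → γ1 x = x := by
      intro x hx
      have hm1 : ∀ m : ℕ, (γ ^ m) x = x := by
        intro m
        induction m with
        | zero => simp
        | succ m ihm =>
          rw [pow_succ', MulAut.mul_apply, ihm]
          exact Subtype.ext ((autFun_apply γ x).symm.trans ((hγk x x.2).trans
            (hfixZ _ k hk x x.2 hx)))
      exact hm1 _
    have hmod : ∀ x : R, ((x⁻¹ * γ1 x : R) : Ω) ∈ Z := by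
      intro x
      refine (hker _ (hRS (x⁻¹ * γ1 x).2)).mp ?_
      have h1 := hγq (Nat.card S) x x.2
      rw [← map_pow, pow_card_eq_one', map_one, autFun_apply] at h1
      rw [Subgroup.coe_mul, Subgroup.coe_inv, qmap_mul (S.inv_mem (hRS x.2)) (hRS (γ1 x).2),
        qmap_inv (hRS x.2), h1]
      simp
    have hexp : ∀ x : R, x ^ Nat.card S = 1 := fun x => Subtype.ext (by
      have := congrArg Subtype.val (pow_card_eq_one' (x := (⟨x, hRS x.2⟩ : S)))
      simpa only [Subgroup.coe_pow, Subgroup.coe_one] using this)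
    obtain ⟨m, hm'⟩ := IsPGroup.iff_card.mp hS
    refine ⟨m + m, Subtype.ext (eq_one_of_autFun fun x hx => ?_)⟩
    rw [Subgroup.coe_pow, pow_add, ← hm', ← autFun_pow_agree γ α.1 (le_sup_left : Q ≤ R)
      (fun y hy => (hγk y (Subgroup.mem_sup_left hy)).trans (hkf y hy)) _ x hx, pow_mul,
      chain_pow_eq_one γ1 Z hfix' hmod hexp, autFun_one (Subgroup.mem_sup_left hx)]
  -- Thompson
  refine isInner_iff.mpr (Cfsg.Agent.S5194.result p hS F hF (sectionFree_of_not_hasQd hS hF hqd)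
    (fun C hC => isInner_iff.mp fun P f hf => ?_) (fun N hN => isInner_iff.mp fun P f hf => ?_))
  · obtain ⟨hP, -, hfF, k, hk, hkf, hki⟩ := (isMap_of_isCentralizerSystem hC).mp hf
    obtain ⟨s, hs, e⟩ := hEinner P f (isMap_normalizerTop.mpr ⟨hfF, k, hk, hkf, fix_img hki⟩)
    exact ⟨s, ⟨hs, Subgroup.mem_centralizer_iff.mpr fun z hz => (hzc z hz s hs).symm⟩, e⟩
  · obtain ⟨-, -, hfF, hfext⟩ := (isMap_of_isNormalizerSystem hN).mp hf
    obtain ⟨s, hs, e⟩ := hEJinner P f (isMap_normalizerTop.mpr ⟨hfF, hfext⟩)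
    exact ⟨s, ⟨hs, hnJ hs⟩, e⟩

/-- Frobenius' criterion on characteristic subgroups. -/
theorem inner_of_char_aut [Finite S] [Fact p.Prime] (hS : IsPGroup p S) (hF : F.IsSaturated p)
    (hp : p ≠ 2 ∨ F.IsSectionFree p (Equiv.Perm (Fin 4)))
    (h : ∀ Q : Subgroup Ω, Q ≤ S → Q ≠ ⊥ → (Q.subgroupOf S).Characteristic →
      IsPGroup p (F.autGroup Q)) : IsInner F := by
  refine inner_of_char_aut_aux _ S rfl hS F hF ?_ h
  by_cases h2 : p = 2
  · subst h2
    exact Or.inr (not_hasQd_two hS hF (hp.resolve_left fun a => a rfl))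
  · exact Or.inl h2

end Cfsg.Lib.Fusion
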