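import Cfsg.Agent.Fusion.TransferControl
import Cfsg.Agent.Components.Functor.IndexP
import Cfsg.Agent.Fusion.CharAut

/-!
For `p ≥ 5` the focal subgroup is proper when `Aut_F(S)` is a `p`-group.
-/

set_option autoImplicit false

namespace Cfsg.Lib.Fusion

open Cfsg Cfsg.FusionSystem
open scoped commutatorElement

universe u

variable {Ω : Type u} [Group Ω] {S : Subgroup Ω} {F : FusionSystem S} {p : ℕ}

theorem localTransfer_kInfLower [Fact p.Prime] (hp : 5 ≤ p) :
    LocalTransfer p (fun (Q : Type u) _ => kInfLower Q) := by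
  intro G _ _ P _
  have hQP : pCore p G ≤ (P : Subgroup G) :=
    Cfsg.Lib.Thompson.le_sylow_of_normal (hn := Cfsg.Lib.Components.pCore_normal' p)
      (Cfsg.Lib.Components.isPGroup_pCore p) P
  have h := Cfsg.Lib.Functor.inf_commutator_eq (Cfsg.Lib.KInf.tctrl_lower hp G) P
  have h1 := congrArg (pCore p G ⊓ ·) h
  simp only [← inf_assoc, inf_eq_left.mpr hQP] at h1
  rw [Subgroup.map_subtype_commutator]
  exact h1

theorem focal_lt [Finite S] [Fact p.Prime] (hS : IsPGroup p S) (hF : F.IsSaturated p) (hp : 5 ≤ p)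
    (hS1 : S ≠ ⊥) (haut : IsPGroup p (F.autGroup S)) : F.focalSubgroup < S := by
  classical
  set W : ∀ (Q : Type u) [Group Q], Subgroup Q := fun Q _ => kInfLower Q with hW
  have hW2 : ∀ (Q R : Type u) [Group Q] [Group R] [Finite Q], IsPGroup p Q →
      ∀ φ : Q ≃* R, (W Q).map φ.toMonoidHom = W R :=
    fun Q R _ _ _ _ φ => Cfsg.Lib.KInf.map_kInfLower φ
  have hWZ : ∀ (Q : Type u) [Group Q] [Finite Q], IsPGroup p Q → Subgroup.center Q ≤ W Q :=
    fun Q _ _ _ => Cfsg.Lib.KInf.center_le_lower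
  have hW1 : ∀ (Q : Type u) [Group Q] [Finite Q], IsPGroup p Q → Nontrivial Q → W Q ≠ ⊥ := by
    intro Q _ _ hQ hnt e
    haveI := hQ.center_nontrivial
    exact (Subgroup.nontrivial_iff_ne_bot _).mp this (le_bot_iff.mp ((hWZ Q hQ).trans e.le))
  set V := fnImage W S
  have hVS : V ≤ S := fnImage_le S
  haveI := finite_of_le hVS
  have hnV : S ≤ Subgroup.normalizer (V : Set Ω) := fun g hg =>
    fnImage_normalized hW2 hS le_rfl hg (Subgroup.le_normalizer hg)
  set N := normalizerTop F hVS hnV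
  have hNF : ∀ (P : Subgroup Ω) (f : Ω → Ω), IsMap N P f → IsMap F P f :=
    fun P f hf => (isMap_normalizerTop.mp hf).1
  have hsat := saturated_normalizerTop hS hF hVS hnV
  have hNn : N.IsNormal V := isNormal_of_extendsWith hVS fun P f hf => by
    obtain ⟨hfF, k, hk, hkf, hki⟩ := isMap_normalizerTop.mp hf
    exact ⟨k, isMap_normalizerTop.mpr ⟨hk, k, by rw [sup_assoc, sup_idem]; exact hk,
      fun _ _ => rfl, hki⟩, hkf, hki⟩
  have hcen : centralizerIn S V ≤ V := by
    intro x hx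
    refine ⟨⟨x, hx.1⟩, (Cfsg.Lib.KInf.kInf_self_central hS).1
      (Subgroup.mem_centralizer_iff.mpr fun w hw => Subtype.ext ?_), rfl⟩
    exact Subgroup.mem_centralizer_iff.mp hx.2 w ⟨w, hw, rfl⟩
  have hVc : N.IsCentric V := centric_of_fullyCentralized hS hsat
    (fullyNormalized_props hS hsat (fullyNormalized_of_isNormal hNn)).1 hcen
  obtain ⟨L, _, ι, ⟨hL, hreal, ⟨U, hU⟩, -⟩, -, -⟩ := exists_isModel hS hsat hNn hVc
  haveI := hL
  have hle : F.focalSubgroup ≤ N.focalSubgroup := by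
    refine focalSubgroup_le_iff.mpr fun P f hf x hx => ?_
    exact transfer_control_main hW1 hW2 (localTransfer_kInfLower hp) _ S rfl hS _ F rfl hF
      N.focalSubgroup commutator_le_focalSubgroup
      (fun Q g hg hext y hy => mem_focalSubgroup (isMap_normalizerTop.mpr ⟨hg, hext⟩) hy) P f hf x hx
  have hUne : (U : Subgroup L) ≠ ⊥ := by
    rw [hU]
    exact fun e => hS1 ((Subgroup.eq_bot_iff_forall S).mpr fun x hx => by
      have : ι ⟨x, hx⟩ = 1 := Subgroup.mem_bot.mp (e ▸ ⟨_, rfl⟩)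
      exact congrArg Subtype.val (hreal.1 (this.trans (map_one ι).symm)))
  have hN1 : ∀ g ∈ Subgroup.normalizer ((U : Subgroup L) : Set L), (orderOf g).Coprime p →
      g ∈ Subgroup.centralizer ((U : Subgroup L) : Set L) := by
    intro g hg hcop
    obtain ⟨f, hf, -, hfe⟩ := exists_isMap_of_elt hreal (le_refl S) g fun x hx => by
      rw [← hU]
      exact conj_mem_of_mem_normalizer hg (hU.ge ⟨x, rfl⟩)
    have hfi : img S f = S := Subgroup.eq_of_le_of_card_ge hf.img_le hf.card_img.ge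
    obtain ⟨α, hα, hαf⟩ := (hNF _ _ hf).exists_aut hfi
    obtain ⟨i, hi⟩ := haut ⟨α, hα⟩
    have hi' : α ^ p ^ i = 1 := by simpa using congrArg Subtype.val hi
    have hpow : ∀ (m : ℕ) (x : S), g ^ m * ι x * (g ^ m)⁻¹ = ι ⟨autFun (α ^ m) x, autFun_mem _ x.2⟩ := by
      intro m
      induction m with
      | zero =>
        intro x
        simp only [pow_zero, one_mul, inv_one, mul_one]
        exact congrArg ι (Subtype.ext (autFun_one x.2).symm)
      | succ m ih =>
        intro x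
        rw [pow_succ' g, mul_inv_rev, show g * g ^ m * ι x * ((g ^ m)⁻¹ * g⁻¹)
          = g * (g ^ m * ι x * (g ^ m)⁻¹) * g⁻¹ by group, ih x]
        refine Eq.symm ((hfe ⟨_, autFun_mem _ x.2⟩ (autFun_mem _ x.2) ⟨_, autFun_mem _ x.2⟩).mp ?_)
        show autFun (α ^ (m + 1)) x = f (autFun (α ^ m) x)
        rw [pow_succ', autFun_mul _ _ x.2, hαf _ (autFun_mem _ x.2)]
    obtain ⟨k, hk⟩ := exists_pow_eq_self_of_coprime (hcop.pow_right i).symm
    rw [← hk]
    refine Subgroup.pow_mem _ (Subgroup.mem_centralizer_iff.mpr fun u hu => ?_) k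
    rw [SetLike.mem_coe, hU] at hu
    obtain ⟨x, rfl⟩ := hu
    have h := hpow (p ^ i) x
    rw [show (⟨autFun (α ^ p ^ i) x, autFun_mem _ x.2⟩ : S) = x from
      Subtype.ext (by rw [hi']; exact autFun_one x.2)] at h
    exact (mul_inv_eq_iff_eq_mul.mp h).symm
  obtain ⟨M, hMn, hMi⟩ := Cfsg.Lib.KInf.index_p hp U hUne hN1
  haveI := hMn
  have hcomm : commutator L ≤ M := by
    haveI : Fact (Nat.card (L ⧸ M)).Prime := ⟨by rw [← Subgroup.index, hMi]; exact Fact.out⟩
    haveI := isCyclic_of_prime_card (α := L ⧸ M) rfl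
    exact (Subgroup.Normal.quotient_commutative_iff_commutator_le (N := M)).mp
      ⟨⟨fun a b => mul_comm' a b⟩⟩
  have hnot : ¬ (U : Subgroup L) ≤ M := fun h =>
    U.not_dvd_index ((dvd_of_eq hMi.symm).trans (Subgroup.index_dvd_of_le h))
  refine lt_of_le_of_ne (focalSubgroup_le F) fun e => hnot (hU.le.trans ?_)
  rintro _ ⟨x, rfl⟩
  have hfoc : N.focalSubgroup ≤ (M.comap ι).map S.subtype := by
    refine focalSubgroup_le_iff.mpr fun P f hf y hy => ?_
    obtain ⟨g, hg⟩ := exists_elt_of_isMap hreal hf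
    refine ⟨⟨y, hf.le hy⟩⁻¹ * ⟨f y, hf.mem_S hy⟩, hcomm ?_, rfl⟩
    rw [map_mul, map_inv, hg ⟨y, hf.le hy⟩ hy ⟨f y, hf.mem_S hy⟩ rfl]
    have : ⁅(ι ⟨y, hf.le hy⟩)⁻¹, g⁆ ∈ commutator L :=
      Subgroup.commutator_mem_commutator (Subgroup.mem_top _) (Subgroup.mem_top _)
    rw [commutatorElement_def, inv_inv] at this
    convert this using 1
    group
  obtain ⟨w, hw, e'⟩ := hfoc (hle (e.ge x.2))
  exact (Subtype.ext e' : w = x) ▸ hw

end Cfsg.Lib.Fusion
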