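import Cfsg.Agent.Fusion.GTQuadratic
import Cfsg.Agent.Coprime.Sylow
import Cfsg.Agent.PGroups.Basic
import Cfsg.Agent.Transfer.Basic
import Cfsg.Agent.Components.Cores

/-!
The group theoretic core of the Glauberman–Thompson criteria: a group with a self-centralizing
normal `p`-subgroup and `p`-nilpotent quotient in which the normalizer of the distinguished
intersection is a Sylow `p`-subgroup, is a `p`-group.
-/

set_option autoImplicit false

namespace Cfsg.Lib.Fusion

open Cfsg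
open scoped commutatorElement IsMulCommutative

universe u

variable {L : Type u} [Group L] {p : ℕ}

/-- The intersection of the members of the family inside `Q`. -/
def familyInter {G : Type*} [Group G] (𝒜 : Set (Subgroup G)) (Q : Subgroup G) : Subgroup G :=
  ⨅ A ∈ {A : Subgroup G | A ∈ 𝒜 ∧ A ≤ Q}, A

theorem familyInter_le {G : Type*} [Group G] {𝒜 : Set (Subgroup G)} {Q A : Subgroup G}
    (hA : A ∈ 𝒜) (hAQ : A ≤ Q) : familyInter 𝒜 Q ≤ A := iInf₂_le A ⟨hA, hAQ⟩

theorem mem_familyInter {G : Type*} [Group G] {𝒜 : Set (Subgroup G)} {Q : Subgroup G} {x : G} :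
    x ∈ familyInter 𝒜 Q ↔ ∀ A ∈ 𝒜, A ≤ Q → x ∈ A := by
  simp [familyInter, Subgroup.mem_iInf]

theorem iInter_le_familyInter {G : Type*} [Group G] (𝒜 : Set (Subgroup G)) (Q : Subgroup G) :
    (⨅ A ∈ 𝒜, A) ≤ familyInter 𝒜 Q := le_iInf₂ fun A hA => iInf₂_le A hA.1

/-- A quadratic element outside `Q` forces the complement of `L/Q` to act trivially on a section. -/
theorem section_trivial [Finite L] [Fact p.Prime] (hp : p ≠ 2) (Q : Subgroup L) [Q.Normal]
    (N : Subgroup (L ⧸ Q)) [N.Normal] (hN : (Nat.card N).Coprime p) (hNab : IsMulCommutative N)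
    (hmin : ∀ M : Subgroup L, Q ≤ M → M ≤ N.comap (QuotientGroup.mk' Q) →
      ∀ S : Sylow p L, (S : Subgroup L) ≤ Subgroup.normalizer (M : Set L) →
        M = Q ∨ M = N.comap (QuotientGroup.mk' Q))
    (S : Sylow p L)
    (hfaith : ∀ y ∈ (S : Subgroup L), (∀ n ∈ N, (QuotientGroup.mk y : L ⧸ Q) * n = n * QuotientGroup.mk y) →
      y ∈ Q)
    (W K : Subgroup L) [W.Normal] [K.Normal] (hWp : IsPGroup p W) (hKW : K ≤ W)
    (hWW : ⁅W, W⁆ ≤ K) (hWQ : ⁅W, Q⁆ ≤ K) {s : L} (hs : s ∈ (S : Subgroup L)) (hsQ : s ∉ Q)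
    (hquad : ∀ w ∈ W, ⁅s, ⁅s, w⁆⁆ ∈ K) :
    ∀ m ∈ N.comap (QuotientGroup.mk' Q), ∀ w ∈ W, ⁅m, w⁆ ∈ K := by
  classical
  -- a power of order `p` modulo `Q`
  obtain ⟨k, hk⟩ := S.2 ⟨s, hs⟩
  have hk' : s ^ p ^ k = 1 := congrArg Subtype.val hk
  have hex : ∃ j, s ^ p ^ j ∈ Q := ⟨k, hk' ▸ Q.one_mem⟩
  obtain ⟨j, hj⟩ : ∃ j, Nat.find hex = j + 1 := by
    refine ⟨Nat.find hex - 1, (Nat.succ_pred_eq_of_ne_zero fun h0 => hsQ ?_).symm⟩
    have := Nat.find_spec hex
    rw [h0, pow_zero, pow_one] at this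
    exact this
  set y := s ^ p ^ j with hy
  have hyQ : y ∉ Q := Nat.find_min hex (by omega)
  have hyp : y ^ p ∈ Q := by
    rw [hy, ← pow_mul, ← pow_succ, ← hj]
    exact Nat.find_spec hex
  have hyS : y ∈ (S : Subgroup L) := Subgroup.pow_mem _ hs _
  -- the module
  let K' : Subgroup W := K.subgroupOf W
  have hK'n : K'.Normal := Subgroup.Normal.subgroupOf inferInstance W
  have hcomm : IsMulCommutative (W ⧸ K') :=
    Subgroup.Normal.quotient_commutative_iff_commutator_le.mpr fun z hz =>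
      Subgroup.mem_subgroupOf.mpr (hWW (by
        rw [← Subgroup.map_subtype_commutator]
        exact ⟨z, hz, rfl⟩))
  let cg : CommGroup (W ⧸ K') :=
    { (inferInstance : Group (W ⧸ K')) with mul_comm := hcomm.is_comm.comm }
  let act : L → (W ⧸ K' →* W ⧸ K') := fun g =>
    QuotientGroup.map K' K' (MulAut.conjNormal g).toMonoidHom fun w hw => by
      show ((MulAut.conjNormal g w : W) : L) ∈ K
      rw [MulAut.conjNormal_apply]
      exact (inferInstance : K.Normal).conj_mem _ hw g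
  have hact : ∀ (g : L) (w : W), act g (QuotientGroup.mk w) = QuotientGroup.mk (MulAut.conjNormal g w) :=
    fun g w => rfl
  have hact_mul : ∀ g g' v, act (g * g') v = act g (act g' v) := by
    intro g g' v
    induction v using QuotientGroup.induction_on with
    | H w =>
      rw [hact, hact, hact]
      congr 1
      exact Subtype.ext (by simp [mul_assoc])
  have hact_one : ∀ v, act 1 v = v := by
    intro v
    induction v using QuotientGroup.induction_on with
    | H w =>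
      rw [hact]
      congr 1
      exact Subtype.ext (by simp)
  let θ : L →* MulAut (W ⧸ K') :=
    { toFun := fun g =>
        { toFun := act g
          invFun := act g⁻¹
          left_inv := fun v => by rw [← hact_mul, inv_mul_cancel, hact_one]
          right_inv := fun v => by rw [← hact_mul, mul_inv_cancel, hact_one]
          map_mul' := map_mul (act g) }
      map_one' := MulEquiv.ext fun v => hact_one v
      map_mul' := fun g g' => MulEquiv.ext fun v => hact_mul g g' v }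
  have hθQ : Q ≤ θ.ker := fun q hq => MulEquiv.ext fun v => by
    induction v using QuotientGroup.induction_on with
    | H w =>
      show act q (QuotientGroup.mk w) = QuotientGroup.mk w
      rw [hact, QuotientGroup.eq, Subgroup.mem_subgroupOf, Subgroup.coe_mul, Subgroup.coe_inv,
        MulAut.conjNormal_apply]
      have h1 := Subgroup.inv_mem _ (hWQ (Subgroup.commutator_mem_commutator w.2 hq))
      rw [commutatorElement_inv, commutatorElement_def] at h1
      have h2 := Subgroup.Normal.conj_mem (H := K) inferInstance _ (K.inv_mem h1) (w : L)⁻¹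
      convert h2 using 1
      group
  let ρ : L ⧸ Q →* MulAut (W ⧸ K') := QuotientGroup.lift Q θ hθQ
  have hρ : ∀ (g : L) (w : W), ρ (QuotientGroup.mk g) (QuotientGroup.mk w) =
      QuotientGroup.mk (MulAut.conjNormal g w) := fun g w => rfl
  have hquad_s : ∀ v, ρ (QuotientGroup.mk s) (ρ (QuotientGroup.mk s) v / v) =
      ρ (QuotientGroup.mk s) v / v := by
    intro v
    induction v using QuotientGroup.induction_on with
    | H w =>
      rw [hρ, ← QuotientGroup.mk_div, hρ, QuotientGroup.eq, Subgroup.mem_subgroupOf]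
      simp only [Subgroup.coe_mul, Subgroup.coe_inv, MulAut.conjNormal_apply, Subgroup.coe_div,
        div_eq_mul_inv]
      have h2 := Subgroup.Normal.conj_mem (H := K) inferInstance _
        (K.inv_mem (hquad w w.2)) ⁅s, (w : L)⁆⁻¹
      convert h2 using 1
      simp only [commutatorElement_def]
      group
  set x : L ⧸ Q := QuotientGroup.mk y with hx
  have hxs : x = (QuotientGroup.mk s : L ⧸ Q) ^ p ^ j := rfl
  have hquad_x : ∀ v, ρ x (ρ x v / v) = ρ x v / v := fun v => by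
    rw [hxs]
    exact quad_pow ρ hquad_s _ v
  have hxp : x ^ p = 1 := by
    rw [hx, ← QuotientGroup.mk_pow, QuotientGroup.eq_one_iff]
    exact hyp
  have hxN : ∀ n ∈ N, x * n * x⁻¹ ∈ N := fun n hn => Subgroup.Normal.conj_mem inferInstance n hn x
  -- the fixed-point-free part
  have hNcomm : ∀ a ∈ N, ∀ b ∈ N, a * b = b * a := fun a ha b hb =>
    congrArg Subtype.val (hNab.is_comm.comm (⟨a, ha⟩ : N) ⟨b, hb⟩)
  let χ : N →* L ⧸ Q :=
    { toFun := fun n => x * n * x⁻¹ * (n : L ⧸ Q)⁻¹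
      map_one' := by simp
      map_mul' := fun a b => by
        have e : x * ((a : L ⧸ Q) * b) * x⁻¹ * ((a : L ⧸ Q) * b)⁻¹ =
            (x * a * x⁻¹) * ((x * b * x⁻¹ * (b : L ⧸ Q)⁻¹) * (a : L ⧸ Q)⁻¹) := by group
        show x * ((a * b : N) : L ⧸ Q) * x⁻¹ * ((a * b : N) : L ⧸ Q)⁻¹ = _
        rw [Subgroup.coe_mul, e, hNcomm _ (N.mul_mem (hxN b b.2) (N.inv_mem b.2)) _ (N.inv_mem a.2)]
        group }
  have hχN : χ.range ≤ N := by
    rintro _ ⟨n, rfl⟩
    exact N.mul_mem (hxN n n.2) (N.inv_mem n.2)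
  have htriv := trivial_of_quadratic (hWp.to_quotient K') hp ρ χ.range
    (hN.coprime_dvd_left (Subgroup.card_dvd_of_le hχN)) (x := x)
    (by
      rintro _ ⟨n, rfl⟩
      refine ⟨⟨x * n * x⁻¹, hxN n n.2⟩, ?_⟩
      show x * (x * n * x⁻¹) * x⁻¹ * (x * n * x⁻¹)⁻¹ = x * (x * n * x⁻¹ * (n : L ⧸ Q)⁻¹) * x⁻¹
      group)
    hxp
    (by
      rintro _ ⟨n, rfl⟩ hfix
      set m := χ n with hm
      have hmN : m ∈ N := hχN ⟨n, rfl⟩
      have hit : ∀ i : ℕ, x ^ i * n * (x ^ i)⁻¹ = m ^ i * n := by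
        intro i
        induction i with
        | zero => simp
        | succ i ih =>
          have hc : Commute x (m ^ i) := Commute.pow_right (show Commute x m from hfix) i
          calc x ^ (i + 1) * n * (x ^ (i + 1))⁻¹ = x * (x ^ i * n * (x ^ i)⁻¹) * x⁻¹ := by
                rw [pow_succ']; group
            _ = (x * m ^ i) * n * x⁻¹ := by rw [ih]; group
            _ = m ^ i * ((x * n * x⁻¹ * (n : L ⧸ Q)⁻¹) * n) := by rw [hc.eq]; group
            _ = _ := by
              rw [show x * n * x⁻¹ * (n : L ⧸ Q)⁻¹ = m from rfl, pow_succ, mul_assoc]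
      have h1 := hit p
      rw [hxp, one_mul, inv_one, mul_one] at h1
      have h2 : m ^ p = 1 := right_eq_mul.mp h1
      refine orderOf_eq_one_iff.mp (Nat.eq_one_of_dvd_coprimes hN ?_ (orderOf_dvd_of_pow_eq_one h2))
      exact (Subgroup.orderOf_mk m hmN).symm ▸ orderOf_dvd_natCard (⟨m, hmN⟩ : N))
    hquad_x
  -- the kernel is invariant
  let M : Subgroup L := (N ⊓ ρ.ker).comap (QuotientGroup.mk' Q)
  have hMn : M.Normal := inferInstance
  rcases hmin M (fun q hq => by
      rw [Subgroup.mem_comap, QuotientGroup.mk'_apply, (QuotientGroup.eq_one_iff q).mpr hq]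
      exact Subgroup.one_mem _)
    (Subgroup.comap_mono inf_le_left) S (Subgroup.le_normalizer_of_normal.trans' le_top) with h | h
  · exfalso
    refine hyQ (hfaith y hyS fun n hn => ?_)
    have h1 : χ ⟨n, hn⟩ = 1 := by
      obtain ⟨g, hg⟩ := QuotientGroup.mk'_surjective Q (χ ⟨n, hn⟩)
      have hgM : g ∈ M := by
        show QuotientGroup.mk' Q g ∈ N ⊓ ρ.ker
        rw [hg]
        exact ⟨hχN ⟨_, rfl⟩, MulEquiv.ext fun v => htriv _ ⟨_, rfl⟩ v⟩
      rw [← hg]
      exact (QuotientGroup.eq_one_iff g).mpr (h ▸ hgM)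
    exact mul_inv_eq_iff_eq_mul.mp (mul_inv_eq_one.mp h1)
  · intro m hm w hw
    have hmker : ρ (QuotientGroup.mk m) = 1 := ((h ▸ hm : m ∈ M)).2
    have h1 : ρ (QuotientGroup.mk m) (QuotientGroup.mk ⟨w, hw⟩) = QuotientGroup.mk ⟨w, hw⟩ := by
      rw [hmker, MulAut.one_apply]
    rw [hρ, QuotientGroup.eq, Subgroup.mem_subgroupOf, Subgroup.coe_mul, Subgroup.coe_inv,
      MulAut.conjNormal_apply] at h1
    have h2 := Subgroup.Normal.conj_mem (H := K) inferInstance _ (K.inv_mem h1) w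
    convert h2 using 1
    simp only [commutatorElement_def]
    group

theorem sylow_eq_top_aux (n : ℕ) : ∀ (L : Type u) [Group L] [Finite L], Nat.card L = n →
    ∀ [Fact p.Prime], p ≠ 2 → ∀ (S : Sylow p L) (Q : Subgroup L) [Q.Normal],
    Q ≤ (S : Subgroup L) → Subgroup.centralizer (Q : Set L) ≤ Q →
    HasNormalPComplement p (L ⧸ Q) →
    ∀ 𝒜 : Set (Subgroup L), (∀ A ∈ 𝒜, A ≤ (S : Subgroup L) ∧ IsMulCommutative A) → 𝒜.Nonempty →
    (∀ Q' : Subgroup L, Q' ≤ (S : Subgroup L) → (∃ A ∈ 𝒜, A ≤ Q') →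
      ∀ g ∈ Subgroup.normalizer (Q' : Set L), ∀ x ∈ familyInter 𝒜 Q', g * x * g⁻¹ ∈ familyInter 𝒜 Q') →
    (∀ B : Subgroup L, B ≤ (S : Subgroup L) → (S : Subgroup L) ≤ Subgroup.normalizer (B : Set L) →
      ⁅⁅B, B⁆, B⁆ = ⊥ → (∃ A ∈ 𝒜, ⁅B, B⁆ ≤ A ∧ ¬ B ≤ A) →
        ∃ A ∈ 𝒜, ⁅B, B⁆ ≤ A ∧ ¬ B ≤ A ∧ B ≤ Subgroup.normalizer (A : Set L)) →
    Subgroup.normalizer ((⨅ A ∈ 𝒜, A : Subgroup L) : Set L) ≤ (S : Subgroup L) →
    (S : Subgroup L) = ⊤ := by
  induction n using Nat.strong_induction_on with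
  | _ n ih =>
  intro L _ _ hcard _ hp S Q0 _ hQ0S hC0 hnil0 𝒜 hA hne hinv hrep hZ
  classical
  by_contra htop
  -- pass to the core
  set Q := pCore p L with hQdef
  have hQp : IsPGroup p Q := Cfsg.Lib.Components.isPGroup_pCore p
  have hQ0Q : Q0 ≤ Q := Cfsg.Lib.Components.le_pCore (S.2.to_le hQ0S)
  have hQS : Q ≤ (S : Subgroup L) := by
    obtain ⟨U, hU⟩ := hQp.exists_le_sylow
    obtain ⟨g, rfl⟩ := MulAction.exists_smul_eq L U S
    intro x hx
    have h1 := (Cfsg.Lib.Components.pCore_normal' p).conj_mem x hx g⁻¹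
    exact ⟨_, hU h1, by simp [mul_assoc]⟩
  have hC : Subgroup.centralizer (Q : Set L) ≤ Q :=
    (Subgroup.centralizer_le (SetLike.coe_subset_coe.mpr hQ0Q)).trans (hC0.trans hQ0Q)
  have hnil : HasNormalPComplement p (L ⧸ Q) := by
    refine Cfsg.Lib.Transfer.hasNormalPComplement_of_surjective
      (QuotientGroup.map Q0 Q (MonoidHom.id L) hQ0Q) (fun a => ?_) hnil0
    obtain ⟨g, rfl⟩ := QuotientGroup.mk_surjective a
    exact ⟨QuotientGroup.mk g, rfl⟩
  -- proper subgroups over `S`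
  have hmax : ∀ H : Subgroup L, (S : Subgroup L) ≤ H → H = (S : Subgroup L) ∨ H = ⊤ := by
    intro H hSH
    by_cases hH : H = ⊤
    · exact Or.inr hH
    left
    have hlt : Nat.card H < n := by
      rcases (Subgroup.card_le_card_group H).lt_or_eq with h | h
      · exact hcard ▸ h
      · exact absurd (Subgroup.eq_top_of_card_eq H h) hH
    let S' : Sylow p H := S.subtype hSH
    have hS' : (S' : Subgroup H) = (S : Subgroup L).subgroupOf H := rfl
    have hmapS : (S' : Subgroup H).map H.subtype = (S : Subgroup L) := by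
      rw [hS', Subgroup.subgroupOf_map_subtype, inf_eq_left.mpr hSH]
    have hmem : ∀ A ∈ 𝒜, (A.subgroupOf H).map H.subtype = A := fun A h => by
      rw [Subgroup.subgroupOf_map_subtype, inf_eq_left.mpr ((hA A h).1.trans hSH)]
    let 𝒜' : Set (Subgroup H) := (fun A => A.subgroupOf H) '' 𝒜
    have hinter : ∀ Q' : Subgroup H, ∀ x : H,
        x ∈ familyInter 𝒜' Q' ↔ (x : L) ∈ familyInter 𝒜 (Q'.map H.subtype) := by
      intro Q' x
      simp only [mem_familyInter]
      constructor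
      · intro h A hA' hle
        refine h _ ⟨A, hA', rfl⟩ fun y hy => ?_
        obtain ⟨z, hz, e⟩ := hle (show (y : L) ∈ A from hy)
        exact Subtype.ext e ▸ hz
      · rintro h _ ⟨A, hA', rfl⟩ hle
        exact h A hA' ((hmem A hA').symm.le.trans (Subgroup.map_mono hle))
    have hnorm : ∀ (B : Subgroup H) (g : H), g ∈ Subgroup.normalizer (B : Set H) →
        (g : L) ∈ Subgroup.normalizer ((B.map H.subtype : Subgroup L) : Set L) := by
      intro B g hg
      exact Subgroup.le_normalizer_map H.subtype ⟨g, hg, rfl⟩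
    have := ih _ hlt H rfl hp S' (Q.subgroupOf H) (fun x hx => hQS hx)
      (fun x hx => hC (Subgroup.mem_centralizer_iff.mpr fun q hq => congrArg Subtype.val
        (Subgroup.mem_centralizer_iff.mp hx ⟨q, hSH (hQS hq)⟩ hq)))
      (Cfsg.Lib.Transfer.hasNormalPComplement_of_injective
        (QuotientGroup.map (Q.subgroupOf H) Q H.subtype le_rfl)
        (by
          rw [injective_iff_map_eq_one]
          intro a
          induction a using QuotientGroup.induction_on with
          | H g => exact fun h => (QuotientGroup.eq_one_iff g).mpr ((QuotientGroup.eq_one_iff (g : L)).mp h))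
        hnil)
      𝒜' (by
        rintro _ ⟨A, hA', rfl⟩
        exact ⟨fun x hx => (hA A hA').1 hx, haveI := (hA A hA').2; inferInstance⟩)
      (hne.image _)
      (fun Q' hQ' ⟨_, ⟨A, hA', rfl⟩, hle⟩ g hg x hx => by
        rw [hinter] at hx ⊢
        exact hinv _ ((Subgroup.map_mono hQ').trans hmapS.le)
          ⟨A, hA', (hmem A hA').symm.le.trans (Subgroup.map_mono hle)⟩ _ (hnorm Q' g hg) _ hx)
      (fun B hB hSB hcl ⟨_, ⟨A, hA', rfl⟩, h1, h2⟩ => by
        have hcl' : ⁅⁅B.map H.subtype, B.map H.subtype⁆, B.map H.subtype⁆ = ⊥ := by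
          rw [← Subgroup.map_commutator, ← Subgroup.map_commutator, hcl, Subgroup.map_bot]
        obtain ⟨A2, hA2, e1, e2, e3⟩ := hrep (B.map H.subtype) ((Subgroup.map_mono hB).trans hmapS.le)
          (fun s hs => hnorm B ⟨s, hSH hs⟩ (hSB hs)) hcl'
          ⟨A, hA', by
            rw [← Subgroup.map_commutator, ← hmem A hA']
            exact Subgroup.map_mono h1, fun h => h2 fun x hx => h ⟨x, hx, rfl⟩⟩
        refine ⟨_, ⟨A2, hA2, rfl⟩, fun x hx => e1 (by
          rw [← Subgroup.map_commutator]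
          exact ⟨x, hx, rfl⟩), fun h => e2 ((Subgroup.map_mono h).trans (hmem A2 hA2).le),
          fun b hb => Subgroup.mem_normalizer_iff.mpr fun y => ?_⟩
        exact Subgroup.mem_normalizer_iff.mp (e3 ⟨b, hb, rfl⟩) (y : L))
      (fun g hg => hZ (Subgroup.mem_normalizer_iff.mpr fun y => by
        have hmemI : ∀ z : H, z ∈ (⨅ A ∈ 𝒜', A : Subgroup H) ↔ (z : L) ∈ (⨅ A ∈ 𝒜, A : Subgroup L) := by
          intro z
          simp [𝒜', Subgroup.mem_iInf, Subgroup.mem_subgroupOf]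
        have hIle : (⨅ A ∈ 𝒜, A : Subgroup L) ≤ H := by
          obtain ⟨A, hA'⟩ := hne
          exact (iInf₂_le A hA').trans ((hA A hA').1.trans hSH)
        have hg' := Subgroup.mem_normalizer_iff.mp hg
        constructor
        · intro hy
          exact (hmemI _).mp ((hg' ⟨y, hIle hy⟩).mp ((hmemI _).mpr hy))
        · intro hy
          have hyH : y ∈ H := by
            simpa [mul_assoc] using H.mul_mem (H.mul_mem (H.inv_mem g.2) (hIle hy)) g.2
          exact (hmemI _).mp ((hg' ⟨y, hyH⟩).mpr ((hmemI _).mpr hy))))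
    refine le_antisymm (fun x hx => ?_) hSH
    exact (this.symm ▸ Subgroup.mem_top (⟨x, hx⟩ : H) : (⟨x, hx⟩ : H) ∈ (S' : Subgroup H))
  -- the quotient
  set π := QuotientGroup.mk' Q with hπdef
  have hπ : Function.Surjective π := QuotientGroup.mk'_surjective Q
  let Sb : Sylow p (L ⧸ Q) := S.mapSurjective hπ
  have hSb : (Sb : Subgroup (L ⧸ Q)) = (S : Subgroup L).map π := rfl
  have hcomapS : (Sb : Subgroup (L ⧸ Q)).comap π = (S : Subgroup L) := by
    rw [hSb, Subgroup.comap_map_eq, QuotientGroup.ker_mk', sup_eq_left.mpr hQS]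
  have hmaxX : ∀ H : Subgroup (L ⧸ Q), (Sb : Subgroup _) ≤ H → H = (Sb : Subgroup _) ∨ H = ⊤ := by
    intro H hH
    rcases hmax (H.comap π) (hcomapS.ge.trans (Subgroup.comap_mono hH)) with h | h
    · exact Or.inl (Subgroup.comap_injective hπ (h.trans hcomapS.symm))
    · exact Or.inr (Subgroup.comap_injective hπ (h.trans (Subgroup.comap_top π).symm))
  obtain ⟨N, hNn, hc, k, hk⟩ := Cfsg.Lib.Transfer.hasNormalPComplement_iff.mp hnil
  haveI := hNn
  have hNcop : (Nat.card N).Coprime p := hc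
  have hdisj : ∀ a ∈ N, a ∈ (Sb : Subgroup _) → a = 1 := by
    intro a ha haS
    obtain ⟨i, hi⟩ := Sb.2 ⟨a, haS⟩
    refine orderOf_eq_one_iff.mp (Nat.eq_one_of_dvd_coprimes (hNcop.pow_right i)
      ((Subgroup.orderOf_mk a ha).symm ▸ orderOf_dvd_natCard (⟨a, ha⟩ : N))
      (orderOf_dvd_of_pow_eq_one (congrArg Subtype.val hi)))
  have hNS : N ⊔ (Sb : Subgroup _) = ⊤ := Cfsg.Lib.Transfer.sup_sylow_eq_top hk Sb
  have hNne : N ≠ ⊥ := by
    intro h
    rw [h, bot_sup_eq] at hNS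
    exact htop (by rw [← hcomapS, hNS, Subgroup.comap_top])
  have hinvsub : ∀ N1 : Subgroup (L ⧸ Q), N1 ≤ N →
      (Sb : Subgroup _) ≤ Subgroup.normalizer (N1 : Set (L ⧸ Q)) → N1 = ⊥ ∨ N1 = N := by
    intro N1 hN1 hS1
    rcases hmaxX (N1 ⊔ Sb) le_sup_right with h | h
    · exact Or.inl ((Subgroup.eq_bot_iff_forall _).mpr fun a ha =>
        hdisj a (hN1 ha) (h ▸ Subgroup.mem_sup_left ha))
    · refine Or.inr (le_antisymm hN1 fun a ha => ?_)
      have ha' : a ∈ ((N1 ⊔ Sb : Subgroup (L ⧸ Q)) : Set (L ⧸ Q)) := h ▸ Subgroup.mem_top a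
      rw [Subgroup.coe_mul_of_right_le_normalizer_left _ _ hS1] at ha'
      obtain ⟨b, hb, s, hs, e⟩ := ha'
      have : s = 1 := hdisj s (by
        rw [show s = b⁻¹ * a by rw [← e]; group]
        exact N.mul_mem (N.inv_mem (hN1 hb)) ha) hs
      rw [← e, this]
      simpa using hb
  -- `N` is abelian
  obtain ⟨q, hq, hqN⟩ := Nat.exists_prime_and_dvd (n := Nat.card N)
    fun h => hNne (Subgroup.card_eq_one.mp h)
  haveI : Fact q.Prime := ⟨hq⟩
  obtain ⟨Nq⟩ : Nonempty (Sylow q N) := inferInstance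
  set Nq' : Subgroup (L ⧸ Q) := (Nq : Subgroup N).map N.subtype
  have hfr : Subgroup.normalizer (Nq' : Set (L ⧸ Q)) ⊔ N = ⊤ := Nq.normalizer_sup_eq_top
  obtain ⟨U⟩ : Nonempty (Sylow p (Subgroup.normalizer (Nq' : Set (L ⧸ Q)))) := inferInstance
  have hNab : IsMulCommutative N := by
    -- the Sylow subgroup of the normalizer is one of the whole quotient
    set NN := Subgroup.normalizer (Nq' : Set (L ⧸ Q))
    set U' : Subgroup (L ⧸ Q) := (U : Subgroup NN).map NN.subtype
    have hU'p : IsPGroup p U' := U.2.map _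
    obtain ⟨V, hV⟩ := hU'p.exists_le_sylow
    have hUV : U' = (V : Subgroup _) := by
      refine Subgroup.eq_of_le_of_card_ge hV ?_
      have hidx : NN.index ∣ Nat.card N := by
        have h1 := Subgroup.card_mul_index NN
        -- `NN ⊔ N = ⊤`
        have h2 : Nat.card ↥(N ⊔ NN) * Nat.card ↥(N ⊓ NN) = Nat.card N * Nat.card NN :=
          Cfsg.Lib.Coprime.card_sup_mul_card_inf (le_top.trans Subgroup.le_normalizer_of_normal)
        rw [sup_comm, hfr, Subgroup.card_top, ← h1, mul_assoc, mul_comm (Nat.card N)] at h2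
        exact Dvd.intro _ (Nat.eq_of_mul_eq_mul_left Nat.card_pos h2)
      have hcop : (Nat.card (V : Subgroup (L ⧸ Q))).Coprime NN.index := by
        obtain ⟨i, hi⟩ := IsPGroup.iff_card.mp V.2
        rw [hi]
        exact (hNcop.coprime_dvd_left hidx).symm.pow_left i
      have hdvd : Nat.card (V : Subgroup (L ⧸ Q)) ∣ Nat.card NN := by
        refine hcop.dvd_of_dvd_mul_right ?_
        rw [Subgroup.card_mul_index]
        exact Subgroup.card_subgroup_dvd_card _
      have hle : Nat.card (V : Subgroup (L ⧸ Q)) ∣ Nat.card U' := by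
        rw [Subgroup.card_map_of_injective NN.subtype_injective, U.card_eq_multiplicity]
        obtain ⟨i, hi⟩ := IsPGroup.iff_card.mp V.2
        rw [hi] at hdvd ⊢
        exact Nat.pow_dvd_pow p (((Fact.out : p.Prime).pow_dvd_iff_le_factorization
          Nat.card_pos.ne').mp hdvd)
      exact Nat.le_of_dvd Nat.card_pos hle
    obtain ⟨g, hg⟩ := MulAction.exists_smul_eq (L ⧸ Q) V Sb
    set N1 : Subgroup (L ⧸ Q) := Nq'.map (MulAut.conj g).toMonoidHom
    have hN1 : N1 ≤ N := by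
      rintro _ ⟨a, ha, rfl⟩
      exact hNn.conj_mem a (Subgroup.map_subtype_le _ ha) g
    have hS1 : (Sb : Subgroup _) ≤ Subgroup.normalizer (N1 : Set (L ⧸ Q)) := by
      intro a ha
      rw [← hg] at ha
      obtain ⟨v, hv, rfl⟩ := ha
      rw [← hUV] at hv
      exact Subgroup.le_normalizer_map _ ⟨v, Subgroup.map_subtype_le _ hv, rfl⟩
    have hN1p : IsPGroup q N1 := (Nq.2.map _).map _
    rcases hinvsub N1 hN1 hS1 with h | h
    · exfalso
      have h1 : Nat.card N1 = Nat.card (Nq : Subgroup N) := by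
        rw [Subgroup.card_map_of_injective (MulAut.conj g).injective,
          Subgroup.card_map_of_injective N.subtype_injective]
      rw [h, Subgroup.card_bot] at h1
      have h2 := (Sylow.ne_bot_of_dvd_card Nq hqN)
      exact h2 (Subgroup.card_eq_one.mp h1.symm)
    · -- the centre
      have hNp : IsPGroup q N := h ▸ hN1p
      haveI : Nontrivial N := (Subgroup.nontrivial_iff_ne_bot N).mpr hNne
      have hcn := hNp.center_nontrivial
      set C : Subgroup (L ⧸ Q) := (Subgroup.center N).map N.subtype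
      have hCn : C.Normal := inferInstance
      rcases hinvsub C (Subgroup.map_subtype_le _)
        (fun a _ => Subgroup.le_normalizer_of_normal (K := (⊤ : Subgroup (L ⧸ Q))) (Subgroup.mem_top a)) with h' | h'
      · exfalso
        have : Subgroup.center N = ⊥ := by
          rwa [Subgroup.map_eq_bot_iff_of_injective _ N.subtype_injective] at h'
        exact (Subgroup.nontrivial_iff_ne_bot _).mp hcn this
      · refine ⟨⟨fun a b => ?_⟩⟩
        have hb : b ∈ Subgroup.center N := by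
          obtain ⟨c, hc', e⟩ := h'.ge b.2
          exact Subtype.ext e ▸ hc'
        exact Subgroup.mem_center_iff.mp hb a
  -- minimality and faithfulness
  have hmin : ∀ M : Subgroup L, Q ≤ M → M ≤ N.comap π →
      ∀ S' : Sylow p L, (S' : Subgroup L) ≤ Subgroup.normalizer (M : Set L) →
        M = Q ∨ M = N.comap π := by
    intro M hQM hMN S' hS'
    have hM : (M.map π).comap π = M := by
      rw [Subgroup.comap_map_eq, QuotientGroup.ker_mk', sup_eq_left.mpr hQM]
    have hcom : ∀ a ∈ N, a ∈ Subgroup.normalizer ((M.map π : Subgroup (L ⧸ Q)) : Set (L ⧸ Q)) := by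
      intro a ha
      refine Subgroup.mem_normalizer_iff.mpr fun b => ?_
      have hMle : M.map π ≤ N := Subgroup.map_le_iff_le_comap.mpr hMN
      have hab : ∀ b ∈ N, a * b * a⁻¹ = b := fun b hb => mul_inv_eq_iff_eq_mul.mpr
        (congrArg Subtype.val (hNab.is_comm.comm (⟨a, ha⟩ : N) ⟨b, hb⟩))
      constructor
      · intro hb
        rwa [hab b (hMle hb)]
      · intro hb
        have hbN : b ∈ N := by
          simpa [mul_assoc] using hNn.conj_mem _ (hMle hb) a⁻¹
        rwa [hab b hbN] at hb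
    have hS'' : ((S' : Subgroup L).map π) ≤
        Subgroup.normalizer ((M.map π : Subgroup (L ⧸ Q)) : Set (L ⧸ Q)) :=
      (Subgroup.map_mono hS').trans (Subgroup.le_normalizer_map π)
    have hnt : ∀ a : L ⧸ Q, a ∈ Subgroup.normalizer ((M.map π : Subgroup (L ⧸ Q)) : Set (L ⧸ Q)) := by
      intro a
      have h1 : N ⊔ (S'.mapSurjective hπ : Subgroup (L ⧸ Q)) = ⊤ :=
        Cfsg.Lib.Transfer.sup_sylow_eq_top hk _
      exact (sup_le hcom hS'') (h1 ▸ Subgroup.mem_top a)
    rcases hinvsub (M.map π) (Subgroup.map_le_iff_le_comap.mpr hMN) (fun a _ => hnt a) with h | h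
    · left
      rw [← hM, h, MonoidHom.comap_bot, QuotientGroup.ker_mk']
    · right
      rw [← hM, h]
  have hfaith : ∀ y ∈ (S : Subgroup L), (∀ n ∈ N, (QuotientGroup.mk y : L ⧸ Q) * n = n * QuotientGroup.mk y) →
      y ∈ Q := by
    intro y hy hcomm
    let C : Subgroup (L ⧸ Q) := (Sb : Subgroup _) ⊓ Subgroup.centralizer (N : Set (L ⧸ Q))
    have hCn : C.Normal := by
      refine Subgroup.normalizer_eq_top_iff.mp (top_unique (hNS.ge.trans (sup_le ?_ ?_)))
      · intro a ha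
        refine Subgroup.mem_normalizer_iff.mpr fun b => ?_
        have hfix : ∀ b ∈ C, a * b * a⁻¹ = b := fun b hb => mul_inv_eq_iff_eq_mul.mpr
          ((Subgroup.mem_centralizer_iff.mp hb.2) a ha)
        constructor
        · intro hb
          rwa [hfix b hb]
        · intro hb
          have := hfix _ hb
          have e : a * b * a⁻¹ = b := mul_left_cancel (mul_right_cancel this)
          rwa [e] at hb
      · intro a ha
        have hmap : ∀ a ∈ (Sb : Subgroup (L ⧸ Q)), ∀ b ∈ C, a * b * a⁻¹ ∈ C := by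
          intro a ha b hb
          refine ⟨Subgroup.mul_mem _ (Subgroup.mul_mem _ ha hb.1) (Subgroup.inv_mem _ ha), ?_⟩
          exact (inferInstance : (Subgroup.centralizer (N : Set (L ⧸ Q))).Normal).conj_mem b hb.2 a
        exact Subgroup.mem_normalizer_iff.mpr fun b => ⟨hmap a ha b, fun hb => by
          simpa [mul_assoc] using hmap a⁻¹ (Subgroup.inv_mem _ ha) _ hb⟩
    have hPp : IsPGroup p (C.comap π) :=
      S.2.to_le ((Subgroup.comap_mono inf_le_left).trans hcomapS.le)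
    refine Cfsg.Lib.Components.le_pCore hPp ⟨⟨y, hy, rfl⟩, Subgroup.mem_centralizer_iff.mpr ?_⟩
    intro n hn
    exact (hcomm n hn).symm
  -- an element of order prime to `p` outside `Q`
  obtain ⟨a0, ha0, ha01⟩ := (Subgroup.bot_or_exists_ne_one N).resolve_left hNne
  obtain ⟨g0, rfl⟩ := hπ a0
  obtain ⟨gp, gq, hgp, hgq, hgpq, ⟨i, hi⟩, hgcop⟩ := Cfsg.Lib.Transfer.exists_pPart p g0
  have hgqQ : gq ∉ Q := by
    intro h
    have h1 : π g0 = π gp := by rw [← hgpq, map_mul, show π gq = 1 from (QuotientGroup.eq_one_iff gq).mpr h, mul_one]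
    refine ha01 ?_
    refine orderOf_eq_one_iff.mp (Nat.eq_one_of_dvd_coprimes (hNcop.pow_right i)
      ((Subgroup.orderOf_mk _ ha0).symm ▸ orderOf_dvd_natCard (⟨π g0, ha0⟩ : N)) ?_)
    rw [h1, ← hi]
    exact orderOf_map_dvd π gp
  have hgqN : gq ∈ N.comap π :=
    (Subgroup.zpowers_le.mpr (show g0 ∈ N.comap π from ha0)) hgq
  -- no element outside `Q` acts quadratically on `Q`
  have hquadQ : ∀ s ∈ (S : Subgroup L), (∀ w ∈ Q, ⁅s, ⁅s, w⁆⁆ ∈ (frattini Q).map Q.subtype) → s ∈ Q := by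
    intro s hs hsq
    by_contra hsQ
    haveI : ((frattini Q).map Q.subtype).Normal := inferInstance
    have hW : ⁅Q, Q⁆ ≤ (frattini Q).map Q.subtype := by
      rw [← Subgroup.map_subtype_commutator]
      exact Subgroup.map_mono (Cfsg.Lib.PGroups.commutator_le_frattini hQp)
    have ht := section_trivial hp Q N hNcop hNab hmin S hfaith Q ((frattini Q).map Q.subtype) hQp
      (Subgroup.map_subtype_le _) hW hW hs hsQ hsq
    have hle : Subgroup.zpowers gq ≤ Subgroup.centralizer (Q : Set L) := by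
      refine Cfsg.Lib.Coprime.le_centralizer_of_frattini
        ((Subgroup.le_normalizer_of_normal (K := (⊤ : Subgroup L))).trans' le_top) ?_ fun a ha w hw => ?_
      · rw [Nat.card_zpowers]
        obtain ⟨m, hm⟩ := IsPGroup.iff_card.mp (hQp.to_subgroup (frattini Q))
        rw [hm]
        exact hgcop.pow_right m
      · exact ht a (Subgroup.zpowers_le.mpr hgqN ha) w hw
    exact hgqQ (hC (hle (Subgroup.mem_zpowers gq)))
  -- the intersection lies in `Q`
  set Z : Subgroup L := ⨅ A ∈ 𝒜, A with hZdef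
  have hSZ : (S : Subgroup L) ≤ Subgroup.normalizer (Z : Set L) := by
    intro s hs
    have h1 : ∀ g ∈ (S : Subgroup L), ∀ x ∈ Z, g * x * g⁻¹ ∈ Z := by
      intro g hg x hx
      have hZeq : Z = familyInter 𝒜 (S : Subgroup L) :=
        le_antisymm (iInter_le_familyInter 𝒜 _) (le_iInf₂ fun A hA' => familyInter_le hA' (hA A hA').1)
      rw [hZeq] at hx ⊢
      exact hinv _ le_rfl (let ⟨A, hA'⟩ := hne; ⟨A, hA', (hA A hA').1⟩) g
        (Subgroup.le_normalizer hg) x hx
    exact Subgroup.mem_normalizer_iff.mpr fun x => ⟨h1 s hs x, fun hx => by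
      simpa [mul_assoc] using h1 s⁻¹ (Subgroup.inv_mem _ hs) _ hx⟩
  have hZA : ∀ A ∈ 𝒜, Z ≤ A := fun A hA' => iInf₂_le A hA'
  obtain ⟨A0, hA0⟩ := hne
  have hZS : Z ≤ (S : Subgroup L) := (hZA A0 hA0).trans (hA A0 hA0).1
  have hZcomm : ∀ a ∈ Z, ∀ b ∈ Z, a * b = b * a := fun a ha b hb =>
    haveI := (hA A0 hA0).2
    congrArg Subtype.val (IsMulCommutative.is_comm.comm (⟨a, hZA A0 hA0 ha⟩ : A0) ⟨b, hZA A0 hA0 hb⟩)
  have hZQ : Z ≤ Q := by
    intro z hz
    refine hquadQ z (hZS hz) fun w hw => ?_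
    have h1 : ⁅z, w⁆ ∈ Z := by
      rw [commutatorElement_def, show z * w * z⁻¹ * w⁻¹ = z * (w * z⁻¹ * w⁻¹) by group]
      exact Z.mul_mem hz ((Subgroup.mem_normalizer_iff.mp (hSZ (hQS hw)) _).mp (Z.inv_mem hz))
    rw [show ⁅z, ⁅z, w⁆⁆ = 1 from commutatorElement_eq_one_iff_mul_comm.mpr (hZcomm z hz _ h1)]
    exact Subgroup.one_mem _
  -- a minimal subgroup of it not normal in `L`
  have hZnn : ¬ Z.Normal := by
    intro h
    exact htop (top_unique ((Subgroup.normalizer_eq_top_iff.mpr h).ge.trans hZ))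
  obtain ⟨Z0, ⟨hZ0Z, hSZ0, hZ0n⟩, hZ0min⟩ := Set.exists_min_image
    {W : Subgroup L | W ≤ Z ∧ (S : Subgroup L) ≤ Subgroup.normalizer (W : Set L) ∧ ¬ W.Normal}
    (fun W => Nat.card W) (Set.toFinite _) ⟨Z, le_rfl, hSZ, hZnn⟩
  set K := ⁅Z0, Q⁆ with hKdef
  have hKZ0 : K ≤ Z0 := Subgroup.commutator_le.mpr fun z hz w hw => by
    rw [commutatorElement_def, show z * w * z⁻¹ * w⁻¹ = z * (w * z⁻¹ * w⁻¹) by group]
    exact Z0.mul_mem hz ((Subgroup.mem_normalizer_iff.mp (hSZ0 (hQS hw)) _).mp (Z0.inv_mem hz))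
  have hKS : (S : Subgroup L) ≤ Subgroup.normalizer (K : Set L) := by
    intro s hs
    refine Subgroup.mem_normalizer_iff.mpr ?_
    have hmap : ∀ t ∈ (S : Subgroup L), K.map (MulAut.conj t).toMonoidHom ≤ K := fun t ht => by
      rw [hKdef, Subgroup.map_commutator]
      refine Subgroup.commutator_mono ?_ ?_
      · rintro _ ⟨a, ha, rfl⟩
        exact (Subgroup.mem_normalizer_iff.mp (hSZ0 ht) a).mp ha
      · rintro _ ⟨a, ha, rfl⟩
        exact Subgroup.Normal.conj_mem inferInstance a ha t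
    intro x
    exact ⟨fun hx => hmap s hs ⟨x, hx, rfl⟩, fun hx => by
      simpa [mul_assoc] using hmap s⁻¹ (Subgroup.inv_mem _ hs) ⟨_, hx, rfl⟩⟩
  have hKlt : K ≠ Z0 := by
    intro h
    have hlcs : ∀ i, Z0 ≤ Subgroup.lowerCentralSeries (S : Subgroup L) i := by
      intro i
      induction i with
      | zero => exact hZ0Z.trans hZS
      | succ i ihi =>
        rw [Subgroup.lowerCentralSeries_succ, ← h]
        exact Subgroup.commutator_mono ihi hQS
    obtain ⟨c, hc'⟩ := (Subgroup.isNilpotent_iff_lowerCentralSeries (S : Subgroup L)).mp S.2.isNilpotent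
    have hbot : Z0 = ⊥ := le_bot_iff.mp ((hlcs c).trans hc'.le)
    exact hZ0n (hbot ▸ inferInstance)
  haveI hKn : K.Normal := by
    by_contra hKn
    exact hKlt (Subgroup.eq_of_le_of_card_ge hKZ0 (hZ0min K ⟨hKZ0.trans hZ0Z, hKS, hKn⟩))
  set B := Subgroup.normalClosure (Z0 : Set L) with hBdef
  have hBQ : B ≤ Q := Subgroup.normalClosure_le_normal (hZ0Z.trans hZQ)
  have hZ0B : Z0 ≤ B := Subgroup.subset_normalClosure
  have hBS : B ≤ (S : Subgroup L) := hBQ.trans hQS
  have hBQK : ⁅B, Q⁆ ≤ K := by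
    have hle : B ≤ (Subgroup.centralizer ((Q.map (QuotientGroup.mk' K) : Subgroup _) : Set _)).comap
        (QuotientGroup.mk' K) := by
      refine Subgroup.normalClosure_le_normal fun z hz => ?_
      rw [SetLike.mem_coe, Subgroup.mem_comap, Subgroup.mem_centralizer_iff]
      rintro _ ⟨w, hw, rfl⟩
      refine (commutatorElement_eq_one_iff_mul_comm.mp ?_).symm
      rw [← map_commutatorElement]
      exact (QuotientGroup.eq_one_iff _).mpr (Subgroup.commutator_mem_commutator hz hw)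
    refine Subgroup.commutator_le.mpr fun b hb w hw => ?_
    rw [← QuotientGroup.eq_one_iff (N := K)]
    show QuotientGroup.mk' K ⁅b, w⁆ = 1
    rw [map_commutatorElement]
    exact commutatorElement_eq_one_iff_mul_comm.mpr
      ((Subgroup.mem_centralizer_iff.mp (hle hb) _ ⟨w, hw, rfl⟩)).symm
  have hBB : ⁅B, B⁆ ≤ K := (Subgroup.commutator_mono le_rfl hBQ).trans hBQK
  have hKB : ∀ b ∈ B, ∀ c ∈ K, c * b = b * c := by
    have hle : B ≤ Subgroup.centralizer (K : Set L) := by
      refine Subgroup.normalClosure_le_normal fun z hz => ?_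
      exact Subgroup.mem_centralizer_iff.mpr fun c hc =>
        hZcomm c (hZ0Z (hKZ0 hc)) z (hZ0Z hz)
    exact fun b hb c hc => Subgroup.mem_centralizer_iff.mp (hle hb) c hc
  have hcl : ⁅⁅B, B⁆, B⁆ = ⊥ := by
    rw [Subgroup.commutator_eq_bot_iff_le_centralizer]
    exact fun c hc => Subgroup.mem_centralizer_iff.mpr fun b hb => (hKB b hb c (hBB hc)).symm
  -- no element outside `Q` is quadratic on `B`
  have hquadB : ∀ s ∈ (S : Subgroup L), (∀ w ∈ B, ⁅s, ⁅s, w⁆⁆ ∈ K) → s ∈ Q := by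
    intro s hs hsq
    by_contra hsQ
    have ht := section_trivial hp Q N hNcop hNab hmin S hfaith B K (hQp.to_le hBQ)
      (hKZ0.trans hZ0B) hBB hBQK hs hsQ hsq
    refine hZ0n (Subgroup.normalizer_eq_top_iff.mp (top_unique ?_))
    have hM : N.comap π ≤ Subgroup.normalizer (Z0 : Set L) := by
      intro m hm
      have h1 : ∀ g ∈ N.comap π, ∀ z ∈ Z0, g * z * g⁻¹ ∈ Z0 := fun g hg z hz => by
        have := Z0.mul_mem (hKZ0 (ht g hg z (hZ0B hz))) hz
        simpa [commutatorElement_def] using this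
      exact Subgroup.mem_normalizer_iff.mpr fun z => ⟨h1 m hm z, fun hz => by
        simpa [mul_assoc] using h1 m⁻¹ (Subgroup.inv_mem _ hm) _ hz⟩
    refine le_trans ?_ (sup_le hM hSZ0)
    intro g _
    have h1 : π g ∈ N ⊔ (Sb : Subgroup _) := hNS ▸ Subgroup.mem_top _
    rw [hSb, ← Subgroup.map_comap_eq_self_of_surjective hπ N, ← Subgroup.map_sup] at h1
    obtain ⟨g', hg', e⟩ := h1
    have h2 : g'⁻¹ * g ∈ Q := QuotientGroup.eq.mp e
    have := Subgroup.mul_mem _ hg' (Subgroup.mem_sup_right (hQS h2) : g'⁻¹ * g ∈ N.comap π ⊔ (S : Subgroup L))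
    rwa [mul_inv_cancel_left] at this
  have hI : ∀ A ∈ 𝒜, A ≤ Q → B ≤ familyInter 𝒜 Q := by
    intro A hA' hAQ
    have hnor : (familyInter 𝒜 Q).Normal := ⟨fun x hx g =>
      hinv Q hQS ⟨A, hA', hAQ⟩ g
        (Subgroup.le_normalizer_of_normal (K := (⊤ : Subgroup L)) (Subgroup.mem_top g)) x hx⟩
    exact Subgroup.normalClosure_le_normal (hZ0Z.trans (iInter_le_familyInter 𝒜 Q))
  by_cases hall : ∀ A ∈ 𝒜, B ≤ A
  · by_cases hAQ : ∀ A ∈ 𝒜, A ≤ Q
    · refine hZnn ?_
      have hZeq : Z = familyInter 𝒜 Q :=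
        le_antisymm (iInter_le_familyInter 𝒜 _) (le_iInf₂ fun A hA' => familyInter_le hA' (hAQ A hA'))
      rw [hZeq]
      exact ⟨fun x hx g => hinv Q hQS ⟨A0, hA0, hAQ A0 hA0⟩ g
        (Subgroup.le_normalizer_of_normal (K := (⊤ : Subgroup L)) (Subgroup.mem_top g)) x hx⟩
    · push Not at hAQ
      obtain ⟨A, hA', hAQ⟩ := hAQ
      obtain ⟨a, ha, haQ⟩ := SetLike.not_le_iff_exists.mp hAQ
      refine haQ (hquadB a ((hA A hA').1 ha) fun w hw => ?_)
      haveI := (hA A hA').2
      have h1 : ⁅a, w⁆ = 1 := commutatorElement_eq_one_iff_mul_comm.mpr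
        (congrArg Subtype.val (IsMulCommutative.is_comm.comm (⟨a, ha⟩ : A) ⟨w, hall A hA' hw⟩))
      rw [h1, commutatorElement_one_right]
      exact K.one_mem
  · push Not at hall
    obtain ⟨A1, hA1, hBA1⟩ := hall
    obtain ⟨A, hA', -, hBA, hBN⟩ := hrep B hBS
      (Subgroup.le_normalizer_of_normal (K := (⊤ : Subgroup L)) |>.trans' le_top) hcl
      ⟨A1, hA1, hBB.trans ((hKZ0.trans hZ0Z).trans (hZA A1 hA1)), hBA1⟩
    have hAQ : ¬ A ≤ Q := fun h => hBA ((hI A hA' h).trans (familyInter_le hA' h))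
    obtain ⟨a, ha, haQ⟩ := SetLike.not_le_iff_exists.mp hAQ
    refine haQ (hquadB a ((hA A hA').1 ha) fun w hw => ?_)
    have h1 : ⁅a, w⁆ ∈ A := by
      rw [commutatorElement_def, show a * w * a⁻¹ * w⁻¹ = a * (w * a⁻¹ * w⁻¹) by group]
      exact A.mul_mem ha ((Subgroup.mem_normalizer_iff.mp (hBN hw) _).mp (A.inv_mem ha))
    haveI := (hA A hA').2
    rw [show ⁅a, ⁅a, w⁆⁆ = 1 from commutatorElement_eq_one_iff_mul_comm.mpr
      (congrArg Subtype.val (IsMulCommutative.is_comm.comm (⟨a, ha⟩ : A) ⟨_, h1⟩))]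
    exact K.one_mem

/-- **The group theoretic core of the Glauberman–Thompson criteria.** -/
theorem sylow_eq_top_of_criterion [Finite L] [Fact p.Prime] (hp : p ≠ 2) (S : Sylow p L)
    (Q : Subgroup L) [Q.Normal] (hQS : Q ≤ (S : Subgroup L))
    (hC : Subgroup.centralizer (Q : Set L) ≤ Q) (hnil : HasNormalPComplement p (L ⧸ Q))
    (𝒜 : Set (Subgroup L)) (hA : ∀ A ∈ 𝒜, A ≤ (S : Subgroup L) ∧ IsMulCommutative A)
    (hne : 𝒜.Nonempty)
    (hinv : ∀ Q' : Subgroup L, Q' ≤ (S : Subgroup L) → (∃ A ∈ 𝒜, A ≤ Q') →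
      ∀ g ∈ Subgroup.normalizer (Q' : Set L), ∀ x ∈ familyInter 𝒜 Q', g * x * g⁻¹ ∈ familyInter 𝒜 Q')
    (hrep : ∀ B : Subgroup L, B ≤ (S : Subgroup L) →
      (S : Subgroup L) ≤ Subgroup.normalizer (B : Set L) →
      ⁅⁅B, B⁆, B⁆ = ⊥ → (∃ A ∈ 𝒜, ⁅B, B⁆ ≤ A ∧ ¬ B ≤ A) →
        ∃ A ∈ 𝒜, ⁅B, B⁆ ≤ A ∧ ¬ B ≤ A ∧ B ≤ Subgroup.normalizer (A : Set L))
    (hZ : Subgroup.normalizer ((⨅ A ∈ 𝒜, A : Subgroup L) : Set L) ≤ (S : Subgroup L)) :
    (S : Subgroup L) = ⊤ :=
  sylow_eq_top_aux (p := p) _ L rfl hp S Q hQS hC hnil 𝒜 hA hne hinv hrep hZ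

end Cfsg.Lib.Fusion
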