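import Mathlib

/-!
The Glauberman replacement: conjugating and commutating an abelian subgroup by an element of a
normal subgroup `B` whose derived group it contains.
-/

set_option autoImplicit false

namespace Cfsg.Lib.Fusion

open scoped commutatorElement

variable {G : Type*} [Group G]

theorem comm_inv_left {x y : G} (h : Commute x ⁅x, y⁆) : ⁅x⁻¹, y⁆ = ⁅x, y⁆⁻¹ := by
  have e : ⁅x⁻¹, y⁆ = x⁻¹ * ⁅x, y⁆⁻¹ * x := by simp [commutatorElement_def, mul_assoc]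
  rw [e, mul_assoc, (h.inv_right).eq.symm, inv_mul_cancel_left]

theorem comm_inv_right {x y : G} (h : Commute y ⁅x, y⁆) : ⁅x, y⁻¹⁆ = ⁅x, y⁆⁻¹ := by
  have e : ⁅x, y⁻¹⁆ = y⁻¹ * ⁅x, y⁆⁻¹ * y := by simp [commutatorElement_def, mul_assoc]
  rw [e, mul_assoc, (h.inv_right).eq.symm, inv_mul_cancel_left]

theorem comm_mul_left {x x' y : G} (h : Commute x ⁅x', y⁆) :
    ⁅x * x', y⁆ = ⁅x', y⁆ * ⁅x, y⁆ := by
  have e : ⁅x * x', y⁆ = (x * ⁅x', y⁆ * x⁻¹) * ⁅x, y⁆ := by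
    simp only [commutatorElement_def]; group
  rw [e, h.eq, mul_inv_cancel_right]

theorem comm_mul_right {x y y' : G} (h : Commute y ⁅x, y'⁆) :
    ⁅x, y * y'⁆ = ⁅x, y⁆ * ⁅x, y'⁆ := by
  have e : ⁅x, y * y'⁆ = ⁅x, y⁆ * (y * ⁅x, y'⁆ * y⁻¹) := by
    simp only [commutatorElement_def]; group
  rw [e, h.eq, mul_inv_cancel_right]

/-- The replaced subgroup. -/
def replaceBy (A : Subgroup G) (b : G) : Subgroup G :=
  (A ⊓ A.map (MulAut.conj b).toMonoidHom) ⊔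
    Subgroup.closure {g : G | ∃ a ∈ A, g = a⁻¹ * (b * a * b⁻¹)}

/-- The setting of one replacement step. -/
structure ReplSetup (p : ℕ) (A B : Subgroup G) (b : G) : Prop where
  comm : IsMulCommutative A
  normB : A ≤ Subgroup.normalizer (B : Set G)
  derived : ⁅B, B⁆ ≤ A
  mem : b ∈ B
  prime : p.Prime
  pA : IsPGroup p A
  pow : ∃ n : ℕ, b ^ p ^ n = 1
  odd : p ≠ 2 ∨ IsMulCommutative B
  conjN : ∀ a ∈ A, b * a * b⁻¹ ∈ Subgroup.normalizer (A : Set G)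

namespace ReplSetup

variable {p : ℕ} {A B : Subgroup G} {b : G} (h : ReplSetup p A B b)
include h

theorem comm_eq {x y : G} (hx : x ∈ A) (hy : y ∈ A) : x * y = y * x :=
  haveI := h.comm
  congrArg Subtype.val (IsMulCommutative.is_comm.comm (⟨x, hx⟩ : A) ⟨y, hy⟩)

theorem derived_conj {z : G} (hz : z ∈ ⁅B, B⁆) {g : G} (hg : g ∈ B) : g * z * g⁻¹ ∈ ⁅B, B⁆ := by
  have hle : ⁅B, B⁆ ≤ B := Subgroup.commutator_le.mpr fun x hx y hy => by
    rw [commutatorElement_def]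
    exact B.mul_mem (B.mul_mem (B.mul_mem hx hy) (B.inv_mem hx)) (B.inv_mem hy)
  have h1 := Subgroup.commutator_mem_commutator hg (hle hz)
  have : g * z * g⁻¹ = ⁅g, z⁆ * z := by simp only [commutatorElement_def]; group
  rw [this]
  exact Subgroup.mul_mem _ h1 hz

/-- The conjugate of an element of `A`. -/
theorem mem_map {x : G} : x ∈ A.map (MulAut.conj b).toMonoidHom ↔ b⁻¹ * x * b ∈ A := by
  constructor
  · rintro ⟨a, ha, rfl⟩
    simpa [mul_assoc] using ha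
  · intro hx
    exact ⟨_, hx, by simp [mul_assoc]⟩

theorem derived_le : ⁅B, B⁆ ≤ A ⊓ A.map (MulAut.conj b).toMonoidHom := fun z hz =>
  ⟨h.derived hz, h.mem_map.mpr (h.derived (by
    simpa using h.derived_conj hz (B.inv_mem h.mem)))⟩

theorem conj_conj_mem {a a' : G} (ha : a ∈ A) (ha' : a' ∈ A) :
    (b * a' * b⁻¹) * a * (b * a' * b⁻¹)⁻¹ ∈ A :=
  (Subgroup.mem_normalizer_iff.mp (h.conjN a' ha') a).mp ha

theorem diff_mem_B {a : G} (ha : a ∈ A) : a⁻¹ * (b * a * b⁻¹) ∈ B := by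
  have h1 : a⁻¹ * b * a ∈ B := by
    simpa using (Subgroup.mem_normalizer_iff.mp (h.normB (A.inv_mem ha)) b).mp h.mem
  rw [show a⁻¹ * (b * a * b⁻¹) = (a⁻¹ * b * a) * b⁻¹ by group]
  exact B.mul_mem h1 (B.inv_mem h.mem)

theorem diff_mem_normalizer {a : G} (ha : a ∈ A) :
    a⁻¹ * (b * a * b⁻¹) ∈ Subgroup.normalizer (A : Set G) :=
  Subgroup.mul_mem _ (Subgroup.le_normalizer (A.inv_mem ha)) (h.conjN a ha)

/-- `D` commutes with `A` and with its conjugate. -/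
theorem commute_left {d a : G} (hd : d ∈ A ⊓ A.map (MulAut.conj b).toMonoidHom) (ha : a ∈ A) :
    Commute a d := h.comm_eq ha hd.1

theorem commute_right {d a : G} (hd : d ∈ A ⊓ A.map (MulAut.conj b).toMonoidHom) (ha : a ∈ A) :
    Commute (b * a * b⁻¹) d := by
  have h1 := h.comm_eq ha (h.mem_map.mp hd.2)
  show b * a * b⁻¹ * d = d * (b * a * b⁻¹)
  calc b * a * b⁻¹ * d = b * (a * (b⁻¹ * d * b)) * b⁻¹ := by group
    _ = b * ((b⁻¹ * d * b) * a) * b⁻¹ := by rw [h1]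
    _ = d * (b * a * b⁻¹) := by group

theorem commute_diff {d a : G} (hd : d ∈ A ⊓ A.map (MulAut.conj b).toMonoidHom) (ha : a ∈ A) :
    Commute (a⁻¹ * (b * a * b⁻¹)) d :=
  (h.commute_left hd ha).inv_left.mul_left (h.commute_right hd ha)

theorem e_mem {a a' : G} (ha : a ∈ A) (ha' : a' ∈ A) :
    ⁅a, b * a' * b⁻¹⁆ ∈ A ⊓ A.map (MulAut.conj b).toMonoidHom := by
  refine ⟨?_, h.mem_map.mpr ?_⟩
  · rw [commutatorElement_def, show a * (b * a' * b⁻¹) * a⁻¹ * (b * a' * b⁻¹)⁻¹ =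
      a * ((b * a' * b⁻¹) * a⁻¹ * (b * a' * b⁻¹)⁻¹) by group]
    exact A.mul_mem ha (h.conj_conj_mem (A.inv_mem ha) ha')
  · -- the mirror statement
    have hv := h.diff_mem_B ha'
    have h1 : (b⁻¹ * a * b) * a' * (b⁻¹ * a * b)⁻¹ ∈ A := by
      obtain ⟨n, hn⟩ := h.pow
      have hz : ∀ x ∈ A, ⁅b⁻¹, x⁻¹ * (b * x * b⁻¹)⁆ ∈ A := fun x hx =>
        h.derived (Subgroup.commutator_mem_commutator (B.inv_mem h.mem) (h.diff_mem_B hx))
      -- `b⁻¹ a b` differs from `b a⁻¹ b⁻¹` by elements of `A`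
      have e : b⁻¹ * a * b = (a * (b * a⁻¹ * b⁻¹) * a) * ⁅b⁻¹, a⁻¹ * (b * a * b⁻¹)⁆⁻¹ := by
        simp only [commutatorElement_def]
        group
      rw [e]
      refine (Subgroup.mem_normalizer_iff.mp ?_ a').mp ha'
      exact Subgroup.mul_mem _ (Subgroup.mul_mem _ (Subgroup.mul_mem _ (Subgroup.le_normalizer ha)
        (h.conjN _ (A.inv_mem ha))) (Subgroup.le_normalizer ha))
        (Subgroup.le_normalizer (A.inv_mem (hz a ha)))
    rw [commutatorElement_def]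
    have e : b⁻¹ * (a * (b * a' * b⁻¹) * a⁻¹ * (b * a' * b⁻¹)⁻¹) * b =
        ((b⁻¹ * a * b) * a' * (b⁻¹ * a * b)⁻¹) * a'⁻¹ := by group
    rw [e]
    exact A.mul_mem h1 (A.inv_mem ha')

theorem conj_e {a a' : G} (ha : a ∈ A) (ha' : a' ∈ A) :
    b * ⁅a, b * a' * b⁻¹⁆ * b⁻¹ = ⁅a', b * a * b⁻¹⁆ := by
  set v := a'⁻¹ * (b * a' * b⁻¹) with hv
  set z := ⁅v⁻¹, b⁆ with hz
  have hzD : z ∈ A ⊓ A.map (MulAut.conj b).toMonoidHom := h.derived_le
    (Subgroup.commutator_mem_commutator (B.inv_mem (h.diff_mem_B ha')) h.mem)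
  have e1 : b * (b * a' * b⁻¹) * b⁻¹ = (b * a' * b⁻¹) * (v * z) := by
    simp only [hv, hz, commutatorElement_def]
    group
  have e2 : b * ⁅a, b * a' * b⁻¹⁆ * b⁻¹ = ⁅b * a * b⁻¹, b * (b * a' * b⁻¹) * b⁻¹⁆ := by
    simp only [commutatorElement_def]
    group
  rw [e2, e1]
  have hc : ⁅b * a * b⁻¹, b * a' * b⁻¹⁆ = 1 := by
    rw [commutatorElement_eq_one_iff_mul_comm]
    calc b * a * b⁻¹ * (b * a' * b⁻¹) = b * (a * a') * b⁻¹ := by group
      _ = b * (a' * a) * b⁻¹ := by rw [h.comm_eq ha ha']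
      _ = b * a' * b⁻¹ * (b * a * b⁻¹) := by group
  have hcz : ⁅b * a * b⁻¹, z⁆ = 1 :=
    commutatorElement_eq_one_iff_mul_comm.mpr (h.commute_right hzD ha).eq
  have e3 : ⁅b * a * b⁻¹, v * z⁆ = ⁅b * a * b⁻¹, v⁆ := by
    rw [comm_mul_right (by rw [hcz]; exact Commute.one_right _), hcz, mul_one]
  have hinv : ⁅b * a * b⁻¹, a'⁻¹⁆ = ⁅a', b * a * b⁻¹⁆ := by
    have h1 : ⁅b * a * b⁻¹, a'⁆ = ⁅a', b * a * b⁻¹⁆⁻¹ := (commutatorElement_inv _ _).symm
    have h2 : Commute a' ⁅b * a * b⁻¹, a'⁆ := by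
      rw [h1]; exact (h.commute_left (h.e_mem ha' ha) ha').inv_right
    rw [comm_inv_right h2, h1, inv_inv]
  have e4 : ⁅b * a * b⁻¹, v⁆ = ⁅b * a * b⁻¹, a'⁻¹⁆ := by
    rw [hv, comm_mul_right (by rw [hc]; exact Commute.one_right _), hc, mul_one]
  have hmem : ⁅b * a * b⁻¹, v⁆ ∈ A ⊓ A.map (MulAut.conj b).toMonoidHom := by
    rw [e4, hinv]
    exact h.e_mem ha' ha
  rw [comm_mul_right (by rw [e3]; exact h.commute_right hmem ha'), hc, one_mul, e3, e4, hinv]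

theorem diff_comm {a a' : G} (ha : a ∈ A) (ha' : a' ∈ A) :
    (a⁻¹ * (b * a * b⁻¹)) * (a'⁻¹ * (b * a' * b⁻¹)) =
      (a'⁻¹ * (b * a' * b⁻¹)) * (a⁻¹ * (b * a * b⁻¹)) := by
  set v := a'⁻¹ * (b * a' * b⁻¹)
  set e := ⁅a, b * a' * b⁻¹⁆ with he
  set e' := ⁅a', b * a * b⁻¹⁆ with he'
  have hE := h.e_mem ha ha'
  have hE' := h.e_mem ha' ha
  have hd : ⁅a⁻¹ * (b * a * b⁻¹), v⁆ = e' * e⁻¹ := by
    have h1 : ⁅a⁻¹, b * a' * b⁻¹⁆ = e⁻¹ := comm_inv_left (h.commute_left hE ha)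
    have hc1 : ⁅a⁻¹, a'⁻¹⁆ = 1 := commutatorElement_eq_one_iff_mul_comm.mpr
      (h.comm_eq (A.inv_mem ha) (A.inv_mem ha'))
    have h2 : ⁅a⁻¹, v⁆ = e⁻¹ := by
      rw [comm_mul_right (by rw [h1]; exact (h.commute_left hE ha').inv_left.inv_right), hc1, one_mul, h1]
    have h3 : ⁅b * a * b⁻¹, b * a' * b⁻¹⁆ = 1 := by
      rw [commutatorElement_eq_one_iff_mul_comm]
      calc b * a * b⁻¹ * (b * a' * b⁻¹) = b * (a * a') * b⁻¹ := by group
        _ = b * (a' * a) * b⁻¹ := by rw [h.comm_eq ha ha']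
        _ = b * a' * b⁻¹ * (b * a * b⁻¹) := by group
    have h4 : ⁅b * a * b⁻¹, a'⁻¹⁆ = e' := by
      have h5 : ⁅b * a * b⁻¹, a'⁆ = e'⁻¹ := (commutatorElement_inv _ _).symm
      rw [comm_inv_right (by rw [h5]; exact (h.commute_left hE' ha').inv_right), h5, inv_inv]
    have h6 : ⁅b * a * b⁻¹, v⁆ = e' := by
      rw [comm_mul_right (by rw [h3]; exact Commute.one_right _), h3, mul_one, h4]
    rw [comm_mul_left (by rw [h6]; exact (h.commute_left hE' ha).inv_left), h6, h2]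
  have hdB : ⁅a⁻¹ * (b * a * b⁻¹), v⁆ ∈ ⁅B, B⁆ :=
    Subgroup.commutator_mem_commutator (h.diff_mem_B ha) (h.diff_mem_B ha')
  suffices hd1 : ⁅a⁻¹ * (b * a * b⁻¹), v⁆ = 1 from commutatorElement_eq_one_iff_mul_comm.mp hd1
  rcases h.odd with hp | hB
  swap
  · haveI := hB
    exact commutatorElement_eq_one_iff_mul_comm.mpr (congrArg Subtype.val
      (IsMulCommutative.is_comm.comm (⟨_, h.diff_mem_B ha⟩ : B) ⟨_, h.diff_mem_B ha'⟩))
  · -- `b` inverts the commutator and has odd order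
    have hflip : b * (e' * e⁻¹) * b⁻¹ = (e' * e⁻¹)⁻¹ := by
      calc b * (e' * e⁻¹) * b⁻¹ = (b * e' * b⁻¹) * (b * e * b⁻¹)⁻¹ := by group
        _ = e * e'⁻¹ := by rw [he, he', h.conj_e ha ha', h.conj_e ha' ha]
        _ = _ := by group
    rw [hd] at hdB ⊢
    set d := e' * e⁻¹
    have hiter : ∀ k : ℕ, b ^ k * d * (b ^ k)⁻¹ = d ^ ((-1 : ℤ) ^ k) := by
      intro k
      induction k with
      | zero => simp
      | succ k ih =>
        calc b ^ (k + 1) * d * (b ^ (k + 1))⁻¹ = b * (b ^ k * d * (b ^ k)⁻¹) * b⁻¹ := by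
              rw [pow_succ']; group
          _ = b * d ^ ((-1 : ℤ) ^ k) * b⁻¹ := by rw [ih]
          _ = (b * d * b⁻¹) ^ ((-1 : ℤ) ^ k) := conj_zpow.symm
          _ = d ^ ((-1 : ℤ) ^ (k + 1)) := by
            rw [hflip, inv_zpow, ← zpow_neg, pow_succ, mul_neg, mul_one]
    obtain ⟨n, hn⟩ := h.pow
    have hodd : Odd p := h.prime.odd_of_ne_two hp
    have h1 := hiter (p ^ n)
    rw [hn, (hodd.pow).neg_one_pow, zpow_neg, zpow_one, one_mul, inv_one, mul_one] at h1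
    -- an element equal to its inverse, of odd order
    have hsq : d ^ 2 = 1 := by
      rw [pow_two]
      nth_rw 1 [h1]
      exact inv_mul_cancel d
    obtain ⟨m, hm⟩ := h.pA ⟨d, h.derived hdB⟩
    have hm' : d ^ p ^ m = 1 := congrArg Subtype.val hm
    have hcop : Nat.Coprime 2 (p ^ m) := (Nat.coprime_two_left.mpr hodd).pow_right m
    exact orderOf_eq_one_iff.mp (Nat.eq_one_of_dvd_coprimes hcop
      (orderOf_dvd_of_pow_eq_one hsq) (orderOf_dvd_of_pow_eq_one hm'))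

theorem mul_diff {a a' : G} (ha : a ∈ A) (ha' : a' ∈ A) :
    ∃ d ∈ A ⊓ A.map (MulAut.conj b).toMonoidHom, (a * a')⁻¹ * (b * (a * a') * b⁻¹) =
      d * (a⁻¹ * (b * a * b⁻¹)) * (a'⁻¹ * (b * a' * b⁻¹)) := by
  refine ⟨⁅a', b * a * b⁻¹⁆⁻¹, Subgroup.inv_mem _ (h.e_mem ha' ha), ?_⟩
  have hc := h.commute_left (h.e_mem ha' ha) ha'
  have hc' := h.commute_left (h.e_mem ha' ha) ha
  have e : (a * a')⁻¹ * (b * (a * a') * b⁻¹) =
      a⁻¹ * (a'⁻¹ * ⁅a', b * a * b⁻¹⁆⁻¹ * a') * a * (a⁻¹ * (b * a * b⁻¹)) *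
        (a'⁻¹ * (b * a' * b⁻¹)) := by
    have e' : (a * a')⁻¹ = a⁻¹ * a'⁻¹ := by rw [h.comm_eq ha ha', mul_inv_rev]
    rw [e']
    simp only [commutatorElement_def]
    group
  rw [e, mul_assoc a'⁻¹, (hc.inv_right).symm.eq, inv_mul_cancel_left, mul_assoc a⁻¹ _ a,
    (hc'.inv_right).symm.eq, inv_mul_cancel_left]

theorem exists_rep {x : G} (hx : x ∈ replaceBy A b) :
    ∃ a ∈ A, ∃ d ∈ A ⊓ A.map (MulAut.conj b).toMonoidHom, x = d * (a⁻¹ * (b * a * b⁻¹)) := by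
  let X : Subgroup G :=
    { carrier := {x | ∃ a ∈ A, ∃ d ∈ A ⊓ A.map (MulAut.conj b).toMonoidHom,
        x = d * (a⁻¹ * (b * a * b⁻¹))}
      one_mem' := ⟨1, A.one_mem, 1, Subgroup.one_mem _, by simp⟩
      mul_mem' := by
        rintro _ _ ⟨a, ha, d, hd, rfl⟩ ⟨a', ha', d', hd', rfl⟩
        obtain ⟨c, hc, e⟩ := h.mul_diff ha ha'
        refine ⟨a * a', A.mul_mem ha ha', d * d' * c⁻¹,
          Subgroup.mul_mem _ (Subgroup.mul_mem _ hd hd') (Subgroup.inv_mem _ hc), ?_⟩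
        rw [e]
        have := (h.commute_diff hd' ha).eq
        calc d * (a⁻¹ * (b * a * b⁻¹)) * (d' * (a'⁻¹ * (b * a' * b⁻¹)))
            = d * ((a⁻¹ * (b * a * b⁻¹)) * d') * (a'⁻¹ * (b * a' * b⁻¹)) := by group
          _ = _ := by rw [this]; group
      inv_mem' := by
        rintro _ ⟨a, ha, d, hd, rfl⟩
        obtain ⟨c, hc, e⟩ := h.mul_diff ha (A.inv_mem ha)
        refine ⟨a⁻¹, A.inv_mem ha, d⁻¹ * c,
          Subgroup.mul_mem _ (Subgroup.inv_mem _ hd) hc, ?_⟩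
        rw [mul_inv_cancel, inv_one, one_mul, mul_one, mul_inv_cancel] at e
        refine inv_eq_of_mul_eq_one_right ?_
        have h2 := (h.commute_diff (Subgroup.mul_mem _ (Subgroup.inv_mem _ hd) hc) ha).eq
        calc d * (a⁻¹ * (b * a * b⁻¹)) * (d⁻¹ * c * (a⁻¹⁻¹ * (b * a⁻¹ * b⁻¹)))
            = d * ((a⁻¹ * (b * a * b⁻¹)) * (d⁻¹ * c)) * (a⁻¹⁻¹ * (b * a⁻¹ * b⁻¹)) := by group
          _ = c * (a⁻¹ * (b * a * b⁻¹)) * (a⁻¹⁻¹ * (b * a⁻¹ * b⁻¹)) := by rw [h2]; group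
          _ = 1 := e.symm }
  have hle : replaceBy A b ≤ X := by
    refine sup_le (fun d hd => ⟨1, A.one_mem, d, hd, by simp⟩) ((Subgroup.closure_le X).mpr ?_)
    rintro _ ⟨a, ha, rfl⟩
    exact ⟨a, ha, 1, Subgroup.one_mem _, (one_mul _).symm⟩
  exact hle hx

theorem rep_mem {a d : G} (ha : a ∈ A) (hd : d ∈ A ⊓ A.map (MulAut.conj b).toMonoidHom) :
    d * (a⁻¹ * (b * a * b⁻¹)) ∈ replaceBy A b :=
  Subgroup.mul_mem _ (Subgroup.mem_sup_left hd)
    (Subgroup.mem_sup_right (Subgroup.subset_closure ⟨a, ha, rfl⟩))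

theorem isMulCommutative_replaceBy : IsMulCommutative (replaceBy A b) := by
  refine ⟨⟨fun x y => Subtype.ext ?_⟩⟩
  obtain ⟨a, ha, d, hd, e⟩ := h.exists_rep x.2
  obtain ⟨a', ha', d', hd', e'⟩ := h.exists_rep y.2
  show (x : G) * y = y * x
  rw [e, e']
  have hdd : Commute d d' := h.comm_eq hd.1 hd'.1
  exact ((hdd.mul_right (h.commute_diff hd ha').symm).mul_left
    ((h.commute_diff hd' ha).mul_right (h.diff_comm ha ha'))).eq

theorem card_replaceBy [Finite G] : Nat.card (replaceBy A b) = Nat.card A := by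
  set D := A ⊓ A.map (MulAut.conj b).toMonoidHom with hD
  set A1 : Subgroup A := (A.map (MulAut.conj b⁻¹).toMonoidHom).subgroupOf A with hA1
  have hA1' : ∀ x : A, x ∈ A1 ↔ b * x * b⁻¹ ∈ A := by
    intro x
    constructor
    · rintro ⟨y, hy, e⟩
      rw [show (x : G) = b⁻¹ * y * b by simpa using e.symm]
      simpa [mul_assoc] using hy
    · intro hx
      exact ⟨_, hx, by simp [mul_assoc]⟩
  -- the two intersections have the same order
  have hcard : Nat.card A1 = Nat.card D := by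
    refine Nat.card_congr
      { toFun := fun x => ⟨b * (x : A) * b⁻¹, (hA1' _).mp x.2,
          h.mem_map.mpr (by simpa [mul_assoc] using (x : A).2)⟩
        invFun := fun y => ⟨⟨b⁻¹ * y * b, h.mem_map.mp y.2.2⟩,
          (hA1' _).mpr (by simpa [mul_assoc] using y.2.1)⟩
        left_inv := fun x => Subtype.ext (Subtype.ext (by simp [mul_assoc]))
        right_inv := fun y => Subtype.ext (by simp [mul_assoc]) }
  let Φ : (A ⧸ A1) × D → replaceBy A b := fun q =>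
    ⟨q.2 * ((q.1.out : G)⁻¹ * (b * q.1.out * b⁻¹)), h.rep_mem q.1.out.2 q.2.2⟩
  have hΦ : Function.Bijective Φ := by
    constructor
    · rintro ⟨ω, d⟩ ⟨ω', d'⟩ e
      have e1 : (d : G) * ((ω.out : G)⁻¹ * (b * ω.out * b⁻¹)) =
          d' * ((ω'.out : G)⁻¹ * (b * ω'.out * b⁻¹)) := congrArg Subtype.val e
      have hω : ω = ω' := by
        rw [← QuotientGroup.out_eq' ω, ← QuotientGroup.out_eq' ω', QuotientGroup.eq, hA1']
        have hcomm := h.comm_eq (A.inv_mem ω.out.2) ω'.out.2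
        have e2 : b * ω'.out * b⁻¹ = ω'.out * ((d' : G)⁻¹ * d * (ω.out : G)⁻¹) * (b * ω.out * b⁻¹) := by
          calc b * ω'.out * b⁻¹ = ω'.out * ((d' : G)⁻¹ *
                (d' * ((ω'.out : G)⁻¹ * (b * ω'.out * b⁻¹)))) := by group
            _ = _ := by rw [← e1]; group
        set m := ω'.out.1 * ((d' : G)⁻¹ * d * (ω.out : G)⁻¹) with hm
        have hmA : m ∈ A := A.mul_mem ω'.out.2 (A.mul_mem (A.mul_mem (A.inv_mem d'.2.1) d.2.1)
          (A.inv_mem ω.out.2))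
        have hc : Commute (b * ω.out * b⁻¹) (b * ω'.out * b⁻¹) := by
          show b * ω.out * b⁻¹ * (b * ω'.out * b⁻¹) = b * ω'.out * b⁻¹ * (b * ω.out * b⁻¹)
          calc b * ω.out * b⁻¹ * (b * ω'.out * b⁻¹) = b * (ω.out.1 * ω'.out) * b⁻¹ := by group
            _ = b * (ω'.out.1 * ω.out) * b⁻¹ := by rw [h.comm_eq ω.out.2 ω'.out.2]
            _ = _ := by group
        show b * ((ω.out : G)⁻¹ * ω'.out) * b⁻¹ ∈ A
        rw [show b * ((ω.out : G)⁻¹ * ω'.out) * b⁻¹ = (b * ω.out * b⁻¹)⁻¹ * (b * ω'.out * b⁻¹) by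
          group, hc.inv_left.eq, e2, mul_inv_cancel_right]
        exact hmA
      subst hω
      exact Prod.ext rfl (Subtype.ext (mul_right_cancel e1))
    · rintro ⟨x, hx⟩
      obtain ⟨a, ha, d, hd, rfl⟩ := h.exists_rep hx
      set ω : A ⧸ A1 := QuotientGroup.mk ⟨a, ha⟩
      obtain ⟨⟨u, hu⟩, hue⟩ := QuotientGroup.mk_out_eq_mul A1 (⟨a, ha⟩ : A)
      have hout : ((ω.out : A) : G) = a * u := congrArg Subtype.val hue
      have hub := (hA1' u).mp hu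
      obtain ⟨c, hc, e⟩ := h.mul_diff ha u.2
      have hu' : (u : G)⁻¹ * (b * u * b⁻¹) ∈ D :=
        ⟨A.mul_mem (A.inv_mem u.2) hub, h.mem_map.mpr (by
          rw [show b⁻¹ * ((u : G)⁻¹ * (b * u * b⁻¹)) * b =
              ⁅b⁻¹, (u : G)⁻¹ * (b * u * b⁻¹)⁆ * ((u : G)⁻¹ * (b * u * b⁻¹)) by
            simp only [commutatorElement_def]; group]
          exact A.mul_mem
            (h.derived (Subgroup.commutator_mem_commutator (B.inv_mem h.mem) (h.diff_mem_B u.2)))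
            (A.mul_mem (A.inv_mem u.2) hub))⟩
      refine ⟨(ω, ⟨d * ((u : G)⁻¹ * (b * u * b⁻¹))⁻¹ * c⁻¹,
        Subgroup.mul_mem _ (Subgroup.mul_mem _ hd (Subgroup.inv_mem _ hu')) (Subgroup.inv_mem _ hc)⟩),
        Subtype.ext ?_⟩
      show d * ((u : G)⁻¹ * (b * u * b⁻¹))⁻¹ * c⁻¹ * ((ω.out : G)⁻¹ * (b * ω.out * b⁻¹)) = _
      rw [hout, e]
      have h2 := (h.commute_diff hu' ha).eq
      set w := (u : G)⁻¹ * (b * u * b⁻¹)
      calc d * w⁻¹ * c⁻¹ * (c * (a⁻¹ * (b * a * b⁻¹)) * w)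
          = d * w⁻¹ * ((a⁻¹ * (b * a * b⁻¹)) * w) := by group
        _ = _ := by rw [h2]; group
  rw [← Nat.card_congr (Equiv.ofBijective Φ hΦ), Nat.card_prod, ← hcard,
    ← Subgroup.index, Subgroup.index_mul_card]

omit h in
theorem mem_normalizer_of_maps [Finite G] (hm : ∀ a ∈ A, b * a * b⁻¹ ∈ A) :
    b ∈ Subgroup.normalizer (A : Set G) := by
  rw [Subgroup.mem_normalizer_iff]
  intro x
  refine ⟨hm x, fun hx => ?_⟩
  let f : A → A := fun a => ⟨b * a * b⁻¹, hm a a.2⟩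
  have hf : Function.Injective f := fun a a' e =>
    Subtype.ext (mul_left_cancel (mul_right_cancel (congrArg Subtype.val e)))
  obtain ⟨y, hy⟩ := Finite.surjective_of_injective hf ⟨_, hx⟩
  have : (y : G) = x := mul_left_cancel (mul_right_cancel (congrArg Subtype.val hy))
  exact this ▸ y.2

/-- The intersection with `B` grows. -/
theorem inf_lt_replaceBy (hb : b ∉ Subgroup.normalizer (A : Set G)) [Finite G] :
    A ⊓ B < replaceBy A b ⊓ B := by
  have hAB : A ⊓ B ≤ replaceBy A b := by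
    intro x hx
    refine Subgroup.mem_sup_left ⟨hx.1, h.mem_map.mpr ?_⟩
    have h1 := h.derived (Subgroup.commutator_mem_commutator (B.inv_mem h.mem) hx.2)
    have : b⁻¹ * x * b = ⁅b⁻¹, x⁆ * x := by simp only [commutatorElement_def]; group
    rw [this]
    exact A.mul_mem h1 hx.1
  refine lt_of_le_of_ne (le_inf hAB inf_le_right) fun heq => hb ?_
  haveI : Finite A := inferInstance
  refine mem_normalizer_of_maps fun a ha => ?_
  have h1 : a⁻¹ * (b * a * b⁻¹) ∈ A ⊓ B := heq.ge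
    ⟨Subgroup.mem_sup_right (Subgroup.subset_closure ⟨a, ha, rfl⟩), h.diff_mem_B ha⟩
  have := A.mul_mem ha h1.1
  rwa [mul_inv_cancel_left] at this

end ReplSetup

/-- The abelian subgroups of largest order below `T`. -/
def maxAb (T : Subgroup G) : Set (Subgroup G) :=
  {A | A ≤ T ∧ IsMulCommutative A ∧
    ∀ A' : Subgroup G, A' ≤ T → IsMulCommutative A' → Nat.card A' ≤ Nat.card A}

theorem ReplSetup.replaceBy_le_normalizer {p : ℕ} {A B : Subgroup G} {b : G}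
    (h : ReplSetup p A B b) : replaceBy A b ≤ Subgroup.normalizer (A : Set G) :=
  sup_le (inf_le_left.trans Subgroup.le_normalizer) ((Subgroup.closure_le _).mpr (by
    rintro _ ⟨a, ha, rfl⟩
    exact h.diff_mem_normalizer ha))

/-- Glauberman's replacement for abelian subgroups of largest order of a normal subgroup `D`. -/
theorem exists_maxAb_normalized_gen [Finite G] {p : ℕ} [Fact p.Prime] {T D B : Subgroup G}
    (hp : p ≠ 2 ∨ IsMulCommutative B)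
    (hT : IsPGroup p T) (hBT : B ≤ T) (hTB : T ≤ Subgroup.normalizer (B : Set G))
    (hDT : D ≤ T) (hTD : T ≤ Subgroup.normalizer (D : Set G))
    (h : ∃ A ∈ maxAb D, ⁅B, B⁆ ≤ A ∧ ¬ B ≤ A) :
    ∃ A ∈ maxAb D, ⁅B, B⁆ ≤ A ∧ ¬ B ≤ A ∧ B ≤ Subgroup.normalizer (A : Set G) := by
  obtain ⟨A, ⟨hA, hder, hnle⟩, hmax⟩ := Set.exists_max_image
    {A | A ∈ maxAb D ∧ ⁅B, B⁆ ≤ A ∧ ¬ B ≤ A} (fun A => Nat.card ↥(A ⊓ B)) (Set.toFinite _)
    (let ⟨A, h1, h2⟩ := h; ⟨A, h1, h2⟩)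
  refine ⟨A, hA, hder, hnle, ?_⟩
  by_contra hN
  -- an element of `B` normalizing the normalizer
  set N := T ⊓ Subgroup.normalizer (A : Set G)
  have hNB : N ≤ Subgroup.normalizer (B : Set G) := inf_le_left.trans hTB
  have hlt : N < B ⊔ N := lt_of_le_of_ne le_sup_right fun e => hN fun x hx =>
    (show x ∈ N from e ▸ Subgroup.mem_sup_left hx).2
  obtain ⟨x, hx, hxN⟩ : ∃ x ∈ (B ⊔ N) ⊓ Subgroup.normalizer (N : Set G), x ∉ N := by
    set U := B ⊔ N
    have hUp : IsPGroup p U := hT.to_le (sup_le hBT inf_le_left)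
    have := hUp.isNilpotent
    have hlt' : N.subgroupOf U < ⊤ := by
      rw [lt_top_iff_ne_top, ne_eq, Subgroup.subgroupOf_eq_top]
      exact hlt.not_ge
    obtain ⟨x, hx, hx'⟩ := SetLike.exists_of_lt (Group.normalizerCondition_of_isNilpotent _ hlt')
    refine ⟨x, ⟨x.2, ?_⟩, fun h => hx' h⟩
    rw [Subgroup.mem_normalizer_iff] at hx
    refine Subgroup.mem_normalizer_iff.mpr ?_
    intro y
    constructor
    · intro hy
      exact (hx ⟨y, Subgroup.mem_sup_right hy⟩).mp hy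
    · intro hy
      have hyU : y ∈ U := by
        have h1 := Subgroup.mem_sup_right (S := B) hy
        simpa [mul_assoc] using U.mul_mem (U.mul_mem (U.inv_mem x.2) h1) x.2
      exact (hx ⟨y, hyU⟩).mpr hy
  have hxset : x ∈ ((B ⊔ N : Subgroup G) : Set G) := hx.1
  rw [Subgroup.coe_mul_of_right_le_normalizer_left B N hNB] at hxset
  obtain ⟨b, hb, n, hn, rfl⟩ := hxset
  have hbN : b ∈ Subgroup.normalizer (N : Set G) := by
    simpa using Subgroup.mul_mem _ hx.2 (Subgroup.inv_mem _ (Subgroup.le_normalizer hn))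
  have hbA : b ∉ Subgroup.normalizer (A : Set G) := fun hb' =>
    hxN (Subgroup.mul_mem _ ⟨hBT hb, hb'⟩ hn)
  obtain ⟨k, hk⟩ := hT ⟨b, hBT hb⟩
  have S : ReplSetup p A B b :=
    { comm := hA.2.1
      normB := (hA.1.trans hDT).trans hTB
      derived := hder
      mem := hb
      prime := Fact.out
      pA := hT.to_le (hA.1.trans hDT)
      pow := ⟨k, congrArg Subtype.val hk⟩
      odd := hp
      conjN := fun a ha =>
        ((Subgroup.mem_normalizer_iff.mp hbN a).mp ⟨hDT (hA.1 ha), Subgroup.le_normalizer ha⟩).2 }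
  have hA'T : replaceBy A b ≤ D := sup_le (inf_le_left.trans hA.1) ((Subgroup.closure_le _).mpr (by
    rintro _ ⟨a, ha, rfl⟩
    exact D.mul_mem (D.inv_mem (hA.1 ha))
      ((Subgroup.mem_normalizer_iff.mp (hTD (hBT hb)) a).mp (hA.1 ha))))
  have hmem : replaceBy A b ∈ maxAb D := ⟨hA'T, S.isMulCommutative_replaceBy, fun A' h1 h2 =>
    S.card_replaceBy.symm ▸ hA.2.2 A' h1 h2⟩
  have hlt := S.inf_lt_replaceBy hbA
  have h1 := hmax (replaceBy A b) ⟨hmem, S.derived_le.trans le_sup_left, fun hle =>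
    hbA (S.replaceBy_le_normalizer (hle hb))⟩
  exact hlt.ne (Subgroup.eq_of_le_of_card_ge hlt.le h1)

/-- Glauberman's replacement for abelian subgroups of largest order of a normal subgroup `D`,
`p` odd. -/
theorem exists_maxAb_normalized_of_normal [Finite G] {p : ℕ} [Fact p.Prime] (hp : p ≠ 2)
    {T D B : Subgroup G} (hT : IsPGroup p T) (hBT : B ≤ T)
    (hTB : T ≤ Subgroup.normalizer (B : Set G)) (hDT : D ≤ T)
    (hTD : T ≤ Subgroup.normalizer (D : Set G)) (h : ∃ A ∈ maxAb D, ⁅B, B⁆ ≤ A ∧ ¬ B ≤ A) :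
    ∃ A ∈ maxAb D, ⁅B, B⁆ ≤ A ∧ ¬ B ≤ A ∧ B ≤ Subgroup.normalizer (A : Set G) :=
  exists_maxAb_normalized_gen (Or.inl hp) hT hBT hTB hDT hTD h

/-- Glauberman's replacement for abelian subgroups of largest order. -/
theorem exists_maxAb_normalized [Finite G] {p : ℕ} [Fact p.Prime] (hp : p ≠ 2) {T B : Subgroup G}
    (hT : IsPGroup p T) (hBT : B ≤ T) (hTB : T ≤ Subgroup.normalizer (B : Set G))
    (h : ∃ A ∈ maxAb T, ⁅B, B⁆ ≤ A ∧ ¬ B ≤ A) :
    ∃ A ∈ maxAb T, ⁅B, B⁆ ≤ A ∧ ¬ B ≤ A ∧ B ≤ Subgroup.normalizer (A : Set G) :=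
  exists_maxAb_normalized_of_normal hp hT hBT hTB le_rfl Subgroup.le_normalizer h

end Cfsg.Lib.Fusion
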