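import Cfsg.Agent.Fusion.Puig
import Cfsg.Agent.Fusion.GTEngine
import Cfsg.Agent.Fusion.Replacement
import Cfsg.Agent.Fusion.GroupSystem

/-!
The Glauberman–Thompson criterion for saturated fusion systems, with an axiomatic family of
abelian subgroups.
-/

set_option autoImplicit false

namespace Cfsg.Lib.Fusion

open Cfsg Cfsg.FusionSystem
open scoped commutatorElement

universe u

variable {Ω : Type u} [Group Ω] {S : Subgroup Ω} {F : FusionSystem S} {p : ℕ}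

/-- All maps are conjugations by elements of `S`. -/
def IsInner (F : FusionSystem S) : Prop :=
  ∀ (P : Subgroup Ω) (f : Ω → Ω), IsMap F P f → ∃ s ∈ S, ∀ x ∈ P, f x = s * x * s⁻¹

theorem isInner_iff : IsInner F ↔ ∀ P : Subgroup Ω, F.Hom P = (innerFusionSystem S).Hom P := by
  constructor
  · intro h P
    refine (hom_eq_iff_isMap.mpr fun f => ⟨fun hf => ?_, fun hf => ?_⟩)
    · obtain ⟨s, hs, e⟩ := h P f hf
      exact isMap_inner_iff.mpr ⟨hf.le, s, hs, e⟩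
    · obtain ⟨hP, g, hg, e⟩ := isMap_inner_iff.mp hf
      exact (isMap_conj hP hg).congr e
  · intro h P f hf
    obtain ⟨φ, hφ, e⟩ := hf
    rw [h P] at hφ
    exact (isMap_inner_iff.mp ⟨φ, hφ, e⟩).2

/-- The axioms for the family. -/
structure IsGTFamily (F : FusionSystem S) (𝒜 : Set (Subgroup Ω)) : Prop where
  mem : ∀ A ∈ 𝒜, A ≤ S ∧ IsMulCommutative A
  nonempty : 𝒜.Nonempty
  inv : ∀ Q : Subgroup Ω, Q ≤ S → (∃ A ∈ 𝒜, A ≤ Q) → ∀ α ∈ F.autGroup Q, ∀ x : Ω, x ∈ Q →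
    x ∈ familyInter 𝒜 Q → autFun α x ∈ familyInter 𝒜 Q
  rep : ∀ B : Subgroup Ω, B ≤ S → S ≤ Subgroup.normalizer (B : Set Ω) → ⁅⁅B, B⁆, B⁆ = ⊥ →
    (∃ A ∈ 𝒜, ⁅B, B⁆ ≤ A ∧ ¬ B ≤ A) →
      ∃ A ∈ 𝒜, ⁅B, B⁆ ≤ A ∧ ¬ B ≤ A ∧ B ≤ Subgroup.normalizer (A : Set Ω)

theorem IsGTFamily.inter_le {𝒜 : Set (Subgroup Ω)} (h : IsGTFamily F 𝒜) : (⨅ A ∈ 𝒜, A) ≤ S :=
  let ⟨A, hA⟩ := h.nonempty
  (iInf₂_le A hA).trans (h.mem A hA).1

theorem autFun_apply_img {Q R : Subgroup Ω} {α : MulAut Q} [Finite R] (hRQ : R ≤ Q)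
    (hα : α ∈ F.autGroup Q) (hQ : Q ≤ S) (h : ∀ x ∈ R, autFun α x ∈ R) :
    img R (autFun α) = R :=
  Subgroup.eq_of_le_of_card_ge (IsMap.img_le_iff.mpr h)
    (((isMap_autFun hQ).mpr hα).mono hRQ).card_img.ge

/-- The intersection of the family is normal in `S`, and the automorphisms of `S` preserve it. -/
theorem IsGTFamily.inter_props [Finite S] {𝒜 : Set (Subgroup Ω)} (h : IsGTFamily F 𝒜) :
    S ≤ Subgroup.normalizer (((⨅ A ∈ 𝒜, A) : Subgroup Ω) : Set Ω) ∧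
      ∀ α ∈ F.autGroup S, ∀ x ∈ (⨅ A ∈ 𝒜, A : Subgroup Ω), autFun α x ∈ (⨅ A ∈ 𝒜, A : Subgroup Ω) := by
  have hZeq : (⨅ A ∈ 𝒜, A : Subgroup Ω) = familyInter 𝒜 S :=
    le_antisymm (iInter_le_familyInter 𝒜 _) (le_iInf₂ fun A hA => familyInter_le hA (h.mem A hA).1)
  have h2 : ∀ α ∈ F.autGroup S, ∀ x ∈ (⨅ A ∈ 𝒜, A : Subgroup Ω),
      autFun α x ∈ (⨅ A ∈ 𝒜, A : Subgroup Ω) := fun α hα x hx => by
    have hxS := h.inter_le hx
    rw [hZeq] at hx ⊢
    exact h.inv S le_rfl (let ⟨A, hA⟩ := h.nonempty; ⟨A, hA, (h.mem A hA).1⟩) α hα x hxS hx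
  refine ⟨fun s hs => ?_, h2⟩
  have := finite_of_le h.inter_le
  refine mem_normalizer_of_maps_finite fun x hx => ?_
  have hn : s ∈ Subgroup.normalizer (S : Set Ω) := Subgroup.le_normalizer hs
  have h3 := h2 _ (autInducedBy_le le_rfl (conjAut_mem_autInducedBy hn hs)) x hx
  rwa [autFun_apply_mem _ (h.inter_le hx), conjAut_apply] at h3

/-! ### The family of abelian subgroups of largest order -/

theorem maxAb_nonempty {T : Subgroup Ω} [Finite T] : (maxAb T).Nonempty := by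
  have hbot : (⊥ : Subgroup Ω) ∈ {A : Subgroup Ω | A ≤ T ∧ IsMulCommutative A} :=
    ⟨bot_le, ⟨⟨fun a b => Subsingleton.elim _ _⟩⟩⟩
  have hfin : {A : Subgroup Ω | A ≤ T ∧ IsMulCommutative A}.Finite :=
    (finite_subgroups_le (S := T)).subset fun A hA => hA.1
  obtain ⟨A, hA, hmax⟩ := Set.exists_max_image _ (fun A : Subgroup Ω => Nat.card A) hfin ⟨⊥, hbot⟩
  exact ⟨A, hA.1, hA.2, fun A' h1 h2 => hmax A' ⟨h1, h2⟩⟩

theorem centralizerIn_self_le_maxAb {T A : Subgroup Ω} [Finite T] (hA : A ∈ maxAb T) :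
    centralizerIn T T ≤ A := by
  haveI := hA.2.1
  have hcomm : A ⊔ centralizerIn T T ≤
      Subgroup.centralizer ((A ⊔ centralizerIn T T : Subgroup Ω) : Set Ω) := by
    have hA1 : A ≤ Subgroup.centralizer (A : Set Ω) := fun a ha =>
      Subgroup.mem_centralizer_iff.mpr fun b hb =>
        congrArg Subtype.val (IsMulCommutative.is_comm.comm (⟨b, hb⟩ : A) ⟨a, ha⟩)
    have hA2 : A ≤ Subgroup.centralizer ((centralizerIn T T : Subgroup Ω) : Set Ω) := fun a ha =>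
      Subgroup.mem_centralizer_iff.mpr fun c hc => (Subgroup.mem_centralizer_iff.mp hc.2 a (hA.1 ha)).symm
    have hC1 : centralizerIn T T ≤ Subgroup.centralizer (T : Set Ω) := inf_le_right
    refine sup_le ?_ ?_
    · intro a ha
      rw [Subgroup.mem_centralizer_iff]
      have hle : A ⊔ centralizerIn T T ≤ Subgroup.centralizer ({a} : Set Ω) := sup_le
        (fun b hb => Subgroup.mem_centralizer_iff.mpr fun c hc => by
          rw [Set.mem_singleton_iff.mp hc]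
          exact Subgroup.mem_centralizer_iff.mp (hA1 hb) a ha)
        (fun b hb => Subgroup.mem_centralizer_iff.mpr fun c hc => by
          rw [Set.mem_singleton_iff.mp hc]
          exact Subgroup.mem_centralizer_iff.mp (hC1 hb) a (hA.1 ha))
      exact fun b hb => (Subgroup.mem_centralizer_iff.mp (hle hb) a rfl).symm
    · exact hC1.trans (Subgroup.centralizer_le
        (SetLike.coe_subset_coe.mpr (sup_le hA.1 inf_le_left)))
  have hle : A ⊔ centralizerIn T T ≤ T := sup_le hA.1 inf_le_left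
  have hab : IsMulCommutative ↥(A ⊔ centralizerIn T T) := ⟨⟨fun a b => Subtype.ext
    (Subgroup.mem_centralizer_iff.mp (hcomm b.2) a a.2)⟩⟩
  have := finite_of_le hle
  have heq : A = A ⊔ centralizerIn T T :=
    Subgroup.eq_of_le_of_card_ge le_sup_left (hA.2.2 _ hle hab)
  rw [heq]
  exact le_sup_right

theorem iInf_maxAb_ne_bot [Finite S] [Fact p.Prime] (hS : IsPGroup p S) {T : Subgroup Ω}
    (hTS : T ≤ S) (hT : T ≠ ⊥) : (⨅ A ∈ maxAb T, A : Subgroup Ω) ≠ ⊥ := by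
  have := finite_of_le hTS
  have hTp : IsPGroup p T := hS.of_injective _ (Subgroup.inclusion_injective hTS)
  haveI : Nontrivial T := (Subgroup.nontrivial_iff_ne_bot T).mpr hT
  haveI : Nontrivial (Subgroup.center T) := hTp.center_nontrivial
  obtain ⟨z, hz⟩ := exists_ne (1 : Subgroup.center T)
  intro h
  have hmem : ((z.1 : T) : Ω) ∈ (⨅ A ∈ maxAb T, A : Subgroup Ω) := by
    simp only [Subgroup.mem_iInf]
    intro A hA
    refine centralizerIn_self_le_maxAb hA ⟨z.1.2, Subgroup.mem_centralizer_iff.mpr fun y hy => ?_⟩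
    exact congrArg Subtype.val (Subgroup.mem_center_iff.mp z.2 ⟨y, hy⟩)
  rw [h, Subgroup.mem_bot] at hmem
  exact hz (Subtype.ext (Subtype.ext hmem))

theorem maxAb_img {T A : Subgroup Ω} [Finite T] (hA : A ∈ maxAb T) {f : Ω → Ω} {P : Subgroup Ω}
    (hf : IsMap F P f) (hAP : A ≤ P) (hi : ∀ x ∈ A, f x ∈ T) : img A f ∈ maxAb T := by
  have hfA := hf.mono hAP
  haveI := hA.2.1
  refine ⟨IsMap.img_le_iff.mpr hi, ⟨⟨fun a b => Subtype.ext ?_⟩⟩,
    fun A' h1 h2 => hfA.card_img.symm ▸ hA.2.2 A' h1 h2⟩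
  obtain ⟨x, hx, ex⟩ := hfA.mem_img.mp a.2
  obtain ⟨y, hy, ey⟩ := hfA.mem_img.mp b.2
  show (a : Ω) * b = b * a
  rw [← ex, ← ey, ← hfA.map_mul hx hy, ← hfA.map_mul hy hx,
    show x * y = y * x from congrArg Subtype.val (IsMulCommutative.is_comm.comm (⟨x, hx⟩ : A) ⟨y, hy⟩)]

theorem exists_maxAb_normalized' [Fact p.Prime] {T D B : Subgroup Ω} (hp : p ≠ 2 ∨ IsMulCommutative B) [Finite T]
    (hT : IsPGroup p T) (hBT : B ≤ T) (hTB : T ≤ Subgroup.normalizer (B : Set Ω))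
    (hDT : D ≤ T) (hTD : T ≤ Subgroup.normalizer (D : Set Ω))
    (h : ∃ A ∈ maxAb D, ⁅B, B⁆ ≤ A ∧ ¬ B ≤ A) :
    ∃ A ∈ maxAb D, ⁅B, B⁆ ≤ A ∧ ¬ B ≤ A ∧ B ≤ Subgroup.normalizer (A : Set Ω) := by
  have hmap : ∀ A : Subgroup Ω, A ≤ T → (A.subgroupOf T).map T.subtype = A := fun A hA => by
    rw [Subgroup.subgroupOf_map_subtype, inf_eq_left.mpr hA]
  have hmem : ∀ A : Subgroup T, A ∈ maxAb (D.subgroupOf T) ↔ A.map T.subtype ∈ maxAb D := by
    intro A
    have hcard : ∀ A : Subgroup T, Nat.card (A.map T.subtype) = Nat.card A := fun A =>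
      Subgroup.card_map_of_injective T.subtype_injective
    constructor
    · rintro ⟨hle, hA, hmax⟩
      haveI := hA
      refine ⟨hmap D hDT ▸ Subgroup.map_mono hle, inferInstance, fun A' h1 h2 => ?_⟩
      haveI := h2
      rw [hcard, ← hmap A' (h1.trans hDT), hcard]
      exact hmax _ (fun x hx => h1 hx) inferInstance
    · rintro ⟨hle, hA, hmax⟩
      refine ⟨fun x hx => hle ⟨x, hx, rfl⟩, ?_, fun A' h' h2 => ?_⟩
      · haveI := hA
        exact ⟨⟨fun a b => Subtype.ext (Subtype.ext (by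
          have := congrArg Subtype.val
            (IsMulCommutative.is_comm.comm (⟨_, ⟨a.1, a.2, rfl⟩⟩ : A.map T.subtype) ⟨_, ⟨b.1, b.2, rfl⟩⟩)
          exact this))⟩⟩
      · haveI := h2
        rw [← hcard A, ← hcard A']
        exact hmax _ (hmap D hDT ▸ Subgroup.map_mono h') inferInstance
  obtain ⟨A, hA, h1, h2⟩ := h
  have hder : ⁅B.subgroupOf T, B.subgroupOf T⁆.map T.subtype = ⁅B, B⁆ := by
    rw [Subgroup.map_commutator, hmap B hBT]
  obtain ⟨A', hA', e1, e2, e3⟩ := exists_maxAb_normalized_gen (hp.imp id fun h => by haveI := h; infer_instance) (T := (⊤ : Subgroup T))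
    (D := D.subgroupOf T) (B := B.subgroupOf T) (hT.to_subgroup ⊤) le_top
    (fun t _ => by
      refine Subgroup.mem_normalizer_iff.mpr fun x => ?_
      simp only [Subgroup.mem_subgroupOf, Subgroup.coe_mul, Subgroup.coe_inv]
      exact Subgroup.mem_normalizer_iff.mp (hTB t.2) x)
    le_top
    (fun t _ => by
      refine Subgroup.mem_normalizer_iff.mpr fun x => ?_
      simp only [Subgroup.mem_subgroupOf, Subgroup.coe_mul, Subgroup.coe_inv]
      exact Subgroup.mem_normalizer_iff.mp (hTD t.2) x)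
    ⟨A.subgroupOf T, (hmem _).mpr ((hmap A (hA.1.trans hDT)).symm ▸ hA), fun x hx => h1 (hder ▸ ⟨x, hx, rfl⟩),
      fun hle => h2 fun x hx => hle (show (⟨x, hBT hx⟩ : T) ∈ B.subgroupOf T from hx)⟩
  refine ⟨A'.map T.subtype, (hmem A').mp hA', hder ▸ Subgroup.map_mono e1, fun hle => e2 fun x hx => ?_,
    fun b hb => Subgroup.le_normalizer_map T.subtype ⟨⟨b, hBT hb⟩, e3 hb, rfl⟩⟩
  obtain ⟨y, hy, e⟩ := hle hx
  exact Subtype.ext e ▸ hy

theorem isGTFamily_maxAb {T : Subgroup Ω} (E : FusionSystem T) [Finite T] [Fact p.Prime]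
    (hp : p ≠ 2) (hT : IsPGroup p T) : IsGTFamily E (maxAb T) where
  mem A hA := ⟨hA.1, hA.2.1⟩
  nonempty := maxAb_nonempty
  inv := by
    intro Q hQ _ α hα x hxQ hx
    rw [mem_familyInter] at hx ⊢
    intro A hA hAQ
    have hm := (isMap_autFun hQ).mpr (Subgroup.inv_mem _ hα)
    have h1 := maxAb_img hA hm hAQ fun y hy => hQ (autFun_mem _ (hAQ hy))
    have h2 := hx _ h1 (IsMap.img_le_iff.mpr fun y hy => autFun_mem _ (hAQ hy))
    obtain ⟨y, hy, e⟩ := (hm.mono hAQ).mem_img.mp h2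
    rw [← e, autFun_inv_apply α (hAQ hy)]
    exact hy
  rep B hB hTB _ h := exists_maxAb_normalized' (Or.inl hp) hT hB hTB le_rfl Subgroup.le_normalizer h
end Cfsg.Lib.Fusion
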