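import Cfsg.Agent.Fusion.RelTransfer.Extend
import Cfsg.Agent.Fusion.GTFamily
import Cfsg.Agent.PGroups.Basic

/-!
Tate's theorem for saturated fusion systems.
-/

set_option autoImplicit false

namespace Cfsg.Lib.Fusion

open Cfsg Cfsg.FusionSystem
open scoped commutatorElement

variable {Ω : Type*} [Group Ω] {S : Subgroup Ω} {F : FusionSystem S} {p : ℕ}

/-- The hyperfocal subgroup is generated modulo the Frattini subgroup of `S` by no proper `S`-invariant
subgroup. -/
theorem hyperfocal_le_of_le_sup_frattini [Finite S] [Fact p.Prime] (hS : IsPGroup p S)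
    (hF : F.IsSaturated p) {M : Subgroup Ω} (hMS : M ≤ S) (hMn : ∀ s ∈ S, ∀ x ∈ M, s * x * s⁻¹ ∈ M)
    (hMK : M ≤ F.hyperfocalSubgroup p)
    (h : F.hyperfocalSubgroup p ≤ M ⊔ (frattini S).map S.subtype) :
    F.hyperfocalSubgroup p ≤ M := by
  classical
  set K := F.hyperfocalSubgroup p with hKdef
  have hKS : K ≤ S := hyperfocalSubgroup_le F p
  let K' : Subgroup S := K.subgroupOf S
  let M' : Subgroup S := M.subgroupOf S
  haveI hKn : K'.Normal := ⟨fun a ha g => conj_mem_hyperfocalSubgroup g.2 ha⟩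
  haveI hMn' : M'.Normal := ⟨fun a ha g => hMn _ g.2 _ ha⟩
  set L' : Subgroup S := ⁅K', (⊤ : Subgroup S)⁆ ⊔ M' with hL'
  suffices hKL : K' ≤ L' by
    set π := QuotientGroup.mk' M'
    haveI : Group.IsNilpotent (S ⧸ M') := (hS.to_quotient M').isNilpotent
    obtain ⟨n, hn⟩ := Subgroup.nilpotent_iff_lowerCentralSeries.mp
      (inferInstance : Group.IsNilpotent (S ⧸ M'))
    have hle : ∀ i, K'.map π ≤ (⊤ : Subgroup (S ⧸ M')).lowerCentralSeries i := by
      intro i
      induction i with
      | zero => simp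
      | succ i ih =>
        refine (Subgroup.map_mono hKL).trans ?_
        rw [hL', Subgroup.map_sup, Subgroup.map_commutator, QuotientGroup.map_mk'_self, sup_bot_eq,
          Subgroup.lowerCentralSeries_succ]
        exact Subgroup.commutator_mono ih le_top
    intro k hk
    have h5 := hle n ⟨⟨k, hKS hk⟩, hk, rfl⟩
    rw [hn, Subgroup.mem_bot] at h5
    exact (QuotientGroup.eq_one_iff (N := M') _).mp h5
  -- the quotient `K / L`
  haveI : L'.Normal := inferInstance
  let Lr : Subgroup K' := L'.subgroupOf K'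
  haveI : Lr.Normal := Subgroup.normal_subgroupOf
  letI : CommGroup (K' ⧸ Lr) :=
    { (inferInstance : Group (K' ⧸ Lr)) with
      mul_comm := fun a b => by
        induction a using QuotientGroup.induction_on with
        | H x =>
          induction b using QuotientGroup.induction_on with
          | H y =>
            refine QuotientGroup.eq.mpr ?_
            have hc : ⁅((y : S))⁻¹, ((x : S))⁻¹⁆ ∈ L' :=
              Subgroup.mem_sup_left (Subgroup.commutator_mem_commutator (K'.inv_mem y.2) (Subgroup.mem_top _))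
            show ((x * y)⁻¹ * (y * x) : S) ∈ L'
            convert hc using 1
            rw [commutatorElement_def]
            simp [mul_assoc] }
  by_contra hKL
  have hne : Nontrivial (K' ⧸ Lr) := by
    rw [QuotientGroup.nontrivial_iff]
    exact fun h' => hKL (Subgroup.subgroupOf_eq_top.mp h')
  let q : K' →* K' ⧸ Lr := QuotientGroup.mk' Lr
  let hv : Ω → K' ⧸ Lr := fun x => if hx : x ∈ K then q ⟨⟨x, hKS hx⟩, hx⟩ else 1
  have hhv : ∀ x (hx : x ∈ K), hv x = q ⟨⟨x, hKS hx⟩, hx⟩ := fun x hx => dif_pos hx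
  let D : RelTransfer.Data F (K' ⧸ Lr) :=
    { K := K
      h := hv
      le := hKS
      closed := fun hf x hx hxK => stronglyClosed_apply (stronglyClosed_hyperfocal hS hF) hf hx hxK
      hmul := fun x hx y hy => by
        rw [hhv x hx, hhv y hy, hhv _ (K.mul_mem hx hy), ← map_mul]
        rfl
      hconj := fun s hs x hx => by
        rw [hhv x hx, hhv _ (conj_mem_hyperfocalSubgroup hs hx)]
        refine (QuotientGroup.eq.mpr ?_).symm
        have hc : ⁅(⟨x, hKS hx⟩ : S)⁻¹, (⟨s, hs⟩ : S)⁆ ∈ L' :=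
          Subgroup.mem_sup_left (Subgroup.commutator_mem_commutator
            (K'.inv_mem (show (⟨x, hKS hx⟩ : S) ∈ K' from hx)) (Subgroup.mem_top _))
        show ((⟨x, hKS hx⟩ : S)⁻¹ * (⟨s * x * s⁻¹, _⟩ : S)) ∈ L'
        convert hc using 1
        rw [commutatorElement_def]
        refine Subtype.ext ?_
        simp [mul_assoc] }
  have hKp : IsPGroup p (K' ⧸ Lr) := (hS.to_subgroup K').to_quotient Lr
  obtain ⟨χ, hχ⟩ := RelTransfer.exists_extension hS hKp hF D rfl
  have hsurj : Function.Surjective χ := fun a => by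
    obtain ⟨k, rfl⟩ := QuotientGroup.mk'_surjective Lr a
    exact ⟨k, (hχ k k.2).trans (hhv _ k.2)⟩
  -- a maximal subgroup of the quotient
  obtain ⟨N, hN, -⟩ := (eq_top_or_exists_le_coatom (⊥ : Subgroup (K' ⧸ Lr))).resolve_left bot_ne_top
  have hfr : frattini S ≤ N.comap χ := frattini_le_coatom (Subgroup.isCoatom_comap_of_surjective hsurj hN)
  refine hN.1 (top_le_iff.mp fun a _ => ?_)
  obtain ⟨k, rfl⟩ := QuotientGroup.mk'_surjective Lr a
  have hle : M ⊔ (frattini S).map S.subtype ≤ (N.comap χ).map S.subtype := by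
    refine sup_le (fun m hm => ⟨⟨m, hMS hm⟩, ?_, rfl⟩) (Subgroup.map_mono hfr)
    show χ ⟨m, hMS hm⟩ ∈ N
    rw [hχ ⟨m, hMS hm⟩ (hMK hm)]
    show hv m ∈ N
    rw [hhv m (hMK hm), show q ⟨⟨m, hMS hm⟩, hMK hm⟩ = 1 from
      (QuotientGroup.eq_one_iff _).mpr (Subgroup.mem_sup_right hm : (⟨m, hMS hm⟩ : S) ∈ L')]
    exact N.one_mem
  obtain ⟨w, hw, e⟩ := hle (h k.2)
  have hw' : χ (k : S) ∈ N := (Subtype.ext e : w = (k : S)) ▸ hw
  rw [hχ _ k.2] at hw'
  change hv ((k : S) : Ω) ∈ N at hw'
  rwa [show hv ((k : S) : Ω) = q ⟨⟨((k : S) : Ω), hKS k.2⟩, k.2⟩ from hhv _ k.2] at hw'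

/-- A saturated system whose focal subgroup lies in the Frattini subgroup is inner. -/
theorem isInner_of_focal_le_frattini [Finite S] [Fact p.Prime] (hS : IsPGroup p S)
    (hF : F.IsSaturated p) (h : F.focalSubgroup ≤ (frattini S).map S.subtype) : IsInner F := by
  have hK : F.hyperfocalSubgroup p ≤ ⊥ := hyperfocal_le_of_le_sup_frattini hS hF bot_le
    (fun s _ x hx => by simp [Subgroup.mem_bot.mp hx]) bot_le
    (((hyperfocalSubgroup_le_focalSubgroup F p).trans h).trans le_sup_right)
  intro P f hf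
  obtain ⟨s, hs, hsx⟩ := innerMod_hyperfocal hS hF hf
  exact ⟨s, hs, fun x hx => (inv_mul_eq_one.mp (Subgroup.mem_bot.mp (hK (hsx x hx)))).symm⟩

theorem commutator_le_frattini [Finite S] [Fact p.Prime] (hS : IsPGroup p S) :
    ⁅S, S⁆ ≤ (frattini S).map S.subtype := by
  rw [← Subgroup.map_subtype_commutator]
  exact Subgroup.map_mono (Cfsg.Lib.PGroups.commutator_le_frattini hS)

/-- Tate's theorem. -/
theorem tate [Finite S] [Fact p.Prime] (hS : IsPGroup p S) (hF : F.IsSaturated p)
    {H : FusionSystem S} (hH : H.IsSaturated p) (hHF : H.IsSubsystemOf F) :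
    (((frattini S).map S.subtype ⊔ F.focalSubgroup = (frattini S).map S.subtype ⊔ H.focalSubgroup) ↔
      F.focalSubgroup = H.focalSubgroup) ∧
    (F.focalSubgroup = H.focalSubgroup ↔ F.hyperfocalSubgroup p = H.hyperfocalSubgroup p) := by
  have key : (frattini S).map S.subtype ⊔ F.focalSubgroup ≤ (frattini S).map S.subtype ⊔ H.focalSubgroup →
      F.hyperfocalSubgroup p = H.hyperfocalSubgroup p := by
    intro h
    refine le_antisymm ?_ (hyperfocalSubgroup_mono hHF)
    refine hyperfocal_le_of_le_sup_frattini hS hF (hyperfocalSubgroup_le H p)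
      (fun s hs x hx => conj_mem_hyperfocalSubgroup hs hx) (hyperfocalSubgroup_mono hHF) ?_
    refine ((hyperfocalSubgroup_le_focalSubgroup F p).trans le_sup_right).trans (h.trans ?_)
    rw [focalSubgroup_eq_sup hS hH]
    exact sup_le le_sup_right (sup_le le_sup_left ((commutator_le_frattini hS).trans le_sup_right))
  have hfoc : F.hyperfocalSubgroup p = H.hyperfocalSubgroup p → F.focalSubgroup = H.focalSubgroup :=
    fun h => by rw [focalSubgroup_eq_sup hS hF, focalSubgroup_eq_sup hS hH, h]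
  exact ⟨⟨fun h => hfoc (key h.le), fun h => by rw [h]⟩, ⟨fun h => key (by rw [h]), hfoc⟩⟩

end Cfsg.Lib.Fusion
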