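import Mathlib

/-!
If `t ^ (n(p-1)+1) = 0` and `(1+t)^p = 1` then `p^n t = 0`, and its form for endomorphisms.
-/

set_option autoImplicit false

namespace Cfsg.Lib.Fusion

open Finset in
theorem prime_mul_mul_unit {R : Type*} [CommRing R] {p : ℕ} (hp : p.Prime) {t : R}
    (h : (1 + t) ^ p = 1) : ∃ r : R, (p : R) * t * (1 + t * r) = - t ^ p := by
  obtain ⟨m, rfl⟩ : ∃ m, p = m + 2 := ⟨p - 2, by have := hp.two_le; omega⟩
  have hdvd : ∀ i ∈ range m, m + 2 ∣ (m + 2).choose (i + 2) := fun i hi => by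
    rw [mem_range] at hi
    exact hp.dvd_choose_self (by omega) (by omega)
  refine ⟨∑ i ∈ range m, t ^ i * ((((m + 2).choose (i + 2)) / (m + 2) : ℕ) : R), ?_⟩
  have h1 : (1 + t) ^ (m + 2) =
      (∑ i ∈ range m, t ^ (i + 2) * (((m + 2).choose (i + 2) : ℕ) : R)) + t * ((m + 2 : ℕ) : R)
        + 1 + t ^ (m + 2) := by
    rw [add_comm 1 t, add_pow, sum_range_succ, sum_range_succ', sum_range_succ']
    simp
  rw [h] at h1
  have h2 : ∑ i ∈ range m, t ^ (i + 2) * (((m + 2).choose (i + 2) : ℕ) : R) =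
      ((m + 2 : ℕ) : R) * t * (t * ∑ i ∈ range m,
        t ^ i * ((((m + 2).choose (i + 2)) / (m + 2) : ℕ) : R)) := by
    simp only [mul_sum]
    refine sum_congr rfl fun i hi => ?_
    calc t ^ (i + 2) * (((m + 2).choose (i + 2) : ℕ) : R)
        = t ^ (i + 2) * (((m + 2) * ((m + 2).choose (i + 2) / (m + 2)) : ℕ) : R) := by
          rw [Nat.mul_div_cancel' (hdvd i hi)]
      _ = _ := by push_cast; ring
  rw [h2] at h1
  linear_combination -h1

theorem pow_mul_eq_zero_of_unipotent {R : Type*} [CommRing R] {p : ℕ} (hp : p.Prime) {t : R}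
    (h : (1 + t) ^ p = 1) {n : ℕ} (hn : t ^ (n * (p - 1) + 1) = 0) : (p : R) ^ n * t = 0 := by
  obtain ⟨r, hr⟩ := prime_mul_mul_unit hp h
  have key : ∀ j : ℕ, (p : R) ^ j * t * (1 + t * r) ^ j = (-1) ^ j * t ^ (j * (p - 1) + 1) := by
    intro j
    induction j with
    | zero => simp
    | succ j ih =>
      calc (p : R) ^ (j + 1) * t * (1 + t * r) ^ (j + 1)
          = (p : R) * (1 + t * r) * ((p : R) ^ j * t * (1 + t * r) ^ j) := by ring
        _ = (-1) ^ j * t ^ (j * (p - 1)) * ((p : R) * t * (1 + t * r)) := by rw [ih]; ring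
        _ = (-1) ^ (j + 1) * t ^ (j * (p - 1) + p) := by rw [hr]; ring
        _ = (-1) ^ (j + 1) * t ^ ((j + 1) * (p - 1) + 1) := by
          have : (j + 1) * (p - 1) + 1 = j * (p - 1) + p := by
            have := hp.two_le
            rw [add_mul, one_mul]; omega
          rw [this]
  have hnil : IsNilpotent (t * r) :=
    ⟨n * (p - 1) + 1, by rw [mul_pow, hn, zero_mul]⟩
  exact ((hnil.isUnit_one_add).pow n).mul_left_eq_zero.mp (by rw [key, hn, mul_zero])

theorem end_pow_mul_eq_zero {R : Type*} [Ring R] {p : ℕ} (hp : p.Prime) {t : R}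
    (h : (1 + t) ^ p = 1) {n : ℕ} (hn : t ^ (n * (p - 1) + 1) = 0) : (p : R) ^ n * t = 0 := by
  let f := Polynomial.aeval (R := ℤ) t
  let π := Ideal.Quotient.mk (RingHom.ker f.toRingHom)
  have h1 : (1 + π Polynomial.X) ^ p = 1 := by
    rw [← map_one π, ← map_add, ← map_pow, Ideal.Quotient.eq, RingHom.mem_ker]
    simp [f, h]
  have h2 : (π Polynomial.X) ^ (n * (p - 1) + 1) = 0 := by
    rw [← map_pow, Ideal.Quotient.eq_zero_iff_mem, RingHom.mem_ker]
    simp [f, hn]
  have h3 := pow_mul_eq_zero_of_unipotent hp h1 h2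
  rw [← map_natCast π, ← map_pow, ← map_mul, Ideal.Quotient.eq_zero_iff_mem, RingHom.mem_ker] at h3
  simpa [f] using h3

end Cfsg.Lib.Fusion
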