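import Cfsg.Agent.Fusion.Sites
import Cfsg.Agent.Fusion.PowerTrick
import Cfsg.Prelude.Def_PLocal

/-!
If `S` has class at most `n(p-1)+1` then the `p^n`-th powers of the centre of `S` form a normal
subgroup of every saturated fusion system on `S`.
-/

set_option autoImplicit false

namespace Cfsg.Lib.Fusion

open Cfsg Cfsg.FusionSystem
open scoped commutatorElement IsMulCommutative

variable {Ω : Type*} [Group Ω] {S : Subgroup Ω} {F : FusionSystem S} {p : ℕ}

theorem IsMap.img_sup {P A : Subgroup Ω} {f : Ω → Ω} (hf : IsMap F (P ⊔ A) f) :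
    img (P ⊔ A) f = img P f ⊔ img A f := by
  refine le_antisymm ?_ (sup_le (img_mono le_sup_left f) (img_mono le_sup_right f))
  obtain ⟨φ, hφ, e⟩ := hf
  have hf : IsMap F (P ⊔ A) f := ⟨φ, hφ, e⟩
  refine IsMap.img_le_iff.mpr fun x hx => ?_
  have h : P ⊔ A ≤ ((img P f ⊔ img A f).comap φ).map (P ⊔ A).subtype := by
    refine sup_le (fun y hy => ⟨⟨y, Subgroup.mem_sup_left hy⟩, ?_, rfl⟩)
      (fun y hy => ⟨⟨y, Subgroup.mem_sup_right hy⟩, ?_, rfl⟩)
    · show φ ⟨y, _⟩ ∈ img P f ⊔ img A f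
      rw [e]; exact Subgroup.mem_sup_left (IsMap.apply_mem_img hy)
    · show φ ⟨y, _⟩ ∈ img P f ⊔ img A f
      rw [e]; exact Subgroup.mem_sup_right (IsMap.apply_mem_img hy)
  obtain ⟨⟨y, hy⟩, hmem, rfl⟩ := h hx
  have := hmem
  show f y ∈ _
  rw [← e ⟨y, hy⟩]
  exact this

/-- The property that a map extends to a map fixing `A` as a subgroup. -/
def ExtendsWith (F : FusionSystem S) (A P : Subgroup Ω) (f : Ω → Ω) : Prop :=
  ∃ f', IsMap F (P ⊔ A) f' ∧ (∀ x ∈ P, f' x = f x) ∧ img A f' = A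

theorem ExtendsWith.comp {A P Q : Subgroup Ω} {f g : Ω → Ω}
    (hfQ : ∀ x ∈ P, f x ∈ Q) (h1 : ExtendsWith F A P f) (h2 : ExtendsWith F A Q g) :
    ExtendsWith F A P (g ∘ f) := by
  obtain ⟨k, hk, hkf, hki⟩ := h1
  obtain ⟨l, hl, hlg, hli⟩ := h2
  have h : ∀ x ∈ P ⊔ A, k x ∈ Q ⊔ A := by
    refine IsMap.img_le_iff.mp ?_
    rw [hk.img_sup, hki]
    exact sup_le_sup_right (IsMap.img_le_iff.mpr fun x hx => (hkf x hx).symm ▸ hfQ x hx) A
  refine ⟨l ∘ k, hk.comp hl h, fun x hx => ?_, ?_⟩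
  · show l (k x) = g (f x)
    rw [hkf x hx, hlg _ (hfQ x hx)]
  · have hkA := hk.mono (le_sup_right : A ≤ P ⊔ A)
    have hlA := hl.mono (le_sup_right : A ≤ Q ⊔ A)
    have := img_comp hkA (g := l) (by rw [hki]; exact hlA)
    rw [this, hki, hli]

theorem ExtendsWith.inv {A P : Subgroup Ω} {f g : Ω → Ω} (hl : ∀ x ∈ P, g (f x) = x)
    (h : ExtendsWith F A P f) : ExtendsWith F A (img P f) g := by
  obtain ⟨k, hk, hkf, hki⟩ := h
  obtain ⟨m, hm, -, hml, hmr⟩ := hk.exists_inv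
  have e : img (P ⊔ A) k = img P f ⊔ A := by rw [hk.img_sup, hki, img_congr hkf]
  rw [e] at hm
  refine ⟨m, hm, fun y hy => ?_, ?_⟩
  · obtain ⟨x, hx, rfl⟩ := ((hk.mono le_sup_left).congr fun x hx => (hkf x hx).symm).mem_img.mp hy
    rw [hl x hx, ← hkf x hx, hml x (Subgroup.mem_sup_left hx)]
  · apply le_antisymm
    · refine IsMap.img_le_iff.mpr fun y hy => ?_
      obtain ⟨x, hx, rfl⟩ := (hk.mono le_sup_right).mem_img.mp (hki.symm ▸ hy)
      rw [hml x (Subgroup.mem_sup_right hx)]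
      exact hx
    · intro x hx
      rw [← hml x (Subgroup.mem_sup_right hx)]
      exact IsMap.apply_mem_img (hki ▸ IsMap.apply_mem_img hx)

theorem isMapClass_extendsWith {A : Subgroup Ω} (hA : A ≤ S)
    (hAn : ∀ g ∈ S, A.map (MulAut.conj g).toMonoidHom = A) :
    IsMapClass F (ExtendsWith F A) where
  conj P g hP hg :=
    ⟨fun x => g * x * g⁻¹, isMap_conj (sup_le hP hA) hg, fun _ _ => rfl,
      (img_conj A g).trans (hAn g hg)⟩
  congr P f f' _ e := fun ⟨k, hk, hkf, hki⟩ => ⟨k, hk, fun x hx => (hkf x hx).trans (e x hx).symm, hki⟩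
  mono P R f _ hR := fun ⟨k, hk, hkf, hki⟩ =>
    ⟨k, hk.mono (sup_le_sup_right hR A), fun x hx => hkf x (hR hx), hki⟩
  comp _ _ _ _ _ _ hfQ h1 h2 := h1.comp hfQ h2
  inv _ _ _ _ _ hl h := h.inv hl

/-- A criterion for normality by way of the induction principle. -/
theorem isNormal_of_extendsWith {A : Subgroup Ω} (hA : A ≤ S)
    (h : ∀ (P : Subgroup Ω) (f : Ω → Ω), IsMap F P f → ExtendsWith F A P f) : F.IsNormal A := by
  refine ⟨hA, fun P φ hφ => ?_⟩
  obtain ⟨f', ⟨ψ, hψ, e⟩, hag, hi⟩ := h P _ (isMap_of_mem hφ)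
  refine ⟨ψ, hψ, fun x => ?_, ?_⟩
  · rw [e]
    exact (hag x x.2).trans (toFun'_apply φ x)
  · conv_rhs => rw [← hi]
    ext y
    rw [(IsMap.mono ⟨ψ, hψ, e⟩ le_sup_right).mem_img]
    constructor
    · rintro ⟨x, hx, rfl⟩
      exact ⟨x, hx, (e x).symm⟩
    · rintro ⟨x, hx, rfl⟩
      exact ⟨⟨x, Subgroup.mem_sup_right hx⟩, hx, e _⟩

theorem exists_lcs_unipotent {Q : Subgroup Ω} (hQ : Q ≤ S) {g : Ω} (hg : g ∈ S)
    {β : MulAut Q} (eg : ∀ x : Q, ((β x : Q) : Ω) = g * x * g⁻¹) {V : Type*} [AddCommGroup V]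
    (ι : V → Ω) (hι : ∀ v, ι v ∈ Q) (T : AddMonoid.End V)
    (hT : ∀ v, ι (T v) = ((β ⟨ι v, hι v⟩ : Q) : Ω) * (ι v)⁻¹) (j : ℕ) (v : V) :
    ι ((T ^ j) v) ∈ Subgroup.lowerCentralSeries S j := by
  induction j with
  | zero => exact hQ (hι _)
  | succ j ih =>
    rw [pow_succ', Subgroup.lowerCentralSeries_succ]
    show ι (T ((T ^ j) v)) ∈ _
    rw [hT, eg]
    have h1 := Subgroup.commutator_mem_commutator ih hg
    have h2 := Subgroup.inv_mem _ h1
    rw [commutatorElement_inv] at h2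
    exact h2

theorem powerClosure_center_normal [Finite S] [Fact p.Prime] (hS : IsPGroup p S)
    (hF : F.IsSaturated p) (n : ℕ)
    (hcl : Subgroup.lowerCentralSeries S (n * (p - 1) + 1) = ⊥) :
    F.IsNormal (powerClosure p n (S ⊓ Subgroup.centralizer (S : Set Ω))) := by
  set Z := S ⊓ Subgroup.centralizer (S : Set Ω) with hZ
  set A := powerClosure p n Z with hA
  have hAZ : A ≤ Z := (Subgroup.closure_le _).mpr fun y ⟨x, hx, hy⟩ => hy ▸ Z.pow_mem hx _
  have hAS : A ≤ S := hAZ.trans inf_le_left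
  have hfix : ∀ g ∈ S, ∀ a ∈ A, g * a * g⁻¹ = a := fun g hg a ha =>
    mul_inv_eq_iff_eq_mul.mpr (Subgroup.mem_centralizer_iff.mp (hAZ ha).2 g hg)
  have hAn : ∀ g ∈ S, A.map (MulAut.conj g).toMonoidHom = A := by
    intro g hg
    ext y
    constructor
    · rintro ⟨a, ha, rfl⟩
      show g * a * g⁻¹ ∈ A
      rwa [hfix g hg a ha]
    · exact fun hy => ⟨y, hy, hfix g hg y hy⟩
  refine isNormal_of_extendsWith hAS fun P f hf =>
    alperin_induction hS hF (isMapClass_extendsWith hAS hAn) ?_ ?_ hf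
  · intro k hk
    refine ⟨k, by rwa [sup_eq_left.mpr hAS], fun _ _ => rfl, ?_⟩
    have hkA := hk.mono hAS
    have : Finite A := finite_of_le hAS
    refine Subgroup.eq_of_le_of_card_ge ?_ hkA.card_img.ge
    rw [img, Subgroup.closure_le]
    intro y hy
    obtain ⟨a, ha, rfl⟩ := hy
    have hZimg : ∀ z ∈ Z, k z ∈ Z := by
      refine fun z hz => ⟨hk.mem_S hz.1, ?_⟩
      show k z ∈ Subgroup.centralizer (S : Set Ω)
      rw [Subgroup.mem_centralizer_iff]
      intro s hs
      have hi : img S k = S := Subgroup.eq_of_le_of_card_ge hk.img_le hk.card_img.ge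
      obtain ⟨t, ht, rfl⟩ := hk.mem_img.mp (hi.symm ▸ hs)
      rw [← hk.map_mul ht hz.1, ← hk.map_mul hz.1 ht, Subgroup.mem_centralizer_iff.mp hz.2 t ht]
    obtain ⟨φ, -, e⟩ := hk
    have h2 : A ≤ (A.comap φ).map S.subtype := by
      rw [hA, powerClosure, Subgroup.closure_le]
      rintro _ ⟨x, hx, rfl⟩
      refine ⟨⟨x ^ p ^ n, S.pow_mem hx.1 _⟩, ?_, rfl⟩
      show φ ⟨x ^ p ^ n, _⟩ ∈ A
      rw [show (⟨x ^ p ^ n, S.pow_mem hx.1 _⟩ : S) = (⟨x, hx.1⟩ : S) ^ p ^ n from rfl, map_pow, e]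
      exact Subgroup.subset_closure ⟨k x, hZimg x hx, rfl⟩
    obtain ⟨⟨b, hb⟩, hm, rfl⟩ := h2 ha
    show k b ∈ A
    rw [← e ⟨b, hb⟩]
    exact hm
  intro Q hQS hQ hQc hIH α hα
  have hC := hQc.2 Q (isConj_refl hQ.1)
  have hZQ : Z ≤ Q := fun z hz => hC ⟨hz.1,
    Subgroup.centralizer_le (fun x hx => hQ.1 hx) hz.2⟩
  have hAQ : A ≤ Q := hAZ.trans hZQ
  have := finite_of_le hQ.1
  -- automorphisms fixing the powers of the centre of `Q`
  let K : Subgroup (MulAut Q) :=
    { carrier := {χ | ∀ v ∈ Subgroup.center Q, χ (v ^ p ^ n) = v ^ p ^ n}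
      one_mem' := fun v _ => rfl
      mul_mem' := fun {a b} ha hb v hv => by
        show a (b _) = _
        rw [hb v hv, ha v hv]
      inv_mem' := fun {a} ha v hv => by
        conv_lhs => rw [← ha v hv]
        exact MulAut.inv_apply_self _ a _ }
  have hchar : ∀ (χ : MulAut Q) (v : Q), v ∈ Subgroup.center Q → χ v ∈ Subgroup.center Q := by
    intro χ v hv
    rw [Subgroup.mem_center_iff] at hv ⊢
    intro y
    obtain ⟨y, rfl⟩ := χ.surjective y
    rw [← map_mul, hv, map_mul]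
  have hKn : ∀ γ ∈ F.autGroup Q, ∀ β ∈ K, γ * β * γ⁻¹ ∈ K := by
    intro γ _ β hβ v hv
    show γ (β (γ⁻¹ (v ^ p ^ n))) = v ^ p ^ n
    rw [map_pow γ⁻¹, hβ _ (hchar γ⁻¹ v hv), ← map_pow γ⁻¹, MulAut.apply_inv_self]
  obtain ⟨β₀, hβ₀, hβ₀I⟩ := exists_noninner hS hQS hC
  obtain ⟨j, hj, hj'⟩ := exists_noninner_pow hS hβ₀ hβ₀I
  set β := β₀ ^ p ^ j with hβdef
  have hβS : β ∈ autInducedBy S Q := Subgroup.pow_mem _ hβ₀ _
  have hβp : β ^ p ∈ Inn Q := by rwa [hβdef, ← pow_mul, ← pow_succ]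
  obtain ⟨g, hg, eg⟩ := mem_autInducedBy.mp hβS
  have hβK : β ∈ K := by
    intro v hv
    have hcen : ∀ w ∈ Subgroup.center Q, (β ^ p) w = w := by
      obtain ⟨q, hq⟩ := hβp
      intro w hw
      rw [← hq]
      show q * w * q⁻¹ = w
      rw [Subgroup.mem_center_iff.mp hw q, mul_inv_cancel_right]
    let τ : AddMonoid.End (Additive (Subgroup.center Q)) :=
      { toFun := fun w => Additive.ofMul ⟨β (w.toMul : Subgroup.center Q), hchar β _ (w.toMul).2⟩
        map_zero' := by apply congrArg Additive.ofMul; exact Subtype.ext (map_one β)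
        map_add' := fun a b => by apply congrArg Additive.ofMul; exact Subtype.ext (map_mul β _ _) }
    have hτpow : ∀ (i : ℕ) (w : Additive (Subgroup.center Q)),
        ((((τ ^ i) w).toMul : Subgroup.center Q) : Q) = (β ^ i) ((w.toMul : Subgroup.center Q) : Q) := by
      intro i
      induction i with
      | zero => intro w; rfl
      | succ i ih =>
        intro w
        rw [pow_succ, pow_succ]
        exact ih (τ w)
    have h1 : ((1 : AddMonoid.End (Additive (Subgroup.center Q))) + (τ - (1 : AddMonoid.End (Additive (Subgroup.center Q))))) ^ p = 1 := by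
      rw [add_sub_cancel]
      refine AddMonoidHom.ext fun w => ?_
      show (τ ^ p) w = w
      refine Additive.toMul.injective (Subtype.ext ?_)
      rw [hτpow]
      exact hcen _ (w.toMul).2
    have hT : ∀ w : Additive (Subgroup.center Q),
        (((((τ - (1 : AddMonoid.End (Additive (Subgroup.center Q)))) w).toMul : Subgroup.center Q) : Q) : Ω) =
          ((β ⟨(((w.toMul : Subgroup.center Q) : Q) : Ω), SetLike.coe_mem _⟩ : Q) : Ω) *
            (((w.toMul : Subgroup.center Q) : Q) : Ω)⁻¹ := by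
      intro w
      show ((((τ w - w).toMul : Subgroup.center Q) : Q) : Ω) = _
      rw [toMul_sub, div_eq_mul_inv]
      rfl
    have h2 : (τ - (1 : AddMonoid.End (Additive (Subgroup.center Q)))) ^ (n * (p - 1) + 1) = 0 := by
      refine AddMonoidHom.ext fun w => Additive.toMul.injective (Subtype.ext (Subtype.ext ?_))
      have := exists_lcs_unipotent hQ.1 hg eg
        (fun w : Additive (Subgroup.center Q) => (((w.toMul : Subgroup.center Q) : Q) : Ω))
        (fun w => SetLike.coe_mem _) (τ - (1 : AddMonoid.End (Additive (Subgroup.center Q)))) hT (n * (p - 1) + 1) w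
      rw [hcl, Subgroup.mem_bot] at this
      exact this
    have h3 := end_pow_mul_eq_zero (Fact.out : p.Prime) h1 h2
    have h4 := congrArg (fun e : AddMonoid.End (Additive (Subgroup.center Q)) =>
      e (Additive.ofMul ⟨v, hv⟩)) h3
    rw [← Nat.cast_pow] at h4
    have h5 : (p ^ n) • ((τ - (1 : AddMonoid.End (Additive (Subgroup.center Q)))) (Additive.ofMul ⟨v, hv⟩)) = 0 := h4
    rw [show (τ - (1 : AddMonoid.End (Additive (Subgroup.center Q)))) (Additive.ofMul ⟨v, hv⟩) = τ (Additive.ofMul ⟨v, hv⟩) - Additive.ofMul ⟨v, hv⟩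
      from rfl, smul_sub, sub_eq_zero, ← map_nsmul] at h5
    exact congrArg (fun w : Additive (Subgroup.center Q) => ((w.toMul : Subgroup.center Q) : Q)) h5
  obtain ⟨κ, hκ, hgood⟩ := site_reduce hS hF (isMapClass_extendsWith hAS hAn) hQ hIH hKn hβS hβK hj α hα
  obtain ⟨k, hk, hkf, hki⟩ := hgood.2
  have hsup : Q ⊔ A = Q := sup_eq_left.mpr hAQ
  have hκfix : ∀ a ∈ A, autFun κ⁻¹ a = a := by
    intro a ha
    have h : A ≤ (MonoidHom.eqLocus (Q.subtype.comp (κ⁻¹ : MulAut Q).toMonoidHom) Q.subtype).map Q.subtype := by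
      rw [hA, powerClosure, Subgroup.closure_le]
      rintro _ ⟨x, hx, rfl⟩
      refine ⟨⟨x, hZQ hx⟩ ^ p ^ n, ?_, rfl⟩
      have hxc : (⟨x, hZQ hx⟩ : Q) ∈ Subgroup.center Q := Subgroup.mem_center_iff.mpr fun y =>
        Subtype.ext (Subgroup.mem_centralizer_iff.mp hx.2 y (hQ.1 y.2))
      exact congrArg Subtype.val ((K.inv_mem hκ.1) _ hxc)
    obtain ⟨⟨b, hb⟩, hbe, rfl⟩ := h ha
    show autFun κ⁻¹ b = b
    rw [autFun_apply_mem _ hb]
    exact hbe
  have hA' : img A (autFun α) = A := by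
    have hm : IsMap F Q (autFun α) := (isMap_autFun hQ.1).mpr hα
    have : Finite A := finite_of_le hAS
    refine Subgroup.eq_of_le_of_card_ge (IsMap.img_le_iff.mpr fun a ha => ?_)
      (hm.mono hAQ).card_img.ge
    have h1 : autFun (κ * α) a ∈ A := by
      rw [← hkf a (hAQ ha), ← hki]
      exact IsMap.apply_mem_img ha
    have h2 : autFun α a = autFun κ⁻¹ (autFun (κ * α) a) := by
      rw [← autFun_mul _ _ (hAQ ha), inv_mul_cancel_left]
    rw [h2, hκfix _ h1]
    exact h1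
  exact ⟨autFun α, by rw [hsup]; exact (isMap_autFun hQ.1).mpr hα, fun _ _ => rfl, hA'⟩

theorem pow_mem_upperCentralSeries {G : Type*} [Group G] {e : ℕ}
    (h : ∀ z ∈ Subgroup.center G, z ^ e = 1) (i : ℕ) :
    ∀ x ∈ Subgroup.upperCentralSeries G (i + 1), x ^ e ∈ Subgroup.upperCentralSeries G i := by
  induction i with
  | zero =>
    intro x hx
    rw [zero_add, Subgroup.upperCentralSeries_one] at hx
    rw [Subgroup.upperCentralSeries_zero, Subgroup.mem_bot]
    exact h x hx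
  | succ i ih =>
    intro x hx
    rw [Subgroup.mem_upperCentralSeries_succ_iff] at hx ⊢
    intro y
    set π := QuotientGroup.mk' (Subgroup.upperCentralSeries G i) with hπ
    have hu : ⁅x, y⁆ ∈ Subgroup.upperCentralSeries G (i + 1) := hx y
    have hux : π ⁅x, y⁆ * π x = π x * π ⁅x, y⁆ := by
      have h1 : π ⁅⁅x, y⁆, x⁆ = 1 :=
        (QuotientGroup.eq_one_iff _).mpr (Subgroup.mem_upperCentralSeries_succ_iff.mp hu x)
      rwa [map_commutatorElement, commutatorElement_eq_one_iff_mul_comm] at h1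
    have key : ∀ k : ℕ, π x ^ k * π y * (π x ^ k)⁻¹ = π ⁅x, y⁆ ^ k * π y := by
      intro k
      induction k with
      | zero => simp
      | succ k ih =>
        calc π x ^ (k + 1) * π y * (π x ^ (k + 1))⁻¹
            = π x * (π x ^ k * π y * (π x ^ k)⁻¹) * (π x)⁻¹ := by rw [pow_succ']; group
          _ = π x * π ⁅x, y⁆ ^ k * (π x)⁻¹ * (π x * π y * (π x)⁻¹) := by rw [ih]; group
          _ = π ⁅x, y⁆ ^ k * (π x * π y * (π x)⁻¹) := by
            rw [← Commute.pow_left (show Commute (π ⁅x, y⁆) (π x) from hux) k |>.eq]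
            group
          _ = π ⁅x, y⁆ ^ (k + 1) * π y := by
            rw [pow_succ, mul_assoc, map_commutatorElement, commutatorElement_def]
            group
    have hue : π ⁅x, y⁆ ^ e = 1 := by
      rw [← map_pow]
      exact (QuotientGroup.eq_one_iff _).mpr (ih _ hu)
    have h2 := key e
    rw [hue, one_mul] at h2
    refine (QuotientGroup.eq_one_iff _).mp ?_
    show π ⁅x ^ e, y⁆ = 1
    rw [map_commutatorElement, map_pow, commutatorElement_def, h2, mul_inv_cancel]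

theorem exponent_le [Finite S] [Fact p.Prime] (hS : IsPGroup p S) (hF : F.IsSaturated p) (n : ℕ)
    (hcl : Subgroup.lowerCentralSeries S (n * (p - 1) + 1) = ⊥) (hcore : F.core = ⊥) :
    Monoid.exponent S ∣ p ^ (n ^ 2 * (p - 1) + n) := by
  have hA : powerClosure p n (S ⊓ Subgroup.centralizer (S : Set Ω)) = ⊥ :=
    le_bot_iff.mp (hcore ▸ le_sSup (powerClosure_center_normal hS hF n hcl))
  have hZ : ∀ z ∈ Subgroup.center S, z ^ p ^ n = 1 := by
    intro z hz
    refine Subtype.ext ?_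
    have : ((z : Ω)) ^ p ^ n ∈ powerClosure p n (S ⊓ Subgroup.centralizer (S : Set Ω)) :=
      Subgroup.subset_closure ⟨z, ⟨z.2, Subgroup.mem_centralizer_iff.mpr fun s hs =>
        congrArg Subtype.val (Subgroup.mem_center_iff.mp hz ⟨s, hs⟩)⟩, rfl⟩
    rw [hA, Subgroup.mem_bot] at this
    exact this
  have htop : Subgroup.upperCentralSeries S (n * (p - 1) + 1) = ⊤ := by
    rw [← Subgroup.lowerCentralSeries_eq_bot_iff_upperCentralSeries_eq_top]
    refine (Subgroup.map_injective S.subtype_injective) ?_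
    rw [Subgroup.top_subtype_lowerCentralSeries, hcl, Subgroup.map_bot]
  refine Monoid.exponent_dvd_of_forall_pow_eq_one fun x => ?_
  have key : ∀ i, x ^ (p ^ n) ^ i ∈ Subgroup.upperCentralSeries S (n * (p - 1) + 1 - i) := by
    intro i
    induction i with
    | zero => simp [htop]
    | succ i ih =>
      rw [pow_succ (p ^ n) i, pow_mul]
      rcases Nat.eq_zero_or_pos (n * (p - 1) + 1 - i) with h0 | h0
      · rw [h0, Subgroup.upperCentralSeries_zero, Subgroup.mem_bot] at ih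
        rw [ih, one_pow]
        exact Subgroup.one_mem _
      · obtain ⟨m, hm⟩ := Nat.exists_eq_succ_of_ne_zero h0.ne'
        rw [show n * (p - 1) + 1 - (i + 1) = m by omega]
        rw [hm] at ih
        exact pow_mem_upperCentralSeries hZ m _ ih
  have := key (n * (p - 1) + 1)
  rw [Nat.sub_self, Subgroup.upperCentralSeries_zero, Subgroup.mem_bot, ← pow_mul] at this
  rw [show n ^ 2 * (p - 1) + n = n * (n * (p - 1) + 1) by ring]
  exact this

end Cfsg.Lib.Fusion
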