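import Cfsg.Agent.Fusion.Model
import Cfsg.Agent.Fusion.CenterPower
import Cfsg.Agent.Components.Cores

/-!
Constrained systems have models.
-/

set_option autoImplicit false

namespace Cfsg.Lib.Fusion

open Cfsg Cfsg.FusionSystem

universe u

variable {Ω : Type u} [Group Ω] {S : Subgroup Ω} {F : FusionSystem S} {p : ℕ}

/-- Maps extend over a normal subgroup, stabilizing it. -/
theorem extend_of_isNormal {Q : Subgroup Ω} (hQ : F.IsNormal Q) {P : Subgroup Ω} {f : Ω → Ω}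
    (hf : IsMap F P f) :
    ∃ f', IsMap F (P ⊔ Q) f' ∧ (∀ x ∈ P, f' x = f x) ∧ img Q f' = Q := by
  obtain ⟨φ, hφ, e⟩ := hf
  obtain ⟨ψ, hψ, hag, hQψ⟩ := hQ.2 P φ hφ
  refine ⟨toFun' ψ, isMap_of_mem hψ, fun x hx => ?_, ?_⟩
  · rw [toFun'_apply_mem ψ (Subgroup.mem_sup_left hx), ← e ⟨x, hx⟩, ← hag ⟨x, hx⟩]
    rfl
  · apply SetLike.coe_injective
    rw [((isMap_of_mem hψ).mono le_sup_right).coe_img]
    conv_rhs => rw [← hQψ]
    ext y
    constructor
    · rintro ⟨q, hq, rfl⟩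
      exact ⟨⟨q, Subgroup.mem_sup_right hq⟩, hq, (toFun'_apply ψ ⟨q, _⟩).symm⟩
    · rintro ⟨q, hq, rfl⟩
      exact ⟨q, hq, toFun'_apply ψ q⟩

theorem normalizerIn_of_isNormal [Finite S] {Q : Subgroup Ω} (hQ : F.IsNormal Q) :
    normalizerIn S Q = S := by
  refine le_antisymm inf_le_left fun g hg => ⟨hg, ?_⟩
  obtain ⟨f, hf, hag, hi⟩ := extend_of_isNormal hQ (isMap_conj (F := F) le_rfl hg)
  have := finite_of_le hQ.1
  refine mem_normalizer_of_maps_finite fun x hx => ?_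
  rw [← hag x (hQ.1 hx), ← hi]
  exact IsMap.apply_mem_img hx

theorem fullyNormalized_of_isNormal [Finite S] {Q : Subgroup Ω} (hQ : F.IsNormal Q) :
    F.IsFullyNormalized Q := by
  refine ⟨hQ.1, fun R _ => ?_⟩
  rw [normalizerIn_of_isNormal hQ]
  exact Nat.card_le_card_of_injective _ (Subgroup.inclusion_injective inf_le_left)

/-- The model theorem. -/
theorem exists_isModel [Finite S] [Fact p.Prime] (hS : IsPGroup p S) (hF : F.IsSaturated p)
    {Q : Subgroup Ω} (hQ : F.IsNormal Q) (hc : F.IsCentric Q) :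
    ∃ (G : Type u) (_ : Group G) (ι : S →* G), F.IsModel p G ι ∧
      ((Q.subgroupOf S).map ι).Normal ∧
      Subgroup.centralizer (((Q.subgroupOf S).map ι : Subgroup G) : Set G) ≤
        (Q.subgroupOf S).map ι := by
  have hN := normalizerIn_of_isNormal hQ
  obtain ⟨L, _, _, ι, hinj, hind, hnor, hcen, hA, hB⟩ :=
    exists_model hS hF hc (fullyNormalized_of_isNormal hQ)
  let e : S →* normalizerIn S Q := Subgroup.inclusion hN.ge
  have he : Function.Surjective e := fun x => ⟨⟨x, hN.le x.2⟩, rfl⟩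
  have hmap : (Q.subgroupOf S).map (ι.comp e) = (Q.subgroupOf _).map ι := by
    rw [← Subgroup.map_map]
    congr 1
    ext x
    exact ⟨fun ⟨y, hy, hyx⟩ => hyx ▸ hy, fun hx => ⟨⟨x, hN.le x.2⟩, hx, rfl⟩⟩
  have hrange : (ι.comp e).range = ι.range := by
    rw [MonoidHom.range_comp, MonoidHom.range_eq_top.mpr he, ← MonoidHom.range_eq_map]
  have hQp : IsPGroup p ((Q.subgroupOf S).map (ι.comp e)) := (hS.to_subgroup _).map _
  refine ⟨L, inferInstance, ι.comp e, ⟨inferInstance, ⟨hinj.comp (Subgroup.inclusion_injective _),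
    fun P hP φ hφ => ⟨fun h => ?_, fun ⟨g, hg⟩ => ?_⟩⟩, ?_, ?_⟩, hmap ▸ hnor, ?_⟩
  · obtain ⟨f, hf, hag, hi⟩ := extend_of_isNormal hQ (isMap_of_mem h)
    obtain ⟨g, hg⟩ := hA (P ⊔ Q) le_sup_right ((sup_le hP hQ.1).trans hN.ge) f hf hi
    refine ⟨g, fun x => hg (e ⟨x, hP x.2⟩) (Subgroup.mem_sup_left x.2) (e ⟨φ x, hφ x⟩) ?_⟩
    show φ x = f x
    rw [hag x x.2, toFun'_apply]
  · -- the set of elements of `S` that `g` conjugates into the image
    let A : Subgroup (normalizerIn S Q) := ι.range.comap ((MulAut.conj g).toMonoidHom.comp ι)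
    let A' : Subgroup Ω := A.map (normalizerIn S Q).subtype
    have hQA : Q ≤ A' := fun q hq => by
      have hq' : q ∈ normalizerIn S Q := hN.ge (hQ.1 hq)
      obtain ⟨s, hs, e'⟩ := hnor.conj_mem (ι ⟨q, hq'⟩) ⟨⟨q, hq'⟩, hq, rfl⟩ g
      exact ⟨⟨q, hq'⟩, ⟨s, e'⟩, rfl⟩
    have hPA : P ≤ A' := fun x hx =>
      ⟨e ⟨x, hP hx⟩, ⟨e ⟨φ ⟨x, hx⟩, hφ _⟩, hg ⟨x, hx⟩⟩, rfl⟩
    obtain ⟨f, hf, -, hfe⟩ := hB A' hQA (Subgroup.map_subtype_le _) g fun x hx => by
      obtain ⟨y, hy, hyx⟩ := hx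
      obtain rfl := Subtype.ext hyx
      exact hy
    refine (hf.mono hPA).mem_of_agree fun x => ?_
    exact hfe (e ⟨x, hP x.2⟩) (hPA x.2) (e ⟨φ x, hφ x⟩) (hg x)
  · refine ⟨IsPGroup.toSylow (P := (ι.comp e).range) ?_ ?_, rfl⟩
    · exact hS.of_surjective _ (MonoidHom.rangeRestrict_surjective _)
    · rwa [hrange]
  · have : ((Q.subgroupOf S).map (ι.comp e)).Normal := hmap ▸ hnor
    have h1 := Cfsg.Lib.Components.le_pCore (p := p) hQp
    refine (Subgroup.centralizer_le (SetLike.coe_subset_coe.mpr h1)).trans ?_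
    rw [hmap] at h1 ⊢
    exact hcen.trans h1
  · rw [hmap]
    exact hcen

end Cfsg.Lib.Fusion
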