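import Cfsg.Agent.Fusion.Transfer.Focal
import Cfsg.Agent.Transfer.Basic

/-!
The hyperfocal subgroup: every map of a saturated system is inner modulo it.
-/

set_option autoImplicit false

namespace Cfsg.Lib.Fusion

open Cfsg Cfsg.FusionSystem
open scoped commutatorElement

variable {Ω : Type*} [Group Ω] {S : Subgroup Ω} {F : FusionSystem S} {p : ℕ}

theorem mem_hyperfocalSubgroup {P : Subgroup Ω} (hP : P ≤ S) {α : F.autGroup P}
    (hα : α ∈ pResidual p (F.autGroup P)) {x : Ω} (hx : x ∈ P) :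
    x⁻¹ * autFun (α : MulAut P) x ∈ F.hyperfocalSubgroup p := by
  refine Subgroup.subset_closure ⟨P, α, ⟨x, hx⟩, hP, hα, ?_⟩
  rw [autFun_apply_mem _ hx]

theorem hyperfocalSubgroup_le_focalSubgroup (F : FusionSystem S) (p : ℕ) :
    F.hyperfocalSubgroup p ≤ F.focalSubgroup := by
  rw [FusionSystem.hyperfocalSubgroup, Subgroup.closure_le]
  rintro _ ⟨P, α, x, hP, -, rfl⟩
  rw [← autFun_apply]
  exact mem_focalSubgroup ((isMap_autFun hP).mpr α.2) x.2

theorem hyperfocalSubgroup_le (F : FusionSystem S) (p : ℕ) : F.hyperfocalSubgroup p ≤ S :=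
  (hyperfocalSubgroup_le_focalSubgroup F p).trans (focalSubgroup_le F)

theorem hyperfocalSubgroup_mono {E : FusionSystem S} (hEF : E.IsSubsystemOf F) :
    E.hyperfocalSubgroup p ≤ F.hyperfocalSubgroup p := by
  rw [FusionSystem.hyperfocalSubgroup, Subgroup.closure_le]
  rintro _ ⟨P, α, x, hP, hα, rfl⟩
  have hle : E.autGroup P ≤ F.autGroup P := fun β hβ => by
    refine (isMap_autFun hP).mp ?_
    obtain ⟨φ, hφ, e⟩ := (isMap_autFun hP).mpr hβ
    exact ⟨φ, hEF P hφ, e⟩
  refine Subgroup.subset_closure ⟨P, Subgroup.inclusion hle α, x, hP, ?_, rfl⟩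
  exact Cfsg.Lib.Transfer.pResidual_map_le (Subgroup.inclusion hle) ⟨α, hα, rfl⟩

/-- The hyperfocal subgroup is normal in `S`. -/
theorem conj_mem_hyperfocalSubgroup {s x : Ω} (hs : s ∈ S) (hx : x ∈ F.hyperfocalSubgroup p) :
    s * x * s⁻¹ ∈ F.hyperfocalSubgroup p := by
  rw [FusionSystem.hyperfocalSubgroup] at hx
  induction hx using Subgroup.closure_induction with
  | one => simp
  | mul a b _ _ ha hb =>
    have := Subgroup.mul_mem _ ha hb
    convert this using 1
    group
  | inv a _ ha =>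
    have := Subgroup.inv_mem _ ha
    convert this using 1
    group
  | mem z hz =>
    obtain ⟨P, α, y, hP, hα, rfl⟩ := hz
    have hf := isMap_conj (F := F) hP hs
    set Q := img P (fun y => s * y * s⁻¹) with hQdef
    have hQ : Q ≤ S := hf.img_le
    let c : F.autGroup P →* F.autGroup Q :=
      MonoidHom.mk' (fun β => ⟨MulAut.congr (hf.equiv rfl) β.1, congr_mem_autGroup hf rfl β.2⟩)
        fun a b => Subtype.ext (map_mul (MulAut.congr (hf.equiv rfl)) a.1 b.1)
    have hαc : c α ∈ pResidual p (F.autGroup Q) :=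
      Cfsg.Lib.Transfer.pResidual_map_le c ⟨α, hα, rfl⟩
    have h := mem_hyperfocalSubgroup hQ hαc
      (IsMap.apply_mem_img (f := fun y => s * y * s⁻¹) y.2)
    have e := congr_equiv_spec hf rfl α.1 y.2
    rw [show ((c α : F.autGroup Q) : MulAut Q) = MulAut.congr (hf.equiv rfl) α.1 from rfl, e,
      autFun_apply] at h
    convert h using 1
    group

/-- The maps inner modulo `K`. -/
def InnerMod (S K : Subgroup Ω) (P : Subgroup Ω) (f : Ω → Ω) : Prop :=
  ∃ s ∈ S, ∀ x ∈ P, (s * x * s⁻¹)⁻¹ * f x ∈ K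

theorem isMapClass_innerMod {K : Subgroup Ω} (hKn : ∀ s ∈ S, ∀ x ∈ K, s * x * s⁻¹ ∈ K) :
    IsMapClass F (InnerMod S K) where
  conj P g _ hg := ⟨g, hg, fun x _ => by simpa [mul_assoc] using K.one_mem⟩
  congr P f f' _ e := fun ⟨s, hs, h⟩ => ⟨s, hs, fun x hx => (e x hx).symm ▸ h x hx⟩
  mono P R f _ hR := fun ⟨s, hs, h⟩ => ⟨s, hs, fun x hx => h x (hR hx)⟩
  comp P Q f g hf _ hfQ := by
    rintro ⟨s, hs, h⟩ ⟨t, ht, h'⟩
    refine ⟨t * s, S.mul_mem ht hs, fun x hx => ?_⟩
    have h1 := hKn t ht _ (h x hx)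
    have h2 := K.mul_mem h1 (h' (f x) (hfQ x hx))
    show (t * s * x * (t * s)⁻¹)⁻¹ * g (f x) ∈ K
    convert h2 using 1
    group
  inv P f g hf _ hl := by
    rintro ⟨s, hs, h⟩
    refine ⟨s⁻¹, S.inv_mem hs, fun y hy => ?_⟩
    obtain ⟨x, hx, rfl⟩ := hf.mem_img.mp hy
    rw [hl x hx]
    set k := (s * x * s⁻¹)⁻¹ * f x with hk
    have h1 := hKn s⁻¹ (S.inv_mem hs) _ (K.inv_mem (h x hx))
    rw [inv_inv] at h1
    convert h1 using 1
    group

/-- Every map of a saturated system is inner modulo the hyperfocal subgroup. -/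
theorem innerMod_hyperfocal [Finite S] [Fact p.Prime] (hS : IsPGroup p S) (hF : F.IsSaturated p)
    {P : Subgroup Ω} {f : Ω → Ω} (hf : IsMap F P f) :
    InnerMod S (F.hyperfocalSubgroup p) P f := by
  have hclass := isMapClass_innerMod (F := F)
    (K := F.hyperfocalSubgroup p) fun s hs x hx => conj_mem_hyperfocalSubgroup hs hx
  have hsite : ∀ Q : Subgroup Ω, F.IsFullyNormalized Q → ∀ α ∈ F.autGroup Q,
      InnerMod S (F.hyperfocalSubgroup p) Q (autFun α) := by
    intro Q hQ α hα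
    haveI := finite_of_le hQ.1
    obtain ⟨-, R, hR⟩ := (fullyNormalized_props hS hF hQ).2.1
    haveI := Cfsg.Lib.Transfer.pResidual_normal' (p := p) (G := F.autGroup Q)
    have hmem : (⟨α, hα⟩ : F.autGroup Q) ∈ (R : Subgroup (F.autGroup Q)) ⊔ pResidual p (F.autGroup Q) := by
      rw [sup_comm, Cfsg.Lib.Transfer.pResidual_sup_sylow]
      exact Subgroup.mem_top _
    obtain ⟨β, hβ, γ, hγ, e⟩ := Subgroup.mem_sup_of_normal_right.mp hmem
    rw [hR, Subgroup.mem_subgroupOf] at hβ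
    obtain ⟨g, hg, eg⟩ := mem_autInducedBy.mp hβ
    refine ⟨g, hg, fun x hx => ?_⟩
    have hy := mem_hyperfocalSubgroup hQ.1 hγ hx
    rw [show α = (β : MulAut Q) * (γ : MulAut Q) from (congrArg Subtype.val e).symm, autFun_mul _ _ hx,
      autFun_apply_mem _ (autFun_mem _ hx), eg]
    have := conj_mem_hyperfocalSubgroup hg hy
    convert this using 1
    group
  refine alperin_induction hS hF hclass ?_ ?_ hf
  · intro g hg
    have hi : img S g = S := Subgroup.eq_of_le_of_card_ge hg.img_le hg.card_img.ge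
    obtain ⟨α, hα, hαg⟩ := hg.exists_aut hi
    have hSn : F.IsFullyNormalized S := ⟨le_rfl, fun Q _ => by
      rw [show normalizerIn S S = S from le_antisymm inf_le_left (le_normalizerIn le_rfl)]
      exact Subgroup.card_le_of_le inf_le_left⟩
    exact hclass.congr S _ g ((isMap_autFun le_rfl).mpr hα) (fun x hx => (hαg x hx).symm)
      (hsite S hSn α hα)
  · intro Q _ hQn _ _ α hα
    exact hsite Q hQn α hα

theorem focalSubgroup_eq_sup [Finite S] [Fact p.Prime] (hS : IsPGroup p S) (hF : F.IsSaturated p) :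
    F.focalSubgroup = F.hyperfocalSubgroup p ⊔ ⁅S, S⁆ := by
  refine le_antisymm (focalSubgroup_le_iff.mpr fun P f hf x hx => ?_)
    (sup_le (hyperfocalSubgroup_le_focalSubgroup F p) commutator_le_focalSubgroup)
  obtain ⟨s, hs, h⟩ := innerMod_hyperfocal hS hF hf
  have h1 : ⁅x⁻¹, s⁆ ∈ ⁅S, S⁆ := Subgroup.commutator_mem_commutator (S.inv_mem (hf.le hx)) hs
  have h2 := Subgroup.mul_mem _ (Subgroup.mem_sup_right (S := F.hyperfocalSubgroup p) h1)
    (Subgroup.mem_sup_left (h x hx))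
  convert h2 using 1
  rw [commutatorElement_def]
  group

theorem stronglyClosed_hyperfocal [Finite S] [Fact p.Prime] (hS : IsPGroup p S)
    (hF : F.IsSaturated p) : F.StronglyClosed (F.hyperfocalSubgroup p) := by
  refine stronglyClosed_of_apply (hyperfocalSubgroup_le F p) fun P f hf x hx hxK => ?_
  obtain ⟨s, hs, h⟩ := innerMod_hyperfocal hS hF hf
  have := Subgroup.mul_mem _ (conj_mem_hyperfocalSubgroup (p := p) hs hxK) (h x hx)
  convert this using 1
  group

end Cfsg.Lib.Fusion
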