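import Cfsg.Agent.Fusion.SolvableChain
import Cfsg.Agent.Fusion.Hyperfocal

/-!
The hyperfocal subgroup of a factor system; factoring out the centre of a perfect system.
-/

set_option autoImplicit false

namespace Cfsg.Lib.Fusion

open Cfsg Cfsg.FusionSystem
open scoped commutatorElement

variable {Ω : Type*} [Group Ω] {S : Subgroup Ω} {F : FusionSystem S} {p : ℕ}
  {Ω' : Type*} [Group Ω'] {θ : S →* Ω'} {S' : Subgroup Ω'} {E : FusionSystem S'}

theorem preimage_imageAlong {K P : Subgroup Ω} (hK : K ≤ S) (hP : P ≤ S)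
    (hker : ∀ s : S, θ s = 1 ↔ (s : Ω) ∈ K) :
    preimageAlong θ (imageAlong θ P) = P ⊔ K := by
  refine le_antisymm ?_ (sup_le (fun x hx => ⟨⟨x, hP hx⟩, ⟨⟨x, hP hx⟩, hx, rfl⟩, rfl⟩) fun x hx =>
    ⟨⟨x, hK hx⟩, show θ ⟨x, hK hx⟩ ∈ imageAlong θ P from
      ((hker ⟨x, hK hx⟩).mpr hx).symm ▸ (imageAlong θ P).one_mem, rfl⟩)
  rintro _ ⟨s, ⟨x, hx, e⟩, rfl⟩
  have h1 : ((x⁻¹ * s : S) : Ω) ∈ K := (hker _).mp (by rw [map_mul, map_inv, e, inv_mul_cancel])
  have := Subgroup.mul_mem _ (Subgroup.mem_sup_left (T := K) hx) (Subgroup.mem_sup_right (S := P) h1)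
  simpa using this

/-- A power of `α` of order prime to `p` whose exponent fixes `β`, for `β` of order prime to `p`. -/
theorem exists_coprime_power [Fact p.Prime] {R : Subgroup Ω} [Finite R] (α : MulAut R) {G : Type*}
    [Monoid G] {β : G} (hβ : (orderOf β).Coprime p) :
    ∃ e : ℕ, (orderOf (α ^ e)).Coprime p ∧ β ^ e = β := by
  obtain ⟨b, m, hm, hbm⟩ := Nat.exists_eq_pow_mul_and_not_dvd (orderOf_pos α).ne' p
    (Fact.out (p := p.Prime)).ne_one
  obtain ⟨k, hk⟩ := exists_pow_eq_self_of_coprime (hβ.pow_right b).symm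
  refine ⟨p ^ b * k, Nat.Coprime.coprime_dvd_left (orderOf_dvd_of_pow_eq_one (n := m) ?_)
    ((Nat.Prime.coprime_iff_not_dvd Fact.out).mpr hm).symm, by rw [pow_mul, hk]⟩
  rw [← pow_mul, show p ^ b * k * m = p ^ b * m * k by ring, ← hbm, pow_mul, pow_orderOf_eq_one,
    one_pow]

/-- The automorphisms moving elements only within `H`. -/
def movesIntoSub {P : Subgroup Ω} (A : Subgroup (MulAut P)) (H : Subgroup Ω) : Subgroup A where
  carrier := {α | ∀ x ∈ P, x⁻¹ * autFun (α : MulAut P) x ∈ H}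
  one_mem' x hx := by
    rw [autFun_apply_mem _ hx]
    simp
  mul_mem' := fun {a b} ha hb x hx => by
    rw [Subgroup.coe_mul, autFun_mul _ _ hx]
    have h := H.mul_mem (hb x hx) (ha _ (autFun_mem (b : MulAut P) hx))
    rwa [mul_assoc, mul_inv_cancel_left] at h
  inv_mem' := fun {a} ha x hx => by
    rw [Subgroup.coe_inv]
    have h := H.inv_mem (ha _ (autFun_mem (a : MulAut P)⁻¹ hx))
    rwa [autFun_inv_apply _ hx, mul_inv_rev, inv_inv] at h

theorem hyperfocal_le_of_coprime {H : Subgroup Ω}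
    (h : ∀ P : Subgroup Ω, P ≤ S → ∀ α ∈ F.autGroup P, (orderOf α).Coprime p → ∀ x ∈ P,
      x⁻¹ * autFun α x ∈ H) : F.hyperfocalSubgroup p ≤ H := by
  rw [FusionSystem.hyperfocalSubgroup, Subgroup.closure_le]
  rintro _ ⟨P, α, x, hP, hα, rfl⟩
  have hle : pResidual p (F.autGroup P) ≤ movesIntoSub (F.autGroup P) H := by
    refine (Subgroup.closure_le _).mpr fun β hβ y hy => h P hP β β.2 ?_ y hy
    rwa [Subgroup.orderOf_coe]
  rw [← autFun_apply]
  exact hle hα x x.2

/-- The hyperfocal subgroup of a factor system is the image of the hyperfocal subgroup. -/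
theorem hyperfocal_factor [Finite S] [Fact p.Prime] (hS : IsPGroup p S) (hF : F.IsSaturated p)
    {K : Subgroup Ω} (hK : F.StronglyClosed K) (hE : F.IsFactorSystem K θ E) :
    E.hyperfocalSubgroup p = ((F.hyperfocalSubgroup p).subgroupOf S).map θ := by
  obtain ⟨-, hker, hrange, -⟩ := id hE
  have h := isQuot_of_isFactorSystem hK hE
  haveI : Finite S' := finite_of_range hrange
  have hH := hyperfocalSubgroup_le F p
  refine le_antisymm ?_ ?_
  · refine hyperfocal_le_of_coprime fun P' hP' β hβ hcop y hy => ?_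
    haveI := finite_of_le hP'
    obtain ⟨f, hf, hfe⟩ := h.exists_lift ((isMap_autFun hP').mpr hβ)
    set P := preimageAlong θ P'
    haveI := finite_of_le (preimageAlong_le (θ := θ) P')
    have hfi : img P f = P := Subgroup.eq_of_le_of_card_ge (IsMap.img_le_iff.mpr fun x hx =>
      mem_preimageAlong.mpr ⟨hf.mem_S hx, hfe x hx ▸ autFun_mem β (mem_preimageAlong.mp hx).2⟩)
      hf.card_img.ge
    obtain ⟨α, hα, hαe⟩ := hf.exists_aut hfi
    have hpow : ∀ i : ℕ, ∀ x ∈ P,
        autFun (β ^ i) (qmap θ x) = qmap θ (autFun (α ^ i) x) := by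
      intro i
      induction i with
      | zero =>
        intro x hx
        rw [pow_zero, pow_zero, autFun_apply_mem _ (mem_preimageAlong.mp hx).2, autFun_apply_mem _ hx]
        rfl
      | succ i ih =>
        intro x hx
        rw [pow_succ', pow_succ', autFun_mul _ _ (mem_preimageAlong.mp hx).2, autFun_mul _ _ hx,
          ih x hx, hfe _ (autFun_mem _ hx), hαe _ (autFun_mem _ hx)]
    obtain ⟨e, hecop, hβe⟩ := exists_coprime_power α hcop
    obtain ⟨x, hx, rfl⟩ := exists_preimage (hrange.symm ▸ hP') hy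
    have hmem : x⁻¹ * autFun (α ^ e) x ∈ F.hyperfocalSubgroup p :=
      mem_hyperfocalSubgroup (preimageAlong_le P')
        (α := ⟨α ^ e, Subgroup.pow_mem _ hα e⟩) (Cfsg.Lib.Transfer.mem_pResidual_of_coprime
          (by rwa [← Subgroup.orderOf_coe])) hx
    refine ⟨⟨_, hH hmem⟩, hmem, ?_⟩
    rw [← qmap_apply (θ := θ) (hH hmem)]
    have hxS := preimageAlong_le P' hx
    rw [qmap_mul (S.inv_mem hxS) (preimageAlong_le P' (autFun_mem _ hx)), qmap_inv hxS,
      ← hpow e x hx, hβe]
  · have hE' : E.hyperfocalSubgroup p ≤ S' := hyperfocalSubgroup_le E p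
    suffices hsuf : F.hyperfocalSubgroup p ≤ preimageAlong θ (E.hyperfocalSubgroup p) by
      rintro _ ⟨s, hs, rfl⟩
      obtain ⟨t, ht, e⟩ := hsuf hs
      exact Subtype.ext e ▸ ht
    refine hyperfocal_le_of_coprime fun P hP α hα hcop x hx => ?_
    haveI := finite_of_le hP
    obtain ⟨g, hg, hgx⟩ := liftsMod hS hF hK ((isMap_autFun hP).mpr hα)
    set P' := imageAlong θ P
    have hpre : preimageAlong θ P' = P ⊔ K := preimage_imageAlong hK.1 hP hker
    have hg' : IsMap F (preimageAlong θ P') g := hpre ▸ hg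
    have hP'S : P' ≤ S' := by
      rintro _ ⟨s, -, rfl⟩
      exact hrange.le ⟨s, rfl⟩
    haveI := finite_of_le hP'S
    have hmap := h.isMap_pushMap hP'S hg'
    have hθP : ∀ y ∈ P, qmap θ y ∈ P' := fun y hy => by
      rw [qmap_apply (hP hy)]
      exact ⟨⟨y, hP hy⟩, hy, rfl⟩
    have hqg : ∀ y ∈ P, qmap θ (g y) = qmap θ (autFun α y) := by
      intro y hy
      have hyg := hgx y hy
      have hay := hP (autFun_mem α hy)
      have hgy := hg.mem_S (Subgroup.mem_sup_left hy)
      have h1 : qmap θ ((autFun α y)⁻¹ * g y) = 1 := by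
        rw [qmap_apply (hK.1 hyg)]
        exact (hker _).mpr hyg
      rw [qmap_mul (S.inv_mem hay) hgy, qmap_inv hay, inv_mul_eq_one] at h1
      exact h1.symm
    have hrep : ∀ y' ∈ P', ∃ y ∈ P, qmap θ y = y' := by
      rintro _ ⟨s, hs, rfl⟩
      exact ⟨s, hs, qmap_apply s.2⟩
    have happ : ∀ y ∈ P, pushMap θ g (qmap θ y) = qmap θ (autFun α y) := fun y hy => by
      rw [h.pushMap_apply hg' (hpre.ge (Subgroup.mem_sup_left hy)), hqg y hy]
    have hi : img P' (pushMap θ g) = P' := by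
      refine Subgroup.eq_of_le_of_card_ge (IsMap.img_le_iff.mpr fun y' hy' => ?_) hmap.card_img.ge
      obtain ⟨y, hy, rfl⟩ := hrep y' hy'
      rw [happ y hy]
      exact hθP _ (autFun_mem α hy)
    obtain ⟨β, hβ, hβe⟩ := hmap.exists_aut hi
    have hpow : ∀ i : ℕ, ∀ y ∈ P, autFun (β ^ i) (qmap θ y) = qmap θ (autFun (α ^ i) y) := by
      intro i
      induction i with
      | zero =>
        intro y hy
        rw [pow_zero, pow_zero, autFun_apply_mem _ (hθP y hy), autFun_apply_mem _ hy]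
        rfl
      | succ i ih =>
        intro y hy
        rw [pow_succ', pow_succ', autFun_mul _ _ (hθP y hy), autFun_mul _ _ hy, ih y hy,
          hβe _ (hθP _ (autFun_mem _ hy)), happ _ (autFun_mem _ hy)]
    have hβn : β ^ orderOf α = 1 := by
      refine MulEquiv.ext fun y' => Subtype.ext ?_
      rw [← autFun_apply]
      obtain ⟨y, hy, e⟩ := hrep y' y'.2
      show autFun (β ^ orderOf α) (y' : Ω') = y'
      rw [← e, hpow _ y hy, pow_orderOf_eq_one, autFun_apply_mem _ hy]
      rfl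
    have hmem := mem_hyperfocalSubgroup (F := E) hP'S (α := ⟨β, hβ⟩)
      (Cfsg.Lib.Transfer.mem_pResidual_of_coprime (p := p) (Nat.Coprime.coprime_dvd_left
        (by rw [← Subgroup.orderOf_coe]; exact orderOf_dvd_of_pow_eq_one hβn) hcop)) (hθP x hx)
    refine mem_preimageAlong.mpr ⟨S.mul_mem (S.inv_mem (hP hx)) (hP (autFun_mem _ hx)), ?_⟩
    rw [qmap_mul (S.inv_mem (hP hx)) (hP (autFun_mem _ hx)), qmap_inv (hP hx), ← happ x hx,
      ← hβe _ (hθP x hx)]
    exact hmem

/-- A system whose hyperfocal subgroup is everything has centreless quotient by its centre. -/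
theorem center_factor_eq_bot [Finite S] [Fact p.Prime] (hS : IsPGroup p S) (hF : F.IsSaturated p)
    (hperf : F.hyperfocalSubgroup p = S) (hE : F.IsFactorSystem F.center θ E) : E.center = ⊥ := by
  set Z := F.center
  have hZS : Z ≤ S := isCentral_center.1
  have hZsc : F.StronglyClosed Z := stronglyClosed_of_apply hZS fun P f hf x hx hxZ => by
    rw [apply_of_mem_center hxZ hf hx]
    exact hxZ
  obtain ⟨-, hker, hrange, -⟩ := id hE
  have h := isQuot_of_isFactorSystem hZsc hE
  haveI : Finite S' := finite_of_range hrange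
  have hmor := (Cfsg.Agent.S5134.result p hS F hF Z hZsc θ E hE).1
  set K := preimageAlong θ E.center
  have hKS : K ≤ S := preimageAlong_le _
  haveI := finite_of_le hKS
  have hZK : Z ≤ K := fun x hx => mem_preimageAlong.mpr ⟨hZS hx, by
    rw [qmap_apply (hZS hx), (hker ⟨x, hZS hx⟩).mpr hx]; exact Subgroup.one_mem _⟩
  -- maps move elements of `K` only modulo `Z`
  have hmove : ∀ (P : Subgroup Ω) (f : Ω → Ω), IsMap F P f → ∀ x ∈ P, x ∈ K →
      x⁻¹ * f x ∈ Z := by
    intro P f hf x hx hxK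
    obtain ⟨φ, hφ, e⟩ := hf
    obtain ⟨φ', hφ', hP, hφS, hP', hind⟩ := hmor.2 P φ hφ
    obtain ⟨hxS, hxc⟩ := mem_preimageAlong.mp hxK
    rw [qmap_apply hxS] at hxc
    have h1 := apply_of_mem_center hxc (isMap_of_mem hφ') (hP' ⟨x, hx⟩)
    rw [toFun'_apply_mem φ' (hP' ⟨x, hx⟩), hind] at h1
    have hfS : f x ∈ S := e ⟨x, hx⟩ ▸ hφS _
    refine (hker ⟨_, S.mul_mem (S.inv_mem hxS) hfS⟩).mp ?_
    have e2 : (⟨x⁻¹ * f x, S.mul_mem (S.inv_mem hxS) hfS⟩ : S) =
        (⟨x, hxS⟩ : S)⁻¹ * ⟨φ ⟨x, hx⟩, hφS _⟩ := Subtype.ext (by simp [e])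
    rw [e2, map_mul, map_inv, h1, inv_mul_cancel]
  have hKsc : F.StronglyClosed K := stronglyClosed_of_apply hKS fun P f hf x hx hxK => by
    have := K.mul_mem hxK (hZK (hmove P f hf x hx hxK))
    rwa [mul_inv_cancel_left] at this
  have hZcomm : ∀ z ∈ Z, ∀ s ∈ S, s * z = z * s := fun z hz => comm_of_center hz
  have hKn : F.IsNormal K := by
    refine isNormal_of_chain hS hF hKsc 2
      (fun j => if j = 0 then ⊥ else if j = 1 then Z else K) rfl (by simp)
      (fun j hj => ?_) fun j hj => ?_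
    · interval_cases j
      · simpa using hZsc
      · simpa using hKsc
    · interval_cases j
      · simp only [zero_add, one_ne_zero, ↓reduceIte]
        refine Subgroup.commutator_le.mpr fun a ha b hb => ?_
        rw [Subgroup.mem_bot, commutatorElement_eq_one_iff_mul_comm]
        exact (hZcomm a ha b (hKS hb)).symm
      · simp only [OfNat.ofNat_ne_zero, one_add_one_eq_two, OfNat.ofNat_ne_one, ↓reduceIte, one_ne_zero]
        refine Subgroup.commutator_le.mpr fun a ha b hb => ?_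
        have h1 := hmove K _ (isMap_conj (F := F) hKS (hKS hb)) a⁻¹ (K.inv_mem ha) (K.inv_mem ha)
        rw [inv_inv] at h1
        convert h1 using 1
        simp only [commutatorElement_def, mul_assoc]
  -- automorphisms of order prime to `p` fix `K`
  have hfix : ∀ (R : Subgroup Ω), R ≤ S → K ≤ R → ∀ γ ∈ F.autGroup R, (orderOf γ).Coprime p →
      ∀ y ∈ K, autFun γ y = y := by
    intro R hR hKR γ hγ hcop y hy
    have hm := (isMap_autFun hR).mpr hγ
    set z := y⁻¹ * autFun γ y with hz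
    have hzZ : z ∈ Z := hmove R _ hm y (hKR hy) hy
    have hzR : z ∈ R := R.mul_mem (R.inv_mem (hKR hy)) (autFun_mem γ (hKR hy))
    have hiter : ∀ i : ℕ, autFun (γ ^ i) y = y * z ^ i := by
      intro i
      induction i with
      | zero => rw [pow_zero, autFun_apply_mem _ (hKR hy)]; simp
      | succ i ih =>
        rw [pow_succ', autFun_mul _ _ (hKR hy), ih, hm.map_mul (hKR hy) (R.pow_mem hzR i),
          hm.map_pow hzR, apply_of_mem_center hzZ hm hzR, pow_succ', ← mul_assoc, hz,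
          mul_inv_cancel_left]
    have h2 := hiter (orderOf γ)
    rw [pow_orderOf_eq_one, autFun_apply_mem _ (hKR hy)] at h2
    have h3 : z ^ orderOf γ = 1 := left_eq_mul.mp h2
    obtain ⟨j, hj⟩ := hS ⟨z, hZS hzZ⟩
    have h4 : z = 1 := orderOf_eq_one_iff.mp (Nat.eq_one_of_dvd_coprimes (hcop.pow_right j)
      (orderOf_dvd_of_pow_eq_one h3) (orderOf_dvd_of_pow_eq_one (congrArg Subtype.val hj)))
    exact (inv_mul_eq_one.mp h4).symm
  -- the hyperfocal subgroup centralizes `K`
  have hcen : S ≤ Subgroup.centralizer (K : Set Ω) := by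
    rw [← hperf]
    refine hyperfocal_le_of_coprime fun P hP α hα hcop x hx => ?_
    obtain ⟨k, hk, hkf, hki⟩ := extend_of_isNormal hKn ((isMap_autFun hP).mpr hα)
    haveI := finite_of_le hk.le
    have hi : img (P ⊔ K) k = P ⊔ K := by
      rw [hk.img_sup, hki, img_congr hkf, img_autFun]
    obtain ⟨γ₀, hγ₀, hγe⟩ := hk.exists_aut hi
    obtain ⟨e, hecop, hαe⟩ := exists_coprime_power γ₀ hcop
    set γ := γ₀ ^ e
    have hag : ∀ w ∈ P, autFun γ w = autFun α w := fun w hw => by
      have hag₀ : ∀ v ∈ P, autFun γ₀ v = autFun α v := fun v hv =>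
        (hγe v (Subgroup.mem_sup_left hv)).trans (hkf v hv)
      have : ∀ i : ℕ, autFun (γ₀ ^ i) w = autFun (α ^ i) w := by
        intro i
        induction i with
        | zero =>
          rw [pow_zero, pow_zero, autFun_apply_mem _ (Subgroup.mem_sup_left hw),
            autFun_apply_mem _ hw]
          rfl
        | succ i ih =>
          rw [pow_succ', pow_succ', autFun_mul _ _ (Subgroup.mem_sup_left hw), autFun_mul _ _ hw,
            ih, hag₀ _ (autFun_mem _ hw)]
      rw [this e, hαe]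
    have hγ : γ ∈ F.autGroup (P ⊔ K) := Subgroup.pow_mem _ hγ₀ e
    have hm := (isMap_autFun (sup_le hP hKS)).mpr hγ
    refine Subgroup.mem_centralizer_iff.mpr fun y hy => ?_
    have hKn' := normalizes_of_stronglyClosed hKsc
    have hxy : x * y * x⁻¹ ∈ K := conj_mem_of_mem_normalizer (hKn' (hP hx)) hy
    have h1 := hm.map_conj (Subgroup.mem_sup_left hx) (Subgroup.mem_sup_right hy)
    rw [hfix _ (sup_le hP hKS) le_sup_right γ hγ hecop _ hxy,
      hfix _ (sup_le hP hKS) le_sup_right γ hγ hecop _ hy, hag x hx] at h1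
    calc y * (x⁻¹ * autFun α x) = x⁻¹ * (x * y * x⁻¹) * autFun α x := by group
      _ = x⁻¹ * autFun α x * y := by rw [h1]; group
  -- the automizer of `K` is trivial
  have hfn : F.IsFullyNormalized K := fullyNormalized_of_isNormal hKn
  obtain ⟨-, hidx⟩ := (isFullyAutomized_iff hS).mp (fullyNormalized_props hS hF hfn).2.1
  have hbot : autInducedBy S K = ⊥ := by
    refine (Subgroup.eq_bot_iff_forall _).mpr fun β hβ => ?_
    obtain ⟨s, hs, es⟩ := mem_autInducedBy.mp hβ
    refine MulEquiv.ext fun y => Subtype.ext ?_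
    rw [es y, ← Subgroup.mem_centralizer_iff.mp (hcen hs) y y.2, mul_inv_cancel_right]
    rfl
  rw [hbot, Subgroup.relIndex_bot_left] at hidx
  have hK : F.IsCentral K := isCentral_iff.mpr ⟨hKS, fun P f hf => by
    obtain ⟨k, hk, hkf, hki⟩ := extend_of_isNormal hKn hf
    obtain ⟨γ, hγ, hγe⟩ := (hk.mono le_sup_right).exists_aut hki
    refine ⟨k, hk, hkf, fun y hy => ?_⟩
    rw [← hγe y hy]
    refine hfix K hKS le_rfl γ hγ (Nat.Coprime.coprime_dvd_left ?_
      ((Nat.Prime.coprime_iff_not_dvd Fact.out).mpr hidx).symm) y hy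
    rw [← Subgroup.orderOf_mk γ hγ]
    exact orderOf_dvd_natCard _⟩
  refine le_bot_iff.mp fun w hw => ?_
  have hcr : E.center ≤ θ.range := (isCentral_center (F := E)).1.trans hrange.ge
  obtain ⟨x, hx, rfl⟩ := exists_preimage (θ := θ) hcr hw
  have hxZ : x ∈ Z := (le_sSup hK : K ≤ Z) hx
  rw [Subgroup.mem_bot, qmap_apply (hZS hxZ)]
  exact (hker _).mpr hxZ

end Cfsg.Lib.Fusion
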