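import Cfsg.Agent.Fusion.Rigidity

/-!
Invariant subsystems on the whole of `S`: their automisers are normal, they contain the `p`-parts
of the automisers, and they contain extensions from centric subgroups.
-/

set_option autoImplicit false

namespace Cfsg.Lib.Fusion

open Cfsg Cfsg.FusionSystem

variable {Ω : Type*} [Group Ω] {S : Subgroup Ω} {F E : FusionSystem S} {p : ℕ}

theorem isMap_of_le (h : E.IsSubsystemOf F) {P : Subgroup Ω} {f : Ω → Ω} (hf : IsMap E P f) :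
    IsMap F P f :=
  let ⟨φ, hφ, e⟩ := hf
  ⟨φ, h P hφ, e⟩

theorem autFun_inv_apply' {P : Subgroup Ω} (α : MulAut P) {x : Ω} (hx : x ∈ P) :
    autFun α⁻¹ (autFun α x) = x := by
  simpa using autFun_inv_apply α⁻¹ hx

/-- Transport of a map by an automorphism of `S`. -/
theorem invariant_transport (hE : E.IsInvariantIn F) {P : Subgroup Ω} {f : Ω → Ω}
    (hf : IsMap E P f) {α : MulAut S} (hα : α ∈ F.autGroup S) :
    IsMap E (img P (autFun α)) (autFun α ∘ f ∘ autFun α⁻¹) := by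
  obtain ⟨φ, hφ, e⟩ := hf
  have hf : IsMap E P f := ⟨φ, hφ, e⟩
  have hm : IsMap F P (autFun α) := ((isMap_autFun le_rfl).mpr hα).mono hf.le
  obtain ⟨χ, hχ, hχe⟩ := hE.2.2.1 P hf.le φ hφ α hα
  have hmem : ∀ x : P, ((α ⟨x, hf.le x.2⟩ : S) : Ω) ∈
      (P.subgroupOf S).map (S.subtype.comp α.toMonoidHom) := fun x =>
    ⟨⟨x, hf.le x.2⟩, x.2, rfl⟩
  have himg : img P (autFun α) = (P.subgroupOf S).map (S.subtype.comp α.toMonoidHom) := by
    refine le_antisymm (IsMap.img_le_iff.mpr fun x hx => ?_) ?_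
    · rw [autFun_apply_mem _ (hf.le hx)]
      exact hmem ⟨x, hx⟩
    · rintro _ ⟨x, hx, rfl⟩
      rw [show S.subtype.comp α.toMonoidHom x = autFun α x from (autFun_apply α x).symm]
      exact IsMap.apply_mem_img hx
  rw [himg]
  refine (isMap_of_mem hχ).congr fun y hy => ?_
  obtain ⟨x, hx, rfl⟩ := hm.mem_img.mp (himg ▸ hy)
  have h2 := hχe ⟨x, hx⟩ (by rw [e]; exact hf.mem_S hx) (hmem ⟨x, hx⟩)
  show autFun α (f (autFun α⁻¹ (autFun α x))) = _
  rw [autFun_inv_apply' α (hf.le hx), toFun'_apply_mem _ hy]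
  rw [← e ⟨x, hx⟩, autFun_apply_mem _ (by rw [e]; exact hf.mem_S hx)]
  refine h2.symm.trans (congrArg χ (Subtype.ext ?_))
  exact (autFun_apply α ⟨x, hf.le hx⟩).symm

/-- The Frattini condition. -/
theorem invariant_frattini (hE : E.IsInvariantIn F) {P : Subgroup Ω} {f : Ω → Ω}
    (hf : IsMap F P f) :
    ∃ α ∈ F.autGroup S, ∃ f₀, IsMap E P f₀ ∧ ∀ x ∈ P, f x = autFun α (f₀ x) := by
  obtain ⟨φ, hφ, e⟩ := hf
  have hle := F.le_of_mem hφ
  obtain ⟨α, hα, φ₀, hφ₀, h⟩ := hE.2.2.2 P hle.1 φ hφ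
  refine ⟨α, hα, _, isMap_of_mem hφ₀, fun x hx => ?_⟩
  have hm := (E.le_of_mem hφ₀).2 ⟨x, hx⟩
  rw [← e ⟨x, hx⟩, h ⟨x, hx⟩ hm, toFun'_apply_mem _ hx, autFun_apply_mem _ hm]

theorem autGroup_le (hs : E.IsSubsystemOf F) {R : Subgroup Ω} (hR : R ≤ S) :
    E.autGroup R ≤ F.autGroup R := fun _ h =>
  (isMap_autFun hR).mp (isMap_of_le hs ((isMap_autFun hR).mpr h))

/-- The automiser in an invariant subsystem is normal. -/
theorem conj_mem_autGroup_of_invariant (hE : E.IsInvariantIn F) {R : Subgroup Ω} (hR : R ≤ S)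
    {β γ : MulAut R} (hβ : β ∈ F.autGroup R) (hγ : γ ∈ E.autGroup R) :
    β * γ * β⁻¹ ∈ E.autGroup R := by
  have hβm := (isMap_autFun hR).mpr hβ
  have hγm := (isMap_autFun hR).mpr hγ
  obtain ⟨α, hα, b, hb, hbe⟩ := invariant_frattini hE hβm
  obtain ⟨d, hd, -, hdl, -⟩ := hb.exists_inv
  have hdR : ∀ y ∈ img R b, d y ∈ R := fun y hy => by
    obtain ⟨x, hx, rfl⟩ := hb.mem_img.mp hy
    rwa [hdl x hx]
  have h1 : IsMap E (img R b) (b ∘ (autFun γ ∘ d)) :=
    (hd.comp hγm hdR).comp hb fun y hy => autFun_mem γ (hdR y hy)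
  have h2 := invariant_transport hE h1 hα
  have hle : R ≤ img (img R b) (autFun α) := fun y hy => by
    have hy' : autFun β (autFun β⁻¹ y) = y := autFun_inv_apply β hy
    rw [← hy', hbe _ (autFun_mem _ hy)]
    exact IsMap.apply_mem_img (IsMap.apply_mem_img (autFun_mem _ hy))
  refine (isMap_autFun hR).mp ((h2.mono hle).congr fun y hy => ?_)
  have hx := autFun_mem β⁻¹ hy
  have hy' : autFun β (autFun β⁻¹ y) = y := autFun_inv_apply β hy
  have e1 : autFun α⁻¹ y = b (autFun β⁻¹ y) := by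
    conv_lhs => rw [← hy', hbe _ hx]
    exact autFun_inv_apply' α (hb.mem_S hx)
  show autFun (β * γ * β⁻¹) y = autFun α (b (autFun γ (d (autFun α⁻¹ y))))
  rw [e1, hdl _ hx, autFun_mul _ _ hy, autFun_mul _ _ hx, hbe _ (autFun_mem γ hx)]

/-- An invariant subsystem on `S` contains the `p`-elements of the automiser of a fully automized
subgroup. -/
theorem mem_autGroup_of_isPGroup [Finite S] [Fact p.Prime] (hE : E.IsInvariantIn F)
    {R : Subgroup Ω} (hfa : F.IsFullyAutomized p R) {β : MulAut R} (hβ : β ∈ F.autGroup R)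
    (hp : ∃ k : ℕ, β ^ p ^ k = 1) : β ∈ E.autGroup R := by
  obtain ⟨k, hk⟩ := hp
  have hKp : IsPGroup p (Subgroup.zpowers β) := fun x => by
    obtain ⟨i, hi⟩ := x.2
    refine ⟨k, Subtype.ext ?_⟩
    rw [Subgroup.coe_pow, ← hi]
    show (β ^ i) ^ p ^ k = 1
    rw [← zpow_natCast, ← zpow_mul, mul_comm, zpow_mul, zpow_natCast, hk, one_zpow]
  obtain ⟨χ, hχ, hχK⟩ := exists_conj_into_autS hfa hKp (Subgroup.zpowers_le.mpr hβ)
  have h1 : χ * β * χ⁻¹ ∈ E.autGroup R :=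
    autInducedBy_le hfa.1 (hχK β (Subgroup.mem_zpowers β))
  have h2 := conj_mem_autGroup_of_invariant hE hfa.1 ((F.autGroup R).inv_mem hχ) h1
  rwa [show χ⁻¹ * (χ * β * χ⁻¹) * χ⁻¹⁻¹ = β by group] at h2

theorem fullyCentralized_of_centric [Finite S] (hs : E.IsSubsystemOf F) {R : Subgroup Ω}
    (hR : F.IsCentric R) : E.IsFullyCentralized R := by
  refine ⟨hR.1, fun U hU => ?_⟩
  obtain ⟨d, hd, hdi⟩ := isConj_iff.mp (isConj_symm hU)
  have hUR : centralizerIn S U ≤ U := by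
    obtain ⟨f, hf, hi⟩ := isConj_iff.mp hU
    exact hR.2 U (isConj_iff.mpr ⟨f, isMap_of_le hs hf, hi⟩)
  exact card_le_of_isMap hd hUR inf_le_left fun c hc =>
    hdi ▸ hd.mem_centralizerIn le_rfl (hUR hc) hc

/-- A map on `S` lies in the subsystem as soon as its restriction to a centric subgroup does. -/
theorem isMap_of_restrict_centric [Finite S] [Fact p.Prime] (hS : IsPGroup p S)
    (hF : F.IsSaturated p) (hEs : E.IsSaturated p) (hs : E.IsSubsystemOf F) {g : Ω → Ω}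
    (hg : IsMap F S g) {R : Subgroup Ω} (hR : F.IsCentric R) (hgR : IsMap E R g) :
    IsMap E S g := by
  induction hk : Nat.card S - Nat.card R using Nat.strong_induction_on generalizing R with
  | _ k ih =>
  rcases eq_or_ne R S with hRS | hRS
  · exact hRS ▸ hgR
  have hlt := lt_normalizerIn hS (lt_of_le_of_ne hR.1 hRS)
  set Q := normalizerIn S R
  have hQS : Q ≤ S := inf_le_left
  have hrec := receptive_of_fullyCentralized hS hEs (fullyCentralized_of_centric hs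
    (centric_of_isConj hR (isConj_iff.mpr ⟨g, isMap_of_le hs hgR, rfl⟩)))
  obtain ⟨j, hj, hje⟩ := receptive_extend hrec hgR rfl
  have hQext : Q ≤ extSub S R g := fun x hx => mem_extSub.mpr
    ⟨hx.1, hx.2, g x, hg.mem_S hx.1, fun y hy => hg.map_conj hx.1 (hR.1 hy)⟩
  have hjQ := hj.mono hQext
  obtain ⟨z, hz, -, hze⟩ := rigidity hS hF (le_normalizerIn hR.1)
    (fun x hx q hq => conj_mem_of_mem_normalizer hx.2 hq) hR (isMap_of_le hs hjQ) (hg.mono hQS) hje
  have hzQ : z ∈ Q := centralizerIn_le_normalizerIn R hz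
  have h2 : IsMap E Q g :=
    ((isMap_conj hQS hz.1).comp hjQ fun x hx =>
      Q.mul_mem (Q.mul_mem hzQ hx) (Q.inv_mem hzQ)).congr fun x hx => hze x hx
  haveI := finite_of_le hQS
  haveI := finite_of_le hR.1
  refine ih _ ?_ (centric_of_le hR hlt.le hQS) h2 rfl
  have h3 : Nat.card R < Nat.card Q := lt_of_le_of_ne (Subgroup.card_le_of_le hlt.le) fun h =>
    hlt.ne (Subgroup.eq_of_le_of_card_ge hlt.le h.ge)
  have h4 := Subgroup.card_le_of_le hQS
  omega

end Cfsg.Lib.Fusion
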