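import Cfsg.Agent.Fusion.Realized
import Cfsg.Agent.Fusion.Invariant

/-!
Transport of normal subsystems along isomorphisms of fusion systems.
-/

set_option autoImplicit false

namespace Cfsg.Lib.Fusion

open Cfsg Cfsg.FusionSystem

section General

variable {Ω : Type*} [Group Ω] {S T : Subgroup Ω} {F : FusionSystem S} {E : FusionSystem T}

/-- A map of a subsystem is a map of the system. -/
theorem isMap_of_sub (h : E.IsSubsystemOf F) {P : Subgroup Ω} {f : Ω → Ω} (hf : IsMap E P f) :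
    IsMap F P f :=
  let ⟨φ, hφ, e⟩ := hf
  ⟨φ, h P hφ, e⟩

/-- Invariance, on functions. -/
theorem invariant_transportT (hE : E.IsInvariantIn F) (hT : T ≤ S) {P : Subgroup Ω} {f : Ω → Ω}
    (hf : IsMap E P f) {α : MulAut T} (hα : α ∈ F.autGroup T) :
    IsMap E (img P (autFun α)) (autFun α ∘ f ∘ autFun α⁻¹) := by
  obtain ⟨φ, hφ, e⟩ := hf
  have hf : IsMap E P f := ⟨φ, hφ, e⟩
  have hm : IsMap F P (autFun α) := ((isMap_autFun hT).mpr hα).mono hf.le
  obtain ⟨χ, hχ, hχe⟩ := hE.2.2.1 P hf.le φ hφ α hα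
  have hmem : ∀ x : P, ((α ⟨x, hf.le x.2⟩ : T) : Ω) ∈
      (P.subgroupOf T).map (T.subtype.comp α.toMonoidHom) := fun x =>
    ⟨⟨x, hf.le x.2⟩, x.2, rfl⟩
  have himg : img P (autFun α) = (P.subgroupOf T).map (T.subtype.comp α.toMonoidHom) := by
    refine le_antisymm (IsMap.img_le_iff.mpr fun x hx => ?_) ?_
    · rw [autFun_apply_mem _ (hf.le hx)]
      exact hmem ⟨x, hx⟩
    · rintro _ ⟨x, hx, rfl⟩
      rw [show T.subtype.comp α.toMonoidHom x = autFun α x from (autFun_apply α x).symm]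
      exact IsMap.apply_mem_img hx
  rw [himg]
  refine (isMap_of_mem hχ).congr fun y hy => ?_
  obtain ⟨x, hx, rfl⟩ := hm.mem_img.mp (himg ▸ hy)
  have h2 := hχe ⟨x, hx⟩ (by rw [e]; exact hf.mem_S hx) (hmem ⟨x, hx⟩)
  show autFun α (f (autFun α⁻¹ (autFun α x))) = _
  rw [autFun_inv_apply' α (hf.le hx), toFun'_apply_mem _ hy]
  rw [← e ⟨x, hx⟩, autFun_apply_mem _ (by rw [e]; exact hf.mem_S hx)]
  refine h2.symm.trans (congrArg χ (Subtype.ext ?_))
  exact (autFun_apply α ⟨x, hf.le hx⟩).symm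

/-- The Frattini condition, on functions. -/
theorem invariant_frattiniT (hE : E.IsInvariantIn F) {P : Subgroup Ω} (hP : P ≤ T) {f : Ω → Ω}
    (hf : IsMap F P f) :
    ∃ α ∈ F.autGroup T, ∃ f₀, IsMap E P f₀ ∧ ∀ x ∈ P, f x = autFun α (f₀ x) := by
  obtain ⟨φ, hφ, e⟩ := hf
  obtain ⟨α, hα, φ₀, hφ₀, h⟩ := hE.2.2.2 P hP φ hφ
  refine ⟨α, hα, _, isMap_of_mem hφ₀, fun x hx => ?_⟩
  have hm := (E.le_of_mem hφ₀).2 ⟨x, hx⟩
  rw [← e ⟨x, hx⟩, h ⟨x, hx⟩ hm, toFun'_apply_mem _ hx, autFun_apply_mem _ hm]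

end General

section Iso

variable {G : Type*} [Group G] {S' : Subgroup G} {F' : FusionSystem S'}
  {Ω : Type*} [Group Ω] {S : Subgroup Ω} {F : FusionSystem S} {θ : S' →* Ω} {p : ℕ}

theorem qmap_injOn (hθ : Function.Injective θ) {x y : G} (hx : x ∈ S') (hy : y ∈ S')
    (h : qmap θ x = qmap θ y) : x = y := by
  rw [qmap_apply hx, qmap_apply hy] at h
  exact congrArg Subtype.val (hθ h)

/-- The image of a subgroup under the isomorphism. -/
def imageOf (θ : S' →* Ω) (P : Subgroup G) : Subgroup Ω := (P.subgroupOf S').map θ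

theorem imageOf_le_range (P : Subgroup G) : imageOf θ P ≤ θ.range := by
  rintro _ ⟨x, -, rfl⟩
  exact ⟨x, rfl⟩

theorem qmap_mem_imageOf {P : Subgroup G} {x : G} (hx : x ∈ P) (hxS : x ∈ S') :
    qmap θ x ∈ imageOf θ P := by
  rw [qmap_apply hxS]
  exact ⟨⟨x, hxS⟩, hx, rfl⟩

theorem preimageAlong_imageOf (hθ : Function.Injective θ) {P : Subgroup G} (hP : P ≤ S') :
    preimageAlong θ (imageOf θ P) = P := by
  rw [preimageAlong, imageOf, Subgroup.comap_map_eq_self_of_injective hθ,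
    Subgroup.map_subgroupOf_eq_of_le hP]

theorem preimageAlong_sup {A B : Subgroup Ω} (hA : A ≤ θ.range) (hB : B ≤ θ.range) :
    preimageAlong θ (A ⊔ B) = preimageAlong θ A ⊔ preimageAlong θ B := by
  simp only [preimageAlong]
  rw [← Subgroup.comap_sup_eq_of_le_range θ hA hB, Subgroup.map_sup]

variable (hθ : Function.Injective θ) (hq : IsQuot F' θ F) [Finite S']
include hθ hq

/-- An automorphism of the source of the isomorphism gives one of the target. -/
theorem exists_aut_down {R₀ : Subgroup Ω} (hR₀ : R₀ ≤ S)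
    {a : MulAut (preimageAlong θ R₀ : Subgroup G)}
    (ha : a ∈ F'.autGroup (preimageAlong θ R₀)) :
    ∃ α ∈ F.autGroup R₀, ∀ x ∈ preimageAlong θ R₀,
      autFun α (qmap θ x) = qmap θ (autFun a x) := by
  have hm := (isMap_autFun (preimageAlong_le R₀)).mpr ha
  have hp := hq.isMap_pushMap hR₀ hm
  have hi : img R₀ (pushMap θ (autFun a)) = R₀ := by
    refine le_antisymm (IsMap.img_le_iff.mpr fun y hy => ?_) fun y hy => ?_
    · obtain ⟨x, hx, rfl⟩ := exists_preimage (hq.range.symm ▸ hR₀) hy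
      rw [hq.pushMap_apply hm hx]
      exact (mem_preimageAlong.mp (autFun_mem a hx)).2
    · obtain ⟨x, hx, rfl⟩ := exists_preimage (hq.range.symm ▸ hR₀) hy
      refine hp.mem_img.mpr
        ⟨qmap θ (autFun a⁻¹ x), (mem_preimageAlong.mp (autFun_mem a⁻¹ hx)).2, ?_⟩
      rw [hq.pushMap_apply hm (autFun_mem a⁻¹ hx), autFun_inv_apply a hx]
  obtain ⟨α, hα, hαe⟩ := hp.exists_aut hi
  exact ⟨α, hα, fun x hx => by
    rw [hαe _ (mem_preimageAlong.mp hx).2, hq.pushMap_apply hm hx]⟩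

/-- An automorphism of the target of the isomorphism lifts to the source. -/
theorem exists_aut_up {R₀ : Subgroup Ω} (hR₀ : R₀ ≤ S) {α : MulAut R₀}
    (hα : α ∈ F.autGroup R₀) :
    ∃ a ∈ F'.autGroup (preimageAlong θ R₀), ∀ x ∈ preimageAlong θ R₀,
      autFun α (qmap θ x) = qmap θ (autFun a x) := by
  obtain ⟨f, hf, e⟩ := hq.exists_lift ((isMap_autFun hR₀).mpr hα)
  have := finite_of_le (preimageAlong_le (θ := θ) R₀)
  have hi : img (preimageAlong θ R₀) f = preimageAlong θ R₀ :=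
    Subgroup.eq_of_le_of_card_ge (IsMap.img_le_iff.mpr fun x hx => mem_preimageAlong.mpr
      ⟨hf.mem_S hx, e x hx ▸ autFun_mem α (mem_preimageAlong.mp hx).2⟩) hf.card_img.ge
  obtain ⟨a, ha, hae⟩ := hf.exists_aut hi
  exact ⟨a, ha, fun x hx => by rw [hae x hx, e x hx]⟩

/-- A normal subsystem of the source gives a normal subsystem of the target. -/
theorem exists_isNormalIn_image [Fact p.Prime] (hS' : IsPGroup p S') (hF : F.IsSaturated p)
    {T' : Subgroup G} {E' : FusionSystem T'} (hE' : E'.IsNormalIn F' p) :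
    ∃ E : FusionSystem (imageOf θ T'), E.IsNormalIn F p ∧
      ∀ (P' : Subgroup Ω) (f' : Ω → Ω), IsMap E P' f' ↔ P' ≤ imageOf θ T' ∧
        ∃ f, IsMap E' (preimageAlong θ P') f ∧
          ∀ x ∈ preimageAlong θ P', f' (qmap θ x) = qmap θ (f x) := by
  obtain ⟨⟨hsat', -, hinv⟩, hext⟩ := hE'
  obtain ⟨hsub, hcl, -, -⟩ := id hinv
  have hTS : T' ≤ S' := hcl.1
  haveI := finite_of_le hTS
  set T₀ := imageOf θ T' with hT₀
  have hT₀S : T₀ ≤ S := (imageOf_le_range T').trans hq.range.le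
  have hpT : preimageAlong θ T₀ = T' := preimageAlong_imageOf hθ hTS
  let θT : T' →* Ω := θ.comp (Subgroup.inclusion hTS)
  have hrange : θT.range = T₀ := by
    refine le_antisymm ?_ ?_
    · rintro _ ⟨t, rfl⟩
      exact ⟨Subgroup.inclusion hTS t, t.2, rfl⟩
    · rintro _ ⟨t, ht, rfl⟩
      exact ⟨⟨t, ht⟩, rfl⟩
  have hqT : ∀ x ∈ T', qmap θT x = qmap θ x := fun x hx => by
    rw [qmap_apply hx, qmap_apply (hTS hx)]
    rfl
  have hpre : ∀ P' : Subgroup Ω, P' ≤ T₀ → preimageAlong θT P' = preimageAlong θ P' := by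
    intro P' hP'
    ext x
    rw [mem_preimageAlong, mem_preimageAlong]
    constructor
    · exact fun h => ⟨hTS h.1, hqT x h.1 ▸ h.2⟩
    · intro h
      have hx : x ∈ T' := hpT ▸ mem_preimageAlong.mpr ⟨h.1, hP' h.2⟩
      exact ⟨hx, (hqT x hx).symm ▸ h.2⟩
  have hker : KerClosed E' θT := by
    intro P f hf x hx h1
    rw [show x = 1 from qmap_injOn hθ (hTS (hf.le hx)) S'.one_mem
      (by rw [← hqT x (hf.le hx), h1, qmap_one]), hf.map_one, qmap_one]
  obtain ⟨E, hquotE⟩ : ∃ E : FusionSystem T₀, IsQuot E' θT E :=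
    hrange ▸ ⟨factorSystem E' θT hker, isQuot_factorSystem hker⟩
  have key : ∀ (P' : Subgroup Ω) (f' : Ω → Ω), IsMap E P' f' ↔ P' ≤ T₀ ∧
      ∃ f, IsMap E' (preimageAlong θ P') f ∧
        ∀ x ∈ preimageAlong θ P', f' (qmap θ x) = qmap θ (f x) := by
    intro P' f'
    rw [hquotE.iff]
    refine and_congr_right fun hP' => exists_congr fun f => ?_
    rw [hpre P' hP']
    refine and_congr_right fun hf => forall₂_congr fun x hx => ?_
    rw [hqT x (hf.le hx), hqT _ (hf.mem_S hx)]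
  have hsubE : E.IsSubsystemOf F := by
    intro P φ hφ
    obtain ⟨hP, f, hf, e⟩ := (key P _).mp (isMap_of_mem hφ)
    exact IsMap.mem_toFun' ((hq.iff P _).mpr ⟨hP.trans hT₀S, f, isMap_of_sub hsub hf, e⟩)
  have hclosed : F.StronglyClosed T₀ := by
    refine ⟨hT₀S, fun R hR φ hφ y => ?_⟩
    obtain ⟨f, hf, e⟩ := hq.exists_lift (isMap_of_mem hφ)
    obtain ⟨x, hx, hxy⟩ := exists_preimage (hq.range.symm ▸ (hR.trans hT₀S)) y.2
    have hfx : f x ∈ T' := stronglyClosed_apply hcl hf hx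
      (hpT ▸ mem_preimageAlong.mpr ⟨preimageAlong_le R hx, hxy.symm ▸ hR y.2⟩)
    rw [← toFun'_apply φ y, ← hxy, e x hx]
    exact qmap_mem_imageOf hfx (hTS hfx)
  refine ⟨E, ⟨⟨hquotE.saturated (hS'.of_injective _ (Subgroup.inclusion_injective hTS)) hsat', hF,
    hsubE, hclosed, ?_, ?_⟩, ?_⟩, key⟩
  · -- invariance
    intro P hPT φ hφ α hα
    obtain ⟨-, f, hf, e⟩ := (key P _).mp (isMap_of_mem hφ)
    obtain ⟨a, ha, hae⟩ := exists_aut_up hθ hq hT₀S hα
    revert a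
    rw [hpT]
    intro a ha hae
    have hg := invariant_transportT hinv hTS hf ha
    set Q := (P.subgroupOf T₀).map (T₀.subtype.comp α.toMonoidHom)
    have hQ : Q ≤ T₀ := by
      rintro _ ⟨x, -, rfl⟩
      exact (α x).2
    have hval : ∀ x ∈ preimageAlong θ P, qmap θ (autFun a x) = autFun α (qmap θ x) :=
      fun x hx => (hae x (hf.le hx)).symm
    have hpQ : preimageAlong θ Q = img (preimageAlong θ P) (autFun a) := by
      refine le_antisymm (fun z hz => ?_) (IsMap.img_le_iff.mpr fun x hx => ?_)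
      · obtain ⟨hzS, t, ht, htz⟩ := mem_preimageAlong.mp hz
        obtain ⟨x, hx, hxt⟩ := exists_preimage (hq.range.symm ▸ hPT.trans hT₀S) (y := (t : Ω)) ht
        rw [show z = autFun a x from qmap_injOn hθ hzS (hTS (autFun_mem a (hf.le hx))) (by
          rw [hval x hx, hxt, ← htz, autFun_apply]; rfl)]
        exact IsMap.apply_mem_img hx
      · have hxP := (mem_preimageAlong.mp hx).2
        refine mem_preimageAlong.mpr ⟨hTS (autFun_mem a (hf.le hx)), ?_⟩
        rw [hval x hx, autFun_apply_mem α (hPT hxP)]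
        exact ⟨⟨qmap θ x, hPT hxP⟩, hxP, rfl⟩
    rw [← hpQ] at hg
    have hχ : IsMap E Q (pushMap θT (autFun a ∘ f ∘ autFun a⁻¹)) :=
      hquotE.isMap_pushMap hQ (by rw [hpre Q hQ]; exact hg)
    obtain ⟨χ, hχm, hχe⟩ := hχ
    refine ⟨χ, hχm, fun x hφx hαx => ?_⟩
    obtain ⟨u, hu, hux⟩ := exists_preimage (hq.range.symm ▸ hPT.trans hT₀S) x.2
    have hau : autFun a u ∈ T' := autFun_mem a (hf.le hu)
    have h1 : autFun a u ∈ preimageAlong θT Q := by
      rw [hpre Q hQ, hpQ]; exact IsMap.apply_mem_img hu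
    rw [hχe]
    show pushMap θT (autFun a ∘ f ∘ autFun a⁻¹) ((α ⟨x, hPT x.2⟩ : T₀) : Ω) = _
    rw [← autFun_apply α ⟨x, hPT x.2⟩, ← autFun_apply α ⟨φ x, hφx⟩]
    show pushMap θT (autFun a ∘ f ∘ autFun a⁻¹) (autFun α (x : Ω)) = autFun α (φ x)
    rw [← hux, ← hval u hu, ← hqT _ hau,
      hquotE.pushMap_apply (by rw [hpre Q hQ]; exact hg) h1]
    show qmap θT (autFun a (f (autFun a⁻¹ (autFun a u)))) = _
    rw [autFun_inv_apply' a (hf.le hu), hqT _ (autFun_mem a (hf.mem_S hu)),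
      ← hae _ (hf.mem_S hu), ← e u hu, hux, toFun'_apply]
  · -- the Frattini condition
    intro P hPT φ hφ
    obtain ⟨f, hf, e⟩ := hq.exists_lift (isMap_of_mem hφ)
    have hpP : preimageAlong θ P ≤ T' := fun x hx => hpT ▸
      mem_preimageAlong.mpr ⟨preimageAlong_le P hx, hPT (mem_preimageAlong.mp hx).2⟩
    obtain ⟨a, ha, f₀, hf₀, he⟩ := invariant_frattiniT hinv hpP hf
    revert a
    rw [← hpT]
    intro a ha he
    obtain ⟨α, hα, hαe⟩ := exists_aut_down hθ hq hT₀S ha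
    have hf₀' : IsMap E' (preimageAlong θT P) f₀ := (hpre P hPT).symm ▸ hf₀
    obtain ⟨φ₀, hφ₀, he₀⟩ := hquotE.isMap_pushMap hPT hf₀'
    refine ⟨α, hα, φ₀, hφ₀, fun x hx => ?_⟩
    obtain ⟨u, hu, hux⟩ := exists_preimage (hq.range.symm ▸ hPT.trans hT₀S) x.2
    rw [← autFun_apply α ⟨φ₀ x, hx⟩]
    show φ x = autFun α (φ₀ x)
    rw [he₀, ← hux, ← hqT u (hf₀.le hu), hquotE.pushMap_apply hf₀' ((hpre P hPT).symm ▸ hu),
      hqT _ (hf₀.mem_S hu),
      hαe _ (hpT.symm ▸ hf₀.mem_S hu), ← he u hu, ← e u hu, hux, toFun'_apply]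
  · -- the extension condition
    intro α hα
    obtain ⟨-, f, hf, e⟩ := (key T₀ _).mp ((isMap_autFun le_rfl).mpr hα)
    rw [hpT] at hf e
    have hi : img T' f = T' :=
      Subgroup.eq_of_le_of_card_ge (IsMap.img_le_iff.mpr fun x hx => hf.mem_S hx) hf.card_img.ge
    obtain ⟨a, ha, hae⟩ := hf.exists_aut hi
    obtain ⟨b, hb, hbT, hbC⟩ := hext a ha
    set C₀ := centralizerIn S T₀
    have hpC : preimageAlong θ C₀ = centralizerIn S' T' := by
      ext x
      rw [mem_preimageAlong]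
      constructor
      · rintro ⟨hx, hxC⟩
        refine Subgroup.mem_inf.mpr ⟨hx, Subgroup.mem_centralizer_iff.mpr fun t ht => ?_⟩
        refine qmap_injOn hθ (S'.mul_mem (hTS ht) hx) (S'.mul_mem hx (hTS ht)) ?_
        rw [qmap_mul (hTS ht) hx, qmap_mul hx (hTS ht)]
        exact Subgroup.mem_centralizer_iff.mp hxC.2 _ (qmap_mem_imageOf ht (hTS ht))
      · rintro ⟨hx, hxC⟩
        refine ⟨hx, Subgroup.mem_inf.mpr ⟨hq.range.le ⟨⟨x, hx⟩, (qmap_apply hx).symm⟩, ?_⟩⟩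
        refine Subgroup.mem_centralizer_iff.mpr ?_
        rintro _ ⟨t, ht, rfl⟩
        rw [← qmap_apply t.2, ← qmap_mul t.2 hx, ← qmap_mul hx t.2,
          Subgroup.mem_centralizer_iff.mp hxC (t : G) ht]
    have hR₀ : T₀ ⊔ C₀ ≤ S := sup_le hT₀S inf_le_left
    have hpR : preimageAlong θ (T₀ ⊔ C₀) = T' ⊔ centralizerIn S' T' := by
      rw [preimageAlong_sup (imageOf_le_range T') (hq.range.symm ▸ inf_le_left), hpT, hpC]
    have hbval : ∀ x ∈ T', autFun b x = f x := fun x hx => by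
      rw [← hae x hx, autFun_apply_mem a hx, ← hbT ⟨x, hx⟩,
        autFun_apply_mem b (Subgroup.mem_sup_left hx)]
      rfl
    have hbC' : ∀ x ∈ centralizerIn S' T',
        x⁻¹ * autFun b x ∈ T' ⊓ Subgroup.centralizer (T' : Set G) := fun x hx => by
      rw [autFun_apply_mem b (Subgroup.mem_sup_right hx)]
      exact hbC ⟨x, Subgroup.mem_sup_right hx⟩ hx
    clear hbT hbC
    revert b
    rw [← hpR]
    intro b hb hbval hbC'
    obtain ⟨β, hβ, hβe⟩ := exists_aut_down hθ hq hR₀ hb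
    refine ⟨β, hβ, fun x => ?_, fun c hc => ?_⟩
    · obtain ⟨u, hu, hux⟩ :=
        exists_preimage (θ := θ) (P' := T₀) (imageOf_le_range T') x.2
      have huT : u ∈ T' := hpT ▸ hu
      rw [← autFun_apply α x, ← autFun_apply β (Subgroup.inclusion le_sup_left x)]
      show autFun β (x : Ω) = autFun α x
      rw [← hux, hβe u (hpR.symm ▸ Subgroup.mem_sup_left huT), e u huT, hbval u huT]
    · obtain ⟨u, hu, hux⟩ :=
        exists_preimage (θ := θ) (P' := C₀) (hq.range.symm ▸ inf_le_left) hc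
      have huC : u ∈ centralizerIn S' T' := hpC ▸ hu
      have huR : u ∈ preimageAlong θ (T₀ ⊔ C₀) := hpR.symm ▸ Subgroup.mem_sup_right huC
      have hv := hbC' u huC
      rw [← autFun_apply β c, ← hux, hβe u huR,
        ← qmap_inv huC.1, ← qmap_mul (S'.inv_mem huC.1) (preimageAlong_le _ (autFun_mem b huR))]
      refine Subgroup.mem_inf.mpr ⟨qmap_mem_imageOf hv.1 (hTS hv.1), ?_⟩
      refine Subgroup.mem_centralizer_iff.mpr ?_
      rintro _ ⟨t, ht, rfl⟩
      rw [← qmap_apply t.2, ← qmap_mul t.2 (hTS hv.1), ← qmap_mul (hTS hv.1) t.2,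
        Subgroup.mem_centralizer_iff.mp hv.2 (t : G) ht]

/-- Simplicity transports. -/
theorem normal_trivial_of_simple [Fact p.Prime] (hS' : IsPGroup p S') (hF : F.IsSimple p)
    {T' : Subgroup G} {E' : FusionSystem T'} (hE' : E'.IsNormalIn F' p) :
    T' = ⊥ ∨ (T' = S' ∧ ∀ P : Subgroup G, E'.Hom P = F'.Hom P) := by
  obtain ⟨E, hE, key⟩ := exists_isNormalIn_image hθ hq hS' hF.1 hE'
  have hsub := hE'.1.2.2.1
  have hTS : T' ≤ S' := hE'.1.2.2.2.1.1
  rcases hF.2.2 _ E hE with h | ⟨hT, hmaps⟩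
  · left
    refine (Subgroup.eq_bot_iff_forall _).mpr fun x hx => ?_
    have hx0 := qmap_mem_imageOf (θ := θ) hx (hTS hx)
    rw [h, Subgroup.mem_bot] at hx0
    exact qmap_injOn hθ (hTS hx) S'.one_mem (hx0.trans qmap_one.symm)
  · have hTS' : T' = S' := le_antisymm hTS fun x hx => by
      have hx0 : qmap θ x ∈ imageOf θ T' := by
        rw [hT]; exact hq.range.le ⟨⟨x, hx⟩, (qmap_apply hx).symm⟩
      rw [← preimageAlong_imageOf hθ hTS]
      exact mem_preimageAlong.mpr ⟨hx, hx0⟩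
    refine Or.inr ⟨hTS', fun P => Set.Subset.antisymm (hsub P) fun φ hφ => ?_⟩
    have hf := isMap_of_mem hφ
    have hP : preimageAlong θ (imageOf θ P) = P := preimageAlong_imageOf hθ hf.le
    have hf' : IsMap F' (preimageAlong θ (imageOf θ P)) (toFun' φ) := hP.symm ▸ hf
    obtain ⟨ψ, hψ, eψ⟩ := hq.isMap_pushMap ((imageOf_le_range P).trans hq.range.le) hf'
    have hψE : IsMap E (imageOf θ P) (pushMap θ (toFun' φ)) := ⟨ψ, (hmaps _).symm ▸ hψ, eψ⟩
    obtain ⟨-, g, hg, eg⟩ := (key _ _).mp hψE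
    have hg' : IsMap E' P g := hP ▸ hg
    refine IsMap.mem_toFun' (hg'.congr fun x hx => ?_)
    have h1 := eg x (hP.symm ▸ hx)
    rw [hq.pushMap_apply hf' (hP.symm ▸ hx)] at h1
    exact qmap_injOn hθ (hf.mem_S hx) (hTS (hg'.mem_S hx)) h1

end Iso

end Cfsg.Lib.Fusion
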