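import Cfsg.Agent.Fusion.SolvableChain
import Cfsg.Agent.Fusion.SystemIso

/-!
Solvability of a system, of a normal subsystem and of the factor system modulo its carrier.
-/

set_option autoImplicit false

namespace Cfsg.Lib.Fusion

open Cfsg Cfsg.FusionSystem
open scoped commutatorElement

variable {Ω : Type*} [Group Ω] {S T : Subgroup Ω} {F : FusionSystem S} {E : FusionSystem T} {p : ℕ}

/-- A tower of the system meets a strongly closed carrier in a tower of the subsystem. -/
theorem abTower_restrict (hs : E.IsSubsystemOf F) (hT : T ≤ S) (h : AbTower F ⊥) :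
    AbTower E ⊥ := by
  obtain ⟨n, U, h0, hn, hU⟩ := h
  refine ⟨n, fun i => U i ⊓ T, by simp [h0], by simp [hn, hT], fun i hi => ?_⟩
  obtain ⟨hle, hsc, hc⟩ := hU i hi
  refine ⟨inf_le_inf_right T hle, stronglyClosed_of_apply inf_le_right fun P f hf x hx hxU =>
    ⟨stronglyClosed_apply hsc (isMap_of_sub hs hf) hx hxU.1, hf.mem_S hx⟩, ?_⟩
  refine Subgroup.commutator_le.mpr fun a ha b hb => ?_
  refine ⟨hc (Subgroup.commutator_mem_commutator ha.1 hb.1), ?_⟩
  rw [commutatorElement_def]
  exact T.mul_mem (T.mul_mem (T.mul_mem ha.2 hb.2) (T.inv_mem ha.2)) (T.inv_mem hb.2)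

section Factor

variable {Ω' : Type*} [Group Ω'] {θ : S →* Ω'} {S' : Subgroup Ω'} {D : FusionSystem S'}

/-- A tower above the kernel gives a tower of the factor system. -/
theorem abTower_down (hT : F.StronglyClosed T) (hD : F.IsFactorSystem T θ D)
    (h : AbTower F T) : AbTower D ⊥ := by
  obtain ⟨n, U, h0, hn, hU⟩ := h
  have hq := isQuot_of_isFactorSystem hT hD
  refine ⟨n, fun i => imageAlong θ (U i), ?_, ?_, fun i hi => ?_⟩
  · dsimp only
    rw [h0]
    refine (Subgroup.eq_bot_iff_forall _).mpr ?_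
    rintro _ ⟨s, hs, rfl⟩
    exact (hD.2.1 s).mpr hs
  · refine le_antisymm ?_ ?_
    · rintro _ ⟨s, -, rfl⟩
      exact hq.range.le ⟨s, rfl⟩
    · dsimp only
      rw [← hq.range, hn]
      rintro _ ⟨s, rfl⟩
      exact ⟨s, s.2, rfl⟩
  · obtain ⟨hle, hsc, hc⟩ := hU i hi
    refine ⟨Subgroup.map_mono fun x hx => hle hx, stronglyClosed_of_apply ?_ ?_, ?_⟩
    · rintro _ ⟨s, -, rfl⟩
      exact hq.range.le ⟨s, rfl⟩
    · intro P' f' hf' w hw hwW
      obtain ⟨f, hf, hff⟩ := hq.exists_lift hf'
      obtain ⟨s, hs, rfl⟩ := hwW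
      have hsP : (s : Ω) ∈ preimageAlong θ P' := ⟨s, hw, rfl⟩
      have h1 := hff s hsP
      rw [qmap_apply s.2, qmap_apply (hf.mem_S hsP)] at h1
      rw [h1]
      exact ⟨⟨f s, hf.mem_S hsP⟩, stronglyClosed_apply hsc hf hsP hs, rfl⟩
    · refine Subgroup.commutator_le.mpr ?_
      rintro _ ⟨a, ha, rfl⟩ _ ⟨b, hb, rfl⟩
      rw [← map_commutatorElement]
      exact ⟨⁅a, b⁆, hc (Subgroup.commutator_mem_commutator ha hb), rfl⟩

/-- A tower of the factor system gives a tower above the kernel. -/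
theorem abTower_up [Finite S] [Fact p.Prime] (hS : IsPGroup p S) (hF : F.IsSaturated p)
    (hT : F.StronglyClosed T) (hD : F.IsFactorSystem T θ D) (h : AbTower D ⊥) : AbTower F T := by
  obtain ⟨n, V, h0, hn, hV⟩ := h
  have hq := isQuot_of_isFactorSystem hT hD
  have hmor := (Cfsg.Agent.S5134.result p hS F hF T hT θ D hD).1
  refine ⟨n, fun i => preimageAlong θ (V i), ?_, ?_, fun i hi => ?_⟩
  · ext x
    dsimp only
    rw [h0, mem_preimageAlong, Subgroup.mem_bot]
    refine ⟨fun h => ?_, fun h => ⟨hT.1 h, ?_⟩⟩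
    · have h2 := h.2
      rw [qmap_apply h.1] at h2
      exact (hD.2.1 _).mp h2
    · rw [qmap_apply (hT.1 h)]
      exact (hD.2.1 _).mpr h
  · refine le_antisymm (preimageAlong_le _) fun x hx => mem_preimageAlong.mpr ⟨hx, ?_⟩
    rw [hn, qmap_apply hx]
    exact hq.range.le ⟨⟨x, hx⟩, rfl⟩
  · obtain ⟨hle, hsc, hc⟩ := hV i hi
    refine ⟨fun x hx => mem_preimageAlong.mpr ⟨(mem_preimageAlong.mp hx).1,
      hle (mem_preimageAlong.mp hx).2⟩, ?_, ?_⟩
    · refine stronglyClosed_of_apply (preimageAlong_le _) fun P f hf x hx hxU => ?_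
      obtain ⟨φ, hφ, e⟩ := hf
      obtain ⟨φ', hφ', hP, hφS, hP', hind⟩ := hmor.2 P φ hφ
      obtain ⟨hxS, hxW⟩ := mem_preimageAlong.mp hxU
      rw [qmap_apply hxS] at hxW
      have h1 := stronglyClosed_apply hsc (isMap_of_mem hφ') (hP' ⟨x, hx⟩) hxW
      rw [toFun'_apply_mem φ' (hP' ⟨x, hx⟩), hind] at h1
      refine mem_preimageAlong.mpr ⟨e ⟨x, hx⟩ ▸ hφS _, ?_⟩
      rw [qmap_apply (e ⟨x, hx⟩ ▸ hφS _)]
      convert h1 using 2
      exact Subtype.ext (e ⟨x, hx⟩).symm
    · refine Subgroup.commutator_le.mpr ?_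
      rintro _ ⟨a, ha, rfl⟩ _ ⟨b, hb, rfl⟩
      refine ⟨⁅a, b⁆, Subgroup.mem_comap.mpr ?_, rfl⟩
      rw [map_commutatorElement]
      exact hc (Subgroup.commutator_mem_commutator (Subgroup.mem_comap.mp ha)
        (Subgroup.mem_comap.mp hb))

end Factor

/-- The least strongly closed subgroup containing a given one. -/
def scClosure (E : FusionSystem T) (X : Subgroup Ω) : Subgroup Ω :=
  sInf {U | E.StronglyClosed U ∧ X ≤ U}

theorem stronglyClosed_scClosure {X : Subgroup Ω} (hX : X ≤ T) :
    E.StronglyClosed (scClosure E X) ∧ X ≤ scClosure E X := by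
  have hTT : E.StronglyClosed T := stronglyClosed_of_apply le_rfl fun P f hf x hx _ => hf.mem_S hx
  refine ⟨stronglyClosed_of_apply (sInf_le ⟨hTT, hX⟩) fun P f hf x hx hxU => ?_,
    le_sInf fun U hU => hU.2⟩
  exact Subgroup.mem_sInf.mpr fun U hU =>
    stronglyClosed_apply hU.1 hf hx (Subgroup.mem_sInf.mp hxU U hU)

/-- The derived-type series of strongly closed subgroups. -/
def scDerived (E : FusionSystem T) : ℕ → Subgroup Ω
  | 0 => T
  | k + 1 => scClosure E ⁅scDerived E k, scDerived E k⁆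

theorem commutator_le_self {B : Subgroup Ω} : ⁅B, B⁆ ≤ B := Subgroup.commutator_le.mpr
  fun a ha b hb => by
    rw [commutatorElement_def]
    exact B.mul_mem (B.mul_mem (B.mul_mem ha hb) (B.inv_mem ha)) (B.inv_mem hb)

theorem scDerived_le : ∀ k, scDerived E k ≤ T
  | 0 => le_rfl
  | _ + 1 => (stronglyClosed_scClosure (commutator_le_self.trans (scDerived_le _))).1.1

/-- Invariance makes the series strongly closed in the system. -/
theorem stronglyClosed_scDerived (hE : E.IsInvariantIn F) :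
    ∀ k, F.StronglyClosed (scDerived E k) := by
  have hT : T ≤ S := hE.2.1.1
  intro k
  induction k with
  | zero => exact hE.2.1
  | succ k ih =>
  have hBT := scDerived_le (E := E) k
  set B := scDerived E k
  have hXT : ⁅B, B⁆ ≤ T := commutator_le_self.trans hBT
  have hC := stronglyClosed_scClosure (E := E) hXT
  -- stable under the automizer of `T`
  have hinv : ∀ α ∈ F.autGroup T, ∀ x ∈ scClosure E ⁅B, B⁆,
      autFun α x ∈ scClosure E ⁅B, B⁆ := by
    intro α hα x hx
    refine Subgroup.mem_sInf.mpr fun U hU => ?_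
    have hm := (isMap_autFun hT).mpr (Subgroup.inv_mem _ hα)
    set V := img U (autFun α⁻¹) with hV
    have hmem : ∀ y, y ∈ V → autFun α y ∈ U := fun y hy => by
      obtain ⟨u, hu, rfl⟩ := (hm.mono hU.1.1).mem_img.mp hy
      rwa [autFun_inv_apply α (hU.1.1 hu)]
    refine hmem x (Subgroup.mem_sInf.mp hx V ⟨stronglyClosed_of_apply ?_ ?_, ?_⟩)
    · exact IsMap.img_le_iff.mpr fun u hu => autFun_mem _ (hU.1.1 hu)
    · intro P f hf y hy hyV
      have hg := invariant_transportT hE hT hf hα
      have h1 := stronglyClosed_apply hU.1 hg (IsMap.apply_mem_img hy) (hmem y hyV)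
      have h2 : f y = autFun α⁻¹ (autFun α (f (autFun α⁻¹ (autFun α y)))) := by
        rw [autFun_inv_apply' α (hf.le hy), autFun_inv_apply' α (hf.mem_S hy)]
      rw [h2]
      exact IsMap.apply_mem_img h1
    · refine Subgroup.commutator_le.mpr fun a ha b hb => ?_
      have ha' := stronglyClosed_apply ih ((isMap_autFun hT).mpr hα) (hBT ha) ha
      have hb' := stronglyClosed_apply ih ((isMap_autFun hT).mpr hα) (hBT hb) hb
      have h3 := hU.2 (Subgroup.commutator_mem_commutator ha' hb')
      have hf := (isMap_autFun hT).mpr hα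
      have h4 : ⁅autFun α a, autFun α b⁆ = autFun α ⁅a, b⁆ := by
        rw [commutatorElement_def, commutatorElement_def,
          hf.map_mul (T.mul_mem (T.mul_mem (hBT ha) (hBT hb)) (T.inv_mem (hBT ha)))
            (T.inv_mem (hBT hb)),
          hf.map_mul (T.mul_mem (hBT ha) (hBT hb)) (T.inv_mem (hBT ha)),
          hf.map_mul (hBT ha) (hBT hb), hf.map_inv (hBT ha), hf.map_inv (hBT hb)]
      rw [h4] at h3
      rw [← autFun_inv_apply' α (hXT (Subgroup.commutator_mem_commutator ha hb))]
      exact IsMap.apply_mem_img h3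
  refine stronglyClosed_of_apply (hC.1.1.trans hT) fun P f hf x hx hxC => ?_
  have hxT : x ∈ T := hC.1.1 hxC
  obtain ⟨α, hα, f₀, hf₀, e⟩ :=
    invariant_frattiniT hE (inf_le_right : P ⊓ T ≤ T) (hf.mono inf_le_left)
  rw [e x ⟨hx, hxT⟩]
  exact hinv α hα _ (stronglyClosed_apply hC.1 hf₀ ⟨hx, hxT⟩ hxC)

/-- A tower of the subsystem and one above it give a tower of the system. -/
theorem abTower_glue (hE : E.IsInvariantIn F) (hEt : AbTower E ⊥)
    (hF : AbTower F T) : AbTower F ⊥ := by
  obtain ⟨n, V, h0, hn, hV⟩ := hEt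
  have hk : ∀ k, k ≤ n → scDerived E k ≤ V (n - k) := by
    intro k
    induction k with
    | zero => exact fun _ => by rw [Nat.sub_zero, hn]; exact le_rfl
    | succ k ih =>
      intro hk
      obtain ⟨hle, hsc, hc⟩ := hV (n - (k + 1)) (by omega)
      have h1 := ih (by omega)
      rw [show n - k = n - (k + 1) + 1 by omega] at h1
      refine sInf_le ⟨?_, (Subgroup.commutator_mono h1 h1).trans hc⟩
      rcases Nat.eq_zero_or_pos (n - (k + 1)) with h2 | h2
      · rw [h2, h0]
        exact stronglyClosed_of_apply bot_le fun P f hf x hx hx0 => by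
          rw [Subgroup.mem_bot.mp hx0, hf.map_one]; exact one_mem _
      · obtain ⟨m, hm⟩ := Nat.exists_eq_add_of_le h2
        rw [show n - (k + 1) = m + 1 by omega]
        exact (hV m (by omega)).2.1
  have hall : ∀ k, AbTower F (scDerived E k) := by
    intro k
    induction k with
    | zero => exact hF
    | succ k ih =>
      have hBT := scDerived_le (E := E) k
      have hBE : E.StronglyClosed (scDerived E k) := stronglyClosed_of_apply hBT
        fun P f hf x hx hxB =>
          stronglyClosed_apply (stronglyClosed_scDerived hE k) (isMap_of_sub hE.1 hf) hx hxB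
      exact ih.cons (sInf_le ⟨hBE, commutator_le_self⟩) (stronglyClosed_scDerived hE k)
        (stronglyClosed_scClosure (commutator_le_self.trans hBT)).2
  have := hall n
  rwa [le_bot_iff.mp ((hk n le_rfl).trans (by rw [Nat.sub_self, h0]))] at this

end Cfsg.Lib.Fusion
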