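import Cfsg.Agent.Fusion.Small.Restriction
import Cfsg.Agent.Fusion.Invariant
import Cfsg.Agent.Fusion.Criterion.Site

/-!
Centric subgroups meeting a normal subsystem in a noncentric subgroup.
-/

set_option autoImplicit false
set_option linter.unusedSectionVars false
set_option linter.style.haveILetI false

namespace Cfsg.Lib.Fusion

open Cfsg Cfsg.FusionSystem

universe u

variable {Ω : Type u} [Group Ω] {S T : Subgroup Ω} {F : FusionSystem S} {E : FusionSystem T}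
  {p : ℕ}

/-- A map between groups of the same order preserves the strongly closed subgroup both ways. -/
theorem mem_of_apply_mem_stronglyClosed (hT : F.StronglyClosed T) {P : Subgroup Ω} {f : Ω → Ω}
    (hf : IsMap F P f) {x : Ω} (hx : x ∈ P) (h : f x ∈ T) : x ∈ T := by
  obtain ⟨g, hg, -, hgl, -⟩ := hf.exists_inv
  rw [← hgl x hx]
  exact stronglyClosed_apply hT hg (IsMap.apply_mem_img hx) h

/-- The intersection with a strongly closed subgroup is carried to the intersection. -/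
theorem img_inf_stronglyClosed (hT : F.StronglyClosed T) {P : Subgroup Ω} {f : Ω → Ω}
    (hf : IsMap F P f) : img (P ⊓ T) f = img P f ⊓ T := by
  refine le_antisymm (IsMap.img_le_iff.mpr fun x hx =>
    ⟨IsMap.apply_mem_img hx.1, stronglyClosed_apply hT hf hx.1 hx.2⟩) fun y hy => ?_
  obtain ⟨x, hx, rfl⟩ := hf.mem_img.mp hy.1
  exact IsMap.apply_mem_img ⟨hx, mem_of_apply_mem_stronglyClosed hT hf hx hy.2⟩

/-- A fully centralized conjugate of a subgroup that is not centric in the subsystem. -/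
theorem not_centralizer_le [Finite S] (hT : F.StronglyClosed T) (hE : E.IsSubsystemOf F)
    {U R : Subgroup Ω} (hUT : U ≤ T) (hU : ¬ E.IsCentric U) (hUR : F.IsConj U R)
    (hrec : F.IsReceptive R) : ¬ centralizerIn T R ≤ R := by
  intro hR
  obtain ⟨Q, hUQ, hQ⟩ : ∃ Q, E.IsConj U Q ∧ ¬ centralizerIn T Q ≤ Q := by
    by_contra! hcon
    exact hU ⟨hUT, hcon⟩
  refine hQ fun x hx => ?_
  obtain ⟨a, ha, hai⟩ := isConj_iff.mp hUQ
  have haF : IsMap F U a := by
    obtain ⟨φ, hφ, e⟩ := ha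
    exact ⟨φ, hE U hφ, e⟩
  obtain ⟨f, hf, hfi⟩ := isConj_iff.mp
    (isConj_trans (isConj_symm (isConj_iff.mpr ⟨a, haF, hai⟩)) hUR)
  obtain ⟨g, hg, hge⟩ := receptive_extend hrec hf hfi
  obtain ⟨hxT, hxc⟩ := mem_centralizerIn.mp hx
  have hxS : x ∈ centralizerIn S Q := mem_centralizerIn.mpr ⟨hT.1 hxT, hxc⟩
  have hxe : x ∈ extSub S Q f := centralizerIn_le_extSub Q f hxS
  have hgx : g x ∈ R := by
    refine hR (mem_centralizerIn.mpr ⟨stronglyClosed_apply hT hg hxe hxT, fun z hz => ?_⟩)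
    obtain ⟨q, hq, rfl⟩ := (hf.mem_img).mp (hfi.symm ▸ hz : z ∈ img Q f)
    rw [← hge q hq, ← hg.map_conj hxe (le_extSub hf hq), hxc q hq]
  obtain ⟨q, hq, e⟩ := hf.mem_img.mp (hfi.symm ▸ hgx : g x ∈ img Q f)
  rw [← hg.injOn (le_extSub hf hq) hxe ((hge q hq).trans e)]
  exact hq

/-- A conjugate on which a `p`-element outside acts inside the largest normal `p`-subgroup. -/
theorem exists_radical_witness [Finite S] [Fact p.Prime] (hS : IsPGroup p S)
    (hF : F.IsSaturated p) (hE : E.IsInvariantIn F) {P : Subgroup Ω} (hP : F.IsCentric P)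
    (hPT : ¬ E.IsCentric (P ⊓ T)) :
    ∃ f, IsMap F P f ∧ ∃ x, ∃ hx : x ∈ Subgroup.normalizer (img P f : Set Ω),
      x ∈ S ∧ x ∉ img P f ∧ conjAut (img P f) x hx ∈ Criterion.opAut F p (img P f) := by
  obtain ⟨hs, hT, -, -⟩ := hE
  have hn : S ≤ Subgroup.normalizer (T : Set Ω) := normalizes_of_stronglyClosed hT
  set U := P ⊓ T
  have hUS : U ≤ S := inf_le_left.trans hP.1
  haveI := finite_of_le hUS
  have hPN : P ≤ normalizerIn S U := fun g hg => ⟨hP.1 hg, mem_normalizer_of_maps_finite fun x hx =>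
    ⟨P.mul_mem (P.mul_mem hg hx.1) (P.inv_mem hg), conj_mem_of_mem_normalizer (hn (hP.1 hg)) hx.2⟩⟩
  obtain ⟨R, hUR, hRn⟩ := exists_fullyNormalized (F := F) hUS
  obtain ⟨-, hfa, hrec⟩ := fullyNormalized_props hS hF hRn
  have hC : ¬ centralizerIn T R ≤ R := not_centralizer_le hT hs inf_le_right hPT hUR hrec
  obtain ⟨f₀, hf₀, hi₀⟩ := isConj_iff.mp hUR
  obtain ⟨χ, -, k, hk, hki, -, hkN⟩ := exists_map_normalizer hS hfa hrec hf₀ hi₀
  have hkP : IsMap F P k := hk.mono hPN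
  refine ⟨k, hkP, ?_⟩
  set Q := img P k with hQdef
  have hQS : Q ≤ S := hkP.img_le
  haveI := finite_of_le hQS
  have hQT : Q ⊓ T = R := by rw [← hki]; exact (img_inf_stronglyClosed hT hkP).symm
  have hQN : Q ≤ normalizerIn S R := IsMap.img_le_iff.mpr fun x hx => hkN x (hPN hx)
  set C := centralizerIn T R
  have hCS : C ≤ S := inf_le_left.trans hT.1
  haveI := finite_of_le hCS
  have hQC : Q ≤ Subgroup.normalizer (C : Set Ω) := fun q hq => by
    refine mem_normalizer_of_maps_finite fun c hc => ?_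
    obtain ⟨hcT, hcc⟩ := mem_centralizerIn.mp hc
    refine mem_centralizerIn.mpr ⟨conj_mem_of_mem_normalizer (hn (hQS hq)) hcT, fun z hz => ?_⟩
    have h1 : q⁻¹ * z * q ∈ R := by
      simpa using conj_mem_of_mem_normalizer (Subgroup.inv_mem _ (hQN hq).2) hz
    calc q * c * q⁻¹ * z * (q * c * q⁻¹)⁻¹ = q * (c * (q⁻¹ * z * q) * c⁻¹) * q⁻¹ := by group
      _ = q * (q⁻¹ * z * q) * q⁻¹ := by rw [hcc _ h1]
      _ = z := by group
  have hlt : Q < Q ⊔ C := lt_of_le_of_ne le_sup_left fun h =>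
    hC fun c hc => hQT.le ⟨h.symm ▸ Subgroup.mem_sup_right hc, (mem_centralizerIn.mp hc).1⟩
  obtain ⟨v, hv, hvQ⟩ := SetLike.exists_of_lt (lt_inf_normalizer hS hlt (sup_le hQS hCS))
  have hv1 : v ∈ ((Q ⊔ C : Subgroup Ω) : Set Ω) := hv.1
  rw [Subgroup.coe_mul_of_left_le_normalizer_right Q C hQC] at hv1
  obtain ⟨q, hq, x, hx, rfl⟩ := hv1
  have hxQ : x ∉ Q := fun h => hvQ (Q.mul_mem hq h)
  have hxn : x ∈ Subgroup.normalizer (Q : Set Ω) := by
    have := Subgroup.mul_mem _ (Subgroup.inv_mem _ (Subgroup.le_normalizer hq)) hv.2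
    rwa [inv_mul_cancel_left] at this
  refine ⟨x, hxn, hCS hx, hxQ, ?_⟩
  have hRQ : R ≤ Q := hQT.ge.trans inf_le_left
  obtain ⟨hxT, hxc⟩ := mem_centralizerIn.mp hx
  refine Criterion.le_opAut (K := Small.chainAut F Q R hRQ) (fun _ h => h.1)
    (Small.isPGroup_chainAut hS hRQ hQS) (fun α hα β hβ => ?_)
    ⟨autInducedBy_le hQS (conjAut_mem_autInducedBy hxn (hCS hx)), fun z hz => ?_, fun r hr => ?_⟩
  · refine Small.conj_chainAut hRQ hQS ⟨hα, fun z hz => ?_, fun z hz => ?_⟩ hβ <;>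
    · rw [← hQT] at hz ⊢
      exact ⟨autFun_mem _ hz.1, stronglyClosed_apply hT ((isMap_autFun hQS).mpr hα) hz.1 hz.2⟩
  · rw [autFun_apply_mem _ (hRQ hz), conjAut_apply]
    exact hxc z hz
  · rw [autFun_apply_mem _ hr, conjAut_apply, ← hQT]
    refine ⟨Q.mul_mem (conj_mem_of_mem_normalizer hxn hr) (Q.inv_mem hr), ?_⟩
    show x * r * x⁻¹ * r⁻¹ ∈ T
    rw [show x * r * x⁻¹ * r⁻¹ = x * (r * x⁻¹ * r⁻¹) by group]
    exact T.mul_mem hxT (conj_mem_of_mem_normalizer (hn (hQS hr)) (T.inv_mem hxT))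

/-- Such a centric subgroup is not radical. -/
theorem not_radical_of_witness [Finite S] [Fact p.Prime] {P : Subgroup Ω}
    (hP : F.IsCentric P) {f : Ω → Ω} (hf : IsMap F P f) {x : Ω}
    (hx : x ∈ Subgroup.normalizer (img P f : Set Ω)) (hxS : x ∈ S) (hxP : x ∉ img P f)
    (h : conjAut (img P f) x hx ∈ Criterion.opAut F p (img P f)) : ¬ F.IsRadical p P := by
  intro hr
  obtain ⟨g, hg, hgi, -, -⟩ := hf.exists_inv
  have h1 := Criterion.congr_opAut hg hgi h
  rw [show Criterion.opAut F p P = Inn P from hr.2] at h1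
  obtain ⟨q, hq⟩ := h1
  have hQ : centralizerIn S (img P f) ≤ img P f := hP.2 _ (isConj_iff.mpr ⟨f, hf, rfl⟩)
  refine hxP (mem_of_inn hQ hxS hx ?_ hf.img_le)
  refine ⟨(hg.equiv hgi).symm q, ?_⟩
  refine (MulAut.congr (hg.equiv hgi)).injective ?_
  rw [← hq]
  refine MulEquiv.ext fun y => ?_
  simp [MulAut.congr]

end Cfsg.Lib.Fusion
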