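import Cfsg.Agent.Fusion.PrimeSub
import Cfsg.Agent.Fusion.CentricMeet

/-!
Normal subsystems from subgroups of the automizer of the top of a normal subsystem.
-/

set_option autoImplicit false
set_option linter.unusedSectionVars false
set_option linter.style.haveILetI false

namespace Cfsg.Lib.Fusion.CharSub

open Cfsg Cfsg.FusionSystem Cfsg.Lib.Fusion Cfsg.Lib.Fusion.PrimeIndex

universe u

variable {Ω : Type u} [Group Ω] {S T : Subgroup Ω} {F : FusionSystem S} {E : FusionSystem T}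
  {p : ℕ} {K : Subgroup (MulAut T)}

/-- The hypotheses on the subgroup of `Aut_F(T)`. -/
structure IsKernel (F : FusionSystem S) (E : FusionSystem T) (p : ℕ) (K : Subgroup (MulAut T)) :
    Prop where
  le : K ≤ F.autGroup T
  normal : ∀ α ∈ F.autGroup T, ∀ β ∈ K, α * β * α⁻¹ ∈ K
  base : E.autGroup T ≤ K
  root : ∀ α ∈ F.autGroup T, ∀ k : ℕ, α ^ p ^ k ∈ K → α ∈ K

theorem isMap_of_sub (hs : E.IsSubsystemOf F) {P : Subgroup Ω} {f : Ω → Ω} (hf : IsMap E P f) :
    IsMap F P f :=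
  let ⟨φ, hφ, e⟩ := hf
  ⟨φ, hs P hφ, e⟩

theorem frattiniT (hE : E.IsInvariantIn F) {P : Subgroup Ω} {f : Ω → Ω} (hPT : P ≤ T)
    (hf : IsMap F P f) :
    ∃ α ∈ F.autGroup T, ∃ f₀, IsMap E P f₀ ∧ ∀ x ∈ P, f x = autFun α (f₀ x) := by
  obtain ⟨φ, hφ, e⟩ := hf
  obtain ⟨α, hα, φ₀, hφ₀, h⟩ := hE.2.2.2 P hPT φ hφ
  refine ⟨α, hα, _, isMap_of_mem hφ₀, fun x hx => ?_⟩
  have hm := (E.le_of_mem hφ₀).2 ⟨x, hx⟩
  rw [← e ⟨x, hx⟩, h ⟨x, hx⟩ hm, toFun'_apply_mem _ hx, autFun_apply_mem _ hm]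

theorem transT (hE : E.IsInvariantIn F) {P : Subgroup Ω} {f : Ω → Ω} (hf : IsMap E P f)
    {α : MulAut T} (hα : α ∈ F.autGroup T) :
    IsMap E (img P (autFun α)) (fun y => autFun α (f (autFun α⁻¹ y))) := by
  obtain ⟨φ, hφ, e⟩ := hf
  have hf : IsMap E P f := ⟨φ, hφ, e⟩
  have hm : IsMap F P (autFun α) := ((isMap_autFun hE.2.1.1).mpr hα).mono hf.le
  obtain ⟨χ, hχ, hχe⟩ := hE.2.2.1 P hf.le φ hφ α hα
  have hmem : ∀ x : P, ((α ⟨x, hf.le x.2⟩ : T) : Ω) ∈
      (P.subgroupOf T).map (T.subtype.comp α.toMonoidHom) := fun x =>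
    ⟨⟨x, hf.le x.2⟩, x.2, rfl⟩
  have himg : img P (autFun α) = (P.subgroupOf T).map (T.subtype.comp α.toMonoidHom) := by
    refine le_antisymm (IsMap.img_le_iff.mpr fun x hx => ?_) ?_
    · rw [autFun_apply_mem _ (hf.le hx)]
      exact hmem ⟨x, hx⟩
    · rintro _ ⟨x, hx, rfl⟩
      rw [show T.subtype.comp α.toMonoidHom x = autFun α x from (autFun_apply α x).symm]
      exact IsMap.apply_mem_img hx
  rw [himg]
  refine (isMap_of_mem hχ).congr fun y hy => ?_
  obtain ⟨x, hx, rfl⟩ := hm.mem_img.mp (himg ▸ hy)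
  have h2 := hχe ⟨x, hx⟩ (by rw [e]; exact hf.mem_S hx) (hmem ⟨x, hx⟩)
  show autFun α (f (autFun α⁻¹ (autFun α x))) = _
  rw [autFun_inv_apply' α (hf.le hx), toFun'_apply_mem _ hy]
  rw [← e ⟨x, hx⟩, autFun_apply_mem _ (by rw [e]; exact hf.mem_S hx)]
  refine h2.symm.trans (congrArg χ (Subtype.ext ?_))
  exact (autFun_apply α ⟨x, hf.le hx⟩).symm

/-- Centricity in an invariant subsystem is preserved by the larger system. -/
theorem centricT_img (hE : E.IsInvariantIn F) {R : Subgroup Ω} (hR : E.IsCentric R)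
    {f : Ω → Ω} (hf : IsMap F R f) : E.IsCentric (img R f) := by
  obtain ⟨α, hα, f₀, hf₀, he⟩ := frattiniT hE hR.1 hf
  have hT := hE.2.1
  refine ⟨IsMap.img_le_iff.mpr fun x hx => stronglyClosed_apply hT hf hx (hR.1 hx), fun Q hQ => ?_⟩
  obtain ⟨g, hg, rfl⟩ := isConj_iff.mp hQ
  have hαm : IsMap F (img R f₀) (autFun α) := ((isMap_autFun hT.1).mpr hα).mono hf₀.img_le
  have ht := transT hE hg (Subgroup.inv_mem _ hα)
  have hmem : ∀ x ∈ R, f₀ x ∈ img (img R f) (autFun α⁻¹) := fun x hx => by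
    rw [← autFun_inv_apply' α (hf₀.mem_S hx), ← he x hx]
    exact IsMap.apply_mem_img (IsMap.apply_mem_img hx)
  have hh := hf₀.comp ht hmem
  have hc := hR.2 _ (isConj_iff.mpr ⟨_, hh, rfl⟩)
  intro y hy
  obtain ⟨hyT, hyc⟩ := mem_centralizerIn.mp hy
  have hαi : IsMap F T (autFun α⁻¹) := (isMap_autFun hT.1).mpr (Subgroup.inv_mem _ hα)
  have hy' : autFun α⁻¹ y ∈ centralizerIn T (img R ((fun z => autFun α⁻¹ (g (autFun α⁻¹⁻¹ z))) ∘ f₀)) := by
    refine mem_centralizerIn.mpr ⟨autFun_mem _ hyT, fun z hz => ?_⟩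
    obtain ⟨x, hx, rfl⟩ := hh.mem_img.mp hz
    show autFun α⁻¹ y * autFun α⁻¹ (g (autFun α⁻¹⁻¹ (f₀ x))) * (autFun α⁻¹ y)⁻¹ =
      autFun α⁻¹ (g (autFun α⁻¹⁻¹ (f₀ x)))
    rw [inv_inv, ← he x hx, ← hαi.map_conj hyT (hg.mem_S (IsMap.apply_mem_img hx)),
      hyc _ (IsMap.apply_mem_img (IsMap.apply_mem_img hx))]
  obtain ⟨x, hx, e⟩ := hh.mem_img.mp (hc hy')
  rw [← autFun_inv_apply α hyT, ← e]
  show autFun α (autFun α⁻¹ (g (autFun α⁻¹⁻¹ (f₀ x)))) ∈ img (img R f) g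
  rw [inv_inv, ← he x hx, autFun_inv_apply α (hg.mem_S (IsMap.apply_mem_img hx))]
  exact IsMap.apply_mem_img (IsMap.apply_mem_img hx)

theorem pow_factor (hE : E.IsInvariantIn F) {Q : Subgroup Ω} (hQ : Q ≤ T) {β : MulAut Q}
    {α : MulAut T} (hα : α ∈ F.autGroup T) {φ : Ω → Ω} (hφ : IsMap E Q φ)
    (he : ∀ x ∈ Q, autFun β x = autFun α (φ x)) (n : ℕ) :
    ∃ ψ, IsMap E Q ψ ∧ ∀ x ∈ Q, autFun (β ^ n) x = autFun (α ^ n) (ψ x) := by
  induction n with
  | zero =>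
    refine ⟨id, isMap_id hQ, fun x hx => ?_⟩
    rw [pow_zero, pow_zero, autFun_one hx]
    exact (autFun_one (hQ hx)).symm
  | succ n ih =>
    obtain ⟨ψ, hψ, hψe⟩ := ih
    have ht := transT hE hψ (Subgroup.inv_mem _ hα)
    have hmem : ∀ x ∈ Q, φ x ∈ img Q (autFun α⁻¹) := fun x hx => by
      rw [← autFun_inv_apply' α (hφ.mem_S hx), ← he x hx]
      exact IsMap.apply_mem_img (autFun_mem β hx)
    refine ⟨_, hφ.comp ht hmem, fun x hx => ?_⟩
    show _ = autFun (α ^ (n + 1)) (autFun α⁻¹ (ψ (autFun α⁻¹⁻¹ (φ x))))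
    have hy : ψ (autFun β x) ∈ T := hψ.mem_S (autFun_mem β hx)
    rw [pow_succ, autFun_mul _ _ hx, hψe _ (autFun_mem β hx), inv_inv, ← he x hx,
      ← autFun_mul _ _ hy, pow_succ, mul_inv_cancel_right]

/-- Uniqueness at one subgroup: only elements of `K` restrict to maps of `E`. -/
def UniqAt (F : FusionSystem S) (E : FusionSystem T) (K : Subgroup (MulAut T)) (n : ℕ) : Prop :=
  ∀ (R : Subgroup Ω) (α : MulAut T), Nat.card R = n → E.IsCentric R → α ∈ F.autGroup T →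
    IsMap E R (autFun α) → α ∈ K

/-- The factor of an element of `p`-power order lies in `K`. -/
theorem factor_mem_of_pow (hE : E.IsInvariantIn F) (hK : IsKernel F E p K) {Q : Subgroup Ω}
    (hQc : E.IsCentric Q) (hu : UniqAt F E K (Nat.card Q)) {β : MulAut Q} {k : ℕ}
    (hβ : β ^ p ^ k = 1) {α : MulAut T} (hα : α ∈ F.autGroup T) {φ : Ω → Ω} (hφ : IsMap E Q φ)
    (he : ∀ x ∈ Q, autFun β x = autFun α (φ x)) : α ∈ K := by
  obtain ⟨ψ, hψ, hψe⟩ := pow_factor hE hQc.1 hα hφ he (p ^ k)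
  refine hK.root α hα k (hu (img Q ψ) _ hψ.card_img (centricT_img hE hQc (isMap_of_sub hE.1 hψ))
    (Subgroup.pow_mem _ hα _) ?_)
  obtain ⟨g, hg, -, hgl, -⟩ := hψ.exists_inv
  refine hg.congr fun y hy => ?_
  obtain ⟨x, hx, rfl⟩ := hψ.mem_img.mp hy
  rw [hgl x hx, ← hψe x hx, hβ, autFun_one hx]

/-- Only elements of `K` restrict to maps of `E` on centric subgroups. -/
theorem uniq [Finite S] [Fact p.Prime] (hS : IsPGroup p S) (hE : E.IsWeaklyNormalIn F p)
    (hK : IsKernel F E p K) (n : ℕ) : UniqAt F E K n := by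
  obtain ⟨hEs, -, hinv⟩ := hE
  have hT := hinv.2.1
  haveI := finite_of_le hT.1
  have hTp : IsPGroup p T := hS.of_injective _ (Subgroup.inclusion_injective hT.1)
  induction hm : Nat.card T - n using Nat.strong_induction_on generalizing n with
  | _ m ih =>
  intro R α hn hR hα hαR
  rcases eq_or_ne R T with rfl | hRT
  · exact hK.base ((isMap_autFun le_rfl).mp hαR)
  set Q := normalizerIn T R
  have hQT : Q ≤ T := inf_le_left
  have hlt : R < Q := lt_normalizerIn hTp (lt_of_le_of_ne hR.1 hRT)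
  haveI := finite_of_le hQT
  have hcardlt : Nat.card R < Nat.card Q := lt_of_le_of_ne (Subgroup.card_le_of_le hlt.le) fun h =>
    hlt.ne (Subgroup.eq_of_le_of_card_ge hlt.le h.ge)
  have hQle := Subgroup.card_le_of_le hQT
  have hu : UniqAt F E K (Nat.card Q) := ih (Nat.card T - Nat.card Q) (by omega) _ rfl
  have hrec := receptive_of_fullyCentralized hTp hEs (fullyCentralized_of_centric (E := E) (F := E)
    (fun _ => Set.Subset.rfl) (centric_of_isConj hR (isConj_iff.mpr ⟨_, hαR, rfl⟩)))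
  obtain ⟨e, he, hee⟩ := receptive_extend hrec hαR rfl
  have hαm : IsMap F T (autFun α) := (isMap_autFun hT.1).mpr hα
  have hQext : Q ≤ extSub T R (autFun α) := fun x hx => mem_extSub.mpr
    ⟨hx.1, hx.2, autFun α x, autFun_mem α hx.1, fun y hy => hαm.map_conj hx.1 (hR.1 hy)⟩
  have heQ := he.mono hQext
  have himg : img R (autFun α) = img R e := img_congr fun x hx => (hee x hx).symm
  have hmemQ : ∀ x ∈ Q, autFun α⁻¹ (e x) ∈ Q := fun x hx => by
    have h1 : e x ∈ normalizerIn T (img R e) := heQ.mem_normalizerIn hlt.le hx hx.2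
    rw [← himg] at h1
    have hαi : IsMap E R (autFun α) := hαR
    have h2 : IsMap F T (autFun α⁻¹) := (isMap_autFun hT.1).mpr (Subgroup.inv_mem _ hα)
    have h3 := h2.mem_normalizerIn (IsMap.img_le hαR) h1.1 h1.2
    have e2 : img (img R (autFun α)) (autFun α⁻¹) = R := by
      rw [← img_comp (hαm.mono hR.1) (h2.mono (IsMap.img_le hαR))]
      exact (img_congr fun x hx => autFun_inv_apply' α (hR.1 hx)).trans (img_id R)
    rw [e2] at h3
    exact ⟨autFun_mem _ h1.1, h3.2⟩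
  have hw : IsMap F Q (fun x => autFun α⁻¹ (e x)) :=
    (isMap_of_sub hinv.1 heQ).comp ((isMap_autFun hT.1).mpr (Subgroup.inv_mem _ hα))
      fun x hx => heQ.mem_S hx
  have hwi : img Q (fun x => autFun α⁻¹ (e x)) = Q :=
    Subgroup.eq_of_le_of_card_ge (IsMap.img_le_iff.mpr hmemQ) hw.card_img.ge
  obtain ⟨c, hc, hce⟩ := hw.exists_aut hwi
  have hcfix : ∀ r ∈ R, autFun c r = r := fun r hr => by
    rw [hce r (hlt.le hr), hee r hr, autFun_inv_apply' α (hR.1 hr)]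
  have hcm := (isMap_autFun (hQT.trans hT.1)).mpr hc
  have hcC : c ∈ Small.chainAut F Q R hlt.le := ⟨hc, hcfix, fun r hr => hR.2 R (isConj_refl hR.1)
    (mem_centralizerIn.mpr ⟨T.mul_mem (hQT (autFun_mem c hr)) (T.inv_mem (hQT hr)), fun z hz => by
      have hz' : r⁻¹ * z * r ∈ R := by
        simpa using conj_mem_of_mem_normalizer (Subgroup.inv_mem _ hr.2) hz
      have h1 := hcm.map_conj hr (hlt.le hz')
      rw [show r * (r⁻¹ * z * r) * r⁻¹ = z by group, hcfix z hz, hcfix _ hz'] at h1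
      calc autFun c r * r⁻¹ * z * (autFun c r * r⁻¹)⁻¹
          = autFun c r * (r⁻¹ * z * r) * (autFun c r)⁻¹ := by group
        _ = z := h1.symm⟩)⟩
  obtain ⟨k, hk⟩ := Small.isPGroup_chainAut hS hlt.le (hQT.trans hT.1) ⟨c, hcC⟩
  obtain ⟨αc, hαc, φ, hφ, hφe⟩ := frattiniT hinv hQT hcm
  have hQc : E.IsCentric Q := centric_of_le hR hlt.le hQT
  have hcK : αc ∈ K := factor_mem_of_pow hinv hK hQc hu
    (by simpa using congrArg Subtype.val hk) hαc hφ hφe
  obtain ⟨φi, hφi, -, hφl, -⟩ := hφ.exists_inv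
  have hφmem : ∀ y ∈ img Q φ, φi y ∈ Q := fun y hy => by
    obtain ⟨x, hx, rfl⟩ := hφ.mem_img.mp hy
    rwa [hφl x hx]
  have hprod : α * αc ∈ K := hu (img Q φ) _ hφ.card_img
    (centricT_img hinv hQc (isMap_of_sub hinv.1 hφ)) (Subgroup.mul_mem _ hα hαc)
    ((hφi.comp heQ hφmem).congr fun y hy => by
      obtain ⟨x, hx, rfl⟩ := hφ.mem_img.mp hy
      show _ = e (φi (φ x))
      rw [hφl x hx, autFun_mul _ _ (hφ.mem_S hx), ← hφe x hx, hce x hx,
        autFun_inv_apply α (heQ.mem_S hx)])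
  simpa using K.mul_mem hprod (K.inv_mem hcK)

/-- The maps whose restrictions to centric subgroups of `T` factor through `K`. -/
def Psi (E : FusionSystem T) (K : Subgroup (MulAut T)) (P : Subgroup Ω) (f : Ω → Ω) : Prop :=
  ∀ R, R ≤ P → E.IsCentric R → ∃ β ∈ K, ∃ φ, IsMap E R φ ∧ ∀ x ∈ R, f x = autFun β (φ x)

theorem psi_of_isMap {R : Subgroup Ω} {f : Ω → Ω} (hf : IsMap E R f) : Psi E K R f :=
  fun _ hR' _ => ⟨1, K.one_mem, f, hf.mono hR', fun _ hx => (autFun_one (hf.mem_S (hR' hx))).symm⟩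

theorem exists_resT [Finite S] (hT : F.StronglyClosed T) {δ : MulAut S} (hδ : δ ∈ F.autGroup S) :
    ∃ α ∈ F.autGroup T, ∀ t ∈ T, autFun α t = autFun δ t := by
  have hm := (isMap_top hδ).mono hT.1
  exact hm.exists_aut (img_eq_of_apply hm le_rfl fun x hx => stronglyClosed_apply hT hm hx hx)

variable [Finite S] [Fact p.Prime]

theorem isMapClass_psi (hS : IsPGroup p S) (hE : E.IsWeaklyNormalIn F p) (hK : IsKernel F E p K) :
    IsMapClass F (Psi E K) where
  conj P g _ hg R _ hR := by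
    have hT := hE.2.2.2.1
    have hn := normalizes_of_stronglyClosed hT hg
    obtain ⟨k, hk⟩ := isPGroup_autInducedBy hS T ⟨_, conjAut_mem_autInducedBy hn hg⟩
    have hk' : (conjAut T g hn) ^ p ^ k = 1 := by simpa using congrArg Subtype.val hk
    refine ⟨conjAut T g hn, hK.root _ (autInducedBy_le hT.1 (conjAut_mem_autInducedBy hn hg)) k
      (hk'.symm ▸ K.one_mem), id, isMap_id hR.1, fun x hx => ?_⟩
    show _ = autFun (conjAut T g hn) x
    rw [autFun_apply_mem _ (hR.1 hx), conjAut_apply]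
  congr P f f' _ e h R hR hRc := by
    obtain ⟨β, hβ, φ, hφ, he⟩ := h R hR hRc
    exact ⟨β, hβ, φ, hφ, fun x hx => (e x (hR hx)).trans (he x hx)⟩
  mono P R f _ hR h R' hR' := h R' (hR'.trans hR)
  comp P Q f g hf _ hfQ h h' R hR hRc := by
    have hinv := hE.2.2
    obtain ⟨β, hβ, φ, hφ, he⟩ := h R hR hRc
    obtain ⟨β', hβ', ψ, hψ, he'⟩ := h' (img R f) (IsMap.img_le_iff.mpr fun x hx => hfQ x (hR hx))
      (centricT_img hinv hRc (hf.mono hR))
    have ht := transT hinv hψ (Subgroup.inv_mem _ (hK.le hβ))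
    have hmem : ∀ x ∈ R, φ x ∈ img (img R f) (autFun β⁻¹) := fun x hx => by
      rw [← autFun_inv_apply' β (hφ.mem_S hx), ← he x hx]
      exact IsMap.apply_mem_img (IsMap.apply_mem_img hx)
    refine ⟨β' * β, K.mul_mem hβ' hβ, _, hφ.comp ht hmem, fun x hx => ?_⟩
    show g (f x) = autFun (β' * β) (autFun β⁻¹ (ψ (autFun β⁻¹⁻¹ (φ x))))
    have hy : ψ (f x) ∈ T := hψ.mem_S (IsMap.apply_mem_img hx)
    rw [inv_inv, ← he x hx, ← autFun_mul _ _ hy, mul_inv_cancel_right,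
      he' _ (IsMap.apply_mem_img hx)]
  inv P f g hf hg hl h R' hR' hR'c := by
    have hinv := hE.2.2
    have hgm := hg.mono hR'
    have hRP : img R' g ≤ P := IsMap.img_le_iff.mpr fun y hy => by
      obtain ⟨x, hx, rfl⟩ := hf.mem_img.mp (hR' hy)
      rwa [hl x hx]
    obtain ⟨β, hβ, φ, hφ, he⟩ := h (img R' g) hRP (centricT_img hinv hR'c hgm)
    obtain ⟨k, hk, -, hkl, -⟩ := hφ.exists_inv
    have hβA := hK.le hβ
    have ht := transT hinv hk hβA
    have hfg : ∀ y ∈ R', f (g y) = y := fun y hy => by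
      obtain ⟨x, hx, rfl⟩ := hf.mem_img.mp (hR' hy)
      rw [hl x hx]
    have hsub : R' ≤ img (img (img R' g) φ) (autFun β) := fun y hy => by
      rw [← hfg y hy, he _ (IsMap.apply_mem_img hy)]
      exact IsMap.apply_mem_img (IsMap.apply_mem_img (IsMap.apply_mem_img hy))
    refine ⟨β⁻¹, K.inv_mem hβ, _, ht.mono hsub, fun y hy => ?_⟩
    show g y = autFun β⁻¹ (autFun β (k (autFun β⁻¹ y)))
    have h1 : autFun β⁻¹ y = φ (g y) := by
      conv_lhs => rw [← hfg y hy, he _ (IsMap.apply_mem_img hy)]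
      exact autFun_inv_apply' β (hφ.mem_S (IsMap.apply_mem_img hy))
    rw [h1, hkl _ (IsMap.apply_mem_img hy),
      autFun_inv_apply' β ((centricT_img hinv hR'c hgm).1 (IsMap.apply_mem_img hy))]

/-- The sites: centric subgroups meeting `T` in centric subgroups. -/
def sites (F : FusionSystem S) (E : FusionSystem T) : Set (Subgroup Ω) :=
  {P | F.IsCentric P ∧ E.IsCentric (P ⊓ T)}

theorem centric_top (hE : E.IsInvariantIn F) : E.IsCentric T :=
  ⟨le_rfl, fun Q hQ =>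
    haveI := finite_of_le hE.2.1.1
    inf_le_left.trans (Subgroup.eq_of_le_of_card_ge (isConj_le hQ).2 (isConj_card hQ).ge).ge⟩

theorem siteFam_sites (hS : IsPGroup p S) (hE : E.IsWeaklyNormalIn F p) :
    SiteFam F p (sites F E) where
  centric _ h := h.1
  conj Q hQ R hR := by
    refine ⟨centric_of_isConj hQ.1 hR, ?_⟩
    obtain ⟨f, hf, rfl⟩ := isConj_iff.mp hR
    rw [← img_inf_stronglyClosed hE.2.2.2.1 hf]
    exact centricT_img hE.2.2 hQ.2 (hf.mono inf_le_left)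
  rad Q hQ hr := by
    refine ⟨hQ, by_contra fun h => ?_⟩
    obtain ⟨f, hf, x, hx, hxS, hxP, hmem⟩ := exists_radical_witness hS hE.2.1 hE.2.2 hQ h
    exact not_radical_of_witness hQ hf hx hxS hxP hmem hr
  top := ⟨(siteFam_centrics (F := F) (p := p)).top, by
    rw [inf_eq_right.mpr hE.2.2.2.1.1]; exact centric_top hE.2.2⟩

theorem isGenClass_psi (hS : IsPGroup p S) (hE : E.IsWeaklyNormalIn F p)
    (hK : IsKernel F E p K) : IsGenClass F p (sites F E) (Psi E K) := by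
  refine ⟨isMapClass_psi hS hE hK, fun Q hQ => ?_⟩
  have hcls := isMapClass_psi hS hE hK
  suffices h : opGen F p Q ≤ goodAut F (Psi E K) hcls Q hQ.1.1 from fun α hα => (h hα).2
  refine opGen_le_iff fun u hu hk => ⟨hu, fun R hR hRc => ?_⟩
  have hT := hE.2.2.2.1
  have hQS : Q ≤ S := hQ.1.1
  have hm := (isMap_autFun hQS).mpr hu
  have hmU := hm.mono (inf_le_left : Q ⊓ T ≤ Q)
  have hUi : img (Q ⊓ T) (autFun u) = Q ⊓ T := by
    rw [img_inf_stronglyClosed hT hm, img_autFun]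
  obtain ⟨v, hv, hve⟩ := hmU.exists_aut hUi
  obtain ⟨k, hk⟩ := hk
  have hpow : ∀ n : ℕ, ∀ x ∈ Q ⊓ T, autFun (v ^ n) x = autFun (u ^ n) x := by
    intro n
    induction n with
    | zero => exact fun x hx => by rw [pow_zero, pow_zero, autFun_one hx, autFun_one hx.1]
    | succ n ih =>
      intro x hx
      rw [pow_succ, pow_succ, autFun_mul _ _ hx, autFun_mul _ _ hx.1, ← hve x hx,
        ih _ (autFun_mem v hx)]
  have hv1 : v ^ p ^ k = 1 := eq_one_of_autFun fun x hx => by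
    rw [hpow _ x hx, ← hk, pow_orderOf_eq_one, autFun_one hx.1]
  obtain ⟨α, hα, φ, hφ, he⟩ := frattiniT hE.2.2 inf_le_right ((isMap_autFun (inf_le_left.trans hQS)).mpr hv)
  have hαK := factor_mem_of_pow hE.2.2 hK hQ.2 (uniq hS hE hK _) hv1 hα hφ he
  have hRU : R ≤ Q ⊓ T := le_inf hR hRc.1
  exact ⟨α, hαK, φ, hφ.mono hRU, fun x hx => (hve x (hRU hx)).symm.trans (he x (hRU hx))⟩

/-- The automorphisms of `S` restricting into `K`. -/
def topGroup (F : FusionSystem S) (K : Subgroup (MulAut T)) (hT : T ≤ S) : Subgroup (MulAut S) where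
  carrier := {δ | δ ∈ F.autGroup S ∧ ∃ β ∈ K, ∀ t ∈ T, autFun β t = autFun δ t}
  one_mem' := ⟨Subgroup.one_mem _, 1, K.one_mem, fun t ht => by
    rw [autFun_one ht, autFun_one (hT ht)]⟩
  mul_mem' := by
    rintro a b ⟨ha, β, hβ, e⟩ ⟨hb, γ, hγ, e'⟩
    refine ⟨Subgroup.mul_mem _ ha hb, β * γ, K.mul_mem hβ hγ, fun t ht => ?_⟩
    rw [autFun_mul _ _ ht, autFun_mul _ _ (hT ht), ← e' t ht, e _ (autFun_mem γ ht)]
  inv_mem' := by
    rintro a ⟨ha, β, hβ, e⟩
    refine ⟨Subgroup.inv_mem _ ha, β⁻¹, K.inv_mem hβ, fun t ht => ?_⟩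
    conv_rhs => rw [← autFun_inv_apply β ht, e _ (autFun_mem β⁻¹ ht),
      autFun_inv_apply' a (hT (autFun_mem β⁻¹ ht))]

theorem topGroup_le {hT : T ≤ S} : topGroup F K hT ≤ F.autGroup S := fun _ h => h.1

theorem topGroup_normal (hT : F.StronglyClosed T) (hK : IsKernel F E p K) {α δ : MulAut S}
    (hα : α ∈ F.autGroup S) (hδ : δ ∈ topGroup F K hT.1) : α * δ * α⁻¹ ∈ topGroup F K hT.1 := by
  obtain ⟨hd, β, hβ, e⟩ := hδ
  obtain ⟨a, ha, ea⟩ := exists_resT hT hα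
  obtain ⟨b, hb, eb⟩ := exists_resT hT (Subgroup.inv_mem _ hα)
  have hab : a⁻¹ = b := inv_eq_of_mul_eq_one_right (eq_one_of_autFun fun t ht => by
    rw [autFun_mul _ _ ht, ea _ (autFun_mem b ht), eb t ht, autFun_inv_apply α (hT.1 ht)])
  refine ⟨Subgroup.mul_mem _ (Subgroup.mul_mem _ hα hd) (Subgroup.inv_mem _ hα), _,
    hK.normal a ha β hβ, fun t ht => ?_⟩
  rw [autFun_mul _ _ ht, autFun_mul _ _ (autFun_mem _ ht), autFun_mul _ _ (hT.1 ht),
    autFun_mul _ _ (autFun_mem _ (hT.1 ht)), hab, ea _ (autFun_mem β (autFun_mem b ht)),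
    e _ (autFun_mem b ht), eb t ht]

/-- An automorphism of `S` agreeing on a subgroup with a product lies in the top group. -/
theorem mem_topGroup (hS : IsPGroup p S) (hE : E.IsWeaklyNormalIn F p) (hK : IsKernel F E p K)
    {δ : MulAut S} (hδ : δ ∈ F.autGroup S) {R : Subgroup Ω} (hR : E.IsCentric R) {f g : Ω → Ω}
    (hf : Psi E K R f) (hg : Psi E K R g) (he : ∀ x ∈ R, f x = autFun δ (g x)) :
    δ ∈ topGroup F K hE.2.2.2.1.1 := by
  obtain ⟨β, hβ, φ, hφ, eφ⟩ := hf R le_rfl hR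
  obtain ⟨γ, hγ, ψ, hψ, eψ⟩ := hg R le_rfl hR
  obtain ⟨a, ha, ea⟩ := exists_resT hE.2.2.2.1 hδ
  obtain ⟨k, hk, -, hkl, -⟩ := hψ.exists_inv
  have hmem : ∀ y ∈ img R ψ, k y ∈ R := fun y hy => by
    obtain ⟨x, hx, rfl⟩ := hψ.mem_img.mp hy
    rwa [hkl x hx]
  have h1 : β⁻¹ * a * γ ∈ K := uniq hS hE hK _ (img R ψ) _ rfl
    (centricT_img hE.2.2 hR (isMap_of_sub hE.2.2.1 hψ))
    (Subgroup.mul_mem _ (Subgroup.mul_mem _ (Subgroup.inv_mem _ (hK.le hβ)) ha) (hK.le hγ))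
    ((hk.comp hφ hmem).congr fun y hy => by
      obtain ⟨x, hx, rfl⟩ := hψ.mem_img.mp hy
      show _ = φ (k (ψ x))
      rw [hkl x hx, autFun_mul _ _ (hψ.mem_S hx), ← eψ x hx]
      have hgT : g x ∈ T := eψ x hx ▸ autFun_mem γ (hψ.mem_S hx)
      rw [autFun_mul _ _ hgT, ea _ hgT, ← he x hx, eφ x hx, autFun_inv_apply' β (hφ.mem_S hx)])
  refine ⟨hδ, a, ?_, ea⟩
  have := K.mul_mem (K.mul_mem hβ h1) (K.inv_mem hγ)
  rwa [show β * (β⁻¹ * a * γ) * γ⁻¹ = a by group] at this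

theorem forced_topGroup (hS : IsPGroup p S) (hE : E.IsWeaklyNormalIn F p)
    (hK : IsKernel F E p K) :
    Forced F p (sites F E) (topGroup F K hE.2.2.2.1.1) := by
  intro δ hδ R hR g hg hG e
  have hRS : R ≤ S := hR.1.1
  refine mem_topGroup hS hE hK hδ hR.2 (f := g)
    ((isMapClass_psi hS hE hK).mono R (R ⊓ T) g hg inf_le_left (hG _ (isGenClass_psi hS hE hK)))
    (g := id) (psi_of_isMap (isMap_id inf_le_right)) fun x hx => (e x hx.1).symm

/-- The subsystem. -/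
def charSystem (hS : IsPGroup p S) (hE : E.IsWeaklyNormalIn F p) (K : Subgroup (MulAut T)) :
    FusionSystem S :=
  sub (F := F) (p := p) (H := topGroup F K hE.2.2.2.1.1) topGroup_le (siteFam_sites hS hE)

/-- A map on a centric subgroup of `T` factoring through `K` is in the subsystem. -/
theorem isMap_charSystem (hS : IsPGroup p S) (hE : E.IsWeaklyNormalIn F p) (hK : IsKernel F E p K)
    {R : Subgroup Ω} (hR : E.IsCentric R) {f : Ω → Ω} (hf : IsMap F R f) (hΨ : Psi E K R f) :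
    IsMap (charSystem hS hE K) R f := by
  obtain ⟨δ, hδ, f₀, hf₀, hG, he⟩ := factor (p := p) hS hE.2.1 (siteFam_sites hS hE) hf
  exact (isMap_sub_iff topGroup_le (siteFam_sites hS hE)).mpr
    ⟨hf, δ, mem_topGroup hS hE hK hδ hR hΨ (hG _ (isGenClass_psi hS hE hK)) he, f₀, hf₀, hG, he⟩

theorem le_charSystem (hS : IsPGroup p S) (hE : E.IsWeaklyNormalIn F p)
    (hK : IsKernel F E p K) : E.IsSubsystemOf (charSystem hS hE K) := by
  have hT := hE.2.2.2.1
  haveI := finite_of_le hT.1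
  have hTp : IsPGroup p T := hS.of_injective _ (Subgroup.inclusion_injective hT.1)
  have hbase : ∀ (R : Subgroup Ω) (f : Ω → Ω), E.IsCentric R → IsMap E R f →
      IsMap (charSystem hS hE K) R f := fun R f hR hf =>
    isMap_charSystem hS hE hK hR (isMap_of_sub hE.2.2.1 hf) (psi_of_isMap hf)
  have hcls : IsMapClass E (IsMap (charSystem hS hE K)) :=
    { conj := fun P g hP hg => isMap_conj (hP.trans hT.1) (hT.1 hg)
      congr := fun P f f' _ e h => h.congr e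
      mono := fun P R f _ hR h => h.mono hR
      comp := fun P Q f g _ _ hfQ hf hg => hf.comp hg hfQ
      inv := by
        intro P f g _ hg hl hf
        obtain ⟨k, hk, -, hkl, -⟩ := hf.exists_inv
        refine hk.congr fun y hy => ?_
        obtain ⟨x, hx, rfl⟩ := hf.mem_img.mp hy
        rw [hl x hx, hkl x hx] }
  intro P φ hφ
  refine IsMap.mem_toFun' (alperin_radical hTp hE.1 hcls (fun f hf => hbase T f (centric_top hE.2.2) hf)
    (fun Q _ hQn hQc _ _ α hα => hbase Q _ hQc ((isMap_autFun hQn.1).mpr hα)) (isMap_of_mem hφ))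

theorem autGroup_charSystem (hS : IsPGroup p S) (hE : E.IsWeaklyNormalIn F p)
    (hK : IsKernel F E p K) :
    (charSystem hS hE K).autGroup S = topGroup F K hE.2.2.2.1.1 := by
  have hℋ := siteFam_sites (p := p) hS hE
  refine le_antisymm (fun α hα => ?_) fun δ hδ =>
    (isMap_autFun le_rfl).mp (isMap_sub_top topGroup_le hℋ hδ)
  obtain ⟨-, δ, hδ, f₀, hf₀, hG, he⟩ :=
    (isMap_sub_iff topGroup_le hℋ).mp ((isMap_autFun le_rfl).mpr hα)
  have hαF := autGroup_le (sub_le topGroup_le hℋ) le_rfl hα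
  have h1 : δ⁻¹ * α ∈ topGroup F K hE.2.2.2.1.1 := forced_topGroup hS hE hK _
    (Subgroup.mul_mem _ (Subgroup.inv_mem _ hδ.1) hαF) S hℋ.top f₀ hf₀ hG fun x hx => by
      rw [autFun_mul _ _ hx, he x hx, autFun_inv_apply' δ (hf₀.mem_S hx)]
  simpa using Subgroup.mul_mem _ hδ h1

/-- An automorphism of `T` normalizing `Aut_S(T)` extends to `S`. -/
theorem exists_extension (hS : IsPGroup p S) (hF : F.IsSaturated p) (hT : F.StronglyClosed T)
    {ν : MulAut T} (hν : ν ∈ F.autGroup T)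
    (hn : ∀ β ∈ autInducedBy S T, ν * β * ν⁻¹ ∈ autInducedBy S T) :
    ∃ δ ∈ F.autGroup S, ∀ t ∈ T, autFun ν t = autFun δ t := by
  haveI := finite_of_le hT.1
  have hTn : F.IsFullyNormalized T := ⟨hT.1, fun Q hQ => by
    obtain ⟨f, hf, rfl⟩ := isConj_iff.mp hQ
    rw [img_eq_of_apply hf le_rfl fun x hx => stronglyClosed_apply hT hf hx hx]⟩
  obtain ⟨-, -, hrec⟩ := fullyNormalized_props hS hF hTn
  have hm := (isMap_autFun hT.1).mpr hν
  obtain ⟨g, hg, hge⟩ := receptive_extend hrec hm (img_autFun ν)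
  have hext : S ≤ extSub S T (autFun ν) := fun s hs => by
    have hsn := normalizes_of_stronglyClosed hT hs
    obtain ⟨h, hh, eh⟩ := mem_autInducedBy.mp (hn _ (conjAut_mem_autInducedBy hsn hs))
    refine mem_extSub.mpr ⟨hs, hsn, h, hh, fun x hx => ?_⟩
    have := eh ⟨autFun ν x, autFun_mem ν hx⟩
    rw [← this, ← autFun_apply (ν * conjAut T s hsn * ν⁻¹) ⟨_, autFun_mem ν hx⟩,
      ← autFun_mul _ ν hx, inv_mul_cancel_right, autFun_mul _ _ hx, autFun_apply_mem _ hx,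
      conjAut_apply]
  have hgS := hg.mono hext
  obtain ⟨δ, hδ, hδe⟩ := hgS.exists_aut (Subgroup.eq_of_le_of_card_ge hgS.img_le hgS.card_img.ge)
  exact ⟨δ, hδ, fun t ht => (hge t ht).symm.trans (hδe t (hT.1 ht)).symm⟩

/-- The subsystem is proper. -/
theorem charSystem_proper (hS : IsPGroup p S) (hE : E.IsWeaklyNormalIn F p)
    (hK : IsKernel F E p K) (hne : ¬ F.autGroup T ≤ K) :
    ¬ ∀ P : Subgroup Ω, (charSystem hS hE K).Hom P = F.Hom P := by
  intro hall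
  have hT := hE.2.2.2.1
  haveI := finite_of_le hT.1
  have hTn : F.IsFullyNormalized T := ⟨hT.1, fun Q hQ => by
    obtain ⟨f, hf, rfl⟩ := isConj_iff.mp hQ
    rw [img_eq_of_apply hf le_rfl fun x hx => stronglyClosed_apply hT hf hx hx]⟩
  obtain ⟨V, hV⟩ := (fullyNormalized_props hS hE.2.1 hTn).2.1.2
  set N : Subgroup (F.autGroup T) := K.subgroupOf (F.autGroup T)
  haveI : N.Normal := ⟨fun b hb a => hK.normal a a.2 b hb⟩
  have hVN : (V : Subgroup (F.autGroup T)) ≤ N := fun x hx => by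
    obtain ⟨k, hk⟩ := V.2 ⟨x, hx⟩
    have hk' : (x : MulAut T) ^ p ^ k = 1 := by
      simpa using congrArg (fun y : (V : Subgroup (F.autGroup T)) => ((y : F.autGroup T) : MulAut T)) hk
    exact hK.root _ x.2 k (hk'.symm ▸ K.one_mem)
  have htop : Subgroup.normalizer ((V : Subgroup (F.autGroup T)) : Set (F.autGroup T)) ⊔ N = ⊤ :=
    Sylow.normalizer_sup_eq_top' V hVN
  refine hne fun α hα => ?_
  have hmem : (⟨α, hα⟩ : F.autGroup T) ∈
      Subgroup.normalizer ((V : Subgroup (F.autGroup T)) : Set (F.autGroup T)) ⊔ N := by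
    rw [htop]; exact Subgroup.mem_top _
  obtain ⟨ν, hν, b, hb, eab⟩ := Subgroup.mem_sup_of_normal_right.mp hmem
  obtain ⟨δ, hδ, eδ⟩ := exists_extension hS hE.2.1 hT ν.2 fun β hβ => by
    have hb' : (⟨β, autInducedBy_le hT.1 hβ⟩ : F.autGroup T) ∈ (V : Subgroup (F.autGroup T)) := by
      rw [hV]; exact hβ
    have h := (Subgroup.mem_normalizer_iff.mp hν _).mp hb'
    rw [hV] at h
    exact h
  have hδS : δ ∈ (charSystem hS hE K).autGroup S := by
    obtain ⟨φ, hφ, e⟩ := isMap_top hδ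
    exact (isMap_autFun le_rfl).mp ⟨φ, (hall S).ge hφ, e⟩
  rw [autGroup_charSystem hS hE hK] at hδS
  obtain ⟨-, β, hβ, eβ⟩ := hδS
  have hνβ : (ν : MulAut T) = β :=
    autFun_eq' fun t ht => (eδ t ht).trans (eβ t ht).symm
  have := K.mul_mem (hνβ ▸ hβ : (ν : MulAut T) ∈ K) hb
  rw [show α = (ν : MulAut T) * (b : MulAut T) from (congrArg Subtype.val eab).symm]
  exact this
where
  autFun_eq' {a b : MulAut T} (h : ∀ t ∈ T, autFun a t = autFun b t) : a = b :=
    MulEquiv.ext fun t => Subtype.ext (by rw [← autFun_apply a t, ← autFun_apply b t, h t t.2])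

end Cfsg.Lib.Fusion.CharSub
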