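import Cfsg.Agent.Fusion.ModelTools
import Cfsg.Agent.Fusion.GroupSystem
import Cfsg.Agent.Fusion.Factor
import Cfsg.Agent.Fusion.NormalCriteria

/-!
Systems realized on a Sylow subgroup.
-/

set_option autoImplicit false

namespace Cfsg.Lib.Fusion

open Cfsg Cfsg.FusionSystem

variable {Ω : Type*} [Group Ω] {T : Subgroup Ω} {E : FusionSystem T} {p : ℕ}
  {L : Type*} [Group L] {ι : T →* L}

/-- A system realized on a Sylow subgroup is saturated. -/
theorem saturated_of_realized [Finite T] [Finite L] [Fact p.Prime] (h : E.IsRealizedBy ι)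
    (hU : ∃ U : Sylow p L, (U : Subgroup L) = ι.range) : E.IsSaturated p := by
  obtain ⟨U, hU⟩ := hU
  let e := MonoidHom.ofInjective h.1
  let θ : (U : Subgroup L) →* Ω :=
    T.subtype.comp (e.symm.toMonoidHom.comp (Subgroup.inclusion hU.le))
  have hθι : ∀ (u : (U : Subgroup L)) (t : T), θ u = t ↔ (u : L) = ι t := by
    intro u t
    constructor
    · intro hu
      have hu' : e.symm (Subgroup.inclusion hU.le u) = t := Subtype.ext hu
      exact (congrArg Subtype.val (e.apply_symm_apply (Subgroup.inclusion hU.le u))).symm.trans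
        (congrArg (fun x : T => ι x) hu')
    · intro hu
      have hu' : Subgroup.inclusion hU.le u = e t := Subtype.ext hu
      exact congrArg Subtype.val ((congrArg e.symm hu').trans (e.symm_apply_apply t))
  have hιU : ∀ t : T, ι t ∈ (U : Subgroup L) := fun t => hU.ge ⟨t, rfl⟩
  have hq : ∀ t : T, qmap θ (ι t) = t := fun t => by
    rw [qmap_apply (hιU t)]; exact (hθι _ t).mpr rfl
  have hqT : ∀ u ∈ (U : Subgroup L), ∃ t : T, ι t = u ∧ qmap θ u = t := fun u hu => by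
    obtain ⟨t, rfl⟩ := hU.le hu
    exact ⟨t, rfl, hq t⟩
  have hrange : θ.range = T := le_antisymm (fun _ ⟨u, hu⟩ => hu ▸ Subtype.coe_prop _)
    fun t ht => ⟨⟨ι ⟨t, ht⟩, hιU _⟩, (hθι _ ⟨t, ht⟩).mpr rfl⟩
  have hclosed : KerClosed (groupFusionSystem (U : Subgroup L)) θ := by
    intro P f hf x hx h1
    obtain ⟨t, rfl, ht⟩ := hqT x (hf.le hx)
    have : t = 1 := Subtype.ext (ht.symm.trans h1)
    rw [this, map_one, hf.map_one, qmap_one]
  have hquot : IsQuot (groupFusionSystem (U : Subgroup L)) θ E := by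
    refine ⟨hrange, hclosed, fun P' f' => ⟨fun hf' => ?_, ?_⟩⟩
    · obtain ⟨g, hg⟩ := exists_elt_of_isMap h hf'
      refine ⟨hf'.le, fun u => g * u * g⁻¹,
        isMap_group_iff.mpr ⟨preimageAlong_le _, fun u hu => ?_, g, fun _ _ => rfl⟩, fun u hu => ?_⟩
      all_goals
        obtain ⟨huU, huP⟩ := mem_preimageAlong.mp hu
        obtain ⟨t, rfl, ht⟩ := hqT u huU
        rw [ht] at huP
      · rw [← hg t huP ⟨f' t, hf'.mem_S huP⟩ rfl]
        exact hιU _
      · show f' (qmap θ (ι t)) = qmap θ (g * ι t * g⁻¹)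
        rw [← hg t huP ⟨f' t, hf'.mem_S huP⟩ rfl, hq, hq]
    · rintro ⟨hP', f, hf, he⟩
      obtain ⟨-, hfU, g, hg⟩ := isMap_group_iff.mp hf
      have hpre : ∀ t : T, (t : Ω) ∈ P' → ι t ∈ preimageAlong θ P' := fun t ht =>
        mem_preimageAlong.mpr ⟨hιU t, by rw [hq]; exact ht⟩
      obtain ⟨k, hk, hkT, hke⟩ := exists_isMap_of_elt h hP' g fun t ht => by
        rw [← hU, ← hg _ (hpre t ht)]
        exact hfU _ (hpre t ht)
      refine hk.congr fun x hx => ?_
      have h1 := he _ (hpre ⟨x, hP' hx⟩ hx)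
      rw [hq] at h1
      rw [h1, hg _ (hpre ⟨x, hP' hx⟩ hx), ← (hke ⟨x, hP' hx⟩ hx ⟨k x, hkT x hx⟩).mp rfl, hq]
  exact hquot.saturated U.2 (saturated_group U)

/-- A system with a model is constrained: the core of the model gives a normal centric subgroup. -/
theorem constrained_of_model [Finite T] [Fact p.Prime] (hT : IsPGroup p T) (hM : E.IsModel p L ι) :
    E.IsConstrained p := by
  obtain ⟨hL, h, hU, hcen⟩ := hM
  haveI := hL
  have hsat := saturated_of_realized h hU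
  refine ⟨hsat, ((pCore p L).comap ι).map T.subtype, ?_⟩
  set Q := ((pCore p L).comap ι).map T.subtype
  have hQT : Q ≤ T := Subgroup.map_subtype_le _
  haveI := finite_of_le hQT
  have hmem : ∀ t : T, (t : Ω) ∈ Q ↔ ι t ∈ pCore p L := fun t =>
    ⟨fun ⟨w, hw, e⟩ => Subtype.ext e ▸ hw, fun ht => ⟨t, ht, rfl⟩⟩
  have hQn : E.IsNormal Q := by
    refine isNormal_of_extendsWith hQT fun P f hf => ?_
    obtain ⟨g, hg⟩ := exists_elt_of_isMap h hf
    have hle : ∀ x ∈ P ⊔ Q, x ∈ T := sup_le hf.le hQT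
    have hsup : ((P ⊔ Q).subgroupOf T).map ι ≤ ι.range.comap (MulAut.conj g).toMonoidHom := by
      rw [Subgroup.subgroupOf_sup hf.le hQT, Subgroup.map_sup]
      refine sup_le ?_ ?_
      · rintro _ ⟨t, ht, rfl⟩
        exact ⟨⟨f t, hf.mem_S ht⟩, hg t ht _ rfl⟩
      · rintro _ ⟨t, ht, rfl⟩
        exact pCore_le_range hU ((Cfsg.Lib.Components.pCore_normal' p).conj_mem _ ((hmem t).mp ht) g)
    obtain ⟨k, hk, -, hke⟩ := exists_isMap_of_elt h hle g fun t ht => hsup ⟨t, ht, rfl⟩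
    refine ⟨k, hk, fun x hx => ?_, ?_⟩
    · exact ((hke ⟨x, hf.le hx⟩ (Subgroup.mem_sup_left hx) ⟨f x, hf.mem_S hx⟩).mpr
        (hg ⟨x, hf.le hx⟩ hx _ rfl)).symm
    · refine img_eq_of_apply hk le_sup_right fun x hx => ?_
      refine (hmem ⟨k x, hk.mem_S (Subgroup.mem_sup_right hx)⟩).mpr ?_
      rw [(hke ⟨x, hQT hx⟩ (Subgroup.mem_sup_right hx) ⟨k x, _⟩).mp rfl]
      exact (Cfsg.Lib.Components.pCore_normal' p).conj_mem _ ((hmem ⟨x, hQT hx⟩).mp hx) g
  refine ⟨hQn, centric_of_fullyCentralized hT hsat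
    (fullyNormalized_props hT hsat (fullyNormalized_of_isNormal hQn)).1 fun x hx => ?_⟩
  refine (hmem ⟨x, hx.1⟩).mpr (hcen (Subgroup.mem_centralizer_iff.mpr fun q hq => ?_))
  obtain ⟨t, rfl⟩ := pCore_le_range hU hq
  rw [← map_mul, ← map_mul]
  exact congrArg ι (Subtype.ext (Subgroup.mem_centralizer_iff.mp hx.2 t ((hmem t).mpr hq)))

end Cfsg.Lib.Fusion
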