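import Cfsg.Agent.Fusion.Invariant
import Cfsg.Agent.Fusion.Realized

/-!
The system of a normal subgroup is a normal subsystem.
-/

set_option autoImplicit false

namespace Cfsg.Lib.Fusion

open Cfsg Cfsg.FusionSystem

variable {G : Type*} [Group G] {p : ℕ}

/-- The inclusion realizes the system of a subgroup. -/
theorem realizedBy_inclusion {H T : Subgroup G} (hTH : T ≤ H) :
    (fusionSystemOfSubgroup H T hTH).IsRealizedBy (Subgroup.inclusion hTH) := by
  refine ⟨Subgroup.inclusion_injective hTH, fun P hP φ hφ => ⟨?_, ?_⟩⟩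
  · rintro ⟨-, -, g, hg, e⟩
    exact ⟨⟨g, hg⟩, fun x => Subtype.ext (e x)⟩
  · rintro ⟨g, e⟩
    exact ⟨hP, hφ, g, g.2, fun x => congrArg Subtype.val (e x)⟩

/-- The system of a subgroup on one of its maximal `p`-subgroups is saturated. -/
theorem saturated_subgroupSystem [Finite G] [Fact p.Prime] {H T : Subgroup G}
    (h : IsMaxPIn p T H) : (fusionSystemOfSubgroup H T h.1).IsSaturated p := by
  obtain ⟨R, hR⟩ := (sylow_subgroupOf_iff h.1 h.2.1).mpr h
  exact saturated_of_realized (realizedBy_inclusion h.1)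
    ⟨R, hR.trans (Subgroup.inclusion_range h.1).symm⟩

variable [Finite G] [Fact p.Prime] (S : Sylow p G) (H : Subgroup G) [hH : H.Normal]

/-- A Sylow subgroup meets a normal subgroup in a Sylow subgroup. -/
theorem isMaxPIn_inf_normal : IsMaxPIn p ((S : Subgroup G) ⊓ H) H := by
  refine ⟨inf_le_right, isPGroup_of_le_sylow S inf_le_left, fun U hU hUp hle => ?_⟩
  obtain ⟨g, hg⟩ := exists_conj_le_sylow S hUp
  have h1 := Subgroup.card_le_of_le
    (map_conj_le (g := g) (B := (S : Subgroup G) ⊓ H)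
      fun u hu => Subgroup.mem_inf.mpr ⟨hg u hu, hH.conj_mem u (hU hu) g⟩)
  rw [card_map_conj] at h1
  exact (Subgroup.eq_of_le_of_card_ge hle h1).symm

theorem stronglyClosed_inf_normal :
    (groupFusionSystem (S : Subgroup G)).StronglyClosed ((S : Subgroup G) ⊓ H) := by
  refine ⟨inf_le_left, fun R hR φ hφ x => ?_⟩
  obtain ⟨-, hS, g, e⟩ := hφ
  exact ⟨hS x, by rw [e]; exact hH.conj_mem x (hR x.2).2 g⟩

omit [Fact p.Prime] in
theorem mem_normalizer_of_conj_le' {A : Subgroup G} {g : G}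
    (h : ∀ a ∈ A, g * a * g⁻¹ ∈ A) : g ∈ Subgroup.normalizer (A : Set G) := by
  have h1 : A.map (MulAut.conj g).toMonoidHom = A :=
    Subgroup.eq_of_le_of_card_ge (map_conj_le h) (card_map_conj A g).ge
  rw [Subgroup.mem_normalizer_iff]
  refine fun y => ⟨h y, fun hy => ?_⟩
  rw [← h1] at hy
  obtain ⟨z, hz, hzy⟩ := hy
  rwa [← (MulAut.conj g).injective hzy]

theorem fullyNormalized_inf_normal :
    (groupFusionSystem (S : Subgroup G)).IsFullyNormalized ((S : Subgroup G) ⊓ H) := by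
  refine ⟨inf_le_left, fun Q hQ => ?_⟩
  have hSN : (S : Subgroup G) ≤ normalizerIn (S : Subgroup G) ((S : Subgroup G) ⊓ H) :=
    fun s hs => ⟨hs, mem_normalizer_of_conj_le' fun a ha =>
      ⟨mul_mem (mul_mem hs ha.1) (((S : Subgroup G).inv_mem hs)), hH.conj_mem a ha.2 s⟩⟩
  exact Subgroup.card_le_of_le (inf_le_left.trans hSN)

theorem isInvariantIn_normalSubgroup :
    (fusionSystemOfSubgroup H ((S : Subgroup G) ⊓ H) inf_le_right).IsInvariantIn
      (groupFusionSystem (S : Subgroup G)) := by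
  set T : Subgroup G := (S : Subgroup G) ⊓ H with hTdef
  refine ⟨?_, stronglyClosed_inf_normal S H, ?_, ?_⟩
  · rintro P φ ⟨hP, hT, g, -, e⟩
    exact ⟨hP.trans inf_le_left, fun x => (hT x).1, g, e⟩
  · rintro P hPT φ ⟨-, hφT, h, hhH, eh⟩ α hα
    rw [autGroup_group inf_le_left, mem_autInducedBy] at hα
    obtain ⟨g, -, eg⟩ := hα
    set Q := (P.subgroupOf T).map (T.subtype.comp α.toMonoidHom)
    have hQ : ∀ y ∈ Q, ∃ x : P, ∀ hx : (x : G) ∈ T, y = ((α ⟨x, hx⟩ : T) : G) := by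
      rintro _ ⟨x, hx, rfl⟩
      exact ⟨⟨x, hx⟩, fun _ => rfl⟩
    have hQT : Q ≤ T := by
      rintro _ ⟨x, -, rfl⟩
      exact (α x).2
    have hval : ∀ (x : P),
        g * h * g⁻¹ * ((α ⟨x, hPT x.2⟩ : T) : G) * (g * h * g⁻¹)⁻¹ =
          ((α ⟨φ x, hφT x⟩ : T) : G) := by
      intro x
      rw [eg, eg]
      show g * h * g⁻¹ * (g * (x : G) * g⁻¹) * (g * h * g⁻¹)⁻¹ = g * φ x * g⁻¹
      rw [eh]
      group
    refine ⟨conjHom Q (g * h * g⁻¹),
      ⟨hQT, fun y => ?_, g * h * g⁻¹, hH.conj_mem h hhH g, fun _ => rfl⟩, fun x _ _ => hval x⟩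
    obtain ⟨x, hx⟩ := hQ y y.2
    show g * h * g⁻¹ * (y : G) * (g * h * g⁻¹)⁻¹ ∈ T
    rw [hx (hPT x.2), hval x]
    exact SetLike.coe_mem _
  · rintro P hPT φ ⟨-, hφS, g, eg⟩
    obtain ⟨h, hhH, hh⟩ := (isMaxPIn_inf_normal S H).exists_conj_le
      (U := T.map (MulAut.conj g).toMonoidHom)
      (map_conj_le fun t ht => hH.conj_mem t ht.2 g) ((isPGroup_of_le_sylow S inf_le_left).map _)
    have hn : h * g ∈ Subgroup.normalizer (T : Set G) := mem_normalizer_of_conj_le'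
      fun t ht => by
        have := hh _ ⟨t, ht, rfl⟩
        rwa [show h * g * t * (h * g)⁻¹ = h * (MulAut.conj g).toMonoidHom t * h⁻¹ by
          simp only [MulEquiv.coe_toMonoidHom, MulAut.conj_apply]; group]
    set n := h * g
    refine ⟨conjAut T n hn, by
      rw [autGroup_group inf_le_left]; exact mem_autInducedBy.mpr ⟨n, trivial, fun _ => rfl⟩, ?_⟩
    refine ⟨conjHom P (n⁻¹ * g), ⟨hPT, fun x => ?_, n⁻¹ * g, ?_, fun _ => rfl⟩, fun x hx => ?_⟩
    · have h1 := conj_mem_of_mem_normalizer (Subgroup.inv_mem _ hn)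
        (⟨hφS x, by rw [eg]; exact hH.conj_mem x (hPT x.2).2 g⟩ : φ x ∈ T)
      rw [eg] at h1
      show n⁻¹ * g * (x : G) * (n⁻¹ * g)⁻¹ ∈ T
      convert h1 using 1
      group
    · rw [show n⁻¹ * g = g⁻¹ * h⁻¹ * g from by simp only [n]; group]
      simpa using hH.conj_mem h⁻¹ (InvMemClass.inv_mem hhH) g⁻¹
    · show φ x = n * (n⁻¹ * g * (x : G) * (n⁻¹ * g)⁻¹) * n⁻¹
      rw [eg]
      group

/-- The fusion system of a normal subgroup is a normal subsystem. -/
theorem isNormalIn_normalSubgroup :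
    (fusionSystemOfSubgroup H ((S : Subgroup G) ⊓ H) inf_le_right).IsNormalIn
      (groupFusionSystem (S : Subgroup G)) p := by
  set T : Subgroup G := (S : Subgroup G) ⊓ H with hTdef
  refine ⟨⟨saturated_subgroupSystem (isMaxPIn_inf_normal S H), saturated_group S,
    isInvariantIn_normalSubgroup S H⟩, fun α hα => ?_⟩
  obtain ⟨-, -, h, hhH, eh⟩ := isMap_subgroup_iff.mp ((isMap_autFun le_rfl).mpr hα)
  have hN : h ∈ Subgroup.normalizer (T : Set G) :=
    mem_normalizer_of_conj_le' fun t ht => eh t ht ▸ autFun_mem α ht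
  have hcen := (fullyCentralized_group_iff S (inf_le_left : T ≤ _)).mp
    (fullyCentralized_of_fullyNormalized_group S (fullyNormalized_inf_normal S H))
  set C := centralizerIn (S : Subgroup G) T with hCdef
  have hZ : ∀ {n c : G}, n ∈ Subgroup.normalizer (T : Set G) →
      c ∈ Subgroup.centralizer (T : Set G) → n * c * n⁻¹ ∈ Subgroup.centralizer (T : Set G) := by
    intro n c hn hc
    rw [Subgroup.mem_centralizer_iff]
    intro x hx
    have hx' := conj_mem_of_mem_normalizer (Subgroup.inv_mem _ hn) hx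
    rw [inv_inv] at hx'
    calc x * (n * c * n⁻¹) = n * (n⁻¹ * x * n * c) * n⁻¹ := by group
      _ = n * (c * (n⁻¹ * x * n)) * n⁻¹ := by rw [Subgroup.mem_centralizer_iff.mp hc _ hx']
      _ = _ := by group
  set K : Subgroup G := H ⊓ Subgroup.centralizer (T : Set G) with hKdef
  have hCK : C ≤ Subgroup.normalizer (K : Set G) := fun c hc =>
    mem_normalizer_of_conj_le' fun a ha =>
      ⟨hH.conj_mem a ha.1 c, hZ (Subgroup.centralizer_le_normalizer (T : Set G) hc.2) ha.2⟩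
  have hmax : IsMaxPIn p C (C ⊔ K) :=
    ⟨le_sup_left, hcen.2.1,
      fun U hU hUp hle => hcen.2.2 U (hU.trans (sup_le hcen.1 inf_le_right)) hUp hle⟩
  obtain ⟨m, hm, hmC⟩ := hmax.exists_conj_le (U := C.map (MulAut.conj h).toMonoidHom)
    (map_conj_le fun c hc => by
      rw [show h * c * h⁻¹ = c * (c⁻¹ * (h * c * h⁻¹)) by group]
      refine mul_mem (Subgroup.mem_sup_left hc) (Subgroup.mem_sup_right ⟨?_,
        mul_mem (Subgroup.inv_mem _ hc.2) (hZ hN hc.2)⟩)
      rw [show c⁻¹ * (h * c * h⁻¹) = c⁻¹ * h * c⁻¹⁻¹ * h⁻¹ by group]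
      exact mul_mem (hH.conj_mem h hhH c⁻¹) (H.inv_mem hhH))
    (hcen.2.1.map _)
  obtain ⟨c₁, hc₁, m₁, hm₁, rfl⟩ : ∃ c₁ ∈ C, ∃ m₁ ∈ K, c₁ * m₁ = m := by
    rw [← SetLike.mem_coe, Subgroup.coe_mul_of_left_le_normalizer_right C K hCK] at hm
    exact Set.mem_mul.mp hm
  set k := m₁ * h with hkdef
  have hk : k ∈ H := mul_mem hm₁.1 hhH
  have hkT : ∀ x ∈ T, k * x * k⁻¹ = autFun α x := by
    intro x hx
    have hcomm := Subgroup.mem_centralizer_iff.mp hm₁.2 _ (autFun_mem α hx)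
    rw [eh x hx] at hcomm ⊢
    calc k * x * k⁻¹ = m₁ * (h * x * h⁻¹) * m₁⁻¹ := by simp only [k]; group
      _ = h * x * h⁻¹ * m₁ * m₁⁻¹ := by rw [hcomm]
      _ = _ := by group
  have hkC : ∀ c ∈ C, k * c * k⁻¹ ∈ C := by
    intro c hc
    have := mul_mem (mul_mem (InvMemClass.inv_mem hc₁) (hmC _ ⟨c, hc, rfl⟩)) hc₁
    simp only [MulEquiv.coe_toMonoidHom, MulAut.conj_apply] at this
    convert this using 1
    simp only [k]
    group
  have hkTC : k ∈ Subgroup.normalizer ((T ⊔ C : Subgroup G) : Set G) :=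
    mem_normalizer_of_conj_le' fun a ha => by
      have h1 : (T ⊔ C).map (MulAut.conj k).toMonoidHom ≤ T ⊔ C := by
        rw [Subgroup.map_sup]
        exact sup_le (le_trans (map_conj_le fun t ht => by rw [hkT t ht]; exact autFun_mem α ht)
          le_sup_left) (le_trans (map_conj_le hkC) le_sup_right)
      exact h1 ⟨a, ha, rfl⟩
  refine ⟨conjAut (T ⊔ C) k hkTC, ?_, fun x => ?_, fun c hc => ?_⟩
  · rw [autGroup_group (show T ⊔ C ≤ (S : Subgroup G) from sup_le inf_le_left inf_le_left)]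
    exact mem_autInducedBy.mpr ⟨k, trivial, fun _ => rfl⟩
  · rw [← autFun_apply α x, ← hkT x x.2]
    rfl
  · show (c : G)⁻¹ * (k * c * k⁻¹) ∈ T ⊓ Subgroup.centralizer (T : Set G)
    have hkc : (c : G)⁻¹ * (k * c * k⁻¹) ∈ C := mul_mem (InvMemClass.inv_mem hc) (hkC c hc)
    refine ⟨⟨hkc.1, ?_⟩, hkc.2⟩
    rw [show (c : G)⁻¹ * (k * c * k⁻¹) = (c : G)⁻¹ * k * ((c : G)⁻¹)⁻¹ * k⁻¹ by group]
    exact mul_mem (hH.conj_mem k hk _) (H.inv_mem hk)

end Cfsg.Lib.Fusion
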