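import Cfsg.Agent.Fusion.SystemIso
import Cfsg.Agent.Fusion.NormalSubgroupSystem

/-!
Invariance of a subsystem on a strongly closed subgroup is the same as strong invariance.
-/

set_option autoImplicit false

namespace Cfsg.Lib.Fusion

open Cfsg Cfsg.FusionSystem

variable {Ω : Type*} [Group Ω] {S T : Subgroup Ω} {F : FusionSystem S} {E : FusionSystem T} {p : ℕ}

/-- Strong invariance, on functions. -/
def StrongInv (E : FusionSystem T) (F : FusionSystem S) : Prop :=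
  ∀ (P Q : Subgroup Ω), P ≤ Q → Q ≤ T → ∀ f, IsMap E P f → (∀ x ∈ P, f x ∈ Q) →
    ∀ g, IsMap F Q g → ∀ h : Ω → Ω, (∀ x ∈ P, h (g x) = g (f x)) → IsMap E (img P g) h

/-- The maps satisfying the Frattini condition. -/
def FrattiniMap (E : FusionSystem T) (F : FusionSystem S) (P : Subgroup Ω) (f : Ω → Ω) : Prop :=
  ∃ α ∈ F.autGroup T, ∃ f₀, IsMap E P f₀ ∧ ∀ x ∈ P, f x = autFun α (f₀ x)

theorem strongInv_of_invariant (hE : E.IsInvariantIn F) : StrongInv E F := by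
  intro P Q hPQ hQ f hf hfQ g hg h hh
  have hT : T ≤ S := hE.2.1.1
  obtain ⟨a, ha, g₀, hg₀, he⟩ := invariant_frattiniT hE hQ hg
  obtain ⟨d, hd, -, hdl, -⟩ := (hg₀.mono hPQ).exists_inv
  have hdP : ∀ y ∈ img P g₀, d y ∈ P := fun y hy => by
    obtain ⟨x, hx, rfl⟩ := (hg₀.mono hPQ).mem_img.mp hy
    rwa [hdl x hx]
  have h1 : IsMap E (img P g₀) (g₀ ∘ (f ∘ d)) :=
    (hd.comp hf hdP).comp hg₀ fun y hy => hfQ _ (hdP y hy)
  have h2 := invariant_transportT hE hT h1 ha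
  have hle : img P g ≤ img (img P g₀) (autFun a) := IsMap.img_le_iff.mpr fun x hx => by
    rw [he x (hPQ hx)]
    exact IsMap.apply_mem_img (IsMap.apply_mem_img hx)
  refine (h2.mono hle).congr fun y hy => ?_
  obtain ⟨x, hx, rfl⟩ := (hg.mono hPQ).mem_img.mp hy
  rw [hh x hx, he _ (hfQ x hx)]
  show _ = autFun a (g₀ (f (d (autFun a⁻¹ (g x)))))
  rw [he x (hPQ hx), autFun_inv_apply' a (hg₀.mem_S (hPQ hx)), hdl x hx]

namespace FrattiniMap

variable {P Q : Subgroup Ω} {f g : Ω → Ω}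

theorem mono (h : FrattiniMap E F P f) (hQ : Q ≤ P) : FrattiniMap E F Q f :=
  let ⟨a, ha, f₀, hf₀, e⟩ := h
  ⟨a, ha, f₀, hf₀.mono hQ, fun x hx => e x (hQ hx)⟩

theorem congr (h : FrattiniMap E F P f) (e' : ∀ x ∈ P, g x = f x) : FrattiniMap E F P g :=
  let ⟨a, ha, f₀, hf₀, e⟩ := h
  ⟨a, ha, f₀, hf₀, fun x hx => (e' x hx).trans (e x hx)⟩

theorem of_isMap (h : IsMap E P f) : FrattiniMap E F P f :=
  ⟨1, one_mem _, f, h, fun x hx => by rw [autFun_apply_mem _ (h.mem_S hx)]; rfl⟩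

theorem comp (hX : StrongInv E F) (hT : T ≤ S) (hf : FrattiniMap E F P f)
    (hg : FrattiniMap E F Q g) (hPQ : ∀ x ∈ P, f x ∈ Q) : FrattiniMap E F P (g ∘ f) := by
  obtain ⟨a, ha, f₀, hf₀, ef⟩ := hf
  obtain ⟨b, hb, g₀, hg₀, eg⟩ := hg
  have h1 : IsMap E (img Q (autFun a⁻¹)) (autFun a⁻¹ ∘ g₀ ∘ autFun a) :=
    hX Q T hg₀.le le_rfl g₀ hg₀ (fun x hx => hg₀.mem_S hx) _
      ((isMap_autFun hT).mpr (Subgroup.inv_mem _ ha)) _ fun x hx => by
        show autFun a⁻¹ (g₀ (autFun a (autFun a⁻¹ x))) = _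
        rw [autFun_inv_apply a (hg₀.le hx)]
  refine ⟨b * a, Subgroup.mul_mem _ hb ha, _, hf₀.comp h1 fun x hx => ?_, fun x hx => ?_⟩
  · rw [← autFun_inv_apply' a (hf₀.mem_S hx), ← ef x hx]
    exact IsMap.apply_mem_img (hPQ x hx)
  · show g (f x) = autFun (b * a) (autFun a⁻¹ (g₀ (autFun a (f₀ x))))
    rw [← ef x hx, autFun_mul _ _ (autFun_mem _ (hg₀.mem_S (hPQ x hx))),
      autFun_inv_apply a (hg₀.mem_S (hPQ x hx)), eg _ (hPQ x hx)]

theorem inverse (hX : StrongInv E F) (hT : T ≤ S) (hf : FrattiniMap E F P f) {k : Ω → Ω}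
    (hk : ∀ x ∈ P, k (f x) = x) : FrattiniMap E F (img P f) k := by
  obtain ⟨a, ha, f₀, hf₀, ef⟩ := hf
  obtain ⟨d, hd, -, hdl, -⟩ := hf₀.exists_inv
  have h1 : IsMap E (img (img P f₀) (autFun a)) (autFun a ∘ d ∘ autFun a⁻¹) :=
    hX (img P f₀) T hf₀.img_le le_rfl d hd (fun y hy => hd.mem_S hy) _
      ((isMap_autFun hT).mpr ha) _ fun x hx => by
        show autFun a (d (autFun a⁻¹ (autFun a x))) = _
        rw [autFun_inv_apply' a (hd.le hx)]
  have hfm : IsMap E P f₀ := hf₀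
  have hle : img P f ≤ img (img P f₀) (autFun a) := IsMap.img_le_iff.mpr fun x hx => by
    rw [ef x hx]
    exact IsMap.apply_mem_img (IsMap.apply_mem_img hx)
  refine ⟨a⁻¹, Subgroup.inv_mem _ ha, _, h1.mono hle, fun y hy => ?_⟩
  have hy' : ∃ x ∈ P, f x = y := by
    have hm : IsMap E P f₀ := hfm
    have hyy := hle hy
    have hat : IsMap F (img P f₀) (autFun a) := ((isMap_autFun hT).mpr ha).mono hf₀.img_le
    obtain ⟨z, hz, rfl⟩ := hat.mem_img.mp hyy
    obtain ⟨x, hx, rfl⟩ := hm.mem_img.mp hz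
    exact ⟨x, hx, ef x hx⟩
  obtain ⟨x, hx, rfl⟩ := hy'
  show k (f x) = autFun a⁻¹ (autFun a (d (autFun a⁻¹ (f x))))
  rw [hk x hx, ef x hx, autFun_inv_apply' a (hf₀.mem_S hx), hdl x hx,
    autFun_inv_apply' a (hf₀.le hx)]

end FrattiniMap

variable [Finite S] [Fact p.Prime]

/-- The step: automorphisms of a fully normalized subgroup. -/
theorem frattiniMap_aut (hS : IsPGroup p S) (hF : F.IsSaturated p) (hE : E.IsSubsystemOf F)
    (hT : F.StronglyClosed T) (hX : StrongInv E F) {Q : Subgroup Ω} (hQT : Q ≤ T)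
    (hQ : F.IsFullyNormalized Q)
    (hbig : ∀ f, IsMap F (T ⊓ Subgroup.normalizer (Q : Set Ω)) f →
      FrattiniMap E F (T ⊓ Subgroup.normalizer (Q : Set Ω)) f)
    {β : MulAut Q} (hβ : β ∈ F.autGroup Q) : FrattiniMap E F Q (autFun β) := by
  have hQS : Q ≤ S := hQT.trans hT.1
  haveI := finite_of_le hQS
  obtain ⟨-, hfa, hrec⟩ := fullyNormalized_props hS hF hQ
  set X := F.autGroup Q
  have hEX : E.autGroup Q ≤ X := fun κ h =>
    (isMap_autFun hQS).mp (isMap_of_sub hE ((isMap_autFun hQT).mpr h))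
  have hnorm : ∀ γ ∈ X, ∀ κ ∈ E.autGroup Q, γ * κ * γ⁻¹ ∈ E.autGroup Q := by
    intro γ hγ κ hκ
    have h1 := hX Q Q le_rfl hQT _ ((isMap_autFun hQT).mpr hκ) (fun x hx => autFun_mem κ hx) _
      ((isMap_autFun hQS).mpr hγ) (autFun (γ * κ * γ⁻¹)) fun x hx => by
        rw [← autFun_mul _ γ hx, inv_mul_cancel_right, autFun_mul _ _ hx]
    rw [img_autFun] at h1
    exact (isMap_autFun hQT).mp h1
  let K : Subgroup X := (E.autGroup Q).subgroupOf X
  haveI : K.Normal := ⟨fun n hn g => hnorm g g.2 n hn⟩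
  obtain ⟨-, R₀, hR₀⟩ := hfa
  set bx : X := ⟨β, hβ⟩
  obtain ⟨k, hk, hkR⟩ := (isMaxPIn_inf_normal R₀ K).exists_conj_le
    (U := ((R₀ : Subgroup X) ⊓ K).map (MulAut.conj bx).toMonoidHom)
    (map_conj_le fun t ht => ‹K.Normal›.conj_mem t ht.2 bx)
    ((R₀.isPGroup'.of_injective _ (Subgroup.inclusion_injective inf_le_left)).map _)
  set γ : X := k * bx
  have hN : T ⊓ Subgroup.normalizer (Q : Set Ω) ≤ extSub S Q (autFun (γ : MulAut Q)) := by
    intro g hg
    have hga : conjAut Q g hg.2 ∈ E.autGroup Q :=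
      autInducedBy_le (F := E) hQT (conjAut_mem_autInducedBy hg.2 hg.1)
    have hgS : conjAut Q g hg.2 ∈ autInducedBy S Q := conjAut_mem_autInducedBy hg.2 (hT.1 hg.1)
    have h1 := hkR (bx * ⟨conjAut Q g hg.2, hEX hga⟩ * bx⁻¹)
      ⟨⟨conjAut Q g hg.2, hEX hga⟩, ⟨hR₀ ▸ hgS, hga⟩, rfl⟩
    have h2 : ((γ : MulAut Q) * conjAut Q g hg.2 * (γ : MulAut Q)⁻¹) ∈ autInducedBy S Q := by
      have h3 : γ * ⟨conjAut Q g hg.2, hEX hga⟩ * γ⁻¹ ∈
          (autInducedBy S Q).subgroupOf X := by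
        rw [← hR₀]
        convert (Subgroup.mem_inf.mp h1).1 using 1
        simp only [γ]
        group
      exact h3
    obtain ⟨h, hh, eh⟩ := mem_autInducedBy.mp h2
    refine ⟨hT.1 hg.1, hg.2, h, hh, fun x hx => ?_⟩
    have := eh ⟨autFun (γ : MulAut Q) x, autFun_mem _ hx⟩
    rw [← autFun_apply, ← autFun_mul _ _ hx, inv_mul_cancel_right, autFun_mul _ _ hx] at this
    rw [← this, autFun_apply_mem (conjAut Q g hg.2) hx]
    rfl
  obtain ⟨f', hf', hag⟩ := receptive_extend hrec ((isMap_autFun hQS).mpr γ.2) (img_autFun _)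
  have hγG : FrattiniMap E F Q (autFun (γ : MulAut Q)) :=
    ((hbig f' (hf'.mono hN)).mono (le_inf hQT Subgroup.le_normalizer)).congr
      fun x hx => (hag x hx).symm
  have hkE : ((k⁻¹ : X) : MulAut Q) ∈ E.autGroup Q := Subgroup.inv_mem K hk
  refine (hγG.comp hX hT.1 (FrattiniMap.of_isMap ((isMap_autFun hQT).mpr hkE))
    fun x hx => autFun_mem _ hx).congr fun x hx => ?_
  show autFun β x = autFun ((k⁻¹ : X) : MulAut Q) (autFun (γ : MulAut Q) x)
  rw [← autFun_mul _ _ hx]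
  congr 2
  have : bx = k⁻¹ * γ := by simp only [γ]; group
  exact congrArg Subtype.val this

/-- Strong invariance gives the Frattini condition. -/
theorem frattiniMap_of_strongInv (hS : IsPGroup p S) (hF : F.IsSaturated p)
    (hE : E.IsSubsystemOf F) (hT : F.StronglyClosed T) (hX : StrongInv E F) :
    ∀ (n : ℕ) (P : Subgroup Ω), Nat.card T - Nat.card P ≤ n → P ≤ T → ∀ f, IsMap F P f →
      FrattiniMap E F P f := by
  haveI := finite_of_le hT.1
  have hinT : ∀ (P : Subgroup Ω) (f : Ω → Ω), P ≤ T → IsMap F P f → ∀ x ∈ P, f x ∈ T :=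
    fun P f hP hf x hx => stronglyClosed_apply hT hf hx (hP hx)
  have hfull : ∀ f, IsMap F T f → FrattiniMap E F T f := by
    intro f hf
    have hi : img T f = T := Subgroup.eq_of_le_of_card_ge
      (IsMap.img_le_iff.mpr (hinT T f le_rfl hf)) hf.card_img.ge
    obtain ⟨a, ha, e⟩ := hf.exists_aut hi
    exact ⟨a, ha, id, isMap_id le_rfl, fun x hx => (e x hx).symm⟩
  have hgrow : ∀ P : Subgroup Ω, P ≤ T → P ≠ T →
      Nat.card P < Nat.card (T ⊓ Subgroup.normalizer (P : Set Ω) : Subgroup Ω) := by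
    intro P hP hne
    have hlt := lt_inf_normalizer hS (lt_of_le_of_ne hP hne) hT.1
    have := finite_of_le ((inf_le_left : T ⊓ Subgroup.normalizer (P : Set Ω) ≤ T).trans hT.1)
    exact lt_of_le_of_ne (Subgroup.card_le_of_le hlt.le) fun h =>
      hlt.ne (Subgroup.eq_of_le_of_card_ge hlt.le h.ge)
  intro n
  induction n with
  | zero =>
    intro P hn hP f hf
    obtain rfl : P = T := Subgroup.eq_of_le_of_card_ge hP (by omega)
    exact hfull f hf
  | succ n ih =>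
    intro P hn hP f hf
    by_cases hne : P = T
    · subst hne; exact hfull f hf
    have hstep : ∀ R : Subgroup Ω, R ≤ T → Nat.card R = Nat.card P → ∀ g,
        IsMap F (T ⊓ Subgroup.normalizer (R : Set Ω)) g →
        FrattiniMap E F (T ⊓ Subgroup.normalizer (R : Set Ω)) g := by
      intro R hR hc g hg
      have hne' : R ≠ T := fun h => hne (Subgroup.eq_of_le_of_card_ge hP (by rw [← hc, h]))
      refine ih _ ?_ inf_le_left g hg
      have := hgrow R hR hne'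
      omega
    obtain ⟨Q, hPQ, hQ⟩ := exists_fullyNormalized (F := F) (hP.trans hT.1)
    obtain ⟨-, hfa, hrec⟩ := fullyNormalized_props hS hF hQ
    obtain ⟨g₀, hg₀, hi₀⟩ := isConj_iff.mp hPQ
    obtain ⟨-, -, g, hg, hgi, -, -⟩ := exists_map_normalizer hS hfa hrec hg₀ hi₀
    set P' := img P f
    have hP'T : P' ≤ T := IsMap.img_le_iff.mpr (hinT P f hP hf)
    have hP'Q : F.IsConj P' Q := isConj_trans (isConj_symm (isConj_iff.mpr ⟨f, hf, rfl⟩)) hPQ
    obtain ⟨g₁, hg₁, hi₁⟩ := isConj_iff.mp hP'Q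
    obtain ⟨-, -, g', hg', hgi', -, -⟩ := exists_map_normalizer hS hfa hrec hg₁ hi₁
    have hgP : IsMap F P g := hg.mono (le_normalizerIn (hP.trans hT.1))
    have hg'P : IsMap F P' g' := hg'.mono (le_normalizerIn (hP'T.trans hT.1))
    have hQT : Q ≤ T := hgi ▸ IsMap.img_le_iff.mpr (hinT P g hP hgP)
    have hcard : Nat.card Q = Nat.card P := isConj_card hPQ
    have hNle : ∀ R : Subgroup Ω, T ⊓ Subgroup.normalizer (R : Set Ω) ≤ normalizerIn S R :=
      fun R => inf_le_inf_right _ hT.1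
    have G1 : FrattiniMap E F P g :=
      (hstep P hP rfl g (hg.mono (hNle P))).mono (le_inf hP Subgroup.le_normalizer)
    have G2 : FrattiniMap E F P' g' :=
      (hstep P' hP'T hf.card_img g' (hg'.mono (hNle P'))).mono
        (le_inf hP'T Subgroup.le_normalizer)
    obtain ⟨k', hk', -, hk'l, -⟩ := hg'P.exists_inv
    rw [hgi'] at hk'
    obtain ⟨k, hk, -, hkl, -⟩ := hgP.exists_inv
    rw [hgi] at hk
    have hkP : ∀ y ∈ Q, k y ∈ P := fun y hy => by
      obtain ⟨x, hx, rfl⟩ := hgP.mem_img.mp (hgi.symm ▸ hy)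
      rwa [hkl x hx]
    have hb : IsMap F Q (g' ∘ (f ∘ k)) :=
      (hk.comp hf hkP).comp hg'P fun y hy => IsMap.apply_mem_img (hkP y hy)
    have hbi : img Q (g' ∘ (f ∘ k)) = Q := by
      have := finite_of_le hQ.1
      refine Subgroup.eq_of_le_of_card_ge (IsMap.img_le_iff.mpr fun y hy => ?_) hb.card_img.ge
      rw [← hgi']
      exact IsMap.apply_mem_img (IsMap.apply_mem_img (hkP y hy))
    obtain ⟨β, hβ, hβe⟩ := hb.exists_aut hbi
    have G3 : FrattiniMap E F Q (autFun β) :=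
      frattiniMap_aut hS hF hE hT hX hQT hQ (hstep Q hQT hcard) hβ
    have G4 := G2.inverse hX hT.1 (k := k') hk'l
    rw [hgi'] at G4
    refine ((G1.comp hX hT.1 G3 fun x hx => hgi ▸ IsMap.apply_mem_img hx).comp hX hT.1 G4
      fun x hx => autFun_mem β (hgi ▸ IsMap.apply_mem_img hx)).congr fun x hx => ?_
    show f x = k' (autFun β (g x))
    rw [hβe _ (hgi ▸ IsMap.apply_mem_img hx)]
    show f x = k' (g' (f (k (g x))))
    rw [hkl x hx, hk'l _ (IsMap.apply_mem_img hx)]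

theorem invariant_iff_strongInv (hS : IsPGroup p S) (hF : F.IsSaturated p)
    (hE : E.IsSubsystemOf F) (hT : F.StronglyClosed T) : E.IsInvariantIn F ↔ StrongInv E F := by
  refine ⟨strongInv_of_invariant, fun hX => ⟨hE, hT, ?_, ?_⟩⟩
  · intro P hP φ hφ α hα
    have hm := isMap_of_mem hφ
    have hα' := (isMap_autFun hT.1).mpr hα
    have h1 := hX P T hP le_rfl _ hm (fun x hx => hm.mem_S hx) _ hα'
      (autFun α ∘ toFun' φ ∘ autFun α⁻¹) fun x hx => by
        show autFun α (toFun' φ (autFun α⁻¹ (autFun α x))) = _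
        rw [autFun_inv_apply' α (hP hx)]
    have himg : img P (autFun α) = (P.subgroupOf T).map (T.subtype.comp α.toMonoidHom) := by
      refine le_antisymm (IsMap.img_le_iff.mpr fun x hx => ?_) ?_
      · rw [autFun_apply_mem _ (hP hx)]
        exact ⟨⟨x, hP hx⟩, hx, rfl⟩
      · rintro _ ⟨x, hx, rfl⟩
        rw [show T.subtype.comp α.toMonoidHom x = autFun α x from (autFun_apply α x).symm]
        exact IsMap.apply_mem_img hx
    rw [himg] at h1
    obtain ⟨χ, hχ, eχ⟩ := h1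
    refine ⟨χ, hχ, fun x hφx hαx => ?_⟩
    rw [eχ]
    show autFun α (toFun' φ (autFun α⁻¹ ((α ⟨x, hP x.2⟩ : T) : Ω))) = _
    rw [← autFun_apply_mem α (hP x.2), autFun_inv_apply' α (hP x.2), toFun'_apply,
      autFun_apply_mem α hφx]
  · intro P hP φ hφ
    obtain ⟨α, hα, f₀, ⟨φ₀, hφ₀, e₀⟩, e⟩ :=
      frattiniMap_of_strongInv hS hF hE hT hX _ P le_rfl hP _ (isMap_of_mem hφ)
    refine ⟨α, hα, φ₀, hφ₀, fun x hx => ?_⟩
    rw [← toFun'_apply φ x, e x x.2, ← autFun_apply α ⟨φ₀ x, hx⟩]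
    exact congrArg (autFun α) (e₀ x).symm

end Cfsg.Lib.Fusion
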