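import Cfsg.Agent.Fusion.PPowerUnique
import Cfsg.Agent.Fusion.NormalSubgroupSystem
import Cfsg.Agent.S5093

/-!
Hyperfocal subgroups, residual limits, and normality for subsystems of `p`-power index.
-/

set_option autoImplicit false
set_option linter.unusedSectionVars false
set_option linter.style.haveILetI false

namespace Cfsg.Lib.Fusion.PPower

open Cfsg Cfsg.FusionSystem Cfsg.Lib.Fusion

universe u

variable {Ω : Type u} [Group Ω] {S T : Subgroup Ω} {F : FusionSystem S} {E : FusionSystem T}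
  {p : ℕ}

theorem hyperfocal_le_of_sub (hs : E.IsSubsystemOf F) (hT : T ≤ S) :
    E.hyperfocalSubgroup p ≤ F.hyperfocalSubgroup p := by
  refine (Subgroup.closure_le _).mpr ?_
  rintro _ ⟨P, α, x, hP, hα, rfl⟩
  exact Subgroup.subset_closure
    ⟨P, Subgroup.inclusion (autGroup_le_of_sub hs hP hT) α, x, hP.trans hT,
      Cfsg.Lib.Transfer.pResidual_map_le (Subgroup.inclusion (autGroup_le_of_sub hs hP hT))
        ⟨α, hα, rfl⟩, rfl⟩

/-- The subsystems of `p`-power index have the same hyperfocal subgroup. -/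
theorem hyperfocal_eq [Finite S] [Fact p.Prime] (hS : IsPGroup p S) (hT : T ≤ S)
    (hidx : E.HasPPowerIndexIn F p) : E.hyperfocalSubgroup p = F.hyperfocalSubgroup p := by
  refine le_antisymm (hyperfocal_le_of_sub hidx.1 hT) ?_
  set H := E.hyperfocalSubgroup p
  have hHT : H ≤ T := hyperfocalSubgroup_le E p
  have key : ∀ (P : Subgroup Ω), P ≤ S → ∀ β ∈ F.autGroup P, (orderOf β).Coprime p →
      ∀ x ∈ P, x⁻¹ * autFun β x ∈ H := by
    intro P hP β hβ hcop x hx
    haveI := finite_of_le hP
    have hm := (isMap_autFun hP).mpr hβ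
    set U := P ⊓ T
    have hUT : U ≤ T := inf_le_right
    have hdiff : ∀ y ∈ P, y⁻¹ * autFun β y ∈ U := fun y hy =>
      ⟨P.mul_mem (P.inv_mem hy) (autFun_mem β hy), hidx.2.1
        (mem_hyperfocalSubgroup (F := F) hP (α := ⟨β, hβ⟩)
          (Cfsg.Lib.Transfer.mem_pResidual_of_coprime (by rwa [Subgroup.orderOf_mk])) hy)⟩
    have hUU : ∀ y ∈ U, autFun β y ∈ U := fun y hy => by
      have := U.mul_mem hy (hdiff y hy.1)
      rwa [mul_inv_cancel_left] at this
    haveI := finite_of_le (inf_le_left.trans hP : U ≤ S)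
    obtain ⟨γ, hγ, eγ⟩ := (hm.mono inf_le_left).exists_aut
      (img_eq_of_apply hm (inf_le_left : U ≤ P) hUU)
    have hpow : ∀ n : ℕ, ∀ y ∈ U, autFun (γ ^ n) y = autFun (β ^ n) y := by
      intro n
      induction n with
      | zero => exact fun y hy => by rw [pow_zero, pow_zero, autFun_one hy, autFun_one hy.1]
      | succ n ih =>
        intro y hy
        rw [pow_succ, pow_succ, autFun_mul _ _ hy, autFun_mul _ _ hy.1, ← eγ y hy,
          ih _ (autFun_mem γ hy)]
    have hγcop : (orderOf γ).Coprime p := by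
      refine Nat.Coprime.coprime_dvd_left (orderOf_dvd_of_pow_eq_one ?_) hcop
      refine eq_one_of_autFun fun y hy => ?_
      rw [hpow _ y hy, pow_orderOf_eq_one, autFun_one hy.1]
    have hγE : γ ∈ E.autGroup U := coprime_mem_autGroup hidx hUT hγ hγcop
    have hUH : ∀ y ∈ U, y⁻¹ * autFun β y ∈ H := fun y hy => by
      rw [← eγ y hy]
      exact mem_hyperfocalSubgroup hUT (α := ⟨γ, hγE⟩)
        (Cfsg.Lib.Transfer.mem_pResidual_of_coprime (by rwa [Subgroup.orderOf_mk])) hy
    set y₀ := x⁻¹ * autFun β x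
    have hy₀ : y₀ ∈ U := hdiff x hx
    have hexp : ∀ n : ℕ, ∃ v ∈ H, v ∈ U ∧ autFun (β ^ n) x = x * (y₀ ^ n * v) := by
      intro n
      induction n with
      | zero => exact ⟨1, H.one_mem, U.one_mem, by rw [pow_zero, autFun_one hx]; simp⟩
      | succ n ih =>
        obtain ⟨v, hv, hvU, e⟩ := ih
        have hyn : y₀ ^ n ∈ U := U.pow_mem hy₀ n
        refine ⟨(y₀ ^ n)⁻¹ * autFun β (y₀ ^ n) * (v * (v⁻¹ * autFun β v)),
          H.mul_mem (hUH _ hyn) (H.mul_mem hv (hUH v hvU)),
          U.mul_mem (U.mul_mem (U.inv_mem hyn) (hUU _ hyn))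
            (U.mul_mem hvU (U.mul_mem (U.inv_mem hvU) (hUU v hvU))), ?_⟩
        rw [pow_succ' β, autFun_mul _ _ hx, e, hm.map_mul hx (P.mul_mem hyn.1 hvU.1),
          hm.map_mul hyn.1 hvU.1, pow_succ' y₀]
        simp only [y₀]
        group
    obtain ⟨v, hv, -, e⟩ := hexp (orderOf β)
    rw [pow_orderOf_eq_one, autFun_one hx] at e
    have h1 : y₀ ^ orderOf β * v = 1 := mul_left_cancel ((mul_one x).trans e).symm
    have h2 : y₀ ^ orderOf β ∈ H := by rw [eq_inv_of_mul_eq_one_left h1]; exact H.inv_mem hv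
    obtain ⟨k, hk⟩ := IsPGroup.iff_orderOf.mp hS ⟨y₀, hT hy₀.2⟩
    rw [Subgroup.orderOf_mk] at hk
    obtain ⟨m, hm'⟩ := exists_pow_eq_self_of_coprime
      (show (orderOf β).Coprime (orderOf y₀) by rw [hk]; exact hcop.pow_right k)
    rw [← hm']
    exact H.pow_mem h2 m
  refine (Subgroup.closure_le _).mpr ?_
  rintro _ ⟨P, α, x, hP, hα, rfl⟩
  rw [← autFun_apply]
  induction hα using Subgroup.closure_induction generalizing x with
  | mem a ha => exact key P hP a a.2 (by rwa [Subgroup.orderOf_coe]) x x.2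
  | one => rw [Subgroup.coe_one, autFun_one x.2]; simp
  | mul a b _ _ iha ihb =>
    rw [Subgroup.coe_mul, autFun_mul _ _ x.2]
    have := H.mul_mem (ihb x) (iha ⟨autFun (b : MulAut P) x, autFun_mem _ x.2⟩)
    refine Eq.mp (congrArg (· ∈ H) ?_) this
    group
  | inv a _ iha =>
    rw [Subgroup.coe_inv]
    have h := iha ⟨autFun (a : MulAut P)⁻¹ x, autFun_mem _ x.2⟩
    rw [autFun_inv_apply _ x.2] at h
    simpa using H.inv_mem h

theorem index_trans {U : Subgroup Ω} (hidx : E.HasPPowerIndexIn F p) {D : FusionSystem U}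
    (hUT : U ≤ T) (hD : D.HasPPowerIndexIn E p) (hU : F.hyperfocalSubgroup p ≤ U) :
    D.HasPPowerIndexIn F p := by
  refine ⟨fun P φ h => hidx.1 P (hD.1 P h), hU, fun P hP => ?_⟩
  rw [Subgroup.map_le_iff_le_comap]
  refine (Subgroup.closure_le _).mpr fun a ha => ?_
  have h : (orderOf (a : MulAut P)).Coprime p := by rw [Subgroup.orderOf_coe]; exact ha
  exact coprime_mem_autGroup hD hP (coprime_mem_autGroup hidx (hP.trans hUT) a.2 h) h

theorem index_self (F : FusionSystem S) (p : ℕ) : F.HasPPowerIndexIn F p :=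
  ⟨fun _ => Set.Subset.rfl, hyperfocalSubgroup_le F p, fun _ _ => Subgroup.map_subtype_le _⟩

theorem residual_unique {D D' : FusionSystem T} {A : FusionSystem T}
    (h : A.IsPPrimeResidual p D) (h' : A.IsPPrimeResidual p D') : D = D' :=
  fusionSystem_ext fun P => Set.Subset.antisymm (h.2.2 D' h'.1 h'.2.1 P) (h'.2.2 D h.1 h.2.1 P)

/-- A step of the residual series through a subgroup equal to the hyperfocal one. -/
theorem limit_step {U V : Subgroup Ω} (hU : U = F.hyperfocalSubgroup p) {X : FusionSystem V}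
    (D D' : FusionSystem U) (hD : D.IsSaturated p) (hi : D.HasPPowerIndexIn F p)
    (hr : D.IsPPrimeResidual p D') (hX : X.IsResidualLimitOf D' p) :
    X.IsResidualLimitOf F p := by
  subst hU
  exact IsResidualLimitOf.step F p D D' ⟨hD, hi⟩ hr hX

theorem limit_of_stable {V : Subgroup Ω} {Y : FusionSystem V} {S : Subgroup Ω}
    {G : FusionSystem S} {p : ℕ} (h : Y.IsResidualLimitOf G p) :
    Fact p.Prime → Finite S → IsPGroup p S → G.hyperfocalSubgroup p = S →
      G.IsPPrimeResidual p G →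
      (⟨V, Y⟩ : (T : Subgroup Ω) × FusionSystem T) = ⟨S, G⟩ := by
  induction h with
  | stable G p _ _ => intros; rfl
  | @step R E G p D D' hD hr _ ih =>
    intro hp hfin hS hh hG
    have key : ∀ (U : Subgroup Ω) (D D' : FusionSystem U), U = R → D.IsSaturated p →
        D.HasPPowerIndexIn G p → D.IsPPrimeResidual p D' →
        (⟨U, D'⟩ : (T : Subgroup Ω) × FusionSystem T) = ⟨_, G⟩ := by
      rintro U₀ D₀ D₀' rfl hD₀ hi₀ hr₀
      obtain rfl := unique hS le_rfl hD₀ hi₀ hG.1 (index_self G p)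
      rw [residual_unique hr₀ hG]
    have e := key _ D D' hh hD.1 hD.2 hr
    have hstab : (⟨_, D'⟩ : (T : Subgroup Ω) × FusionSystem T).2.hyperfocalSubgroup p =
        (⟨_, D'⟩ : (T : Subgroup Ω) × FusionSystem T).1 ∧
        (⟨_, D'⟩ : (T : Subgroup Ω) × FusionSystem T).2.IsPPrimeResidual p
          (⟨_, D'⟩ : (T : Subgroup Ω) × FusionSystem T).2 := by
      rw [e]; exact ⟨hh, hG⟩
    exact (ih hp (finite_of_le (hyperfocalSubgroup_le G p))
      (hS.of_injective _ (Subgroup.inclusion_injective (hyperfocalSubgroup_le G p)))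
      hstab.1 hstab.2).trans e

/-- The residual limit is unique. -/
theorem limit_unique {V : Subgroup Ω} {X : FusionSystem V} {S : Subgroup Ω}
    {G : FusionSystem S} {p : ℕ} (h : X.IsResidualLimitOf G p) :
    Fact p.Prime → Finite S → IsPGroup p S → ∀ (W : Subgroup Ω) (Y : FusionSystem W),
      Y.IsResidualLimitOf G p →
      (⟨V, X⟩ : (T : Subgroup Ω) × FusionSystem T) = ⟨W, Y⟩ := by
  induction h with
  | stable G p hh hG =>
    intro hp hfin hS W Y hY
    exact (limit_of_stable hY hp hfin hS hh hG).symm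
  | @step R E G p D D' hD hr hE ih =>
    intro hp hfin hS W Y hY
    cases hY with
    | stable _ _ hh hG => exact limit_of_stable (IsResidualLimitOf.step G p D D' hD hr hE) hp hfin hS hh hG
    | step _ _ D₁ D₁' hD₁ hr₁ hY =>
      have hle := hyperfocalSubgroup_le G p
      obtain rfl := unique hS hle hD.1 hD.2 hD₁.1 hD₁.2
      obtain rfl := residual_unique hr hr₁
      exact ih hp (finite_of_le hle) (hS.of_injective _ (Subgroup.inclusion_injective hle)) W _ hY

/-- Residual limits of subsystems of `p`-power index. -/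
theorem limit_of_index [Finite S] [Fact p.Prime] (hS : IsPGroup p S) (hT : T ≤ S)
    (hidx : E.HasPPowerIndexIn F p) {U V : Subgroup Ω} {X : FusionSystem U}
    (hX : X.IsResidualLimitOf F p) {Y : FusionSystem V} (hY : Y.IsResidualLimitOf E p) :
    ∀ P : Subgroup Ω, X.Hom P = Y.Hom P := by
  have heq := hyperfocal_eq hS hT hidx
  have hY' : Y.IsResidualLimitOf F p := by
    cases hY with
    | stable _ _ hh hG =>
      exact limit_step (hh.symm.trans heq) E E hG.1 hidx hG (IsResidualLimitOf.stable E p hh hG)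
    | step _ _ D D' hD hr hY =>
      exact limit_step heq D D' hD.1
        (index_trans hidx (hyperfocalSubgroup_le E p) hD.2 heq.ge) hr hY
  intro P
  cases limit_unique hX ‹_› ‹_› hS V Y hY'
  rfl

/-- The `p`-residual of a group system. -/
theorem group_residual {G : Type u} [Group G] [Finite G] [Fact p.Prime] (S : Sylow p G)
    {U : Subgroup G} (hU : U = (S : Subgroup G) ⊓ pResidual p G) (E : FusionSystem U)
    (hEs : E.IsSaturated p) (hEi : E.HasPPowerIndexIn (groupFusionSystem (S : Subgroup G)) p) :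
    ∃ h : (S : Subgroup G) ⊓ pResidual p G ≤ pResidual p G, ∀ P : Subgroup G,
      E.Hom P =
        (fusionSystemOfSubgroup (pResidual p G) ((S : Subgroup G) ⊓ pResidual p G) h).Hom P := by
  subst hU
  refine ⟨inf_le_right, fun P => ?_⟩
  set D := fusionSystemOfSubgroup (pResidual p G) ((S : Subgroup G) ⊓ pResidual p G) inf_le_right
  have hD : D.IsSaturated p :=
    saturated_subgroupSystem (isMaxPIn_inf_normal S (pResidual p G))
  have hDi : D.HasPPowerIndexIn (groupFusionSystem (S : Subgroup G)) p := by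
    refine ⟨fun P φ hφ => ?_, (Cfsg.Agent.S5093.result p S).le, fun P hP => ?_⟩
    · obtain ⟨h1, h2, g, -, e⟩ := hφ
      exact ⟨h1.trans inf_le_left, fun x => (h2 x).1, g, e⟩
    rw [Subgroup.map_le_iff_le_comap]
    refine (Subgroup.closure_le _).mpr fun a ha => ?_
    show (a : MulAut P) ∈ D.autGroup P
    have hm := (isMap_autFun (hP.trans inf_le_left)).mpr a.2
    obtain ⟨-, -, g, eg⟩ := isMap_group_iff.mp hm
    obtain ⟨k, hk⟩ := Cfsg.Lib.Transfer.exists_index_pResidual (p := p) (G := G)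
    have hcop : (p ^ k).Coprime (orderOf (a : MulAut P)) := by
      rw [Subgroup.orderOf_coe]; exact (Nat.Coprime.pow_right k ha).symm
    obtain ⟨m, hm'⟩ := exists_pow_eq_self_of_coprime hcop
    have hgk : (g ^ p ^ k) ^ m ∈ pResidual p G := by
      refine Subgroup.pow_mem _ ?_ m
      rw [← hk]
      exact Subgroup.pow_index_mem _ g
    have hpow : ∀ n : ℕ, ∀ x ∈ P, autFun ((a : MulAut P) ^ n) x = g ^ n * x * (g ^ n)⁻¹ := by
      intro n
      induction n with
      | zero => exact fun x hx => by rw [pow_zero, autFun_one hx]; simp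
      | succ n ih =>
        intro x hx
        rw [pow_succ, autFun_mul _ _ hx, ih _ (autFun_mem _ hx), eg x hx, pow_succ]
        group
    refine (isMap_autFun hP).mp (isMap_subgroup_iff.mpr ⟨hP, fun x hx => hP (autFun_mem _ hx),
      _, hgk, fun x hx => ?_⟩)
    rw [← pow_mul, ← hpow _ x hx, pow_mul, hm']
  rw [unique S.isPGroup' inf_le_left hEs hEi hD hDi]

section Normal

variable [Finite S] [Fact p.Prime]

theorem stronglyClosed_of_hyperfocal_le (hS : IsPGroup p S) (hF : F.IsSaturated p) (hTS : T ≤ S)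
    (hn : ∀ s ∈ S, ∀ x ∈ T, s * x * s⁻¹ ∈ T) (hT : F.hyperfocalSubgroup p ≤ T) :
    F.StronglyClosed T := stronglyClosed_of_apply hTS fun P f hf x hx hxT => by
  obtain ⟨s, hs, h⟩ := innerMod_hyperfocal hS hF hf
  have := T.mul_mem (hn s hs x hxT) (hT (h x hx))
  rwa [mul_inv_cancel_left] at this

/-- Transport by an automorphism of `T`. -/
theorem transport_of_index (hS : IsPGroup p S) (hT : T ≤ S) (hE : E.IsSaturated p)
    (hidx : E.HasPPowerIndexIn F p) {α : MulAut T} (hα : α ∈ F.autGroup T) {P : Subgroup Ω}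
    {f : Ω → Ω} (hf : IsMap E P f) :
    IsMap E (img P (autFun α)) (fun y => autFun α (f (autFun α⁻¹ y))) := by
  haveI := finite_of_le hT
  have hTp : IsPGroup p T := hS.of_injective _ (Subgroup.inclusion_injective hT)
  have ha : IsMap F T (autFun α) := (isMap_autFun hT).mpr hα
  have hai : IsMap F T (autFun α⁻¹) := (isMap_autFun hT).mpr (Subgroup.inv_mem _ hα)
  let Ψ : Subgroup Ω → (Ω → Ω) → Prop := fun R g =>
    IsMap E (img R (autFun α)) (fun y => autFun α (g (autFun α⁻¹ y)))
  have hcls : IsMapClass E Ψ :=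
    { conj := fun R g hR hg => by
        refine (isMap_conj (IsMap.img_le_iff.mpr fun x hx => autFun_mem α (hR hx))
          (autFun_mem α hg)).congr fun y hy => ?_
        obtain ⟨x, hx, rfl⟩ := (ha.mono hR).mem_img.mp hy
        show autFun α (g * autFun α⁻¹ (autFun α x) * g⁻¹) = _
        rw [autFun_inv_apply' α (hR hx), ha.map_conj hg (hR hx)]
      congr := fun R g g' hg e h => h.congr fun y hy => by
        obtain ⟨x, hx, rfl⟩ := (ha.mono hg.le).mem_img.mp hy
        rw [autFun_inv_apply' α (hg.le hx), e x hx]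
      mono := fun R R' g _ hR h => h.mono (img_mono hR _)
      comp := fun R Q g g' hg hg' hgQ h h' => by
        have hmem : ∀ y ∈ img R (autFun α), autFun α (g (autFun α⁻¹ y)) ∈ img Q (autFun α) := by
          intro y hy
          obtain ⟨x, hx, rfl⟩ := (ha.mono hg.le).mem_img.mp hy
          rw [autFun_inv_apply' α (hg.le hx)]
          exact IsMap.apply_mem_img (hgQ x hx)
        refine (h.comp h' hmem).congr fun y hy => ?_
        obtain ⟨x, hx, rfl⟩ := (ha.mono hg.le).mem_img.mp hy
        show autFun α (g' (g (autFun α⁻¹ (autFun α x)))) =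
          autFun α (g' (autFun α⁻¹ (autFun α (g (autFun α⁻¹ (autFun α x))))))
        rw [autFun_inv_apply' α (hg.le hx), autFun_inv_apply' α (hg.mem_S hx)]
      inv := fun R g k hg hk hl h => by
        obtain ⟨i, hi, -, hil, -⟩ := h.exists_inv
        have e : img (img R g) (autFun α) =
            img (img R (autFun α)) (fun y => autFun α (g (autFun α⁻¹ y))) := by
          have hgm : ∀ x ∈ R, g x ∈ T := fun x hx => hg.mem_S hx
          refine le_antisymm (IsMap.img_le_iff.mpr fun y hy => ?_) (IsMap.img_le_iff.mpr fun y hy => ?_)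
          · obtain ⟨x, hx, rfl⟩ := hg.mem_img.mp hy
            have := IsMap.apply_mem_img (f := fun y => autFun α (g (autFun α⁻¹ y)))
              (IsMap.apply_mem_img (f := autFun α) hx)
            show autFun α (g x) ∈ _
            simpa [autFun_inv_apply' α (hg.le hx)] using this
          · obtain ⟨x, hx, rfl⟩ := (ha.mono hg.le).mem_img.mp hy
            rw [autFun_inv_apply' α (hg.le hx)]
            exact IsMap.apply_mem_img (IsMap.apply_mem_img hx)
        show IsMap E _ _
        rw [e]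
        refine hi.congr fun y hy => ?_
        obtain ⟨z, hz, rfl⟩ := h.mem_img.mp hy
        obtain ⟨x, hx, rfl⟩ := (ha.mono hg.le).mem_img.mp hz
        rw [hil _ hz]
        show autFun α (k (autFun α⁻¹ (autFun α (g (autFun α⁻¹ (autFun α x)))))) = _
        rw [autFun_inv_apply' α (hg.le hx), autFun_inv_apply' α (hg.mem_S hx), hl x hx] }
  have hsite : ∀ Q : Subgroup Ω, E.IsFullyNormalized Q → ∀ γ ∈ E.autGroup Q, Ψ Q (autFun γ) := by
    intro Q hQn
    have hQ := hQn.1
    haveI := finite_of_le hQ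
    have hm := ha.mono hQ
    suffices hle : E.autGroup Q ≤ (E.autGroup (img Q (autFun α))).comap
        (MulAut.congr (hm.equiv rfl)).toMonoidHom by
      intro γ hγ
      refine ((isMap_autFun (IsMap.img_le_iff.mpr fun x hx => autFun_mem α (hQ hx))).mpr
        (hle hγ)).congr fun y hy => ?_
      obtain ⟨x, hx, rfl⟩ := hm.mem_img.mp hy
      show autFun α (autFun γ (autFun α⁻¹ (autFun α x))) =
        autFun (MulAut.congr (hm.equiv rfl) γ) (autFun α x)
      rw [autFun_inv_apply' α (hQ hx), congr_equiv_spec hm rfl γ hx]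
    refine autGroup_le_of hS hT hE hQn ?_ ?_
    · intro β hβ
      obtain ⟨t, ht, et⟩ := mem_autInducedBy.mp hβ
      refine Subgroup.mem_comap.mpr (autInducedBy_le (IsMap.img_le_iff.mpr fun x hx =>
        autFun_mem α (hQ hx)) (mem_autInducedBy.mpr ⟨autFun α t, autFun_mem α ht, fun y => ?_⟩))
      obtain ⟨x, hx, e⟩ := hm.mem_img.mp y.2
      rw [← autFun_apply, ← e]
      show autFun (MulAut.congr (hm.equiv rfl) β) (autFun α x) = _
      rw [congr_equiv_spec hm rfl β hx, autFun_apply_mem _ hx, et, ha.map_conj ht (hQ hx)]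
    · intro β hβ hcop
      refine Subgroup.mem_comap.mpr (coprime_mem_autGroup hidx
        (IsMap.img_le_iff.mpr fun x hx => autFun_mem α (hQ hx))
        (congr_mem_autGroup hm rfl (autGroup_le_of_sub hidx.1 hQ hT hβ)) ?_)
      rwa [orderOf_injective _ (MulAut.congr (hm.equiv rfl)).injective]
  have hTn : E.IsFullyNormalized T := ⟨le_rfl, fun Q hQ => by
    obtain ⟨f, hf, rfl⟩ := isConj_iff.mp hQ
    rw [Subgroup.eq_of_le_of_card_ge hf.img_le hf.card_img.ge]⟩
  refine alperin_radical hTp hE hcls (fun g hg => ?_) (fun Q _ hQn _ _ _ γ hγ => hsite Q hQn γ hγ) hf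
  obtain ⟨γ, hγ, e⟩ := hg.exists_aut (Subgroup.eq_of_le_of_card_ge hg.img_le hg.card_img.ge)
  exact hcls.congr T _ g ((isMap_autFun le_rfl).mpr hγ) (fun x hx => (e x hx).symm) (hsite T hTn γ hγ)

/-- Saturated subsystems of `p`-power index on normal subgroups are normal. -/
theorem normal_of_index (hS : IsPGroup p S) (hF : F.IsSaturated p) (hTS : T ≤ S)
    (hn : ∀ s ∈ S, ∀ x ∈ T, s * x * s⁻¹ ∈ T) (hE : E.IsSaturated p)
    (hidx : E.HasPPowerIndexIn F p) : E.IsNormalIn F p := by
  haveI := finite_of_le hTS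
  have hTp : IsPGroup p T := hS.of_injective _ (Subgroup.inclusion_injective hTS)
  have hsc := stronglyClosed_of_hyperfocal_le hS hF hTS hn hidx.2.1
  let Φ : Subgroup Ω → (Ω → Ω) → Prop := fun P f => ∀ R, R ≤ P → R ≤ T →
    ∃ α ∈ F.autGroup T, ∃ f₀, IsMap E R f₀ ∧ ∀ x ∈ R, f x = autFun α (f₀ x)
  have hcls : IsMapClass F Φ :=
    { conj := fun P g hP hg R _ hR => by
        have hgn := normalizes_of_stronglyClosed hsc hg
        exact ⟨conjAut T g hgn, autInducedBy_le hTS (conjAut_mem_autInducedBy hgn hg), id,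
          isMap_id hR, fun x hx => by
            show g * x * g⁻¹ = autFun (conjAut T g hgn) x
            rw [autFun_apply_mem _ (hR hx), conjAut_apply]⟩
      congr := fun P f f' _ e h R hR hRT => by
        obtain ⟨α, hα, f₀, hf₀, he⟩ := h R hR hRT
        exact ⟨α, hα, f₀, hf₀, fun x hx => (e x (hR hx)).trans (he x hx)⟩
      mono := fun P R f _ hR h R' hR' => h R' (hR'.trans hR)
      comp := fun P Q f g hf _ hfQ h h' R hR hRT => by
        obtain ⟨α, hα, f₀, hf₀, he⟩ := h R hR hRT
        obtain ⟨β, hβ, g₀, hg₀, he'⟩ := h' (img R f)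
          (IsMap.img_le_iff.mpr fun x hx => hfQ x (hR hx))
          (IsMap.img_le_iff.mpr fun x hx => stronglyClosed_apply hsc hf (hR hx) (hRT hx))
        have ht := transport_of_index hS hTS hE hidx (Subgroup.inv_mem _ hα) hg₀
        have hmem : ∀ x ∈ R, f₀ x ∈ img (img R f) (autFun α⁻¹) := fun x hx => by
          rw [← autFun_inv_apply' α (hf₀.mem_S hx), ← he x hx]
          exact IsMap.apply_mem_img (IsMap.apply_mem_img hx)
        refine ⟨β * α, Subgroup.mul_mem _ hβ hα, _, hf₀.comp ht hmem, fun x hx => ?_⟩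
        show g (f x) = autFun (β * α) (autFun α⁻¹ (g₀ (autFun α⁻¹⁻¹ (f₀ x))))
        have hy : g₀ (f x) ∈ T := hg₀.mem_S (IsMap.apply_mem_img hx)
        rw [inv_inv, ← he x hx, ← autFun_mul _ _ hy, mul_inv_cancel_right,
          he' _ (IsMap.apply_mem_img hx)]
      inv := fun P f g hf hg hl h R' hR' hR'T => by
        have hgm := hg.mono hR'
        have hRP : img R' g ≤ P := IsMap.img_le_iff.mpr fun y hy => by
          obtain ⟨x, hx, rfl⟩ := hf.mem_img.mp (hR' hy)
          rwa [hl x hx]
        have hRT : img R' g ≤ T :=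
          IsMap.img_le_iff.mpr fun y hy => stronglyClosed_apply hsc hgm hy (hR'T hy)
        obtain ⟨α, hα, f₀, hf₀, he⟩ := h (img R' g) hRP hRT
        obtain ⟨k, hk, -, hkl, -⟩ := hf₀.exists_inv
        have ht := transport_of_index hS hTS hE hidx hα hk
        have hfg : ∀ y ∈ R', f (g y) = y := fun y hy => by
          obtain ⟨x, hx, rfl⟩ := hf.mem_img.mp (hR' hy)
          rw [hl x hx]
        have hsub : R' ≤ img (img (img R' g) f₀) (autFun α) := fun y hy => by
          rw [← hfg y hy, he _ (IsMap.apply_mem_img hy)]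
          exact IsMap.apply_mem_img (IsMap.apply_mem_img (IsMap.apply_mem_img hy))
        refine ⟨α⁻¹, Subgroup.inv_mem _ hα, _, ht.mono hsub, fun y hy => ?_⟩
        show g y = autFun α⁻¹ (autFun α (k (autFun α⁻¹ y)))
        have h1 : autFun α⁻¹ y = f₀ (g y) := by
          conv_lhs => rw [← hfg y hy, he _ (IsMap.apply_mem_img hy)]
          exact autFun_inv_apply' α (hf₀.mem_S (IsMap.apply_mem_img hy))
        rw [h1, hkl _ (IsMap.apply_mem_img hy),
          autFun_inv_apply' α (hRT (IsMap.apply_mem_img hy))] }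
  have hsite : ∀ Q : Subgroup Ω, F.IsFullyNormalized Q → ∀ γ ∈ F.autGroup Q, Φ Q (autFun γ) := by
    intro Q hQn
    have hQ := hQn.1
    haveI := finite_of_le hQ
    suffices hle : F.autGroup Q ≤ goodAut F Φ hcls Q hQ from fun γ hγ => (hle hγ).2
    refine autGroup_le_of hS le_rfl hF hQn ?_ ?_
    · exact autInducedBy_le_good hcls hQ
    · refine fun β hβ hcop => ⟨hβ, fun R hR hRT => ?_⟩
      have hm := (isMap_autFun hQ).mpr hβ
      have hUU : ∀ y ∈ Q ⊓ T, autFun β y ∈ Q ⊓ T := fun y hy =>
        ⟨autFun_mem β hy.1, stronglyClosed_apply hsc hm hy.1 hy.2⟩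
      haveI := finite_of_le (inf_le_left.trans hQ : Q ⊓ T ≤ S)
      obtain ⟨v, hv, ev⟩ := (hm.mono inf_le_left).exists_aut
        (img_eq_of_apply hm (inf_le_left : Q ⊓ T ≤ Q) hUU)
      have hpow : ∀ n : ℕ, ∀ y ∈ Q ⊓ T, autFun (v ^ n) y = autFun (β ^ n) y := by
        intro n
        induction n with
        | zero => exact fun y hy => by rw [pow_zero, pow_zero, autFun_one hy, autFun_one hy.1]
        | succ n ih =>
          intro y hy
          rw [pow_succ, pow_succ, autFun_mul _ _ hy, autFun_mul _ _ hy.1, ← ev y hy,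
            ih _ (autFun_mem v hy)]
      have hvcop : (orderOf v).Coprime p := by
        refine Nat.Coprime.coprime_dvd_left (orderOf_dvd_of_pow_eq_one ?_) hcop
        refine eq_one_of_autFun fun y hy => ?_
        rw [hpow _ y hy, pow_orderOf_eq_one, autFun_one hy.1]
      have hvE : IsMap E (Q ⊓ T) (autFun v) :=
        (isMap_autFun inf_le_right).mpr (coprime_mem_autGroup hidx inf_le_right hv hvcop)
      have hRU : R ≤ Q ⊓ T := le_inf hR hRT
      exact ⟨1, Subgroup.one_mem _, autFun v, hvE.mono hRU, fun x hx => by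
        rw [autFun_one (hvE.mem_S (hRU hx)), ev x (hRU hx)]⟩
  have hall : ∀ {P : Subgroup Ω} {f : Ω → Ω}, IsMap F P f → Φ P f := fun hf =>
    alperin_radical hS hF hcls (fun g hg => by
      obtain ⟨γ, hγ, e⟩ := hg.exists_aut (Subgroup.eq_of_le_of_card_ge hg.img_le hg.card_img.ge)
      refine hcls.congr S _ g ((isMap_autFun le_rfl).mpr hγ) (fun x hx => (e x hx).symm)
        (hsite S ⟨le_rfl, fun Q hQ => ?_⟩ γ hγ)
      rw [show normalizerIn S S = S from le_antisymm inf_le_left (le_normalizerIn le_rfl)]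
      exact Subgroup.card_le_of_le inf_le_left)
      (fun Q _ hQn _ _ _ γ hγ => hsite Q hQn γ hγ) hf
  refine ⟨⟨hE, hF, hidx.1, hsc, fun P hP φ hφ α hα => ?_, fun P hP φ hφ => ?_⟩, ?_⟩
  · have himg : img P (autFun α) = (P.subgroupOf T).map (T.subtype.comp α.toMonoidHom) := by
      refine le_antisymm (IsMap.img_le_iff.mpr fun x hx => ?_) ?_
      · rw [autFun_apply_mem _ (hP hx)]
        exact ⟨⟨x, hP hx⟩, hx, rfl⟩
      · rintro _ ⟨x, hx, rfl⟩
        rw [show T.subtype.comp α.toMonoidHom x = autFun α x from (autFun_apply α x).symm]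
        exact IsMap.apply_mem_img hx
    obtain ⟨χ, hχ, e⟩ := transport_of_index hS hTS hE hidx hα (isMap_of_mem hφ)
    rw [← himg]
    refine ⟨χ, hχ, fun x hφx hαx => ?_⟩
    rw [e]
    show autFun α (toFun' φ (autFun α⁻¹ ((α ⟨x, hP x.2⟩ : T) : Ω))) = _
    have h1 : ((α ⟨x, hP x.2⟩ : T) : Ω) = autFun α x := (autFun_apply α ⟨x, hP x.2⟩).symm
    rw [h1, autFun_inv_apply' α (hP x.2), toFun'_apply φ x]
    exact autFun_apply α ⟨φ x, hφx⟩
  · obtain ⟨α, hα, f₀, ⟨φ₀, hφ₀, e₀⟩, he⟩ := hall (isMap_of_mem hφ) P le_rfl hP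
    refine ⟨α, hα, φ₀, hφ₀, fun x hx => ?_⟩
    rw [← autFun_apply α ⟨φ₀ x, hx⟩, ← toFun'_apply φ x, he x x.2]
    show autFun α (f₀ x) = autFun α (φ₀ x)
    rw [e₀ x]
  -- the extension condition
  intro α hα
  set C := centralizerIn S T
  set X := T ⊔ C
  have hXS : X ≤ S := sup_le hTS inf_le_left
  haveI := finite_of_le hXS
  let Good : MulAut T → Prop := fun a => ∃ β ∈ F.autGroup X,
    (∀ x ∈ T, autFun β x = autFun a x) ∧
    ∀ c ∈ C, c⁻¹ * autFun β c ∈ T ⊓ Subgroup.centralizer (T : Set Ω)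
  have hstab : ∀ β ∈ F.autGroup X, (∀ x ∈ T, autFun β x ∈ T) → ∀ c ∈ C, autFun β c ∈ C := by
    intro β hβ hT' c hc
    have hm := (isMap_autFun hXS).mpr hβ
    have h := hm.mem_centralizerIn (P := T) le_sup_left (Subgroup.mem_sup_right hc) hc
    rwa [img_eq_of_apply hm le_sup_left hT'] at h
  let K : Subgroup (MulAut T) :=
    { carrier := {a | Good a}
      one_mem' := ⟨1, Subgroup.one_mem _, fun x hx => by
        rw [autFun_one hx, autFun_one (Subgroup.mem_sup_left hx)], fun c hc => by
        rw [autFun_one (Subgroup.mem_sup_right hc), inv_mul_cancel]; exact Subgroup.one_mem _⟩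
      mul_mem' := by
        rintro a b ⟨β, hβ, e, h⟩ ⟨γ, hγ, e', h'⟩
        refine ⟨β * γ, Subgroup.mul_mem _ hβ hγ, fun x hx => ?_, fun c hc => ?_⟩
        · rw [autFun_mul _ _ (Subgroup.mem_sup_left hx), e' x hx, e _ (autFun_mem b hx),
            autFun_mul _ _ hx]
        · have hγc := hstab γ hγ (fun x hx => by rw [e' x hx]; exact autFun_mem b hx) c hc
          have h1 := Subgroup.mul_mem _ (h' c hc) (h _ hγc)
          rw [autFun_mul _ _ (Subgroup.mem_sup_right hc)]
          convert h1 using 1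
          group
      inv_mem' := by
        rintro a ⟨β, hβ, e, h⟩
        have hi : ∀ x ∈ T, autFun β⁻¹ x = autFun a⁻¹ x := fun x hx => by
          conv_lhs => rw [← autFun_inv_apply a hx, ← e _ (autFun_mem a⁻¹ hx)]
          exact autFun_inv_apply' β (Subgroup.mem_sup_left (autFun_mem a⁻¹ hx))
        refine ⟨β⁻¹, Subgroup.inv_mem _ hβ, hi, fun c hc => ?_⟩
        have hc' := hstab β⁻¹ (Subgroup.inv_mem _ hβ)
          (fun x hx => by rw [hi x hx]; exact autFun_mem _ hx) c hc
        have h1 := h _ hc'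
        rw [autFun_inv_apply β (Subgroup.mem_sup_right hc)] at h1
        simpa using Subgroup.inv_mem _ h1 }
  have hTn : E.IsFullyNormalized T := ⟨le_rfl, fun Q hQ => by
    obtain ⟨f, hf, rfl⟩ := isConj_iff.mp hQ
    rw [Subgroup.eq_of_le_of_card_ge hf.img_le hf.card_img.ge]⟩
  have hαK : α ∈ K := by
    refine autGroup_le_of hS hTS hE hTn (K := K) (fun a ha => ?_) (fun a ha hcop => ?_) hα
    · obtain ⟨t, ht, et⟩ := mem_autInducedBy.mp ha
      have hm : IsMap F X (fun x => t * x * t⁻¹) := isMap_conj hXS (hTS ht)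
      have htX : t ∈ X := Subgroup.mem_sup_left ht
      obtain ⟨β, hβ, eβ⟩ := hm.exists_aut (img_eq_of_apply hm le_rfl fun x hx =>
        X.mul_mem (X.mul_mem htX hx) (X.inv_mem htX))
      refine ⟨β, hβ, fun x hx => ?_, fun c hc => ?_⟩
      · rw [eβ x (Subgroup.mem_sup_left hx), autFun_apply_mem _ hx, et]
      · have := (mem_centralizerIn.mp hc).2 t ht
        rw [eβ c (Subgroup.mem_sup_right hc),
          show c⁻¹ * (t * c * t⁻¹) = 1 by
            rw [show t * c * t⁻¹ = c from by
              calc t * c * t⁻¹ = c * t * c⁻¹ * c * t⁻¹ := by rw [this]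
                _ = c := by group]
            exact inv_mul_cancel c]
        exact Subgroup.one_mem _
    · have haF := autGroup_le_of_sub hidx.1 le_rfl hTS ha
      have ham := (isMap_autFun hTS).mpr haF
      have hTFn : F.IsFullyNormalized T := ⟨hTS, fun Q hQ => by
        obtain ⟨f, hf, rfl⟩ := isConj_iff.mp hQ
        rw [img_eq_of_apply hf le_rfl fun x hx => stronglyClosed_apply hsc hf hx hx]⟩
      obtain ⟨g, hg, hge⟩ := receptive_extend (fullyNormalized_props hS hF hTFn).2.2 ham
        (img_autFun a)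
      have hXe : X ≤ extSub S T (autFun a) :=
        sup_le (le_extSub ham) (centralizerIn_le_extSub T _)
      have hgX := hg.mono hXe
      have hgT : img T g = T := (img_congr hge).trans (img_autFun a)
      have hle : img X g ≤ X := by
        rw [hgX.img_sup]
        refine sup_le_sup hgT.le (IsMap.img_le_iff.mpr fun c hc => ?_)
        have := hgX.mem_centralizerIn (P := T) le_sup_left (Subgroup.mem_sup_right hc) hc
        rwa [hgT] at this
      obtain ⟨β, hβ, eβ⟩ := hgX.exists_aut (Subgroup.eq_of_le_of_card_ge hle hgX.card_img.ge)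
      obtain ⟨b, c', hb, hc', hbc, ⟨k, hk⟩, hcop'⟩ := Cfsg.Lib.Transfer.exists_pPart p β
      have hc'F := (Subgroup.zpowers_le.mpr hβ) hc'
      obtain ⟨n, hn'⟩ := exists_pow_eq_self_of_coprime
        (show (p ^ k).Coprime (orderOf a) from (Nat.Coprime.pow_right k hcop).symm)
      set m := p ^ k * n
      have hbm : b ^ m = 1 := by rw [pow_mul, ← hk, pow_orderOf_eq_one, one_pow]
      have hpow : ∀ j : ℕ, ∀ x ∈ T, autFun (β ^ j) x = autFun (a ^ j) x := by
        intro j
        induction j with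
        | zero =>
          intro x hx
          rw [pow_zero, pow_zero, autFun_one (Subgroup.mem_sup_left hx), autFun_one hx]
        | succ j ih =>
          intro x hx
          rw [pow_succ, pow_succ, autFun_mul _ _ (Subgroup.mem_sup_left hx), autFun_mul _ _ hx,
            eβ x (Subgroup.mem_sup_left hx), hge x hx, ih _ (autFun_mem a hx)]
      have hβm : β ^ m = c' ^ m := by
        have hcomm : Commute b c' := by
          obtain ⟨i, rfl⟩ := Subgroup.mem_zpowers_iff.mp hb
          obtain ⟨j, rfl⟩ := Subgroup.mem_zpowers_iff.mp hc'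
          exact Commute.zpow_zpow_self β i j
        rw [← hbc, hcomm.mul_pow, hbm, one_mul]
      refine ⟨c' ^ m, Subgroup.pow_mem _ hc'F m, fun x hx => ?_, fun c hc => ?_⟩
      · rw [← hβm, hpow m x hx, pow_mul, hn']
      · have hmem := mem_hyperfocalSubgroup (F := F) hXS (α := ⟨c' ^ m, Subgroup.pow_mem _ hc'F m⟩)
          (Cfsg.Lib.Transfer.mem_pResidual_of_coprime (by
            rw [Subgroup.orderOf_mk]
            exact Nat.Coprime.coprime_dvd_left (orderOf_pow_dvd m) hcop'))
          (Subgroup.mem_sup_right hc : c ∈ X)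
        refine ⟨hidx.2.1 hmem, ?_⟩
        have hcc := hstab _ (Subgroup.pow_mem _ hc'F m) (fun x hx => by
          rw [← hβm, hpow m x hx]; exact autFun_mem _ hx) c hc
        exact Subgroup.mul_mem _ (Subgroup.inv_mem _ hc.2) hcc.2
  obtain ⟨β, hβ, e, h⟩ := hαK
  refine ⟨β, hβ, fun x => ?_, fun c hc => ?_⟩
  · rw [← autFun_apply, ← autFun_apply α x]
    exact e x x.2
  · rw [← autFun_apply β c]
    exact h c hc

end Normal

end Cfsg.Lib.Fusion.PPower
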