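import Cfsg.Agent.Fusion.PrimeResidual
import Cfsg.Agent.Fusion.CharacterSub
import Cfsg.Agent.Fusion.CharAut
import Cfsg.Agent.Fusion.InvarianceEquiv
import Cfsg.Agent.Fusion.PPowerTheory

/-!
The residual of index prime to `p` of a weakly normal subsystem is normal.
-/

set_option autoImplicit false
set_option linter.unusedSectionVars false
set_option linter.style.haveILetI false

namespace Cfsg.Lib.Fusion.WeaklyNormal

open Cfsg Cfsg.FusionSystem Cfsg.Lib.Fusion

universe u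

variable {Ω : Type u} [Group Ω] {S T : Subgroup Ω} {F : FusionSystem S} {E : FusionSystem T}
  {p : ℕ}

theorem comm_of_mem {c x : Ω} (hc : c ∈ centralizerIn S T) (hx : x ∈ T) : c * x = x * c := by
  have := (Fusion.mem_centralizerIn.mp hc).2 x hx
  exact eq_mul_of_mul_inv_eq this

theorem conj_of_mem {c x : Ω} (hc : c ∈ centralizerIn S T) (hx : x ∈ T) : x * c * x⁻¹ = c := by
  rw [← comm_of_mem hc hx, mul_inv_cancel_right]

theorem le_centralizerIn {P : Subgroup Ω} (hP : P ≤ T) :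
    centralizerIn S T ≤ centralizerIn S P := fun _ hc =>
  Fusion.mem_centralizerIn.mpr ⟨hc.1, fun x hx =>
    (Fusion.mem_centralizerIn.mp hc).2 x (hP hx)⟩

theorem mem_sup_iff_mul {P : Subgroup Ω} (hP : P ≤ T) {y : Ω} :
    y ∈ P ⊔ centralizerIn S T ↔ ∃ a ∈ P, ∃ c ∈ centralizerIn S T, a * c = y := by
  have hn : P ≤ Subgroup.normalizer (centralizerIn S T : Set Ω) := fun x hx => by
    rw [Subgroup.mem_normalizer_iff]
    intro c
    refine ⟨fun hc => by rwa [conj_of_mem hc (hP hx)], fun hc => ?_⟩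
    have := conj_of_mem hc (T.inv_mem (hP hx))
    rw [show x⁻¹ * (x * c * x⁻¹) * x⁻¹⁻¹ = c by group] at this
    rwa [← this] at hc
  rw [← SetLike.mem_coe, Subgroup.coe_mul_of_left_le_normalizer_right _ _ hn, Set.mem_mul]
  rfl

/-- Extension to `C_S(T)`, trivial modulo the image. -/
def Ext (F : FusionSystem S) (T P : Subgroup Ω) (f : Ω → Ω) : Prop :=
  ∃ g, IsMap F (P ⊔ centralizerIn S T) g ∧ (∀ x ∈ P, g x = f x) ∧
    ∀ c ∈ centralizerIn S T, c⁻¹ * g c ∈ img P f

/-- The class of the extendable maps. -/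
def ExtC (F : FusionSystem S) (E : FusionSystem T) (P : Subgroup Ω) (f : Ω → Ω) : Prop :=
  E.IsCentric P → Ext F T P f

variable [Finite S] [Fact p.Prime]

theorem ext_mono (hsc : F.StronglyClosed T) {P R : Subgroup Ω} {f : Ω → Ω} (hf : IsMap E P f)
    (hR : R ≤ P) (hRc : E.IsCentric R) (h : Ext F T P f) : Ext F T R f := by
  obtain ⟨g, hg, e, hc⟩ := h
  have hRP : R ⊔ centralizerIn S T ≤ P ⊔ centralizerIn S T := sup_le_sup_right hR _
  refine ⟨g, hg.mono hRP, fun x hx => e x (hR hx), fun c hcc => ?_⟩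
  have hgc := (hg.mono hRP).mem_centralizerIn (P := R) le_sup_left
    (Subgroup.mem_sup_right hcc) (le_centralizerIn hRc.1 hcc)
  rw [img_congr fun x hx => e x (hR hx)] at hgc
  have hzT : c⁻¹ * g c ∈ T := IsMap.img_le_iff.mpr (fun x hx => hf.mem_S hx) (hc c hcc)
  have hcR : c ∈ centralizerIn S (img R f) :=
    le_centralizerIn (IsMap.img_le_iff.mpr fun x hx => hf.mem_S (hR hx)) hcc
  exact centric_img hRc (hf.mono hR)
    ⟨hzT, (Subgroup.mul_mem _ (Subgroup.inv_mem _ hcR) hgc).2⟩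

theorem ext_conj (hsc : F.StronglyClosed T) {P : Subgroup Ω} (hP : P ≤ T) {t : Ω} (ht : t ∈ T) :
    Ext F T P (fun x => t * x * t⁻¹) :=
  ⟨_, isMap_conj (sup_le (hP.trans hsc.1) inf_le_left) (hsc.1 ht), fun _ _ => rfl,
    fun c hc => by
      rw [conj_of_mem hc ht, inv_mul_cancel]
      exact Subgroup.one_mem _⟩

theorem isMapClass_extC (hS : IsPGroup p S) (hE : E.IsWeaklyNormalIn F p) :
    IsMapClass E (ExtC F E) where
  conj P t hP ht _ := ext_conj hE.2.2.2.1 hP ht
  congr P f f' _ e h hc := by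
    obtain ⟨g, hg, eg, hgc⟩ := h hc
    exact ⟨g, hg, fun x hx => (eg x hx).trans (e x hx).symm,
      fun c hcc => img_congr e ▸ hgc c hcc⟩
  mono P R f hf hR h hc := by
    haveI := finite_of_le hE.2.2.2.1.1
    exact ext_mono hE.2.2.2.1 hf hR hc (h (centric_of_le hc hR hf.le))
  comp P Q f g hf hg hfQ h h' hc := by
    haveI := finite_of_le hE.2.2.2.1.1
    have hic : E.IsCentric (img P f) := centric_of_isConj hc (isConj_iff.mpr ⟨f, hf, rfl⟩)
    have hiQ : img P f ≤ Q := IsMap.img_le_iff.mpr hfQ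
    obtain ⟨f₁, hf₁, ef, hfc⟩ := h hc
    obtain ⟨g₁, hg₁, eg, hgc⟩ :=
      ext_mono hE.2.2.2.1 hg hiQ hic (h' (centric_of_le hic hiQ hg.le))
    have hmem : ∀ y ∈ P ⊔ centralizerIn S T, f₁ y ∈ img P f ⊔ centralizerIn S T := fun y hy => by
      obtain ⟨a, ha, c, hcc, rfl⟩ := (mem_sup_iff_mul hc.1).mp hy
      rw [hf₁.map_mul (Subgroup.mem_sup_left ha) (Subgroup.mem_sup_right hcc), ef a ha]
      have : f₁ c = c * (c⁻¹ * f₁ c) := by group
      rw [this]
      exact Subgroup.mul_mem _ (Subgroup.mem_sup_left (IsMap.apply_mem_img ha))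
        (Subgroup.mul_mem _ (Subgroup.mem_sup_right hcc) (Subgroup.mem_sup_left (hfc c hcc)))
    refine ⟨g₁ ∘ f₁, hf₁.comp hg₁ hmem, fun x hx => ?_, fun c hcc => ?_⟩
    · show g₁ (f₁ x) = g (f x)
      rw [ef x hx, eg _ (IsMap.apply_mem_img hx)]
    · rw [img_comp hf (hg.mono hiQ)]
      show c⁻¹ * g₁ (f₁ c) ∈ _
      have : f₁ c = c * (c⁻¹ * f₁ c) := by group
      rw [this, hg₁.map_mul (Subgroup.mem_sup_right hcc) (Subgroup.mem_sup_left (hfc c hcc)),
        eg _ (hfc c hcc), ← mul_assoc]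
      exact Subgroup.mul_mem _ (hgc c hcc) (IsMap.apply_mem_img (hfc c hcc))
  inv P f k hf hk hl h hc := by
    haveI := finite_of_le hE.2.2.2.1.1
    have hPc : E.IsCentric P := centric_of_isConj hc
      (isConj_symm (isConj_iff.mpr ⟨f, hf, rfl⟩))
    obtain ⟨g, hg, eg, hgc⟩ := h hPc
    obtain ⟨k', hk', -, hkl, -⟩ := hg.exists_inv
    have hle : img P f ⊔ centralizerIn S T ≤ img (P ⊔ centralizerIn S T) g := by
      have h1 : img P f ≤ img (P ⊔ centralizerIn S T) g := IsMap.img_le_iff.mpr fun x hx => by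
        rw [← eg x hx]
        exact IsMap.apply_mem_img (Subgroup.mem_sup_left hx)
      refine sup_le h1 fun c hcc => ?_
      have : c = g c * (c⁻¹ * g c)⁻¹ := by group
      rw [this]
      exact Subgroup.mul_mem _ (IsMap.apply_mem_img (Subgroup.mem_sup_right hcc))
        (Subgroup.inv_mem _ (h1 (hgc c hcc)))
    have hk'e : ∀ y ∈ img P f, k' y = k y := fun y hy => by
      obtain ⟨x, hx, rfl⟩ := hf.mem_img.mp hy
      rw [hl x hx, ← eg x hx, hkl x (Subgroup.mem_sup_left hx)]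
    refine ⟨k', hk'.mono hle, hk'e, fun c hcc => ?_⟩
    have hz : (c⁻¹ * g c)⁻¹ ∈ img P f := Subgroup.inv_mem _ (hgc c hcc)
    have hc' : c = g c * (c⁻¹ * g c)⁻¹ := by group
    have h2 : k' c = c * k ((c⁻¹ * g c)⁻¹) := by
      conv_lhs => rw [hc']
      rw [hk'.map_mul (IsMap.apply_mem_img (Subgroup.mem_sup_right hcc))
        (hle (Subgroup.mem_sup_left hz)), hkl c (Subgroup.mem_sup_right hcc), hk'e _ hz]
    rw [h2, inv_mul_cancel_left]
    exact IsMap.apply_mem_img hz

/-- The `p`-elements of the automizers of centric subgroups extend. -/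
theorem ext_pElement (hS : IsPGroup p S) (hE : E.IsWeaklyNormalIn F p) {Q : Subgroup Ω}
    (hQc : E.IsCentric Q) {u : MulAut Q} (hu : u ∈ E.autGroup Q) (hk : ∃ k : ℕ, orderOf u = p ^ k) :
    Ext F T Q (autFun u) := by
  obtain ⟨hEs, hF, hinv⟩ := hE
  have hsc : F.StronglyClosed T := hinv.2.1
  have hTS : T ≤ S := hsc.1
  haveI := finite_of_le hTS
  have hQS : Q ≤ S := hQc.1.trans hTS
  obtain ⟨Q', hQQ', hQ'⟩ := exists_fullyNormalized (F := F) hQS
  obtain ⟨f₀, hf₀, hi₀⟩ := isConj_iff.mp hQQ'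
  obtain ⟨-, hfa, hrec⟩ := fullyNormalized_props hS hF hQ'
  obtain ⟨χ, -, f, hf, hi, -, -⟩ := exists_map_normalizer hS hfa hrec hf₀ hi₀
  have hQN : Q ≤ normalizerIn S Q := le_normalizerIn hQS
  have hfQ : IsMap F Q f := hf.mono hQN
  have hQ'T : Q' ≤ T := hi ▸ IsMap.img_le_iff.mpr fun x hx =>
    stronglyClosed_apply hsc hfQ hx (hQc.1 hx)
  have hQ'c : E.IsCentric Q' := hi ▸ CharSub.centricT_img hinv hQc hfQ
  haveI := finite_of_le hQS
  haveI := finite_of_le hQ'.1
  have hQ'E : E.IsFullyNormalized Q' := by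
    refine ⟨hQ'T, fun R hR => ?_⟩
    obtain ⟨r, hr, hri⟩ := isConj_iff.mp (isConj_symm hR)
    obtain ⟨-, -, h, hh, hhi, -, hhN⟩ :=
      exists_map_normalizer hS hfa hrec (isMap_of_sub hinv.1 hr) hri
    refine card_le_of_isMap hh (fun x hx => ⟨hTS hx.1, hx.2⟩) (inf_le_left.trans hTS) fun x hx =>
      ⟨stronglyClosed_apply hsc hh ⟨hTS hx.1, hx.2⟩ hx.1, (hhN x ⟨hTS hx.1, hx.2⟩).2⟩
  -- transport of `u`
  set u' : MulAut Q' := MulAut.congr (hfQ.equiv hi) u
  obtain ⟨k, hkk, -, hkl, -⟩ := hfQ.exists_inv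
  have hu' : u' ∈ E.autGroup Q' := by
    have h1 := strongInv_of_invariant hinv Q Q le_rfl hQc.1 (autFun u)
      ((isMap_autFun hQc.1).mpr hu) (fun x hx => autFun_mem u hx) f hfQ (autFun u') fun x hx =>
        congr_equiv_spec hfQ hi u hx
    rw [hi] at h1
    exact (isMap_autFun hQ'T).mp h1
  obtain ⟨k₀, hk₀⟩ := hk
  have hu'p : IsPGroup p (Subgroup.zpowers u') := by
    refine IsPGroup.of_card (n := k₀) ?_
    rw [Nat.card_zpowers]
    exact (orderOf_injective (MulAut.congr (hfQ.equiv hi)).toMonoidHom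
      (MulAut.congr (hfQ.equiv hi)).injective u).trans hk₀
  obtain ⟨w, hw, hwu⟩ := exists_conj_into_autS
    (fullyNormalized_props (hS.of_injective _ (Subgroup.inclusion_injective hTS)) hEs hQ'E).2.1
    hu'p (Subgroup.zpowers_le.mpr hu')
  obtain ⟨t, ht, et⟩ := mem_autInducedBy.mp (hwu u' (Subgroup.mem_zpowers u'))
  have htn : t ∈ Subgroup.normalizer (Q' : Set Ω) := mem_normalizer_of_maps_finite fun y hy => by
    rw [← et ⟨y, hy⟩]
    exact ((w * u' * w⁻¹) ⟨y, hy⟩).2
  -- extension of `w`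
  set X := Q' ⊔ centralizerIn S Q'
  have hXS : X ≤ S := sup_le hQ'.1 inf_le_left
  have hwm : IsMap F Q' (autFun w) := isMap_of_sub hinv.1 ((isMap_autFun hQ'T).mpr hw)
  obtain ⟨g, hg, hge⟩ := receptive_extend hrec hwm (img_autFun w)
  have hgX : IsMap F X g := hg.mono (sup_le (le_extSub hwm) (centralizerIn_le_extSub Q' _))
  have hgQ : img Q' g = Q' := (img_congr hge).trans (img_autFun w)
  haveI := finite_of_le hXS
  have hgle : img X g ≤ X := by
    rw [hgX.img_sup, hgQ]
    refine sup_le_sup_left (IsMap.img_le_iff.mpr fun c hc => ?_) _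
    have := hgX.mem_centralizerIn (P := Q') le_sup_left (Subgroup.mem_sup_right hc) hc
    rwa [hgQ] at this
  obtain ⟨W, hW, eW⟩ := hgX.exists_aut (Subgroup.eq_of_le_of_card_ge hgle hgX.card_img.ge)
  have htX : ∀ x ∈ X, t * x * t⁻¹ ∈ X := by
    intro x hx
    have hm : IsMap F X (fun y => t * y * t⁻¹) := isMap_conj hXS (hTS ht)
    have hQi : img Q' (fun y => t * y * t⁻¹) = Q' :=
      img_eq_of_apply hm le_sup_left fun y hy => conj_mem_of_mem_normalizer htn hy
    have h := IsMap.apply_mem_img (f := fun y => t * y * t⁻¹) hx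
    rw [hm.img_sup, hQi] at h
    refine sup_le_sup_left (IsMap.img_le_iff.mpr fun c hc => ?_) _ h
    have := hm.mem_centralizerIn (P := Q') le_sup_left (Subgroup.mem_sup_right hc) hc
    rwa [hQi] at this
  obtain ⟨U, hU, eU⟩ := (isMap_conj (F := F) hXS (hTS ht)).exists_aut
    (img_eq_of_apply (isMap_conj (F := F) hXS (hTS ht)) le_rfl htX)
  set V : MulAut X := W⁻¹ * U * W
  have hV : V ∈ F.autGroup X :=
    Subgroup.mul_mem _ (Subgroup.mul_mem _ (Subgroup.inv_mem _ hW) hU) hW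
  have hQX : Q' ≤ X := le_sup_left
  have hWQ : ∀ y ∈ Q', autFun W y = autFun w y := fun y hy => by rw [eW y (hQX hy), hge y hy]
  have hWiQ : ∀ y ∈ Q', autFun W⁻¹ y = autFun w⁻¹ y := fun y hy => by
    conv_lhs => rw [← autFun_inv_apply w hy, ← hWQ _ (autFun_mem w⁻¹ hy)]
    exact autFun_inv_apply' W (hQX (autFun_mem w⁻¹ hy))
  have hVQ : ∀ y ∈ Q', autFun V y = autFun u' y := fun y hy => by
    have hwy : autFun w y ∈ Q' := autFun_mem w hy
    have e1 : t * autFun w y * t⁻¹ = autFun w (autFun u' y) := by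
      have := et ⟨autFun w y, hwy⟩
      rw [← autFun_apply] at this
      rw [← this, ← autFun_mul _ _ hy, inv_mul_cancel_right, autFun_mul _ _ hy]
    rw [autFun_mul _ _ (hQX hy), autFun_mul _ _ (autFun_mem W (hQX hy)), hWQ y hy,
      eU _ (hQX hwy), e1, hWiQ _ (autFun_mem w (autFun_mem u' hy)),
      autFun_inv_apply' w (autFun_mem u' hy)]
  have hVC : ∀ c ∈ centralizerIn S Q', c⁻¹ * autFun V c ∈ Q' := fun c hc => by
    have hcX : c ∈ X := Subgroup.mem_sup_right hc
    set c₀ := autFun W c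
    have hc₀ : c₀ ∈ centralizerIn S Q' := by
      have := ((isMap_autFun hXS).mpr hW).mem_centralizerIn (P := Q') le_sup_left hcX hc
      rwa [img_congr hWQ, img_autFun] at this
    have hz : c₀⁻¹ * (t * c₀ * t⁻¹) ∈ Q' := by
      refine hQ'c.2 Q' (isConj_refl hQ'T) (Fusion.mem_centralizerIn.mpr ⟨?_, fun y hy => ?_⟩)
      · have h1 : c₀⁻¹ * t * c₀ ∈ T := by
          have hn := conj_mem_of_mem_normalizer
            (normalizes_of_stronglyClosed hsc (S.inv_mem hc₀.1)) ht
          rwa [inv_inv] at hn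
        have h2 := T.mul_mem h1 (T.inv_mem ht)
        convert h2 using 1
        group
      · have hm : IsMap F X (fun y => t * y * t⁻¹) := isMap_conj hXS (hTS ht)
        have h1 := hm.mem_centralizerIn (P := Q') le_sup_left (Subgroup.mem_sup_right hc₀) hc₀
        rw [img_eq_of_apply hm le_sup_left fun y hy => conj_mem_of_mem_normalizer htn hy] at h1
        exact (Fusion.mem_centralizerIn.mp
          (Subgroup.mul_mem _ (Subgroup.inv_mem _ hc₀) h1)).2 y hy
    have e : autFun V c = c * autFun w⁻¹ (c₀⁻¹ * (t * c₀ * t⁻¹)) := by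
      rw [autFun_mul _ _ hcX, autFun_mul _ _ (autFun_mem W hcX), eU _ (autFun_mem W hcX)]
      show autFun W⁻¹ (t * c₀ * t⁻¹) = _
      have : t * c₀ * t⁻¹ = c₀ * (c₀⁻¹ * (t * c₀ * t⁻¹)) := by group
      conv_lhs => rw [this]
      rw [((isMap_autFun hXS).mpr (Subgroup.inv_mem _ hW)).map_mul (autFun_mem W hcX) (hQX hz),
        hWiQ _ hz, autFun_inv_apply' W hcX]
    rw [e, inv_mul_cancel_left]
    exact autFun_mem _ hz
  -- pull back
  set Y := Q ⊔ centralizerIn S T
  have hCN : centralizerIn S T ≤ normalizerIn S Q :=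
    (le_centralizerIn hQc.1).trans (centralizerIn_le_normalizerIn Q)
  have hfY : IsMap F Y f := hf.mono (sup_le hQN hCN)
  have hfc : ∀ c ∈ centralizerIn S T, f c ∈ centralizerIn S Q' := fun c hc => by
    have := hfY.mem_centralizerIn (P := Q) le_sup_left (Subgroup.mem_sup_right hc)
      (le_centralizerIn hQc.1 hc)
    rwa [hi] at this
  obtain ⟨f', hf', -, hf'l, -⟩ := hfY.exists_inv
  have hfX : ∀ y ∈ Y, f y ∈ X := fun y hy => by
    obtain ⟨a, ha, c, hc, rfl⟩ := (mem_sup_iff_mul hQc.1).mp hy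
    rw [hfY.map_mul (Subgroup.mem_sup_left ha) (Subgroup.mem_sup_right hc)]
    exact X.mul_mem (Subgroup.mem_sup_left (hi ▸ IsMap.apply_mem_img ha))
      (Subgroup.mem_sup_right (hfc c hc))
  have hQ'Y : Q' ≤ img Y f := hi ▸ img_mono le_sup_left f
  have hVf : ∀ y ∈ Y, autFun V (f y) ∈ img Y f := fun y hy => by
    obtain ⟨a, ha, c, hc, rfl⟩ := (mem_sup_iff_mul hQc.1).mp hy
    have hfa' : f a ∈ Q' := hi ▸ IsMap.apply_mem_img ha
    rw [hfY.map_mul (Subgroup.mem_sup_left ha) (Subgroup.mem_sup_right hc),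
      ((isMap_autFun hXS).mpr hV).map_mul (hQX hfa') (Subgroup.mem_sup_right (hfc c hc)),
      hVQ _ hfa']
    refine Subgroup.mul_mem _ (hQ'Y (autFun_mem u' hfa')) ?_
    have : autFun V (f c) = f c * ((f c)⁻¹ * autFun V (f c)) := by group
    rw [this]
    exact Subgroup.mul_mem _ (IsMap.apply_mem_img (Subgroup.mem_sup_right hc))
      (hQ'Y (hVC _ (hfc c hc)))
  refine ⟨f' ∘ (autFun V ∘ f), (hfY.comp ((isMap_autFun hXS).mpr hV) hfX).comp hf' hVf,
    fun x hx => ?_, fun c hc => ?_⟩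
  · show f' (autFun V (f x)) = autFun u x
    rw [hVQ _ (hi ▸ IsMap.apply_mem_img hx), congr_equiv_spec hfQ hi u hx,
      hf'l _ (Subgroup.mem_sup_left (autFun_mem u hx))]
  · rw [img_autFun]
    show c⁻¹ * f' (autFun V (f c)) ∈ Q
    have hz := hVC _ (hfc c hc)
    have : autFun V (f c) = f c * ((f c)⁻¹ * autFun V (f c)) := by group
    rw [this, hf'.map_mul (IsMap.apply_mem_img (Subgroup.mem_sup_right hc)) (hQ'Y hz),
      hf'l c (Subgroup.mem_sup_right hc), inv_mul_cancel_left]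
    obtain ⟨q, hq, hqe⟩ := hfQ.mem_img.mp (hi.symm ▸ hz)
    rw [← hqe, hf'l q (Subgroup.mem_sup_left hq)]
    exact hq

theorem isGenClass_extC (hS : IsPGroup p S) (hE : E.IsWeaklyNormalIn F p) :
    PrimeIndex.IsGenClass E p (PrimeIndex.centrics E) (ExtC F E) := by
  refine ⟨isMapClass_extC hS hE, fun Q hQ α hα => ?_⟩
  have hle : PrimeIndex.opGen E p Q ≤ goodAut E (ExtC F E) (isMapClass_extC hS hE) Q hQ.1 :=
    PrimeIndex.opGen_le_iff fun u hu hk => ⟨hu, fun hc => ext_pElement hS hE hc hu hk⟩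
  exact (hle hα).2

/-! ### From a centric subgroup to `T` -/

/-- The twisting by a fixed automorphism of `C_S(T)` extends from `R` to `T`. -/
theorem extend_twist (hS : IsPGroup p S) (hE : E.IsWeaklyNormalIn F p)
    {W : MulAut (T ⊔ centralizerIn S T : Subgroup Ω)} (hW : W ∈ F.autGroup (T ⊔ centralizerIn S T))
    (hWC : ∀ c ∈ centralizerIn S T, autFun W c ∈ centralizerIn S T) (hcop : (orderOf W).Coprime p) :
    ∀ {R : Subgroup Ω}, E.IsCentric R → ∀ e : Ω → Ω, IsMap F (R ⊔ centralizerIn S T) e →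
      (∀ r ∈ R, e r = r) → (∀ c ∈ centralizerIn S T, (autFun W⁻¹ c)⁻¹ * e c ∈ R) →
      ∃ h, IsMap F (T ⊔ centralizerIn S T) h ∧ (∀ r ∈ T, h r = r) ∧
        ∀ c ∈ centralizerIn S T, (autFun W⁻¹ c)⁻¹ * h c ∈ T := by
  obtain ⟨-, hF, hinv⟩ := hE
  have hsc : F.StronglyClosed T := hinv.2.1
  have hTS : T ≤ S := hsc.1
  haveI := finite_of_le hTS
  haveI := finite_of_le (sup_le hTS inf_le_left : T ⊔ centralizerIn S T ≤ S)
  have hX₀S : (T ⊔ centralizerIn S T) ≤ S := sup_le hTS inf_le_left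
  have hWm : ∀ n : ℕ, ∀ c ∈ (centralizerIn S T), autFun (W⁻¹ ^ n) c ∈ (centralizerIn S T) := by
    intro n
    have hi : ∀ c ∈ (centralizerIn S T), autFun W⁻¹ c ∈ (centralizerIn S T) := by
      haveI := finite_of_le (inf_le_left : (centralizerIn S T) ≤ S)
      have him : img (centralizerIn S T) (autFun W) = (centralizerIn S T) :=
        img_eq_of_apply ((isMap_autFun hX₀S).mpr hW) le_sup_right hWC
      intro c hc
      rw [← him] at hc
      obtain ⟨d, hd, rfl⟩ := (((isMap_autFun hX₀S).mpr hW).mono le_sup_right).mem_img.mp hc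
      rwa [autFun_inv_apply' W (Subgroup.mem_sup_right hd)]
    induction n with
    | zero =>
      intro c hc
      rwa [pow_zero, autFun_one (Subgroup.mem_sup_right hc)]
    | succ n ih =>
      intro c hc
      rw [pow_succ', autFun_mul _ _ (Subgroup.mem_sup_right hc)]
      exact hi _ (ih c hc)
  intro R hRc
  induction hk : Nat.card T - Nat.card R using Nat.strong_induction_on generalizing R with
  | _ k ih =>
  intro e he heR heC
  rcases eq_or_ne R T with rfl | hne
  · exact ⟨e, he, heR, heC⟩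
  have hRT : R ≤ T := hRc.1
  have hlt := lt_inf_normalizer hS (lt_of_le_of_ne hRT hne) hTS
  set N := T ⊓ Subgroup.normalizer (R : Set Ω)
  have hNT : N ≤ T := inf_le_left
  have hRN : R ≤ N := hlt.le
  haveI := finite_of_le (hRT.trans hTS)
  haveI := finite_of_le (hNT.trans hTS)
  set X := R ⊔ (centralizerIn S T)
  have hXS : X ≤ S := he.le
  have hRX : R ≤ X := le_sup_left
  haveI := finite_of_le hXS
  have hcongrW : ∀ c ∈ (centralizerIn S T), autFun W⁻¹ c ∈ (centralizerIn S T) := fun c hc => by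
    have := hWm 1 c hc
    rwa [pow_one] at this
  have heX : ∀ x ∈ X, e x ∈ X := fun x hx => by
    obtain ⟨a, ha, c, hc, rfl⟩ := (mem_sup_iff_mul hRT).mp hx
    rw [he.map_mul (hRX ha) (Subgroup.mem_sup_right hc), heR a ha,
      show e c = autFun W⁻¹ c * ((autFun W⁻¹ c)⁻¹ * e c) by group]
    exact X.mul_mem (hRX ha) (X.mul_mem (Subgroup.mem_sup_right (hcongrW c hc)) (hRX (heC c hc)))
  obtain ⟨ε, hε, eε⟩ := he.exists_aut (img_eq_of_apply he le_rfl heX)
  -- conjugations by `N`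
  have hconjX : ∀ t ∈ N, ∀ x ∈ X, t * x * t⁻¹ ∈ X := fun t ht x hx => by
    obtain ⟨a, ha, c, hc, rfl⟩ := (mem_sup_iff_mul hRT).mp hx
    rw [show t * (a * c) * t⁻¹ = t * a * t⁻¹ * (t * c * t⁻¹) by group, conj_of_mem hc ht.1]
    exact X.mul_mem (hRX (conj_mem_of_mem_normalizer ht.2 ha)) (Subgroup.mem_sup_right hc)
  -- the group
  let Good : MulAut X → Prop := fun γ => γ ∈ F.autGroup X ∧
    (∃ t ∈ N, ∀ r ∈ R, autFun γ r = t * r * t⁻¹) ∧ ∀ c ∈ (centralizerIn S T), c⁻¹ * autFun γ c ∈ R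
  have hmulG : ∀ a b, Good a → Good b → Good (a * b) := by
    rintro a b ⟨ha, ⟨s, hs, es⟩, hac⟩ ⟨hb, ⟨t, ht, et⟩, hbc⟩
    refine ⟨Subgroup.mul_mem _ ha hb, ⟨s * t, N.mul_mem hs ht, fun r hr => ?_⟩, fun c hc => ?_⟩
    · rw [autFun_mul _ _ (hRX hr), et r hr, es _ (conj_mem_of_mem_normalizer ht.2 hr)]
      group
    · rw [autFun_mul _ _ (Subgroup.mem_sup_right hc),
        show autFun b c = c * (c⁻¹ * autFun b c) by group,
        ((isMap_autFun hXS).mpr ha).map_mul (Subgroup.mem_sup_right hc) (hRX (hbc c hc)),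
        ← mul_assoc, es _ (hbc c hc)]
      exact R.mul_mem (hac c hc) (conj_mem_of_mem_normalizer hs.2 (hbc c hc))
  have honeG : Good 1 := ⟨Subgroup.one_mem _, ⟨1, N.one_mem, fun r hr => by
    rw [autFun_one (hRX hr)]; simp⟩, fun c hc => by
    rw [autFun_one (Subgroup.mem_sup_right hc), inv_mul_cancel]; exact R.one_mem⟩
  have hpowG : ∀ a, Good a → ∀ n : ℕ, Good (a ^ n) := fun a ha n => by
    induction n with
    | zero => rw [pow_zero]; exact honeG
    | succ n ih => rw [pow_succ]; exact hmulG _ _ ih ha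
  haveI : Finite (MulAut X) := Finite.of_injective (fun f : MulAut X => (f : X → X))
    DFunLike.coe_injective
  let L : Subgroup (MulAut X) :=
    { carrier := {γ | Good γ}
      one_mem' := honeG
      mul_mem' := fun {a b} ha hb => hmulG a b ha hb
      inv_mem' := fun {a} ha => by
        have h1 : a⁻¹ = a ^ (orderOf a - 1) := by
          refine inv_eq_of_mul_eq_one_left ?_
          rw [← pow_succ, Nat.sub_add_cancel (orderOf_pos a), pow_orderOf_eq_one]
        show Good a⁻¹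
        rw [h1]
        exact hpowG a ha _ }
  obtain ⟨m, hm⟩ := IsPGroup.iff_card.mp hS
  have hexpX : ∀ x : X, x ^ Nat.card S = 1 := fun x => Subtype.ext (by
    have := congrArg Subtype.val (pow_card_eq_one' (x := (⟨x, hXS x.2⟩ : S)))
    simpa only [Subgroup.coe_pow, Subgroup.coe_one] using this)
  have hLp : IsPGroup p L := by
    rintro ⟨γ, hγ⟩
    obtain ⟨hγ₁, ⟨t, ht, et⟩, hγ₃⟩ := id hγ
    obtain ⟨i, hi⟩ := isPGroup_autInducedBy hS R
      ⟨_, conjAut_mem_autInducedBy ht.2 (hTS ht.1)⟩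
    have hi' : (conjAut R t ht.2) ^ p ^ i = 1 := by simpa using congrArg Subtype.val hi
    have hfix : ∀ r ∈ R, autFun (γ ^ p ^ i) r = r := fun r hr => by
      rw [autFun_pow_agree γ (conjAut R t ht.2) hRX
        (fun y hy => by rw [et y hy, autFun_apply_mem _ hy, conjAut_apply]) _ r hr, hi',
        autFun_one hr]
    obtain ⟨-, -, hc1⟩ := hpowG γ hγ (p ^ i)
    refine ⟨i + m, Subtype.ext ?_⟩
    show γ ^ p ^ (i + m) = 1
    rw [pow_add, pow_mul, ← hm]
    refine chain_pow_eq_one _ (R : Set Ω) (fun x hx => Subtype.ext ?_) (fun x => ?_) hexpX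
    · rw [← autFun_apply]
      exact hfix x hx
    · show ((x : Ω))⁻¹ * (((γ ^ p ^ i) x : X) : Ω) ∈ R
      rw [← autFun_apply]
      obtain ⟨a, ha, c, hc, hac⟩ := (mem_sup_iff_mul hRT).mp x.2
      rw [← hac, ((isMap_autFun hXS).mpr
        (Subgroup.pow_mem _ hγ.1 _)).map_mul (hRX ha) (Subgroup.mem_sup_right hc), hfix a ha,
        show (a * c)⁻¹ * (a * autFun (γ ^ p ^ i) c) = c⁻¹ * autFun (γ ^ p ^ i) c by group]
      exact hc1 c hc
  -- a fully normalized conjugate
  obtain ⟨X', hXX', hX'⟩ := exists_fullyNormalized (F := F) hXS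
  obtain ⟨f₀, hf₀, hi₀⟩ := isConj_iff.mp hXX'
  obtain ⟨-, hfa, hrec⟩ := fullyNormalized_props hS hF hX'
  obtain ⟨χ, hχ, hχK⟩ := exists_conj_into_autS hfa
    (hLp.map (MulAut.congr (hf₀.equiv hi₀)).toMonoidHom)
    (by rw [← map_congr_autGroup hf₀ hi₀]; exact Subgroup.map_mono fun γ hγ => hγ.1)
  have hmem₀ : ∀ x ∈ X, f₀ x ∈ X' := fun x hx => hi₀ ▸ IsMap.apply_mem_img hx
  set m₀ := autFun χ ∘ f₀
  have hm₀ : IsMap F X m₀ := hf₀.comp ((isMap_autFun hX'.1).mpr hχ) hmem₀
  have hm₀i : img X m₀ = X' := by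
    subst hi₀
    rw [img_comp hf₀ ((isMap_autFun hX'.1).mpr hχ), img_autFun]
  have hreal : ∀ γ ∈ L, ∃ s ∈ S, ∀ x ∈ X, m₀ (autFun γ x) = s * m₀ x * s⁻¹ := fun γ hγ => by
    obtain ⟨s, hs, es⟩ := mem_autInducedBy.mp (hχK _ ⟨γ, hγ, rfl⟩)
    refine ⟨s, hs, fun x hx => ?_⟩
    have := es ⟨autFun χ (f₀ x), autFun_mem χ (hmem₀ x hx)⟩
    rw [← autFun_apply (χ * (MulAut.congr (hf₀.equiv hi₀)).toMonoidHom γ * χ⁻¹),
      ← autFun_mul _ χ (hmem₀ x hx), inv_mul_cancel_right, autFun_mul _ _ (hmem₀ x hx)] at this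
    show autFun χ (f₀ (autFun γ x)) = _
    rw [← congr_equiv_spec hf₀ hi₀ γ hx]
    exact this
  have hcL : ∀ (t : Ω) (ht : t ∈ N) (γ : MulAut X), γ ∈ F.autGroup X →
      (∀ x ∈ X, autFun γ x = t * x * t⁻¹) → γ ∈ L := fun t ht γ hγ eγ =>
    ⟨hγ, ⟨t, ht, fun r hr => eγ r (hRX hr)⟩, fun c hc => by
      rw [eγ c (Subgroup.mem_sup_right hc), conj_of_mem hc ht.1, inv_mul_cancel]
      exact R.one_mem⟩
  have htX : ∀ t ∈ N, t ∈ Subgroup.normalizer (X : Set Ω) := fun t ht =>
    mem_normalizer_of_maps_finite (hconjX t ht)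
  have hXc : ∀ t (ht : t ∈ N), conjAut X t (htX t ht) ∈ F.autGroup X := fun t ht =>
    autInducedBy_le hXS (conjAut_mem_autInducedBy (htX t ht) (hTS ht.1))
  have hXca : ∀ t (ht : t ∈ N), ∀ x ∈ X, autFun (conjAut X t (htX t ht)) x = t * x * t⁻¹ :=
    fun t ht x hx => by rw [autFun_apply_mem _ hx, conjAut_apply]
  -- the two extensions
  have hfA : IsMap F X (m₀ ∘ e) := he.comp hm₀ heX
  have hfAi : img X (m₀ ∘ e) = X' := by
    rw [img_comp he (hm₀.mono (IsMap.img_le_iff.mpr heX)), img_eq_of_apply he le_rfl heX, hm₀i]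
  have hNB : N ⊔ (centralizerIn S T) ≤ extSub S X m₀ := by
    refine sup_le (fun t ht => ?_) ((show (centralizerIn S T) ≤ X from le_sup_right).trans (le_extSub hm₀))
    obtain ⟨s, hs, es⟩ := hreal _ (hcL t ht _ (hXc t ht) (hXca t ht))
    exact ⟨hTS ht.1, htX t ht, s, hs, fun x hx => by rw [← hXca t ht x hx, es x hx]⟩
  have hNA : N ⊔ (centralizerIn S T) ≤ extSub S X (m₀ ∘ e) := by
    refine sup_le (fun t ht => ?_) ((show (centralizerIn S T) ≤ X from le_sup_right).trans (le_extSub hfA))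
    set γ := ε * conjAut X t (htX t ht) * ε⁻¹
    have hγ : γ ∈ L := by
      refine ⟨Subgroup.mul_mem _ (Subgroup.mul_mem _ hε (hXc t ht)) (Subgroup.inv_mem _ hε),
        ⟨t, ht, fun r hr => ?_⟩, fun c hc => ?_⟩
      · have hεr : autFun ε⁻¹ r = r := by
          conv_lhs => rw [← heR r hr, ← eε r (hRX hr)]
          exact autFun_inv_apply' ε (hRX hr)
        rw [autFun_mul _ _ (hRX hr), hεr, autFun_mul _ _ (hRX hr), hXca t ht r (hRX hr),
          eε _ (hconjX t ht r (hRX hr)), heR _ (conj_mem_of_mem_normalizer ht.2 hr)]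
      · obtain ⟨a, ha, d, hd, had⟩ :=
          (mem_sup_iff_mul hRT).mp (autFun_mem ε⁻¹ (Subgroup.mem_sup_right hc : c ∈ X))
        have hq : (d * a)⁻¹ * (t * (d * a) * t⁻¹) = a⁻¹ * (t * a * t⁻¹) := by
          rw [show t * (d * a) * t⁻¹ = t * d * t⁻¹ * (t * a * t⁻¹) by group, conj_of_mem hd ht.1]
          group
        have had' : autFun ε⁻¹ c = d * a := by rw [← had, comm_of_mem hd (hRT ha)]
        have hq' : a⁻¹ * (t * a * t⁻¹) ∈ R :=
          R.mul_mem (R.inv_mem ha) (conj_mem_of_mem_normalizer ht.2 ha)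
        rw [autFun_mul _ _ (Subgroup.mem_sup_right hc), had',
          autFun_mul _ _ (had' ▸ autFun_mem ε⁻¹ (Subgroup.mem_sup_right hc)),
          hXca t ht _ (had' ▸ autFun_mem ε⁻¹ (Subgroup.mem_sup_right hc)),
          show t * (d * a) * t⁻¹ = (d * a) * ((d * a)⁻¹ * (t * (d * a) * t⁻¹)) by group, hq,
          ((isMap_autFun hXS).mpr hε).map_mul (had' ▸ autFun_mem ε⁻¹ (Subgroup.mem_sup_right hc))
            (hRX hq'), ← had', autFun_inv_apply ε (Subgroup.mem_sup_right hc), inv_mul_cancel_left,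
          eε _ (hRX hq'), heR _ hq']
        exact hq'
    obtain ⟨s, hs, es⟩ := hreal γ hγ
    refine ⟨hTS ht.1, htX t ht, s, hs, fun x hx => ?_⟩
    have := es (e x) (heX x hx)
    rw [autFun_mul _ _ (heX x hx), ← eε x hx, autFun_inv_apply' ε hx,
      autFun_mul _ _ hx, hXca t ht x hx, eε _ (hconjX t ht x hx), eε x hx] at this
    exact this
  obtain ⟨mA, hmA, eA⟩ := receptive_extend hrec hfA hfAi
  obtain ⟨mB, hmB, eB⟩ := receptive_extend hrec hm₀ hm₀i
  set D := N ⊔ (centralizerIn S T)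
  have hND : N ≤ D := le_sup_left
  have hXD : X ≤ D := sup_le_sup_right hRN (centralizerIn S T)
  have hA := hmA.mono hNA
  have hB := hmB.mono hNB
  obtain ⟨kB, hkB, -, hkBl, -⟩ := hB.exists_inv
  have hQ' : E.IsCentric (img R mB) :=
    CharSub.centricT_img hinv hRc (hB.mono (hRX.trans hXD))
  have hq : ∀ t ∈ N, ∃ r ∈ R, mA t = mB t * mB r := fun t ht => by
    have hAt := stronglyClosed_apply hsc hA (hND ht) ht.1
    have hBt := stronglyClosed_apply hsc hB (hND ht) ht.1
    have h1 : (mB t)⁻¹ * mA t ∈ centralizerIn T (img R mB) :=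
      Fusion.mem_centralizerIn.mpr ⟨T.mul_mem (T.inv_mem hBt) hAt, fun y hy => by
        obtain ⟨r, hr, rfl⟩ := (hB.mono (hRX.trans hXD)).mem_img.mp hy
        have hrN := conj_mem_of_mem_normalizer ht.2 hr
        have eAr : mA r = mB r := by
          rw [eA r (hRX hr), eB r (hRX hr)]
          show m₀ (e r) = m₀ r
          rw [heR r hr]
        have eAr' : mA (t * r * t⁻¹) = mB (t * r * t⁻¹) := by
          rw [eA _ (hRX hrN), eB _ (hRX hrN)]
          show m₀ (e _) = m₀ _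
          rw [heR _ hrN]
        rw [hA.map_conj (hND ht) (hXD (hRX hr)), hB.map_conj (hND ht) (hXD (hRX hr)), eAr] at eAr'
        calc (mB t)⁻¹ * mA t * mB r * ((mB t)⁻¹ * mA t)⁻¹
            = (mB t)⁻¹ * (mA t * mB r * (mA t)⁻¹) * mB t := by group
          _ = mB r := by rw [eAr']; group⟩
    obtain ⟨r, hr, hre⟩ := (hB.mono (hRX.trans hXD)).mem_img.mp
      (hQ'.2 _ (isConj_refl hQ'.1) h1)
    exact ⟨r, hr, by rw [hre, mul_inv_cancel_left]⟩
  have hAC : ∀ c ∈ (centralizerIn S T), mA c = mB (e c) := fun c hc => by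
    rw [eA c (Subgroup.mem_sup_right hc), eB _ (heX c (Subgroup.mem_sup_right hc))]
    rfl
  have hAm : ∀ y ∈ D, mA y ∈ img D mB := fun y hy => by
    obtain ⟨t, ht, c, hc, rfl⟩ := (mem_sup_iff_mul hNT).mp hy
    obtain ⟨r, hr, hre⟩ := hq t ht
    rw [hA.map_mul (hND ht) (Subgroup.mem_sup_right hc), hre, hAC c hc,
      ← hB.map_mul (hND ht) (hXD (hRX hr))]
    exact Subgroup.mul_mem _ (IsMap.apply_mem_img (D.mul_mem (hND ht) (hXD (hRX hr))))
      (IsMap.apply_mem_img (hXD (heX c (Subgroup.mem_sup_right hc))))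
  set h := kB ∘ mA
  have hh : IsMap F D h := hA.comp hkB hAm
  have hhR : ∀ r ∈ R, h r = r := fun r hr => by
    show kB (mA r) = r
    rw [eA r (hRX hr)]
    show kB (m₀ (e r)) = r
    rw [heR r hr, ← eB r (hRX hr), hkBl r (hXD (hRX hr))]
  have hhN : ∀ t ∈ N, t⁻¹ * h t ∈ R := fun t ht => by
    obtain ⟨r, hr, hre⟩ := hq t ht
    show t⁻¹ * kB (mA t) ∈ R
    rw [hre, ← hB.map_mul (hND ht) (hXD (hRX hr)),
      hkBl _ (D.mul_mem (hND ht) (hXD (hRX hr))), inv_mul_cancel_left]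
    exact hr
  have hhC : ∀ c ∈ (centralizerIn S T), h c = e c := fun c hc => by
    show kB (mA c) = e c
    rw [hAC c hc, hkBl _ (hXD (heX c (Subgroup.mem_sup_right hc)))]
  have hhD : ∀ y ∈ D, h y ∈ D := fun y hy => by
    obtain ⟨t, ht, c, hc, rfl⟩ := (mem_sup_iff_mul hNT).mp hy
    rw [hh.map_mul (hND ht) (Subgroup.mem_sup_right hc), hhC c hc,
      show h t = t * (t⁻¹ * h t) by group]
    exact D.mul_mem (D.mul_mem (hND ht) (hXD (hRX (hhN t ht))))
      (hXD (heX c (Subgroup.mem_sup_right hc)))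
  haveI := finite_of_le hh.le
  obtain ⟨η, hη, eη⟩ := hh.exists_aut (img_eq_of_apply hh le_rfl hhD)
  -- kill the part on `N`
  obtain ⟨n, hn⟩ := exists_pow_eq_self_of_coprime
    (show (Nat.card S).Coprime (orderOf W⁻¹) by
      rw [hm, orderOf_inv]; exact (Nat.Coprime.pow_right m hcop).symm)
  set K := Nat.card S * n
  have hstep : ∀ j : ℕ, (∀ t ∈ N, autFun (η ^ j) t = t * (t⁻¹ * h t) ^ j) ∧
      ∀ c ∈ (centralizerIn S T), (autFun (W⁻¹ ^ j) c)⁻¹ * autFun (η ^ j) c ∈ R := by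
    intro j
    induction j with
    | zero =>
      refine ⟨fun t ht => ?_, fun c hc => ?_⟩
      · rw [pow_zero, autFun_one (hND ht), pow_zero, mul_one]
      · rw [pow_zero, pow_zero, autFun_one (Subgroup.mem_sup_right hc),
          autFun_one (Subgroup.mem_sup_right hc), inv_mul_cancel]
        exact R.one_mem
    | succ j ihj =>
      have hηm := (isMap_autFun hh.le).mpr hη
      refine ⟨fun t ht => ?_, fun c hc => ?_⟩
      · have hz := R.pow_mem (hhN t ht) j
        rw [pow_succ' η, autFun_mul _ _ (hND ht), ihj.1 t ht,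
          hηm.map_mul (hND ht) (hXD (hRX hz)), eη t (hND ht), eη _ (hXD (hRX hz)), hhR _ hz,
          pow_succ', ← mul_assoc t, mul_inv_cancel_left]
      · have hz := ihj.2 c hc
        have hd := hWm j c hc
        rw [pow_succ' η, autFun_mul _ _ (Subgroup.mem_sup_right hc),
          show autFun (η ^ j) c =
            autFun (W⁻¹ ^ j) c * ((autFun (W⁻¹ ^ j) c)⁻¹ * autFun (η ^ j) c) by group,
          hηm.map_mul (Subgroup.mem_sup_right hd) (hXD (hRX hz)),
          eη _ (Subgroup.mem_sup_right hd), eη _ (hXD (hRX hz)), hhR _ hz, hhC _ hd,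
          pow_succ' W⁻¹, autFun_mul _ _ (Subgroup.mem_sup_right hc), ← mul_assoc]
        exact R.mul_mem (heC _ hd) hz
  obtain ⟨hK1, hK2⟩ := hstep K
  have hWK : W⁻¹ ^ K = W⁻¹ := by rw [pow_mul]; exact hn
  haveI := finite_of_le hNT
  refine ih (Nat.card T - Nat.card N) ?_ (centric_of_le hRc hRN hNT) rfl (autFun (η ^ K))
    ((isMap_autFun hh.le).mpr (Subgroup.pow_mem _ hη K)) (fun t ht => ?_) fun c hc => ?_
  · have h3 : Nat.card R < Nat.card N := lt_of_le_of_ne (Subgroup.card_le_of_le hRN) fun h =>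
      hlt.ne (Subgroup.eq_of_le_of_card_ge hRN h.ge)
    have h4 := Subgroup.card_le_of_le hNT
    omega
  · have hz : (t⁻¹ * h t) ^ Nat.card S = 1 := by
      have := congrArg Subtype.val
        (pow_card_eq_one' (x := (⟨_, (hRT.trans hTS) (hhN t ht)⟩ : S)))
      simpa only [Subgroup.coe_pow, Subgroup.coe_one] using this
    rw [hK1 t ht, pow_mul, hz, one_pow, mul_one]
  · have := hK2 c hc
    rw [hWK] at this
    exact hRN this

/-- Automorphisms of `T` that are extendable on a centric subgroup are extendable. -/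
theorem ext_top (hS : IsPGroup p S) (hE : E.IsWeaklyNormalIn F p) {δ : MulAut T}
    (hδ : δ ∈ E.autGroup T) {R : Subgroup Ω} (hR : E.IsCentric R)
    (h : Ext F T R (autFun δ)) : Ext F T T (autFun δ) := by
  obtain ⟨hEs, hF, hinv⟩ := hE
  have hsc : F.StronglyClosed T := hinv.2.1
  have hTS : T ≤ S := hsc.1
  haveI := finite_of_le hTS
  haveI : Finite (MulAut T) := Finite.of_injective (fun f : MulAut T => (f : T → T))
    DFunLike.coe_injective
  have hcls := isMapClass_extC hS ⟨hEs, hF, hinv⟩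
  have hTp : IsPGroup p T := hS.of_injective _ (Subgroup.inclusion_injective hTS)
  have hTc : E.IsCentric T := CharSub.centric_top hinv
  have hTn : E.IsFullyNormalized T := ⟨le_rfl, fun Q hQ => by
    obtain ⟨f, hf, rfl⟩ := isConj_iff.mp hQ
    rw [Subgroup.eq_of_le_of_card_ge hf.img_le hf.card_img.ge]⟩
  obtain ⟨a, b, ha, hb, hab, ⟨k, hk⟩, hbcop⟩ := Cfsg.Lib.Transfer.exists_pPart p δ
  have haE := (Subgroup.zpowers_le.mpr hδ) ha
  have hbE := (Subgroup.zpowers_le.mpr hδ) hb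
  have haG : a ∈ goodAut E (ExtC F E) hcls T le_rfl := by
    obtain ⟨w, hw, hwa⟩ := exists_conj_into_autS (fullyNormalized_props hTp hEs hTn).2.1
      (K := Subgroup.zpowers a) (IsPGroup.of_card (n := k) (by rw [Nat.card_zpowers, hk]))
      (Subgroup.zpowers_le.mpr haE)
    obtain ⟨t, ht, et⟩ := mem_autInducedBy.mp (hwa a (Subgroup.mem_zpowers a))
    refine ⟨haE, fun _ => ?_⟩
    have hs : autFun w⁻¹ t ∈ T := autFun_mem _ ht
    obtain ⟨g, hg, eg, hc⟩ := ext_conj (F := F) hsc (le_refl T) hs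
    have ea : ∀ x ∈ T, autFun a x = autFun w⁻¹ t * x * (autFun w⁻¹ t)⁻¹ := fun x hx => by
      have hwx := autFun_mem w hx
      have := et ⟨_, hwx⟩
      rw [← autFun_apply (w * a * w⁻¹), ← autFun_mul _ _ hx, inv_mul_cancel_right,
        autFun_mul _ _ hx] at this
      have hwi : IsMap E T (autFun w⁻¹) := (isMap_autFun le_rfl).mpr (Subgroup.inv_mem _ hw)
      conv_lhs => rw [← autFun_inv_apply' w (autFun_mem a hx), this, hwi.map_conj ht hwx,
        autFun_inv_apply' w hx]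
    exact ⟨g, hg, fun x hx => (eg x hx).trans (ea x hx).symm, fun c hcc => by
      rw [img_autFun]
      exact IsMap.img_le_iff.mpr (fun x hx =>
        T.mul_mem (T.mul_mem hs hx) (T.inv_mem hs)) (hc c hcc)⟩
  -- the restriction of `b`
  have hbR : Ext F T R (autFun b) := by
    have hai := Subgroup.inv_mem _ haG
    have hm : IsMap E R (autFun δ) := ((isMap_autFun le_rfl).mpr hδ).mono hR.1
    have hm' : IsMap E T (autFun a⁻¹) := (isMap_autFun le_rfl).mpr hai.1
    refine hcls.congr R (autFun a⁻¹ ∘ autFun δ) (autFun b)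
      (hm.comp hm' fun x hx => hm.mem_S hx) (fun x hx => ?_)
      (hcls.comp R T _ _ hm hm' (fun x hx => hm.mem_S hx) (fun _ => h) hai.2) hR
    show autFun b x = autFun a⁻¹ (autFun δ x)
    rw [← autFun_mul _ _ (hR.1 hx), ← hab, inv_mul_cancel_left]
  -- the extension of `b`
  have hbF : IsMap F T (autFun b) := isMap_of_sub hinv.1 ((isMap_autFun le_rfl).mpr hbE)
  have hTFn : F.IsFullyNormalized T := ⟨hTS, fun Q hQ => by
    obtain ⟨f, hf, rfl⟩ := isConj_iff.mp hQ
    rw [img_eq_of_apply hf le_rfl fun x hx => stronglyClosed_apply hsc hf hx hx]⟩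
  obtain ⟨g, hg, hge⟩ := receptive_extend (fullyNormalized_props hS hF hTFn).2.2 hbF (img_autFun b)
  set C := centralizerIn S T
  set X₀ := T ⊔ C
  have hX₀ : X₀ ≤ S := sup_le hTS inf_le_left
  haveI := finite_of_le hX₀
  haveI : Finite (MulAut X₀) := Finite.of_injective (fun f : MulAut X₀ => (f : X₀ → X₀))
    DFunLike.coe_injective
  have hg₀ : IsMap F X₀ g := hg.mono (sup_le (le_extSub hbF) (centralizerIn_le_extSub T _))
  have hgT : img T g = T := (img_congr hge).trans (img_autFun b)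
  have hgle : img X₀ g ≤ X₀ := by
    rw [hg₀.img_sup, hgT]
    refine sup_le_sup_left (IsMap.img_le_iff.mpr fun c hc => ?_) _
    have := hg₀.mem_centralizerIn (P := T) le_sup_left (Subgroup.mem_sup_right hc) hc
    rwa [hgT] at this
  obtain ⟨β, hβ, eβ⟩ := hg₀.exists_aut (Subgroup.eq_of_le_of_card_ge hgle hg₀.card_img.ge)
  obtain ⟨β₁, β₂, hβ₁, hβ₂, hβe, ⟨i, hi⟩, hβcop⟩ := Cfsg.Lib.Transfer.exists_pPart p β
  obtain ⟨j, hj⟩ := exists_pow_eq_self_of_coprime
    (show (p ^ i).Coprime (orderOf b) from (Nat.Coprime.pow_right i hbcop).symm)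
  set m := p ^ i * j
  have hcomm : Commute β₁ β₂ := by
    obtain ⟨u, rfl⟩ := Subgroup.mem_zpowers_iff.mp hβ₁
    obtain ⟨v, rfl⟩ := Subgroup.mem_zpowers_iff.mp hβ₂
    exact Commute.zpow_zpow_self β u v
  have hβm : β ^ m = β₂ ^ m := by
    rw [← hβe, hcomm.mul_pow, pow_mul β₁, ← hi, pow_orderOf_eq_one, one_pow, one_mul]
  set W := β ^ m
  have hW : W ∈ F.autGroup X₀ := Subgroup.pow_mem _ hβ m
  have hWT : ∀ x ∈ T, autFun W x = autFun b x := fun x hx => by
    rw [autFun_pow_agree β b le_sup_left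
      (fun y hy => by rw [eβ y (Subgroup.mem_sup_left hy), hge y hy]) m x hx, pow_mul, hj]
  have hWC : ∀ c ∈ C, autFun W c ∈ C := fun c hc => by
    have := ((isMap_autFun hX₀).mpr hW).mem_centralizerIn (P := T) le_sup_left
      (Subgroup.mem_sup_right hc) hc
    rwa [img_congr hWT, img_autFun] at this
  have hWcop : (orderOf W).Coprime p := by
    rw [show W = β₂ ^ m from hβm]
    exact Nat.Coprime.coprime_dvd_left (orderOf_pow_dvd m) hβcop
  obtain ⟨f, hf, ef, hfc⟩ := hbR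
  have hXX₀ : R ⊔ C ≤ X₀ := sup_le_sup_right hR.1 _
  have hWi : IsMap F X₀ (autFun W⁻¹) := (isMap_autFun hX₀).mpr (Subgroup.inv_mem _ hW)
  have hTi : ∀ x ∈ T, autFun W⁻¹ x = autFun b⁻¹ x := fun x hx => by
    conv_lhs => rw [← autFun_inv_apply b hx, ← hWT _ (autFun_mem b⁻¹ hx)]
    exact autFun_inv_apply' W (Subgroup.mem_sup_left (autFun_mem b⁻¹ hx))
  have hbRT : img R (autFun b) ≤ T := IsMap.img_le_iff.mpr fun x hx => autFun_mem b (hR.1 hx)
  have hfX : ∀ y ∈ R ⊔ C, f y ∈ X₀ := fun y hy => by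
    obtain ⟨r, hr, c, hc, rfl⟩ := (mem_sup_iff_mul hR.1).mp hy
    rw [hf.map_mul (Subgroup.mem_sup_left hr) (Subgroup.mem_sup_right hc), ef r hr,
      show f c = c * (c⁻¹ * f c) by group]
    exact X₀.mul_mem (Subgroup.mem_sup_left (autFun_mem b (hR.1 hr)))
      (X₀.mul_mem (Subgroup.mem_sup_right hc) (Subgroup.mem_sup_left (hbRT (hfc c hc))))
  obtain ⟨e', he', he'T, he'C⟩ := extend_twist hS ⟨hEs, hF, hinv⟩ hW hWC hWcop hR
    (autFun W⁻¹ ∘ f) (hf.comp hWi hfX) (fun r hr => by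
      show autFun W⁻¹ (f r) = r
      rw [ef r hr, hTi _ (autFun_mem b (hR.1 hr)), autFun_inv_apply' b (hR.1 hr)])
    fun c hc => by
      show (autFun W⁻¹ c)⁻¹ * autFun W⁻¹ (f c) ∈ R
      rw [show f c = c * (c⁻¹ * f c) by group, hWi.map_mul (Subgroup.mem_sup_right hc)
        (Subgroup.mem_sup_left (hbRT (hfc c hc))), inv_mul_cancel_left, hTi _ (hbRT (hfc c hc))]
      obtain ⟨r, hr, hre⟩ := ((hbF.mono hR.1).mem_img.mp (hfc c hc))
      rw [← hre, autFun_inv_apply' b (hR.1 hr)]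
      exact hr
  have hWm : IsMap F X₀ (autFun W) := (isMap_autFun hX₀).mpr hW
  have he'X : ∀ y ∈ X₀, e' y ∈ X₀ := fun y hy => by
    obtain ⟨x, hx, c, hc, rfl⟩ := (mem_sup_iff_mul le_rfl).mp hy
    rw [he'.map_mul (Subgroup.mem_sup_left hx) (Subgroup.mem_sup_right hc), he'T x hx,
      show e' c = autFun W⁻¹ c * ((autFun W⁻¹ c)⁻¹ * e' c) by group]
    exact X₀.mul_mem (Subgroup.mem_sup_left hx)
      (X₀.mul_mem (autFun_mem _ (Subgroup.mem_sup_right hc)) (Subgroup.mem_sup_left (he'C c hc)))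
  have hbT : Ext F T T (autFun b) := by
    refine ⟨autFun W ∘ e', he'.comp hWm he'X, fun x hx => ?_, fun c hc => ?_⟩
    · show autFun W (e' x) = autFun b x
      rw [he'T x hx, hWT x hx]
    · show c⁻¹ * autFun W (e' c) ∈ _
      rw [img_autFun, show e' c = autFun W⁻¹ c * ((autFun W⁻¹ c)⁻¹ * e' c) by group,
        hWm.map_mul (autFun_mem _ (Subgroup.mem_sup_right hc))
          (Subgroup.mem_sup_left (he'C c hc)), autFun_inv_apply W (Subgroup.mem_sup_right hc),
        inv_mul_cancel_left, hWT _ (he'C c hc)]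
      exact autFun_mem b (he'C c hc)
  have : δ ∈ goodAut E (ExtC F E) hcls T le_rfl :=
    hab ▸ Subgroup.mul_mem _ haG ⟨hbE, fun _ => hbT⟩
  exact this.2 hTc

/-! ### The residual -/

theorem transport_class {D : FusionSystem T} (hsc : F.StronglyClosed T) {α : MulAut T}
    (hα : α ∈ F.autGroup T) : IsMapClass E
      fun R g => IsMap D (img R (autFun α)) (fun y => autFun α (g (autFun α⁻¹ y))) := by
  haveI := finite_of_le hsc.1
  have ha : IsMap F T (autFun α) := (isMap_autFun hsc.1).mpr hα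
  exact
    { conj := fun R g hR hg => by
        refine (isMap_conj (IsMap.img_le_iff.mpr fun x hx => autFun_mem α (hR hx))
          (autFun_mem α hg)).congr fun y hy => ?_
        obtain ⟨x, hx, rfl⟩ := (ha.mono hR).mem_img.mp hy
        show autFun α (g * autFun α⁻¹ (autFun α x) * g⁻¹) = _
        rw [autFun_inv_apply' α (hR hx), ha.map_conj hg (hR hx)]
      congr := fun R g g' hg e h => h.congr fun y hy => by
        obtain ⟨x, hx, rfl⟩ := (ha.mono hg.le).mem_img.mp hy
        rw [autFun_inv_apply' α (hg.le hx), e x hx]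
      mono := fun R R' g _ hR h => h.mono (img_mono hR _)
      comp := fun R Q g g' hg hg' hgQ h h' => by
        have hmem : ∀ y ∈ img R (autFun α), autFun α (g (autFun α⁻¹ y)) ∈ img Q (autFun α) := by
          intro y hy
          obtain ⟨x, hx, rfl⟩ := (ha.mono hg.le).mem_img.mp hy
          rw [autFun_inv_apply' α (hg.le hx)]
          exact IsMap.apply_mem_img (hgQ x hx)
        refine (h.comp h' hmem).congr fun y hy => ?_
        obtain ⟨x, hx, rfl⟩ := (ha.mono hg.le).mem_img.mp hy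
        show autFun α (g' (g (autFun α⁻¹ (autFun α x)))) =
          autFun α (g' (autFun α⁻¹ (autFun α (g (autFun α⁻¹ (autFun α x))))))
        rw [autFun_inv_apply' α (hg.le hx), autFun_inv_apply' α (hg.mem_S hx)]
      inv := fun R g k hg hk hl h => by
        obtain ⟨i, hi, -, hil, -⟩ := h.exists_inv
        have e : img (img R g) (autFun α) =
            img (img R (autFun α)) (fun y => autFun α (g (autFun α⁻¹ y))) := by
          refine le_antisymm (IsMap.img_le_iff.mpr fun y hy => ?_)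
            (IsMap.img_le_iff.mpr fun y hy => ?_)
          · obtain ⟨x, hx, rfl⟩ := hg.mem_img.mp hy
            have := IsMap.apply_mem_img (f := fun y => autFun α (g (autFun α⁻¹ y)))
              (IsMap.apply_mem_img (f := autFun α) hx)
            show autFun α (g x) ∈ _
            simpa [autFun_inv_apply' α (hg.le hx)] using this
          · obtain ⟨x, hx, rfl⟩ := (ha.mono hg.le).mem_img.mp hy
            rw [autFun_inv_apply' α (hg.le hx)]
            exact IsMap.apply_mem_img (IsMap.apply_mem_img hx)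
        show IsMap D _ _
        rw [e]
        refine hi.congr fun y hy => ?_
        obtain ⟨z, hz, rfl⟩ := h.mem_img.mp hy
        obtain ⟨x, hx, rfl⟩ := (ha.mono hg.le).mem_img.mp hz
        rw [hil _ hz]
        show autFun α (k (autFun α⁻¹ (autFun α (g (autFun α⁻¹ (autFun α x)))))) = _
        rw [autFun_inv_apply' α (hg.le hx), autFun_inv_apply' α (hg.mem_S hx), hl x hx] }

theorem residual_normal (hS : IsPGroup p S) (hE : E.IsWeaklyNormalIn F p) {D : FusionSystem T}
    (hD : E.IsPPrimeResidual p D) : D.IsNormalIn F p := by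
  obtain ⟨hEs, hF, hinv⟩ := hE
  have hsc : F.StronglyClosed T := hinv.2.1
  have hTS : T ≤ S := hsc.1
  haveI := finite_of_le hTS
  have hTp : IsPGroup p T := hS.of_injective _ (Subgroup.inclusion_injective hTS)
  obtain rfl := PPower.residual_unique hD (PrimeIndex.residual_spec hTp hEs)
  obtain ⟨hDs, ⟨hDE, hidx⟩, -⟩ := hD
  set D := PrimeIndex.residual E p
  have hgenD : PrimeIndex.IsGenClass E p (PrimeIndex.centrics E) (IsMap D) :=
    ⟨isMapClass_isMap E D, fun Q hQ α hα => (isMap_autFun hQ.1).mpr (hidx Q hQ.1 hα)⟩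
  have hforced : ∀ α ∈ F.autGroup T, ∀ δ ∈ PrimeIndex.forcedAut E p,
      IsMap D T (fun y => autFun α (autFun δ (autFun α⁻¹ y))) := by
    intro α hα δ hδ
    have hcls := transport_class (E := E) (D := D) hsc hα
    have hgen : PrimeIndex.IsGenClass E p (PrimeIndex.centrics E)
        fun R g => IsMap D (img R (autFun α)) (fun y => autFun α (g (autFun α⁻¹ y))) := by
      refine ⟨hcls, fun Q hQ u hu => ?_⟩
      have hQT : Q ≤ T := hQ.1
      have hm : IsMap F Q (autFun α) := ((isMap_autFun hTS).mpr hα).mono hQT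
      haveI := finite_of_le (hQT.trans hTS)
      have hle : PrimeIndex.opGen E p Q ≤ (D.autGroup (img Q (autFun α))).comap
          (MulAut.congr (hm.equiv rfl)).toMonoidHom := PrimeIndex.opGen_le_iff fun v hv hk => by
        refine Subgroup.mem_comap.mpr (hidx _
          (IsMap.img_le_iff.mpr fun x hx => autFun_mem α (hQT hx)) (PrimeIndex.mem_opGen ?_ ?_))
        · refine (isMap_autFun (IsMap.img_le_iff.mpr fun x hx => autFun_mem α (hQT hx))).mp ?_
          exact strongInv_of_invariant hinv Q Q le_rfl hQT (autFun v)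
            ((isMap_autFun hQT).mpr hv) (fun x hx => autFun_mem v hx) (autFun α) hm _
            fun x hx => congr_equiv_spec hm rfl v hx
        · rwa [orderOf_injective _ (MulAut.congr (hm.equiv rfl)).injective]
      refine ((isMap_autFun (IsMap.img_le_iff.mpr fun x hx => autFun_mem α (hQT hx))).mpr
        (hle hu)).congr fun y hy => ?_
      obtain ⟨x, hx, rfl⟩ := hm.mem_img.mp hy
      show autFun α (autFun u (autFun α⁻¹ (autFun α x))) =
        autFun (MulAut.congr (hm.equiv rfl) u) (autFun α x)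
      rw [autFun_inv_apply' α (hQT hx), congr_equiv_spec hm rfl u hx]
    have hle : PrimeIndex.forcedAut E p ≤ goodAut E _ hcls T le_rfl := by
      refine (Subgroup.closure_le _).mpr ?_
      rintro ε ⟨hε, R, hR, g, hg, hG, e⟩
      refine ⟨hε, ?_⟩
      have hm : IsMap F R (autFun α) := ((isMap_autFun hTS).mpr hα).mono hR.1
      have hR' : E.IsCentric (img R (autFun α)) := CharSub.centricT_img hinv hR hm
      have hEm : IsMap E T (fun y => autFun α (autFun ε (autFun α⁻¹ y))) := by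
        have := invariant_transportT hinv hTS ((isMap_autFun le_rfl).mpr hε) hα
        rwa [img_autFun] at this
      show IsMap D (img T (autFun α)) _
      rw [img_autFun]
      refine isMap_of_restrict_centric hTp hEs hDs hDE hEm hR' ?_
      refine (hG _ hgen).congr fun y hy => ?_
      obtain ⟨x, hx, rfl⟩ := hm.mem_img.mp hy
      rw [autFun_inv_apply' α (hR.1 hx), e x hx]
    have h2 : IsMap D (img T (autFun α)) (fun y => autFun α (autFun δ (autFun α⁻¹ y))) := (hle hδ).2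
    rwa [img_autFun] at h2
  have hfac : ∀ {P : Subgroup Ω} {f : Ω → Ω}, IsMap E P f → ∃ δ ∈ E.autGroup T, ∃ f₀,
      IsMap D P f₀ ∧ ∀ x ∈ P, f x = autFun δ (f₀ x) := fun hf => by
    obtain ⟨δ, hδ, f₀, -, hG, he⟩ :=
      PrimeIndex.factor (p := p) hTp hEs PrimeIndex.siteFam_centrics hf
    exact ⟨δ, hδ, f₀, hG _ hgenD, he⟩
  refine ⟨⟨hDs, hF, fun P φ h => hinv.1 P (hDE P h), hsc, fun P hP φ hφ α hα => ?_,
    fun P hP φ hφ => ?_⟩, ?_⟩
  · have hcls := transport_class (E := E) (D := D) hsc hα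
    obtain ⟨hfE, δ, hδ, f₀, hf₀, hG, he⟩ := (PrimeIndex.isMap_sub_iff PrimeIndex.forcedAut_le
      PrimeIndex.siteFam_centrics).mp (isMap_of_mem hφ)
    have hgen : PrimeIndex.IsGenClass E p (PrimeIndex.centrics E)
        fun R g => IsMap D (img R (autFun α)) (fun y => autFun α (g (autFun α⁻¹ y))) := by
      refine ⟨hcls, fun Q hQ u hu => ?_⟩
      have hQT : Q ≤ T := hQ.1
      have hm : IsMap F Q (autFun α) := ((isMap_autFun hTS).mpr hα).mono hQT
      haveI := finite_of_le (hQT.trans hTS)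
      have hle : PrimeIndex.opGen E p Q ≤ (D.autGroup (img Q (autFun α))).comap
          (MulAut.congr (hm.equiv rfl)).toMonoidHom := PrimeIndex.opGen_le_iff fun v hv hk => by
        refine Subgroup.mem_comap.mpr (hidx _
          (IsMap.img_le_iff.mpr fun x hx => autFun_mem α (hQT hx)) (PrimeIndex.mem_opGen ?_ ?_))
        · refine (isMap_autFun (IsMap.img_le_iff.mpr fun x hx => autFun_mem α (hQT hx))).mp ?_
          exact strongInv_of_invariant hinv Q Q le_rfl hQT (autFun v)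
            ((isMap_autFun hQT).mpr hv) (fun x hx => autFun_mem v hx) (autFun α) hm _
            fun x hx => congr_equiv_spec hm rfl v hx
        · rwa [orderOf_injective _ (MulAut.congr (hm.equiv rfl)).injective]
      refine ((isMap_autFun (IsMap.img_le_iff.mpr fun x hx => autFun_mem α (hQT hx))).mpr
        (hle hu)).congr fun y hy => ?_
      obtain ⟨x, hx, rfl⟩ := hm.mem_img.mp hy
      show autFun α (autFun u (autFun α⁻¹ (autFun α x))) =
        autFun (MulAut.congr (hm.equiv rfl) u) (autFun α x)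
      rw [autFun_inv_apply' α (hQT hx), congr_equiv_spec hm rfl u hx]
    have htop : IsMap D (img T (autFun α)) (fun y => autFun α (autFun δ (autFun α⁻¹ y))) := by
      rw [img_autFun]; exact hforced α hα δ hδ
    have hm : IsMap D (img P (autFun α)) (fun y => autFun α (toFun' φ (autFun α⁻¹ y))) :=
      hcls.congr P _ _ (hf₀.comp ((isMap_autFun le_rfl).mpr (PrimeIndex.forcedAut_le hδ))
        fun x hx => hf₀.mem_S hx) he
        (hcls.comp P T _ _ hf₀ ((isMap_autFun le_rfl).mpr (PrimeIndex.forcedAut_le hδ))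
          (fun x hx => hf₀.mem_S hx) (hG _ hgen) htop)
    have himg : img P (autFun α) = (P.subgroupOf T).map (T.subtype.comp α.toMonoidHom) := by
      refine le_antisymm (IsMap.img_le_iff.mpr fun x hx => ?_) ?_
      · rw [autFun_apply_mem _ (hP hx)]
        exact ⟨⟨x, hP hx⟩, hx, rfl⟩
      · rintro _ ⟨x, hx, rfl⟩
        rw [show T.subtype.comp α.toMonoidHom x = autFun α x from (autFun_apply α x).symm]
        exact IsMap.apply_mem_img hx
    obtain ⟨χ, hχ, e⟩ := hm
    rw [← himg]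
    refine ⟨χ, hχ, fun x hφx hαx => ?_⟩
    rw [e]
    show autFun α (toFun' φ (autFun α⁻¹ ((α ⟨x, hP x.2⟩ : T) : Ω))) = _
    have h1 : ((α ⟨x, hP x.2⟩ : T) : Ω) = autFun α x := (autFun_apply α ⟨x, hP x.2⟩).symm
    rw [h1, autFun_inv_apply' α (hP x.2), toFun'_apply φ x]
    exact autFun_apply α ⟨φ x, hφx⟩
  · obtain ⟨a, ha, f₁, hf₁, he₁⟩ := invariant_frattiniT hinv hP (isMap_of_mem hφ)
    obtain ⟨δ, hδ, f₀, ⟨φ₀, hφ₀, e₀⟩, he⟩ := hfac hf₁
    have hδF : δ ∈ F.autGroup T :=
      (isMap_autFun hTS).mp (isMap_of_sub hinv.1 ((isMap_autFun le_rfl).mpr hδ))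
    refine ⟨a * δ, Subgroup.mul_mem _ ha hδF, φ₀, hφ₀, fun x hx => ?_⟩
    rw [← autFun_apply (a * δ) ⟨φ₀ x, hx⟩, ← toFun'_apply φ x, he₁ x x.2, he x x.2]
    show autFun a (autFun δ (f₀ x)) = autFun (a * δ) (φ₀ x)
    rw [← e₀ x, autFun_mul _ _ hx]
  -- the extension condition
  intro α hα
  have hEw : E.IsWeaklyNormalIn F p := ⟨hEs, hF, hinv⟩
  have hext := isGenClass_extC hS hEw
  have hTc : E.IsCentric T := CharSub.centric_top hinv
  obtain ⟨-, δ, hδ, f₀, hf₀, hG, he⟩ := (PrimeIndex.isMap_sub_iff PrimeIndex.forcedAut_le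
    PrimeIndex.siteFam_centrics).mp ((isMap_autFun le_rfl).mpr hα)
  have hle : PrimeIndex.forcedAut E p ≤ goodAut E (ExtC F E) hext.cls T le_rfl := by
    refine (Subgroup.closure_le _).mpr ?_
    rintro ε ⟨hε, R, hR, g, hg, hG', e⟩
    exact ⟨hε, fun _ => ext_top hS hEw hε hR (hext.cls.congr R g _ hg e (hG' _ hext) hR)⟩
  have hδm : IsMap E T (autFun δ) := (isMap_autFun le_rfl).mpr (PrimeIndex.forcedAut_le hδ)
  obtain ⟨g, hg, eg, hgc⟩ := hext.cls.congr T _ (autFun α)
    (hf₀.comp hδm fun x hx => hf₀.mem_S hx) he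
    (hext.cls.comp T T _ _ hf₀ hδm (fun x hx => hf₀.mem_S hx) (hG _ hext) (hle hδ).2) hTc
  haveI := finite_of_le hg.le
  have hgX : ∀ y ∈ T ⊔ centralizerIn S T, g y ∈ T ⊔ centralizerIn S T := fun y hy => by
    obtain ⟨x, hx, c, hc, rfl⟩ := (mem_sup_iff_mul le_rfl).mp hy
    rw [hg.map_mul (Subgroup.mem_sup_left hx) (Subgroup.mem_sup_right hc), eg x hx,
      show g c = c * (c⁻¹ * g c) by group]
    refine Subgroup.mul_mem _ (Subgroup.mem_sup_left (autFun_mem α hx))
      (Subgroup.mul_mem _ (Subgroup.mem_sup_right hc) (Subgroup.mem_sup_left ?_))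
    have := hgc c hc
    rwa [img_autFun] at this
  obtain ⟨β, hβ, eβ⟩ := hg.exists_aut (img_eq_of_apply hg le_rfl hgX)
  refine ⟨β, hβ, fun x => ?_, fun c hc => ?_⟩
  · rw [← autFun_apply, ← autFun_apply α x]
    show autFun β (x : Ω) = autFun α x
    rw [eβ _ (Subgroup.mem_sup_left x.2), eg x x.2]
  · rw [← autFun_apply β c, eβ _ c.2]
    have h1 := hgc c hc
    rw [img_autFun] at h1
    refine ⟨h1, ?_⟩
    have h2 := hg.mem_centralizerIn (P := T) le_sup_left (Subgroup.mem_sup_right hc) hc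
    rw [img_congr eg, img_autFun] at h2
    exact Subgroup.mul_mem _ (Subgroup.inv_mem _ hc.2) h2.2

end Cfsg.Lib.Fusion.WeaklyNormal
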