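import Cfsg.Agent.Fusion.PSolvableModel
import Cfsg.Agent.Fusion.SolvableExtension
import Cfsg.Agent.Fusion.WeaklyNormalResidual
import Cfsg.Agent.Fusion.FactorHyperfocal
import Cfsg.Agent.Fusion.Constrained
import Cfsg.Agent.SolvStruct.CoprimeOrbits
import Cfsg.Agent.S5113

/-!
Systems with terminating residual series are the constrained systems with `p`-solvable models.
-/

set_option autoImplicit false

namespace Cfsg.Lib.Fusion

open Cfsg Cfsg.FusionSystem
open scoped commutatorElement

universe u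

/-- A group with a normal `p`-solvable subgroup whose index is a power of `p` or prime to `p` is
`p`-solvable. -/
theorem isPSolvable_of_normal_step {G : Type*} [Group G] [Finite G] {p : ℕ} [Fact p.Prime]
    (N : Subgroup G) [N.Normal] (hN : IsPSolvable p N)
    (hidx : (∃ m, N.index = p ^ m) ∨ N.index.Coprime p) : IsPSolvable p G := by
  obtain ⟨n, H, h0, hl, hmono, hnor, hstep⟩ := hN
  let A : Fin (n + 1) → Subgroup G := fun i => (H i).map N.subtype
  let K : Fin (n + 1) → Subgroup G := fun i => (A i).normalCore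
  let D : Fin (n + 1 + 1) → Subgroup G := Fin.snoc K ⊤
  have hKl : K (Fin.last n) = N := by
    simp only [K, A, hl, ← MonoidHom.range_eq_map, Subgroup.range_subtype,
      Subgroup.normalCore_eq_self]
  refine ⟨n + 1, D, ?_, by simp [D], ?_, fun i => ?_, fun i => ?_⟩
  · rw [show (0 : Fin (n + 1 + 1)) = Fin.castSucc 0 from rfl]
    simp only [D, Fin.snoc_castSucc, K, A, h0, Subgroup.map_bot]
    exact le_bot_iff.mp (Subgroup.normalCore_le _)
  · refine Fin.monotone_iff_le_succ.mpr fun i => ?_
    induction i using Fin.lastCases with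
    | last => simp [D]
    | cast j =>
      rw [Fin.succ_castSucc]
      simp only [D, Fin.snoc_castSucc]
      exact Subgroup.normalCore_mono (Subgroup.map_mono (hmono (Fin.castSucc_le_succ j)))
  · induction i using Fin.lastCases with
    | last => simp [D]
    | cast j => simp only [D, Fin.snoc_castSucc]; infer_instance
  · induction i using Fin.lastCases with
    | last =>
      simp only [D, Fin.snoc_castSucc, Fin.succ_last, Fin.snoc_last, hKl, Subgroup.relIndex_top_right]
      exact hidx
    | cast j =>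
      simp only [Fin.succ_castSucc, D, Fin.snoc_castSucc]
      set r := (H j.castSucc).relIndex (H j.succ)
      have hpow : ∀ x ∈ K j.succ, x ^ r ∈ K j.castSucc := by
        intro x hx g
        have h1 := hx g
        obtain ⟨u, hu, e⟩ := h1
        refine ⟨u ^ r, ?_, ?_⟩
        · have := hnor j.castSucc
          exact Subgroup.mem_subgroupOf.mp
            (Subgroup.pow_index_mem ((H j.castSucc).subgroupOf (H j.succ)) ⟨u, hu⟩)
        · rw [map_pow, e, conj_pow]
      have : ((K j.castSucc).subgroupOf (K j.succ)).Normal :=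
        (Subgroup.normalCore_normal (A j.castSucc)).subgroupOf _
      have hq : ∀ y : ↥(K j.succ) ⧸ (K j.castSucc).subgroupOf (K j.succ), y ^ r = 1 := fun y => by
        induction y using QuotientGroup.induction_on with
        | H x => exact (QuotientGroup.eq_one_iff _).mpr (Subgroup.mem_subgroupOf.mpr (hpow x x.2))
      rw [show (K j.castSucc).relIndex (K j.succ)
          = Nat.card (↥(K j.succ) ⧸ (K j.castSucc).subgroupOf (K j.succ)) from
        Subgroup.index_eq_card _]
      rcases hstep j with ⟨m, hm⟩ | hcop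
      · left
        exact IsPGroup.iff_card.mp fun y => ⟨m, by rw [← show r = p ^ m from hm]; exact hq y⟩
      · right
        refine Nat.Coprime.symm ((Nat.Prime.coprime_iff_not_dvd Fact.out).mpr fun h => ?_)
        obtain ⟨y, hy⟩ := exists_prime_orderOf_dvd_card' p h
        have h2 : p ∣ r := hy ▸ orderOf_dvd_of_pow_eq_one (hq y)
        exact (Nat.Prime.coprime_iff_not_dvd Fact.out).mp hcop.symm h2

section Tower

variable {Ω : Type*} [Group Ω] {S : Subgroup Ω} {F : FusionSystem S} {p : ℕ}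

theorem isWeaklyNormalIn_self [Finite S] (hF : F.IsSaturated p) :
    F.IsWeaklyNormalIn F p := by
  refine ⟨hF, hF, fun _ => Set.Subset.rfl, stronglyClosed_of_apply le_rfl
    fun P f hf x hx _ => hf.mem_S hx, fun P hP φ hφ α hα => ?_, fun P hP φ hφ => ?_⟩
  · have ha := (isMap_autFun le_rfl).mpr hα
    have hf := isMap_of_mem hφ
    have hQ : img P (autFun α) = (P.subgroupOf S).map (S.subtype.comp α.toMonoidHom) := by
      refine le_antisymm (IsMap.img_le_iff.mpr fun x hx => ?_) ?_
      · rw [autFun_apply_mem _ (hP hx)]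
        exact ⟨⟨x, hP hx⟩, hx, rfl⟩
      · rintro _ ⟨x, hx, rfl⟩
        rw [show S.subtype.comp α.toMonoidHom x = autFun α x from (autFun_apply α x).symm]
        exact IsMap.apply_mem_img hx
    have hi := ((isMap_autFun (F := F) le_rfl).mpr (Subgroup.inv_mem _ hα)).mono
      (IsMap.img_le_iff.mpr fun x hx => autFun_mem α (hP hx) : img P (autFun α) ≤ S)
    have hfa : ∀ y ∈ img P (autFun α), autFun α⁻¹ y ∈ P := fun y hy => by
      obtain ⟨x, hx, rfl⟩ := (ha.mono hP).mem_img.mp hy
      rwa [autFun_inv_apply' α (hP hx)]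
    have h := (hi.comp hf hfa).comp ha fun y hy => hf.mem_S (hfa y hy)
    rw [hQ] at h
    obtain ⟨χ, hχ, e⟩ := h
    refine ⟨χ, hχ, fun x hx hm => ?_⟩
    rw [e]
    show autFun α (toFun' φ (autFun α⁻¹ ((α ⟨x, hP x.2⟩ : S) : Ω))) = _
    rw [← autFun_apply α ⟨x, hP x.2⟩, autFun_inv_apply' α (hP x.2), toFun'_apply φ x,
      autFun_apply_mem α hx]
  · exact ⟨1, Subgroup.one_mem _, φ, hφ, fun x hx => rfl⟩

/-- A tower above the hyperfocal subgroup. -/
theorem abTower_hyperfocal [Finite S] [Fact p.Prime] (hS : IsPGroup p S) (hF : F.IsSaturated p) :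
    AbTower F (F.hyperfocalSubgroup p) := by
  set K := F.hyperfocalSubgroup p
  have hK : K ≤ S := hyperfocalSubgroup_le F p
  have : (K.subgroupOf S).Normal :=
    ⟨fun x hx g => conj_mem_hyperfocalSubgroup g.2 (Subgroup.mem_subgroupOf.mp hx)⟩
  set π := QuotientGroup.mk' (K.subgroupOf S)
  have hker : ∀ s : S, π s = 1 ↔ (s : Ω) ∈ K := fun s =>
    (QuotientGroup.eq_one_iff s).trans Subgroup.mem_subgroupOf
  have : Group.IsNilpotent (S ⧸ K.subgroupOf S) := (hS.to_quotient _).isNilpotent
  obtain ⟨n, hn⟩ := Group.IsSolvable.solvable (G := S ⧸ K.subgroupOf S)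
  refine ⟨n, fun i => preimageAlong π (derivedSeries _ (n - i)), ?_, ?_, fun i hi => ?_⟩
  · ext x
    dsimp only
    rw [Nat.sub_zero, hn, mem_preimageAlong, Subgroup.mem_bot]
    refine ⟨fun h => ?_, fun h => ⟨hK h, ?_⟩⟩
    · have h2 := h.2
      rw [qmap_apply h.1] at h2
      exact (hker _).mp h2
    · rw [qmap_apply (hK h)]
      exact (hker _).mpr h
  · refine le_antisymm (preimageAlong_le _) fun x hx => mem_preimageAlong.mpr ⟨hx, ?_⟩
    rw [Nat.sub_self, derivedSeries_zero]
    exact Subgroup.mem_top _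
  · have hsucc : n - i = n - (i + 1) + 1 := by omega
    refine ⟨fun x hx => ?_, stronglyClosed_of_apply (preimageAlong_le _)
      fun P f hf x hx hxU => ?_, ?_⟩
    · obtain ⟨h1, h2⟩ := mem_preimageAlong.mp hx
      rw [hsucc] at h2
      exact mem_preimageAlong.mpr ⟨h1, derivedSeries_antitone _ (Nat.le_succ _) h2⟩
    · obtain ⟨hxS, hxD⟩ := mem_preimageAlong.mp hxU
      obtain ⟨t, ht, h⟩ := innerMod_hyperfocal hS hF hf
      refine mem_preimageAlong.mpr ⟨hf.mem_S hx, ?_⟩
      have hm := S.mul_mem (S.mul_mem ht hxS) (S.inv_mem ht)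
      have he : qmap π (f x) = qmap π (t * x * t⁻¹) := by
        have h1 : qmap π ((t * x * t⁻¹)⁻¹ * f x) = 1 := by
          rw [qmap_apply (S.mul_mem (S.inv_mem hm) (hf.mem_S hx))]
          exact (hker _).mpr (h x hx)
        rw [qmap_mul (S.inv_mem hm) (hf.mem_S hx), qmap_inv hm, inv_mul_eq_one] at h1
        exact h1.symm
      rw [he, qmap_conj ht hxS]
      exact (derivedSeries_normal (S ⧸ K.subgroupOf S) (n - (i + 1))).conj_mem _ hxD _
    · refine Subgroup.commutator_le.mpr ?_
      rintro _ ⟨a, ha, rfl⟩ _ ⟨b, hb, rfl⟩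
      refine ⟨⁅a, b⁆, Subgroup.mem_comap.mpr ?_, rfl⟩
      rw [map_commutatorElement, hsucc, derivedSeries_succ]
      exact Subgroup.commutator_mem_commutator (Subgroup.mem_comap.mp ha) (Subgroup.mem_comap.mp hb)

/-- A system with terminating residual series has an abelian strongly closed tower. -/
theorem abTower_of_terminating {T : Subgroup Ω} {A : FusionSystem T} {q : ℕ}
    (h : A.HasTerminatingResidualSeries q) :
    q.Prime → Finite T → IsPGroup q T → A.IsSaturated q → AbTower A ⊥ := by
  induction h with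
  | @trivial T F q hT => exact fun _ _ _ _ => ⟨0, fun _ => ⊥, rfl, hT.symm,
      fun i hi => absurd hi (Nat.not_lt_zero i)⟩
  | @step T F E q D hE hD _ ih =>
    intro hq hfin hT hF
    have : Fact q.Prime := ⟨hq⟩
    have := hfin
    have hH := hyperfocalSubgroup_le E q
    have h1 := ih hq (finite_of_le hH) (hT.of_injective _ (Subgroup.inclusion_injective hH)) hD.1
    have hDn := PPower.normal_of_index hT hE.1 hH
      (fun s hs x hx => conj_mem_hyperfocalSubgroup hs hx) hD.1 hD.2
    have hEn := WeaklyNormal.residual_normal hT (isWeaklyNormalIn_self hF) hE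
    exact abTower_glue hEn.1.2.2 (abTower_glue hDn.1.2.2 h1 (abTower_hyperfocal hT hE.1))
      ⟨0, fun _ => T, rfl, rfl, fun i hi => absurd hi (Nat.not_lt_zero i)⟩

/-- A system with terminating residual series has `p`-solvable automizers. -/
theorem autGroup_pSolvable_of_terminating {T : Subgroup Ω} {A : FusionSystem T} {q : ℕ}
    (h : A.HasTerminatingResidualSeries q) :
    q.Prime → Finite T → IsPGroup q T → A.IsSaturated q →
      ∀ W : Subgroup Ω, W ≤ T → IsPSolvable q (A.autGroup W) := by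
  induction h with
  | @trivial T F q hT =>
    intro _ _ _ _ W hW
    subst hT
    obtain rfl : W = ⊥ := le_bot_iff.mp hW
    have h1 : ∀ a : F.autGroup (⊥ : Subgroup Ω), a = 1 := fun a =>
      Subtype.ext (MulEquiv.ext fun x => Subsingleton.elim _ _)
    refine ⟨0, fun _ => ⊥, rfl, ?_, monotone_const, fun _ => inferInstance, fun i => i.elim0⟩
    exact (Subgroup.eq_top_iff' _).mpr fun a => Subgroup.mem_bot.mpr (h1 a)
  | @step T F E q D hE hD _ ih =>
    intro hq hfin hT hF W hW
    have : Fact q.Prime := ⟨hq⟩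
    have := hfin
    have := finite_of_le hW
    have hH := hyperfocalSubgroup_le E q
    have hDs := ih hq (finite_of_le hH) (hT.of_injective _ (Subgroup.inclusion_injective hH)) hD.1
    -- first inside the residual of index prime to `q`
    have hX : IsPSolvable q (E.autGroup W) := by
      set W' := W ⊓ E.hyperfocalSubgroup q
      have hW' : W' ≤ W := inf_le_left
      have := finite_of_le hW'
      have hsc := stronglyClosed_hyperfocal (F := E) hT hE.1
      have hres : ∀ a : E.autGroup W, ∃ b : E.autGroup W',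
          ∀ x ∈ W', autFun (b : MulAut W') x = autFun (a : MulAut W) x := fun a => by
        have hm := ((isMap_autFun hW).mpr a.2).mono hW'
        have hi : img W' (autFun (a : MulAut W)) = W' :=
          Subgroup.eq_of_le_of_card_ge (IsMap.img_le_iff.mpr fun x hx =>
            ⟨autFun_mem _ (hW' hx), stronglyClosed_apply hsc hm hx hx.2⟩) hm.card_img.ge
        obtain ⟨b, hb, e⟩ := hm.exists_aut hi
        exact ⟨⟨b, hb⟩, e⟩
      choose r hr using hres
      have huniq : ∀ b c : E.autGroup W',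
          (∀ x ∈ W', autFun (b : MulAut W') x = autFun (c : MulAut W') x) → b = c := fun b c h =>
        Subtype.ext (MulEquiv.ext fun x => Subtype.ext (by
          rw [← autFun_apply, ← autFun_apply]; exact h x x.2))
      let ρ : E.autGroup W →* E.autGroup W' := MonoidHom.mk' r fun a b => huniq _ _ fun x hx => by
        rw [hr (a * b) x hx, Subgroup.coe_mul, Subgroup.coe_mul, autFun_mul _ _ (hW' hx),
          autFun_mul _ _ hx, hr b x hx, hr a _ (hr b x hx ▸ autFun_mem _ hx)]
      set R := pResidual q (E.autGroup W)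
      have := Cfsg.Lib.Transfer.pResidual_normal' (p := q) (G := E.autGroup W)
      have hle : R.map ρ ≤ (D.autGroup W').subgroupOf (E.autGroup W') := by
        rw [show R = pResidual q (E.autGroup W) from rfl, pResidual, MonoidHom.map_closure,
          Subgroup.closure_le]
        rintro _ ⟨a, ha, rfl⟩
        refine Subgroup.mem_subgroupOf.mpr
          (PPower.coprime_mem_autGroup hD.2 inf_le_right (ρ a).2 ?_)
        rw [Subgroup.orderOf_coe]
        exact Nat.Coprime.coprime_dvd_left (orderOf_map_dvd ρ a) ha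
      have himg : IsPSolvable q (R.map ρ) := by
        have h1 := Cfsg.Lib.SolvStruct.CoprimeOrbits.isPSolvable_subgroup (hDs W' inf_le_right) hq
          (((R.map ρ).map (E.autGroup W').subtype).subgroupOf (D.autGroup W'))
        refine Cfsg.Lib.Constraint.isPSolvable_of_surjective
          (f := ((Subgroup.subgroupOfEquivOfLe ?_).trans
            ((R.map ρ).equivMapOfInjective _ (E.autGroup W').subtype_injective).symm).toMonoidHom)
          (MulEquiv.surjective _) h1
        rintro _ ⟨b, hb, rfl⟩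
        exact Subgroup.mem_subgroupOf.mp (hle hb)
      have hR : IsPSolvable q R := by
        refine isPSolvable_of_pGroup_ker (f := (ρ.comp R.subtype).rangeRestrict)
          (MonoidHom.rangeRestrict_surjective _) ?_ (by
            rwa [MonoidHom.range_comp, Subgroup.range_subtype])
        intro a
        obtain ⟨k, hk⟩ := IsPGroup.iff_card.mp
          (hT.of_injective _ (Subgroup.inclusion_injective (hW'.trans hW)))
        refine ⟨k, ?_⟩
        set b : E.autGroup W := ((a : R) : E.autGroup W)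
        have hfix : ∀ x ∈ W', autFun (b : MulAut W) x = x := fun x hx => by
          have h1 : ρ b = 1 := by
            have := MonoidHom.mem_ker.mp a.2
            exact congrArg Subtype.val this
          rw [← hr b x hx, show r b = 1 from h1, Subgroup.coe_one, autFun_apply_mem _ hx]
          rfl
        have hc : ∀ x ∈ W, x⁻¹ * autFun (b : MulAut W) x ∈ W' := fun x hx =>
          ⟨W.mul_mem (W.inv_mem hx) (autFun_mem _ hx),
            mem_hyperfocalSubgroup hW (a : R).2 hx⟩
        have hpow : ∀ (i : ℕ), ∀ x ∈ W, autFun ((b : MulAut W) ^ i) x =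
            x * (x⁻¹ * autFun (b : MulAut W) x) ^ i := by
          intro i
          induction i with
          | zero =>
            intro x hx
            rw [pow_zero, pow_zero, mul_one, autFun_apply_mem _ hx]
            rfl
          | succ i ih =>
            intro x hx
            have hm := (isMap_autFun hW).mpr b.2
            rw [pow_succ', autFun_mul _ _ hx, ih x hx,
              hm.map_mul hx (W.pow_mem (hW' (hc x hx)) i),
              hfix _ (W'.pow_mem (hc x hx) i), pow_succ', ← mul_assoc, mul_inv_cancel_left]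
        refine Subtype.ext (Subtype.ext (Subtype.ext (MulEquiv.ext fun x => Subtype.ext ?_)))
        show (((((b : MulAut W) ^ q ^ k) x : W)) : Ω) = x
        rw [← autFun_apply, hpow _ x x.2]
        have h2 : (⟨_, hc x x.2⟩ : W') ^ q ^ k = 1 := hk ▸ pow_card_eq_one'
        rw [show ((x : Ω)⁻¹ * autFun (b : MulAut W) x) ^ q ^ k = 1 from congrArg Subtype.val h2,
          mul_one]
      exact isPSolvable_of_normal_step R hR
        (Or.inl (IsPGroup.iff_card.mp Cfsg.Lib.Transfer.isPGroup_quotient_pResidual))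
    set N := Subgroup.closure {α : F.autGroup W | ∃ k : ℕ, orderOf α = q ^ k}
    have hNn : N.Normal := ⟨fun n hn g => by
      have h : N ≤ N.comap (MulAut.conj g).toMonoidHom := by
        refine (Subgroup.closure_le _).mpr fun a ha => Subgroup.subset_closure ?_
        obtain ⟨k, hk⟩ := ha
        exact ⟨k, (MulEquiv.orderOf_eq (MulAut.conj g) a).trans hk⟩
      exact h hn⟩
    have hN : IsPSolvable q N := by
      have h1 := Cfsg.Lib.SolvStruct.CoprimeOrbits.isPSolvable_subgroup hX hq
        ((N.map (F.autGroup W).subtype).subgroupOf (E.autGroup W))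
      exact Cfsg.Lib.Constraint.isPSolvable_of_surjective
        (f := ((Subgroup.subgroupOfEquivOfLe (hE.2.1.2 W hW)).trans
          (N.equivMapOfInjective _ (F.autGroup W).subtype_injective).symm).toMonoidHom)
        (MulEquiv.surjective _) h1
    refine isPSolvable_of_normal_step N hN (Or.inr ?_)
    refine Nat.Coprime.symm ((Nat.Prime.coprime_iff_not_dvd hq).mpr fun hdvd => ?_)
    obtain ⟨P⟩ := (inferInstance : Nonempty (Sylow q (F.autGroup W)))
    have hPN : (P : Subgroup (F.autGroup W)) ≤ N := fun a ha => Subgroup.subset_closure (by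
      obtain ⟨k, hk⟩ := IsPGroup.iff_orderOf.mp P.2 ⟨a, ha⟩
      exact ⟨k, (Subgroup.orderOf_mk a ha).symm.trans hk⟩)
    exact P.not_dvd_index (hdvd.trans (Subgroup.index_dvd_of_le hPN))

end Tower

section Realized

variable {Ω : Type u} [Group Ω] {S : Subgroup Ω} {F : FusionSystem S} {p : ℕ}
  {G : Type u} [Group G] {ι : S →* G}

theorem exists_elt_qmap (h : F.IsRealizedBy ι) {P : Subgroup Ω} {f : Ω → Ω} (hf : IsMap F P f) :
    ∃ g : G, ∀ x ∈ P, qmap ι (f x) = g * qmap ι x * g⁻¹ := by
  obtain ⟨g, hg⟩ := exists_elt_of_isMap h hf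
  refine ⟨g, fun x hx => ?_⟩
  rw [qmap_apply (hf.mem_S hx), qmap_apply (hf.le hx)]
  exact hg ⟨x, hf.le hx⟩ hx ⟨f x, hf.mem_S hx⟩ rfl

theorem stronglyClosed_preimage (h : F.IsRealizedBy ι) (N : Subgroup G) [hN : N.Normal] :
    F.StronglyClosed (preimageAlong ι N) :=
  stronglyClosed_of_apply (preimageAlong_le _) fun P f hf x hx hxN => by
    obtain ⟨g, hg⟩ := exists_elt_qmap h hf
    refine mem_preimageAlong.mpr ⟨hf.mem_S hx, ?_⟩
    rw [hg x hx]
    exact hN.conj_mem _ (mem_preimageAlong.mp hxN).2 g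

theorem preimage_eq_of_coprime [Finite S] [Fact p.Prime] (hS : IsPGroup p S) {A B : Subgroup G}
    [A.Normal] (hAB : A ≤ B) (hr : (A.relIndex B).Coprime p) :
    preimageAlong ι B = preimageAlong ι A := by
  refine le_antisymm (fun x hx => ?_) fun x hx =>
    mem_preimageAlong.mpr ⟨(mem_preimageAlong.mp hx).1, hAB (mem_preimageAlong.mp hx).2⟩
  obtain ⟨hxS, hxB⟩ := mem_preimageAlong.mp hx
  have h1 : qmap ι x ^ A.relIndex B ∈ A :=
    Subgroup.mem_subgroupOf.mp (Subgroup.pow_index_mem (A.subgroupOf B) ⟨_, hxB⟩)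
  obtain ⟨k, hk⟩ := hS ⟨x, hxS⟩
  obtain ⟨m, hm⟩ := exists_pow_eq_self_of_coprime (x := qmap ι x) (n := A.relIndex B)
    (Nat.Coprime.coprime_dvd_right (orderOf_dvd_of_pow_eq_one (show qmap ι x ^ p ^ k = 1 by
      rw [qmap_apply hxS, ← map_pow, hk, map_one])) (hr.pow_right k))
  exact mem_preimageAlong.mpr ⟨hxS, hm ▸ A.pow_mem h1 m⟩

/-- A system realized by a `p`-solvable group has an abelian strongly closed tower. -/
theorem abTower_of_pSolvable [Finite S] [Finite G] [Fact p.Prime] (hS : IsPGroup p S)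
    (h : F.IsRealizedBy ι) (hsol : IsPSolvable p G) : AbTower F ⊥ := by
  obtain ⟨n, H, h0, hl, hmono, hnor, hstep⟩ := hsol
  have hp_step : ∀ (m : ℕ) (A B : Subgroup G), A.Normal → B.Normal → A ≤ B → Nat.card B = m →
      (∃ k, A.relIndex B = p ^ k) → AbTower F (preimageAlong ι B) →
      AbTower F (preimageAlong ι A) := by
    intro m
    induction m using Nat.strong_induction_on with
    | _ m ih =>
    intro A B hA hB hAB hm hk hT
    rcases eq_or_ne B A with h1 | h1
    · rwa [← h1]
    set B' := ⁅B, B⁆ ⊔ A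
    have hB'B : B' ≤ B := sup_le commutator_le_self hAB
    have hlt : B' < B := by
      refine lt_of_le_of_ne hB'B fun h2 => h1 (le_antisymm ?_ hAB)
      set X := B.map (QuotientGroup.mk' A)
      have hX : ⁅X, X⁆ = X := by
        have h3 : B'.map (QuotientGroup.mk' A) = ⁅X, X⁆ := by
          rw [Subgroup.map_sup, Subgroup.map_commutator, QuotientGroup.map_mk'_self, sup_bot_eq]
        rw [← h3, h2]
      obtain ⟨k, hk⟩ := hk
      have hXp : IsPGroup p X := by
        refine IsPGroup.of_card (n := k) ?_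
        rw [← Subgroup.relIndex_bot_left, ← QuotientGroup.map_mk'_self A, ← hk,
          Subgroup.relIndex_map_map, QuotientGroup.ker_mk', sup_idem, sup_eq_left.mpr hAB]
      have : Group.IsNilpotent X := hXp.isNilpotent
      by_contra hne
      have hXne : X ≠ ⊥ := fun h3 => hne (by
        have := (Subgroup.map_eq_bot_iff B).mp h3
        rwa [QuotientGroup.ker_mk'] at this)
      have : Nontrivial X := X.nontrivial_iff_ne_bot.mpr hXne
      refine (Group.IsSolvable.commutator_lt_top_of_nontrivial X).ne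
        (Subgroup.map_injective X.subtype_injective ?_)
      rw [Subgroup.map_subtype_commutator, hX, ← MonoidHom.range_eq_map, Subgroup.range_subtype]
    obtain ⟨k, hk⟩ := hk
    have h2 := Subgroup.relIndex_mul_relIndex A B' B le_sup_right hB'B
    rw [hk] at h2
    obtain ⟨k', -, hk'⟩ := (Nat.dvd_prime_pow Fact.out).mp (Dvd.intro _ h2)
    refine ih (Nat.card B') ?_ A B' hA inferInstance le_sup_right rfl ⟨k', hk'⟩
      (hT.cons (fun x hx => mem_preimageAlong.mpr ⟨(mem_preimageAlong.mp hx).1,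
        hB'B (mem_preimageAlong.mp hx).2⟩) (stronglyClosed_preimage h B) ?_)
    · rw [← hm]
      exact lt_of_le_of_ne (Subgroup.card_le_of_le hlt.le) fun h3 =>
        hlt.ne (Subgroup.eq_of_le_of_card_ge hlt.le h3.ge)
    · refine Subgroup.commutator_le.mpr ?_
      rintro _ ⟨a, ha, rfl⟩ _ ⟨b, hb, rfl⟩
      refine ⟨⁅a, b⁆, Subgroup.mem_comap.mpr ?_, rfl⟩
      rw [map_commutatorElement]
      exact Subgroup.mem_sup_left (Subgroup.commutator_mem_commutator (Subgroup.mem_comap.mp ha)
        (Subgroup.mem_comap.mp hb))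
  have hall : ∀ i, AbTower F (preimageAlong ι (H i)) := by
    intro i
    induction i using Fin.reverseInduction with
    | last =>
      exact ⟨0, fun _ => preimageAlong ι (H (Fin.last n)), rfl, le_antisymm (preimageAlong_le _)
        (fun x hx => mem_preimageAlong.mpr ⟨hx, by rw [hl]; exact Subgroup.mem_top _⟩),
        fun i hi => absurd hi (Nat.not_lt_zero i)⟩
    | cast j ih =>
      have := hnor j.castSucc
      have := hnor j.succ
      have hle := hmono (Fin.castSucc_le_succ j)
      rcases hstep j with hj | hj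
      · exact hp_step _ _ _ inferInstance inferInstance hle rfl hj ih
      · exact preimage_eq_of_coprime hS hle hj ▸ ih
  have := hall 0
  rwa [h0, show preimageAlong ι ⊥ = ⊥ from (Subgroup.eq_bot_iff_forall _).mpr fun x hx => by
    obtain ⟨hxS, hx1⟩ := mem_preimageAlong.mp hx
    rw [qmap_apply hxS, Subgroup.mem_bot] at hx1
    exact congrArg Subtype.val (h.1 (hx1.trans (map_one ι).symm))] at this

/-- Automizers in a subsystem of a system realized by a `p`-solvable group are `p`-solvable. -/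
theorem autGroup_pSolvable_of_realized [Finite G] [Fact p.Prime] (h : F.IsRealizedBy ι)
    (hsol : IsPSolvable p G) {T : Subgroup Ω} {D : FusionSystem T} (hs : D.IsSubsystemOf F)
    {Q : Subgroup Ω} (hQ : Q ≤ T) (hTS : T ≤ S) : IsPSolvable p (D.autGroup Q) := by
  have hQS := hQ.trans hTS
  let R : D.autGroup Q → G → Prop := fun a g =>
    ∀ x ∈ Q, qmap ι (autFun (a : MulAut Q) x) = g * qmap ι x * g⁻¹
  have hmul : ∀ {a b : D.autGroup Q} {g k : G}, R a g → R b k → R (a * b) (g * k) :=
    fun {a b g k} ha hb x hx => by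
      rw [Subgroup.coe_mul, autFun_mul _ _ hx, ha _ (autFun_mem _ hx), hb x hx]
      group
  have hone : R 1 1 := fun x hx => by
    rw [Subgroup.coe_one, autFun_apply_mem _ hx, one_mul, inv_one, mul_one]
    rfl
  let A0 : Subgroup G :=
    { carrier := {g | ∃ a, R a g}
      one_mem' := ⟨1, hone⟩
      mul_mem' := fun ⟨a, ha⟩ ⟨b, hb⟩ => ⟨a * b, hmul ha hb⟩
      inv_mem' := fun {g} ⟨a, ha⟩ => ⟨a⁻¹, fun x hx => by
        have h1 := ha _ (autFun_mem (a : MulAut Q)⁻¹ hx)
        rw [autFun_inv_apply _ hx] at h1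
        rw [Subgroup.coe_inv, h1]
        group⟩ }
  have huniq : ∀ {a b : D.autGroup Q} {g : G}, R a g → R b g → a = b := fun {a b g} ha hb =>
    Subtype.ext (MulEquiv.ext fun x => Subtype.ext (by
      rw [← autFun_apply, ← autFun_apply]
      exact qmap_injOn h.1 (hQS (autFun_mem _ x.2)) (hQS (autFun_mem _ x.2))
        ((ha x x.2).trans (hb x x.2).symm)))
  choose φ hφ using fun g : A0 => g.2
  let Φ : A0 →* D.autGroup Q :=
    MonoidHom.mk' φ fun g k => huniq (hφ (g * k)) (hmul (hφ g) (hφ k))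
  refine Cfsg.Lib.Constraint.isPSolvable_of_surjective (f := Φ) (fun a => ?_)
    (Cfsg.Lib.SolvStruct.CoprimeOrbits.isPSolvable_subgroup hsol Fact.out A0)
  obtain ⟨g, hg⟩ := exists_elt_qmap h (isMap_of_sub hs ((isMap_autFun hQ).mpr a.2))
  exact ⟨⟨g, a, hg⟩, huniq (hφ ⟨g, a, hg⟩) hg⟩

/-- A map induced by conjugation by an element of `M`. -/
def InducedIn (ι : S →* G) (M : Subgroup G) (P : Subgroup Ω) (f : Ω → Ω) : Prop :=
  ∃ g ∈ M, ∀ x ∈ P, qmap ι (f x) = g * qmap ι x * g⁻¹

theorem isMapClass_inducedIn {M : Subgroup G} (hM : ι.range ≤ M) :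
    IsMapClass F (InducedIn ι M) where
  conj P s hP hs := ⟨qmap ι s, hM ⟨⟨s, hs⟩, (qmap_apply hs).symm⟩, fun x hx =>
    qmap_conj hs (hP hx)⟩
  congr P f f' _ e := fun ⟨g, hg, h⟩ => ⟨g, hg, fun x hx => (e x hx).symm ▸ h x hx⟩
  mono P R f _ hR := fun ⟨g, hg, h⟩ => ⟨g, hg, fun x hx => h x (hR hx)⟩
  comp P Q f k hf _ hfQ := by
    rintro ⟨g, hg, h⟩ ⟨g', hg', h'⟩
    refine ⟨g' * g, M.mul_mem hg' hg, fun x hx => ?_⟩
    show qmap ι (k (f x)) = _
    rw [h' _ (hfQ x hx), h x hx]
    group
  inv P f k hf _ hl := by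
    rintro ⟨g, hg, h⟩
    refine ⟨g⁻¹, M.inv_mem hg, fun y hy => ?_⟩
    obtain ⟨x, hx, rfl⟩ := hf.mem_img.mp hy
    rw [hl x hx, h x hx]
    group

/-- The residual of index prime to `p` has smaller hyperfocal subgroup. -/
theorem hyperfocal_residual_lt [Finite S] [Fact p.Prime] (hS : IsPGroup p S)
    (hF : F.IsSaturated p) (hM : F.IsModel p G ι) (hsol : IsPSolvable p G) (hne : S ≠ ⊥)
    {E : FusionSystem S} (hE : F.IsPPrimeResidual p E) : E.hyperfocalSubgroup p < S := by
  obtain ⟨hfin, hreal, ⟨U, hU⟩, -⟩ := hM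
  obtain ⟨n, H, h0, hl, hmono, hnor, hstep⟩ := hsol
  have hex : ∀ x : S, x ≠ 1 → ∃ i : Fin n, ι.range ≤ H i.succ ∧ ¬ ι.range ≤ H i.castSucc := by
    intro x hx
    by_contra hc
    push Not at hc
    have hall : ∀ i, ι.range ≤ H i := by
      intro i
      induction i using Fin.reverseInduction with
      | last => rw [hl]; exact le_top
      | cast j ih => exact hc j ih
    have h1 := hall 0 ⟨x, rfl⟩
    rw [h0, Subgroup.mem_bot] at h1
    exact hx (hreal.1 (h1.trans (map_one ι).symm))
  obtain ⟨x, hxS, hx1⟩ := S.bot_or_exists_ne_one.resolve_left hne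
  obtain ⟨i, hiM, hiK⟩ := hex ⟨x, hxS⟩ fun h => hx1 (congrArg Subtype.val h)
  set M := H i.succ
  set K := H i.castSucc
  have hKn : K.Normal := hnor _
  have hMn : M.Normal := hnor _
  obtain ⟨m, hm⟩ : ∃ m, K.relIndex M = p ^ m := by
    refine (hstep i).resolve_right fun hco => hiK ?_
    have he := preimage_eq_of_coprime (ι := ι) hS (hmono (Fin.castSucc_le_succ i)) hco
    rintro _ ⟨s, rfl⟩
    have h1 : (s : Ω) ∈ preimageAlong ι M :=
      mem_preimageAlong.mpr ⟨s.2, by rw [qmap_apply (θ := ι) s.2]; exact hiM ⟨s, rfl⟩⟩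
    rw [he] at h1
    have h2 := (mem_preimageAlong.mp h1).2
    rwa [qmap_apply (θ := ι) s.2] at h2
  have hcls := isMapClass_inducedIn (F := F) hiM
  set D₀ := Criterion.classSystem F hcls
  have hD₀F : D₀.IsSubsystemOf F := fun _ _ h => h.1
  have hmem : ∀ {P : Subgroup Ω} {f : Ω → Ω}, IsMap F P f → InducedIn ι M P f →
      IsMap D₀ P f := fun {P f} ⟨φ, hφ, e⟩ h =>
    ⟨φ, ⟨hφ, hcls.congr P f _ ⟨φ, hφ, e⟩ (fun x hx => by
      rw [toFun'_apply_mem φ hx]; exact e ⟨x, hx⟩) h⟩, e⟩
  have hD₀real : D₀.IsRealizedBy (ι.codRestrict M fun s => hiM ⟨s, rfl⟩) := by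
    refine ⟨fun a b hab => hreal.1 (congrArg Subtype.val hab), fun P hP φ hφ => ⟨?_, ?_⟩⟩
    · rintro ⟨-, g, hg, h⟩
      refine ⟨⟨g, hg⟩, fun y => Subtype.ext ?_⟩
      have h1 := h y y.2
      rw [toFun'_apply, qmap_apply (hφ y), qmap_apply (hP y.2)] at h1
      exact h1
    · rintro ⟨g, hg⟩
      refine ⟨(hreal.2 P hP φ hφ).mpr ⟨g, fun y => congrArg Subtype.val (hg y)⟩, g, g.2,
        fun y hy => ?_⟩
      rw [toFun'_apply_mem φ hy, qmap_apply (hφ ⟨y, hy⟩), qmap_apply (hP hy)]
      exact congrArg Subtype.val (hg ⟨y, hy⟩)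
  have hD₀s : D₀.IsSaturated p := by
    refine saturated_of_realized hD₀real ⟨U.subtype (hU.le.trans hiM), ?_⟩
    rw [Sylow.coe_subtype, hU]
    ext y
    rw [Subgroup.mem_subgroupOf]
    constructor
    · rintro ⟨s, hs⟩
      exact ⟨s, Subtype.ext hs⟩
    · rintro ⟨s, rfl⟩
      exact ⟨s, rfl⟩
  have hidx : D₀.HasPrimeToPIndexIn F p := by
    refine ⟨hD₀F, fun P hP => PrimeIndex.opGen_le_iff fun u hu hk => ?_⟩
    refine (isMap_autFun hP).mp (hmem ((isMap_autFun hP).mpr hu) ?_)
    obtain ⟨Q, hPQ, hQn⟩ := exists_fullyNormalized (F := F) hP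
    obtain ⟨c, hc, rfl⟩ := isConj_iff.mp hPQ
    have hfa := (fullyNormalized_props hS hF hQn).2.1
    set u' := MulAut.congr (hc.equiv rfl) u
    have hu' : u' ∈ F.autGroup (img P c) := congr_mem_autGroup hc rfl hu
    obtain ⟨k, hk⟩ := hk
    have hKp : IsPGroup p (Subgroup.zpowers u') := IsPGroup.of_card (n := k) (by
      rw [Nat.card_zpowers, ← hk]
      exact MulEquiv.orderOf_eq _ _)
    obtain ⟨χ, hχ, hχK⟩ := exists_conj_into_autS hfa hKp (Subgroup.zpowers_le.mpr hu')
    obtain ⟨s, hs, hse⟩ := mem_autInducedBy.mp (hχK u' (Subgroup.mem_zpowers _))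
    have hd : IsMap F P (autFun χ ∘ c) :=
      hc.comp ((isMap_autFun hc.img_le).mpr hχ) fun y hy => IsMap.apply_mem_img hy
    obtain ⟨g, hg⟩ := exists_elt_qmap hreal hd
    refine ⟨g⁻¹ * qmap ι s * g, ?_, fun y hy => ?_⟩
    · have := hMn.conj_mem (qmap ι s) (hiM ⟨⟨s, hs⟩, (qmap_apply hs).symm⟩) g⁻¹
      rwa [inv_inv] at this
    · have hcy : c y ∈ img P c := IsMap.apply_mem_img hy
      have h1 : autFun χ (c (autFun u y)) = s * autFun χ (c y) * s⁻¹ := by
        have h3 := hse ⟨autFun χ (c y), autFun_mem χ hcy⟩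
        rw [← autFun_apply] at h3
        show autFun χ (c (autFun u y)) = _
        rw [← h3, autFun_mul _ _ (autFun_mem χ hcy), autFun_inv_apply' χ hcy, autFun_mul _ _ hcy,
          congr_equiv_spec hc rfl u hy]
      have h4 := hg _ (autFun_mem u hy)
      have h5 := hg y hy
      have h6 : qmap ι (autFun χ (c (autFun u y))) =
          qmap ι s * qmap ι (autFun χ (c y)) * (qmap ι s)⁻¹ := by
        rw [h1, qmap_conj hs (hc.img_le (autFun_mem χ hcy))]
      simp only [Function.comp_apply] at h4 h5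
      rw [h4, h5] at h6
      calc qmap ι (autFun u y) = g⁻¹ * (g * qmap ι (autFun u y) * g⁻¹) * g := by group
        _ = _ := by rw [h6]; group
  have hED : E.IsSubsystemOf D₀ := hE.2.2 D₀ hD₀s hidx
  refine lt_of_le_of_lt (hyperfocal_le_of_coprime (H := preimageAlong ι K)
    fun P hP α hα hcop y hy => ?_) (lt_of_le_of_ne (preimageAlong_le _) fun he => hiK ?_)
  · have := finite_of_le hP
    obtain ⟨φ, ⟨hφ, g, hg, h⟩, e⟩ := isMap_of_sub hED ((isMap_autFun hP).mpr hα)
    have h' : ∀ z ∈ P, qmap ι (autFun α z) = g * qmap ι z * g⁻¹ := fun z hz => by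
      rw [← e ⟨z, hz⟩, ← toFun'_apply φ ⟨z, hz⟩]
      exact h z hz
    have hpow : ∀ (j : ℕ), ∀ z ∈ P, qmap ι (autFun (α ^ j) z) = g ^ j * qmap ι z * (g ^ j)⁻¹ := by
      intro j
      induction j with
      | zero =>
        intro z hz
        rw [pow_zero, pow_zero, autFun_apply_mem _ hz, one_mul, inv_one, mul_one]
        rfl
      | succ j ih =>
        intro z hz
        rw [pow_succ', autFun_mul _ _ hz, h' _ (autFun_mem _ hz), ih z hz, pow_succ']
        group
    obtain ⟨b, m', hm', hbm⟩ := Nat.exists_eq_pow_mul_and_not_dvd (orderOf_pos g).ne' p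
      (Fact.out (p := p.Prime)).ne_one
    obtain ⟨k, hk⟩ := exists_pow_eq_self_of_coprime (hcop.pow_right b).symm
    rw [← pow_mul] at hk
    have hgK : g ^ (p ^ b * k) ∈ K := by
      have h1 : (g ^ (p ^ b * k)) ^ p ^ m ∈ K := by
        rw [← hm]
        exact Subgroup.mem_subgroupOf.mp
          (Subgroup.pow_index_mem (K.subgroupOf M) ⟨_, M.pow_mem hg _⟩)
      have h2 : (g ^ (p ^ b * k)) ^ m' = 1 := by
        rw [← pow_mul, show p ^ b * k * m' = p ^ b * m' * k by ring, ← hbm, pow_mul,
          pow_orderOf_eq_one, one_pow]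
      obtain ⟨j, hj⟩ := exists_pow_eq_self_of_coprime (x := g ^ (p ^ b * k)) (n := p ^ m)
        (Nat.Coprime.coprime_dvd_right (orderOf_dvd_of_pow_eq_one h2)
          (((Nat.Prime.coprime_iff_not_dvd Fact.out).mpr hm').pow_left m))
      exact hj ▸ K.pow_mem h1 j
    have hyS := hP hy
    refine mem_preimageAlong.mpr ⟨S.mul_mem (S.inv_mem hyS) (hP (autFun_mem α hy)), ?_⟩
    rw [qmap_mul (S.inv_mem hyS) (hP (autFun_mem α hy)), qmap_inv hyS]
    nth_rewrite 1 [← hk]
    rw [hpow _ y hy, show (qmap ι y)⁻¹ * (g ^ (p ^ b * k) * qmap ι y * (g ^ (p ^ b * k))⁻¹) =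
      ((qmap ι y)⁻¹ * g ^ (p ^ b * k) * qmap ι y) * (g ^ (p ^ b * k))⁻¹ by group]
    refine K.mul_mem ?_ (K.inv_mem hgK)
    have := hKn.conj_mem _ hgK (qmap ι y)⁻¹
    rwa [inv_inv] at this
  · rintro _ ⟨s, rfl⟩
    have h2 := (mem_preimageAlong.mp (he.ge s.2)).2
    rwa [qmap_apply (θ := ι) s.2] at h2

end Realized

/-- Constrained systems with a `p`-solvable model have terminating residual series. -/
theorem terminating_of_model {p : ℕ} [Fact p.Prime] {Ω : Type u} [Group Ω] :
    ∀ (n : ℕ) {S : Subgroup Ω}, Nat.card S = n → Finite S → IsPGroup p S →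
      ∀ (F : FusionSystem S), F.IsSaturated p → ∀ (G : Type u) [Group G] (ι : S →* G),
        F.IsModel p G ι → IsPSolvable p G → F.HasTerminatingResidualSeries p := by
  intro n
  induction n using Nat.strong_induction_on with
  | _ n ih =>
  intro S hn hfin hS F hF G _ ι hM hsol
  by_cases hne : S = ⊥
  · exact .trivial F p hne
  have := hfin
  have := hM.1
  have hE := PrimeIndex.residual_spec hS hF
  set E := PrimeIndex.residual F p
  set T := E.hyperfocalSubgroup p
  have hTS : T ≤ S := hyperfocalSubgroup_le E p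
  obtain ⟨D, ⟨hDs, hDi⟩, -⟩ := Cfsg.Agent.S5113.result p hS E hE.1 T hTS le_rfl
  refine .step F E p D hE ⟨hDs, hDi⟩ ?_
  have hlt := hyperfocal_residual_lt hS hF hM hsol hne hE
  have := finite_of_le hTS
  have hTp : IsPGroup p T := hS.of_injective _ (Subgroup.inclusion_injective hTS)
  have hDF : D.IsSubsystemOf F := fun P => (hDi.1 P).trans (hE.2.1.1 P)
  have hDc := constrained_of_solvable hTp hDs (solvable_of_abTower hTp hDs
    (abTower_restrict hDF hTS (abTower_of_pSolvable hS hM.2.1 hsol)))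
  obtain ⟨-, Q, hQ, hQc⟩ := hDc
  obtain ⟨G', _, ι', hM', -, -⟩ := exists_isModel hTp hDs hQ hQc
  have := hM'.1
  obtain ⟨Θ, hΘ, hker⟩ := exists_core_hom hM' hTp
  refine ih (Nat.card T) ?_ rfl inferInstance hTp D hDs G' ι' hM' (isPSolvable_of_pGroup_ker hΘ hker
    (autGroup_pSolvable_of_realized hM.2.1 hsol hDF (isNormal_core (F := D)).1 hTS))
  rw [← hn]
  exact lt_of_le_of_ne (Subgroup.card_le_of_le hlt.le) fun h3 =>
    hlt.ne (Subgroup.eq_of_le_of_card_ge hlt.le h3.ge)

end Cfsg.Lib.Fusion
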