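import Cfsg.Agent.Fusion.GTFusion
import Cfsg.Prelude.Def_PLocal

/-!
Consequences of the Glauberman–Thompson criterion: the centre of the Thompson subgroup.
-/

set_option autoImplicit false

namespace Cfsg.Lib.Fusion

open Cfsg Cfsg.FusionSystem
open scoped commutatorElement

variable {Ω : Type*} [Group Ω] {S : Subgroup Ω} {F : FusionSystem S} {p : ℕ}

theorem map_mem_maxAb {T : Subgroup Ω} {A : Subgroup T} :
    A ∈ maxAbelianSubgroups T ↔ A.map T.subtype ∈ maxAb T := by
  have hmap : ∀ A : Subgroup Ω, A ≤ T → (A.subgroupOf T).map T.subtype = A := fun A hA => by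
    rw [Subgroup.subgroupOf_map_subtype, inf_eq_left.mpr hA]
  have hcard : ∀ A : Subgroup T, Nat.card (A.map T.subtype) = Nat.card A := fun A =>
    Subgroup.card_map_of_injective T.subtype_injective
  constructor
  · rintro ⟨hA, hmax⟩
    haveI := hA
    refine ⟨Subgroup.map_subtype_le A, inferInstance, fun A' h1 h2 => ?_⟩
    haveI := h2
    rw [hcard, ← hmap A' h1, hcard]
    exact hmax _ inferInstance
  · rintro ⟨-, hA, hmax⟩
    refine ⟨⟨⟨fun a b => Subtype.ext (Subtype.ext ?_)⟩⟩, fun A' h2 => ?_⟩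
    · haveI := hA
      have := congrArg Subtype.val
        (IsMulCommutative.is_comm.comm (⟨_, ⟨a.1, a.2, rfl⟩⟩ : A.map T.subtype) ⟨_, ⟨b.1, b.2, rfl⟩⟩)
      exact this
    · haveI := h2
      rw [← hcard A, ← hcard A']
      exact hmax _ (Subgroup.map_subtype_le A') inferInstance

theorem centerThompsonAOf_eq (T : Subgroup Ω) [Finite T] :
    centerThompsonAOf T = ⨅ A ∈ maxAb T, A := by
  have hJ : ∀ A ∈ maxAb T, A ≤ thompsonSubgroupAOf T := fun A hA => by
    have e : (A.subgroupOf T).map T.subtype = A := by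
      rw [Subgroup.subgroupOf_map_subtype, inf_eq_left.mpr hA.1]
    rw [← e]
    refine Subgroup.map_mono (le_sSup (map_mem_maxAb.mpr ?_))
    rwa [e]
  have hJT : thompsonSubgroupAOf T ≤ T := Subgroup.map_subtype_le _
  refine le_antisymm (le_iInf₂ fun A hA => ?_) (le_inf ?_ ?_)
  · -- elements centralizing `A` lie in it
    intro z hz
    have hzT : z ∈ T := hJT hz.1
    haveI := hA.2.1
    have hzA : ∀ a ∈ A, a * z = z * a := fun a ha =>
      Subgroup.mem_centralizer_iff.mp hz.2 a (hJ A hA ha)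
    have h1 : A ≤ Subgroup.centralizer (A : Set Ω) := fun a ha =>
      Subgroup.mem_centralizer_iff.mpr fun b hb =>
        congrArg Subtype.val (IsMulCommutative.is_comm.comm (⟨b, hb⟩ : A) ⟨a, ha⟩)
    have h2 : Subgroup.zpowers z ≤ Subgroup.centralizer (A : Set Ω) :=
      Subgroup.zpowers_le.mpr (Subgroup.mem_centralizer_iff.mpr hzA)
    have h3 : Subgroup.zpowers z ≤ Subgroup.centralizer ((Subgroup.zpowers z : Subgroup Ω) : Set Ω) :=
      fun a ha => Subgroup.mem_centralizer_iff.mpr fun b hb => by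
        obtain ⟨i, rfl⟩ := ha
        obtain ⟨j, rfl⟩ := hb
        exact zpow_mul_comm z j i
    have h4 : A ⊔ Subgroup.zpowers z ≤
        Subgroup.centralizer ((A ⊔ Subgroup.zpowers z : Subgroup Ω) : Set Ω) :=
      sup_le (Subgroup.le_centralizer_iff.mp (sup_le h1 h2))
        (Subgroup.le_centralizer_iff.mp (sup_le (Subgroup.le_centralizer_iff.mp h2) h3))
    have hle : A ⊔ Subgroup.zpowers z ≤ T := sup_le hA.1 (Subgroup.zpowers_le.mpr hzT)
    have := finite_of_le hle
    have heq : A = A ⊔ Subgroup.zpowers z := Subgroup.eq_of_le_of_card_ge le_sup_left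
      (hA.2.2 _ hle ⟨⟨fun a b => Subtype.ext (Subgroup.mem_centralizer_iff.mp (h4 b.2) a a.2)⟩⟩)
    rw [heq]
    exact Subgroup.mem_sup_right (Subgroup.mem_zpowers z)
  · obtain ⟨A, hA⟩ := maxAb_nonempty (T := T)
    exact (iInf₂_le A hA).trans (hJ A hA)
  · refine Subgroup.le_centralizer_iff.mp ?_
    refine Subgroup.map_le_iff_le_comap.mpr (sSup_le fun A hA => ?_)
    intro a ha
    refine Subgroup.mem_comap.mpr (Subgroup.mem_centralizer_iff.mpr fun z hz => ?_)
    simp only [Subgroup.coe_iInf, Set.mem_iInter, SetLike.mem_coe] at hz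
    have hm := map_mem_maxAb.mp hA
    haveI := hm.2.1
    exact congrArg Subtype.val (IsMulCommutative.is_comm.comm
      (⟨z, hz _ hm⟩ : A.map T.subtype) ⟨_, a, ha, rfl⟩)

/-- The criterion, with the hypothesis in terms of arbitrary normalizer systems. -/
theorem gt_iff [Finite S] [Fact p.Prime] (hp : p ≠ 2) (hS : IsPGroup p S)
    (hF : F.IsSaturated p) {𝒜 : Set (Subgroup Ω)} (h𝒜 : IsGTFamily F 𝒜) {Z : Subgroup Ω}
    (hZ : Z = ⨅ A ∈ 𝒜, A) :
    (∀ P : Subgroup Ω, F.Hom P = (innerFusionSystem S).Hom P) ↔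
      ∀ N : FusionSystem (normalizerIn S Z), F.IsNormalizerSystem Z N →
        ∀ P : Subgroup Ω, N.Hom P = (innerFusionSystem (normalizerIn S Z)).Hom P := by
  subst hZ
  constructor
  · intro h N hN
    refine isInner_iff.mp fun P f hf => ?_
    obtain ⟨hP, -, hm, he⟩ := (isMap_of_isNormalizerSystem hN).mp hf
    obtain ⟨k, hk, hkf, hki⟩ := he
    obtain ⟨s, hs, e⟩ := isInner_iff.mpr h _ k hk
    refine ⟨s, ⟨hs, ?_⟩, fun x hx => by rw [← hkf x hx]; exact e x (Subgroup.mem_sup_left hx)⟩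
    have := finite_of_le h𝒜.inter_le
    refine mem_normalizer_of_maps_finite fun x hx => ?_
    rw [← e x (Subgroup.mem_sup_right hx)]
    exact IsMap.img_le_iff.mp hki.le x hx
  · intro h
    exact isInner_iff.mp (isInner_of_normalizer hp hS hF h𝒜
      (isInner_iff.mpr (h _ (isNormalizerSystem_normalizerSystem h𝒜.inter_le))))

/-- The family of a strongly closed subgroup. -/
theorem isGTFamily_maxAb_of_stronglyClosed [Finite S] [Fact p.Prime] (hp : p ≠ 2)
    (hS : IsPGroup p S) {D : Subgroup Ω} (hD : F.StronglyClosed D) : IsGTFamily F (maxAb D) := by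
  haveI := finite_of_le hD.1
  have hcl : ∀ (P : Subgroup Ω) (f : Ω → Ω), IsMap F P f → ∀ x ∈ P, x ∈ D → f x ∈ D := by
    intro P f hf x hx hxD
    obtain ⟨φ, hφ, e⟩ := hf.mono (Subgroup.zpowers_le.mpr hx)
    rw [← e ⟨x, Subgroup.mem_zpowers x⟩]
    exact hD.2 _ (Subgroup.zpowers_le.mpr hxD) φ hφ _
  have hnD : S ≤ Subgroup.normalizer (D : Set Ω) := fun s hs =>
    mem_normalizer_of_maps_finite fun x hx => hcl S _ (isMap_conj le_rfl hs) x (hD.1 hx) hx
  refine ⟨fun A hA => ⟨hA.1.trans hD.1, hA.2.1⟩, maxAb_nonempty, ?_,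
    fun B hB hSB _ h => exists_maxAb_normalized' (Or.inl hp) hS hB hSB hD.1 hnD h⟩
  intro Q hQ _ α hα x hxQ hx
  rw [mem_familyInter] at hx ⊢
  intro A hA hAQ
  have hm := (isMap_autFun hQ).mpr (Subgroup.inv_mem _ hα)
  have h1 := maxAb_img hA hm hAQ fun y hy => hcl Q _ hm y (hAQ hy) (hA.1 hy)
  have h2 := hx _ h1 (IsMap.img_le_iff.mpr fun y hy => autFun_mem _ (hAQ hy))
  obtain ⟨y, hy, e⟩ := (hm.mono hAQ).mem_img.mp h2
  rw [← e, autFun_inv_apply α (hAQ hy)]
  exact hy

end Cfsg.Lib.Fusion
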