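import Cfsg.Agent.Fusion.SmallOmega
import Cfsg.Agent.PGroups.Commutators
import Cfsg.Agent.Components.Cores

/-!
Centric radical subgroups when the centre has index `p ^ 2`.
-/

set_option autoImplicit false

namespace Cfsg.Lib.Fusion

open Cfsg Cfsg.FusionSystem
open scoped commutatorElement

section GroupLevel

variable {G : Type*} [Group G] {p : ℕ}

theorem card_sup_zpowers_prime_le [Finite G] (hp : p.Prime) {A : Subgroup G} {x : G}
    (hx : x ∈ Subgroup.normalizer (A : Set G)) (hxp : x ^ p ∈ A) :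
    Nat.card ↥(A ⊔ Subgroup.zpowers x) ≤ Nat.card A * p := by
  haveI : NeZero p := ⟨hp.ne_zero⟩
  calc Nat.card ↥(A ⊔ Subgroup.zpowers x) ≤ Nat.card (A × Fin p) := by
        refine Nat.card_le_card_of_surjective
          (fun u => ⟨(u.1 : G) * x ^ (u.2 : ℕ), Subgroup.mul_mem_sup u.1.2
            (Subgroup.pow_mem _ (Subgroup.mem_zpowers x) _)⟩) fun z => ?_
        obtain ⟨a, ha, b, ⟨i, hb⟩, e⟩ :=
          (Cfsg.Lib.Coprime.mem_sup_of_le_normalizer (Subgroup.zpowers_le.mpr hx)).mp z.2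
        subst hb
        have hm : 0 ≤ i % p ∧ i % p < p :=
          ⟨Int.emod_nonneg _ (by exact_mod_cast hp.ne_zero),
            Int.emod_lt_of_pos _ (by exact_mod_cast hp.pos)⟩
        refine ⟨(⟨a * (x ^ p) ^ (i / (p : ℤ)), A.mul_mem ha (A.zpow_mem hxp _)⟩,
          ⟨(i % p).toNat, by omega⟩), Subtype.ext ?_⟩
        rw [← e]
        show a * (x ^ p) ^ (i / (p : ℤ)) * x ^ (i % p).toNat = a * x ^ i
        rw [← zpow_natCast x (i % p).toNat, Int.toNat_of_nonneg hm.1, ← zpow_natCast x p, ← zpow_mul,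
          mul_assoc, ← zpow_add, Int.mul_ediv_add_emod i p]
    _ = Nat.card A * p := by rw [Nat.card_prod, Nat.card_fin]

theorem center_index_sq [Finite G] [Fact p.Prime] (hG : IsPGroup p G)
    (hi : (Subgroup.center G).index ≤ p ^ 2) (hn : ∃ a b : G, a * b ≠ b * a) :
    (Subgroup.center G).index = p ^ 2 ∧ (∀ g : G, g ^ p ∈ Subgroup.center G) ∧
      commutator G ≤ Subgroup.center G ∧ Nat.card (commutator G) = p := by
  have hp : p.Prime := Fact.out
  have hcyc : ¬ IsCyclic (G ⧸ Subgroup.center G) := by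
    intro h
    obtain ⟨a, b, hab⟩ := hn
    letI := commGroupOfCyclicCenterQuotient (QuotientGroup.mk' (Subgroup.center G)) (by rw [QuotientGroup.ker_mk'])
    exact hab (mul_comm a b)
  have hQ : IsPGroup p (G ⧸ Subgroup.center G) := hG.to_quotient _
  obtain ⟨k, hk⟩ := IsPGroup.iff_card.mp hQ
  have hk2 : k = 2 := by
    have h1 : k ≤ 2 := by
      rw [Subgroup.index_eq_card, hk] at hi
      exact (Nat.pow_le_pow_iff_right hp.one_lt).mp hi
    interval_cases k
    · exact absurd (by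
        haveI : Subsingleton (G ⧸ Subgroup.center G) :=
          Finite.card_le_one_iff_subsingleton.mp (by rw [hk]; simp)
        infer_instance) hcyc
    · exact absurd (isCyclic_of_prime_card (p := p) (by rw [hk, pow_one])) hcyc
    · rfl
  subst hk2
  have hidx : (Subgroup.center G).index = p ^ 2 := by rw [Subgroup.index_eq_card, hk]
  letI := IsPGroup.commGroupOfCardEqPrimeSq (p := p) hk
  have hpow : ∀ g : G, g ^ p ∈ Subgroup.center G := fun g => by
    rw [← QuotientGroup.eq_one_iff]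
    show (QuotientGroup.mk' _) (g ^ p) = 1
    rw [map_pow]
    set u := QuotientGroup.mk' (Subgroup.center G) g
    have hd : orderOf u ∣ p ^ 2 := hk ▸ orderOf_dvd_natCard u
    obtain ⟨i, hi2, hu⟩ := (Nat.dvd_prime_pow hp).mp hd
    have : i ≠ 2 := by
      intro h
      exact hcyc (isCyclic_of_orderOf_eq_card u (by rw [hu, h, hk]))
    exact orderOf_dvd_iff_pow_eq_one.mp (hu ▸ (pow_dvd_pow p (by omega : i ≤ 1)).trans (by rw [pow_one]))
  have hcomm : ∀ a b : G, ⁅a, b⁆ ∈ Subgroup.center G := fun a b => by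
    rw [← QuotientGroup.eq_one_iff]
    show (QuotientGroup.mk' _) ⁅a, b⁆ = 1
    rw [map_commutatorElement]
    exact commutatorElement_eq_one_iff_mul_comm.mpr (mul_comm _ _)
  have hle : commutator G ≤ Subgroup.center G := by
    rw [commutator_def, Subgroup.commutator_le]
    exact fun a _ b _ => hcomm a b
  refine ⟨hidx, hpow, hle, ?_⟩
  obtain ⟨a, b, hab⟩ := hn
  set c := ⁅a, b⁆ with hc
  have hc1 : c ≠ 1 := fun h => hab (commutatorElement_eq_one_iff_mul_comm.mp h)
  have hcp : c ^ p = 1 := by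
    rw [← Cfsg.Lib.PGroups.commutator_pow_left_of_commute
      ((Subgroup.mem_center_iff.mp (hcomm a b) a).symm : Commute ⁅a, b⁆ a) p]
    exact commutatorElement_eq_one_iff_mul_comm.mpr (Subgroup.mem_center_iff.mp (hpow a) b).symm
  set Z := Subgroup.center G
  have haZ : a ∉ Z := fun h => hab (Subgroup.mem_center_iff.mp h b).symm
  have hbA : b ∉ Z ⊔ Subgroup.zpowers a := by
    intro h
    apply hab
    obtain ⟨z, hz, w, ⟨i, hi'⟩, e⟩ := Subgroup.mem_sup_of_normal_left.mp h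
    subst hi'
    rw [← e]
    calc a * (z * a ^ i) = (a * z) * a ^ i := by group
      _ = (z * a) * a ^ i := by rw [Subgroup.mem_center_iff.mp hz a]
      _ = z * a ^ i * a := by group
  have hindex : ∀ {A B : Subgroup G}, Z ≤ A → A < B → p * Nat.card A ≤ Nat.card B := by
    intro A B _ hlt
    obtain ⟨i, hi⟩ := IsPGroup.iff_card.mp (hG.to_subgroup A)
    obtain ⟨j, hj⟩ := IsPGroup.iff_card.mp (hG.to_subgroup B)
    have h : Nat.card A < Nat.card B := lt_of_le_of_ne (Subgroup.card_le_of_le hlt.le)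
      fun h => hlt.ne (Subgroup.eq_of_le_of_card_ge hlt.le h.ge)
    rw [hi, hj] at h ⊢
    rw [← pow_succ']
    exact Nat.pow_le_pow_right hp.pos ((Nat.pow_lt_pow_iff_right hp.one_lt).mp h)
  have h1 : Z < Z ⊔ Subgroup.zpowers a := lt_of_le_of_ne le_sup_left fun h =>
    haZ (h.symm ▸ Subgroup.mem_sup_right (Subgroup.mem_zpowers a))
  have h2 : Z ⊔ Subgroup.zpowers a < Z ⊔ Subgroup.zpowers a ⊔ Subgroup.zpowers b :=
    lt_of_le_of_ne le_sup_left fun h => hbA (h.symm ▸ Subgroup.mem_sup_right (Subgroup.mem_zpowers b))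
  have htop : Z ⊔ Subgroup.zpowers a ⊔ Subgroup.zpowers b = ⊤ := by
    refine Subgroup.eq_top_of_le_card _ ?_
    have hGc : Nat.card G = p ^ 2 * Nat.card Z := by rw [← hidx]; exact (Subgroup.index_mul_card Z).symm
    rw [hGc, pow_two, mul_assoc]
    exact (Nat.mul_le_mul_left p (hindex le_rfl h1)).trans (hindex le_sup_left h2)
  let N := Subgroup.zpowers c
  haveI : N.Normal := ⟨fun x hx g => by
    rw [Subgroup.mem_center_iff.mp ((Subgroup.zpowers_le.mpr (hcomm a b)) hx) g, mul_inv_cancel_right]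
    exact hx⟩
  let q := QuotientGroup.mk' N
  let K : Subgroup G := (Subgroup.centralizer {q a}).comap q ⊓ (Subgroup.centralizer {q b}).comap q
  have hab' : q a * q b = q b * q a := by
    rw [← commutatorElement_eq_one_iff_mul_comm, ← map_commutatorElement]
    exact (QuotientGroup.eq_one_iff _).mpr (Subgroup.mem_zpowers c)
  have hK : ∀ g : G, g ∈ K := by
    intro g
    have hle' : Z ⊔ Subgroup.zpowers a ⊔ Subgroup.zpowers b ≤ K := by
      refine sup_le (sup_le (fun z hz => ?_) (Subgroup.zpowers_le.mpr ?_)) (Subgroup.zpowers_le.mpr ?_)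
      · refine Subgroup.mem_inf.mpr ⟨?_, ?_⟩ <;>
        · rw [Subgroup.mem_comap, Subgroup.mem_centralizer_singleton_iff, ← map_mul, ← map_mul,
            Subgroup.mem_center_iff.mp hz]
      · refine Subgroup.mem_inf.mpr ⟨?_, ?_⟩ <;> rw [Subgroup.mem_comap, Subgroup.mem_centralizer_singleton_iff]
        exact hab'
      · refine Subgroup.mem_inf.mpr ⟨?_, ?_⟩ <;> rw [Subgroup.mem_comap, Subgroup.mem_centralizer_singleton_iff]
        exact hab'.symm
    exact hle' (htop ▸ Subgroup.mem_top g)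
  have hN : commutator G ≤ N := by
    rw [commutator_def, Subgroup.commutator_le]
    intro u _ v _
    rw [← QuotientGroup.eq_one_iff]
    show q ⁅u, v⁆ = 1
    rw [map_commutatorElement, commutatorElement_eq_one_iff_mul_comm]
    have hle' : Z ⊔ Subgroup.zpowers a ⊔ Subgroup.zpowers b ≤ (Subgroup.centralizer {q u}).comap q := by
      refine sup_le (sup_le (fun z hz => ?_) (Subgroup.zpowers_le.mpr ?_)) (Subgroup.zpowers_le.mpr ?_)
      · rw [Subgroup.mem_comap, Subgroup.mem_centralizer_singleton_iff, ← map_mul, ← map_mul,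
          Subgroup.mem_center_iff.mp hz]
      · rw [Subgroup.mem_comap, Subgroup.mem_centralizer_singleton_iff]
        exact (Subgroup.mem_centralizer_singleton_iff.mp (hK u).1).symm
      · rw [Subgroup.mem_comap, Subgroup.mem_centralizer_singleton_iff]
        exact (Subgroup.mem_centralizer_singleton_iff.mp (hK u).2).symm
    exact (Subgroup.mem_centralizer_singleton_iff.mp (hle' (htop ▸ Subgroup.mem_top v))).symm
  have hNc : N = commutator G := le_antisymm (Subgroup.zpowers_le.mpr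
    (Subgroup.commutator_mem_commutator (Subgroup.mem_top a) (Subgroup.mem_top b))) hN
  rw [← hNc, Nat.card_zpowers, orderOf_eq_prime hcp hc1]

end GroupLevel

variable {Ω : Type*} [Group Ω]

/-- The centre of `S` inside the ambient group. -/
def zcen (S : Subgroup Ω) : Subgroup Ω := (Subgroup.center S).map S.subtype

/-- The derived subgroup of `S` inside the ambient group. -/
def dcom (S : Subgroup Ω) : Subgroup Ω := (commutator S).map S.subtype

/-- A proper centric radical fully normalized subgroup. -/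
def IsSite {S : Subgroup Ω} (F : FusionSystem S) (p : ℕ) (Q : Subgroup Ω) : Prop :=
  Q < S ∧ F.IsFullyNormalized Q ∧ F.IsCentric Q ∧ F.IsRadical p Q

/-- The elements that all automorphisms send into the centre of `S`. -/
def siteCore {S : Subgroup Ω} (F : FusionSystem S) (Q : Subgroup Ω) : Subgroup Ω :=
  (⨅ h : F.autGroup Q, ((zcen S).subgroupOf Q).comap (h : MulAut Q).toMonoidHom).map Q.subtype

variable {S : Subgroup Ω} {F : FusionSystem S} {p : ℕ}

theorem mem_siteCore {Q : Subgroup Ω} {x : Q} :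
    (x : Ω) ∈ siteCore F Q ↔ ∀ h ∈ F.autGroup Q, ((h x : Q) : Ω) ∈ zcen S := by
  constructor
  · rintro ⟨y, hy, e⟩ h hh
    rw [show x = y from Subtype.ext e.symm]
    exact (Subgroup.mem_iInf.mp hy ⟨h, hh⟩ :)
  · exact fun hx => ⟨x, Subgroup.mem_iInf.mpr fun h => hx h h.2, rfl⟩

theorem siteCore_le_zcen (Q : Subgroup Ω) : siteCore F Q ≤ zcen S := by
  rintro x ⟨y, hy, rfl⟩
  exact (Subgroup.mem_iInf.mp hy 1 :)

theorem mem_zcen {x : Ω} : x ∈ zcen S ↔ x ∈ S ∧ ∀ s ∈ S, s * x = x * s := by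
  constructor
  · rintro ⟨y, hy, rfl⟩
    exact ⟨y.2, fun s hs => congrArg Subtype.val (Subgroup.mem_center_iff.mp hy ⟨s, hs⟩)⟩
  · rintro ⟨hx, h⟩
    exact ⟨⟨x, hx⟩, Subgroup.mem_center_iff.mpr fun s => Subtype.ext (h s s.2), rfl⟩

theorem zcen_le : zcen S ≤ S := fun _ hx => (mem_zcen.mp hx).1

theorem mem_dcom {x g : Ω} (hx : x ∈ S) (hg : g ∈ S) : x⁻¹ * (g * x * g⁻¹) ∈ dcom S := by
  refine ⟨⁅(⟨x, hx⟩ : S)⁻¹, ⟨g, hg⟩⁆,
    Subgroup.commutator_mem_commutator (Subgroup.mem_top _) (Subgroup.mem_top _), ?_⟩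
  simp only [commutatorElement_def, inv_inv, Subgroup.subtype_apply, Subgroup.coe_mul, Subgroup.coe_inv]
  group

theorem conj_mem_dcom {x g : Ω} (hx : x ∈ dcom S) (hg : g ∈ S) : g * x * g⁻¹ ∈ dcom S := by
  obtain ⟨y, hy, rfl⟩ := hx
  exact ⟨⟨g, hg⟩ * y * ⟨g, hg⟩⁻¹, (inferInstance : (commutator S).Normal).conj_mem y hy _, rfl⟩

theorem dcom_le : dcom S ≤ S := by
  rintro _ ⟨y, -, rfl⟩
  exact y.2

theorem normalizes_of_dcom_le [Finite S] {U : Subgroup Ω} (hU : U ≤ S) (hD : dcom S ≤ U) {g : Ω}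
    (hg : g ∈ S) : g ∈ Subgroup.normalizer (U : Set Ω) := by
  haveI := finite_of_le hU
  refine mem_normalizer_of_maps_finite fun x hx => ?_
  simpa using U.mul_mem hx (hD (mem_dcom (hU hx) hg))

/-- The standing hypotheses. -/
structure SqCenter (F : FusionSystem S) (p : ℕ) : Prop where
  isP : IsPGroup p S
  sat : F.IsSaturated p
  idx : (Subgroup.center S).index = p ^ 2
  powZ : ∀ x ∈ S, x ^ p ∈ zcen S
  dZ : dcom S ≤ zcen S
  cardD : Nat.card (dcom S) = p

theorem sqCenter_of_index [Finite S] [Fact p.Prime] (hS : IsPGroup p S) (hF : F.IsSaturated p)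
    (hi : (Subgroup.center S).index ≤ p ^ 2) (hn : ∃ a b : S, a * b ≠ b * a) : SqCenter F p := by
  obtain ⟨h1, h2, h3, h4⟩ := center_index_sq hS hi hn
  exact ⟨hS, hF, h1, fun x hx => ⟨⟨x, hx⟩ ^ p, h2 _, rfl⟩, Subgroup.map_mono h3,
    (Subgroup.card_map_of_injective S.subtype_injective).trans h4⟩

namespace SqCenter

variable [Finite S] [Fact p.Prime]

theorem card_S (h : SqCenter F p) : Nat.card S = p ^ 2 * Nat.card (zcen S) := by
  rw [zcen, Subgroup.card_map_of_injective S.subtype_injective, ← h.idx]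
  exact (Subgroup.index_mul_card _).symm

theorem dcom_pow (h : SqCenter F p) {x : Ω} (hx : x ∈ dcom S) : x ^ p = 1 := by
  haveI := finite_of_le (dcom_le : dcom S ≤ S)
  exact congrArg Subtype.val ((h.cardD ▸ pow_card_eq_one' : (⟨x, hx⟩ : dcom S) ^ p = 1))

theorem dcom_gen (h : SqCenter F p) {x y : Ω} (hx : x ∈ dcom S) (hx1 : x ≠ 1) (hy : y ∈ dcom S) :
    ∃ i : ℤ, x ^ i = y := by
  haveI := finite_of_le (dcom_le : dcom S ≤ S)
  have : Subgroup.zpowers x = dcom S := Subgroup.eq_of_le_of_card_ge (Subgroup.zpowers_le.mpr hx) (by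
    rw [Nat.card_zpowers, orderOf_eq_prime (h.dcom_pow hx) hx1, h.cardD])
  exact (this.symm ▸ hy : y ∈ Subgroup.zpowers x)

theorem eq_of_lt {A B : Subgroup Ω} (hS : IsPGroup p S) (hB : B ≤ S) (hlt : A < B) :
    p * Nat.card A ≤ Nat.card B := by
  haveI := finite_of_le hB
  haveI := finite_of_le (hlt.le.trans hB)
  obtain ⟨i, hi⟩ := IsPGroup.iff_card.mp
    (hS.of_injective _ (Subgroup.inclusion_injective (hlt.le.trans hB)))
  obtain ⟨j, hj⟩ := IsPGroup.iff_card.mp (hS.of_injective _ (Subgroup.inclusion_injective hB))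
  have h : Nat.card A < Nat.card B := lt_of_le_of_ne (Subgroup.card_le_of_le hlt.le)
    fun h => hlt.ne (Subgroup.eq_of_le_of_card_ge hlt.le h.ge)
  rw [hi, hj] at h ⊢
  rw [← pow_succ']
  exact Nat.pow_le_pow_right (Fact.out : p.Prime).pos
    ((Nat.pow_lt_pow_iff_right (Fact.out : p.Prime).one_lt).mp h)

variable {Q : Subgroup Ω}

theorem site_centralizer (hQ : IsSite F p Q) {x : Ω} (hx : x ∈ S) (hc : ∀ q ∈ Q, x * q = q * x) :
    x ∈ Q :=
  hQ.2.2.1.2 Q (isConj_refl hQ.1.le) (mem_centralizerIn.mpr ⟨hx, fun q hq => by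
    rw [hc q hq, mul_inv_cancel_right]⟩)

theorem zcen_le_site (hQ : IsSite F p Q) : zcen S ≤ Q := fun z hz =>
  site_centralizer hQ (zcen_le hz) fun q hq => ((mem_zcen.mp hz).2 q (hQ.1.le hq)).symm

theorem zcen_lt_site (h : SqCenter F p) (hQ : IsSite F p Q) : zcen S < Q := by
  refine lt_of_le_of_ne (zcen_le_site hQ) fun e => ?_
  have hall : S ≤ Q := fun x hx => site_centralizer hQ hx fun q hq =>
    (mem_zcen.mp (e ▸ hq : q ∈ zcen S)).2 x hx
  exact hQ.1.not_ge hall

theorem card_site (h : SqCenter F p) (hQ : IsSite F p Q) :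
    Nat.card Q = p * Nat.card (zcen S) := by
  have h1 := eq_of_lt h.isP hQ.1.le (h.zcen_lt_site hQ)
  have h2 := eq_of_lt h.isP le_rfl hQ.1
  rw [h.card_S, pow_two, mul_assoc] at h2
  exact le_antisymm (Nat.le_of_mul_le_mul_left h2 (Fact.out : p.Prime).pos) h1

theorem site_gen (h : SqCenter F p) (hQ : IsSite F p Q) {e : Ω} (he : e ∈ Q) (heZ : e ∉ zcen S)
    {q : Ω} (hq : q ∈ Q) : ∃ z ∈ zcen S, ∃ j : ℤ, q = z * e ^ j := by
  haveI := finite_of_le hQ.1.le
  have hn : Subgroup.zpowers e ≤ Subgroup.normalizer (zcen S : Set Ω) :=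
    Subgroup.zpowers_le.mpr (by
      haveI := finite_of_le (zcen_le : zcen S ≤ S)
      exact mem_normalizer_of_maps_finite fun z hz => by
        rw [(mem_zcen.mp hz).2 e (hQ.1.le he), mul_inv_cancel_right]; exact hz)
  have hle : zcen S ⊔ Subgroup.zpowers e ≤ Q :=
    sup_le (zcen_le_site hQ) (Subgroup.zpowers_le.mpr he)
  have hlt : zcen S < zcen S ⊔ Subgroup.zpowers e := lt_of_le_of_ne le_sup_left fun e' =>
    heZ (e'.symm ▸ Subgroup.mem_sup_right (Subgroup.mem_zpowers e))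
  have heq : zcen S ⊔ Subgroup.zpowers e = Q := Subgroup.eq_of_le_of_card_ge hle
    ((h.card_site hQ).le.trans (eq_of_lt h.isP (hle.trans hQ.1.le) hlt))
  obtain ⟨z, hz, w, ⟨j, hj⟩, e'⟩ :=
    (Cfsg.Lib.Coprime.mem_sup_of_le_normalizer hn).mp (heq.symm ▸ hq : q ∈ zcen S ⊔ Subgroup.zpowers e)
  exact ⟨z, hz, j, by rw [← e', ← hj]⟩

theorem site_comm (h : SqCenter F p) (hQ : IsSite F p Q) {a b : Ω} (ha : a ∈ Q) (hb : b ∈ Q) :
    a * b = b * a := by
  by_cases haZ : a ∈ zcen S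
  · exact ((mem_zcen.mp haZ).2 b (hQ.1.le hb)).symm
  obtain ⟨z, hz, j, rfl⟩ := h.site_gen hQ ha haZ hb
  have hc : Commute a z := (mem_zcen.mp hz).2 a (hQ.1.le ha)
  exact (hc.mul_right ((Commute.refl a).zpow_right j)).eq

theorem site_normalized (h : SqCenter F p) (hQ : IsSite F p Q) {g : Ω} (hg : g ∈ S) :
    g ∈ Subgroup.normalizer (Q : Set Ω) :=
  normalizes_of_dcom_le hQ.1.le (h.dZ.trans (zcen_le_site hQ)) hg

theorem autS_diff (_h : SqCenter F p) (hQ : IsSite F p Q) {a : MulAut Q}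
    (ha : a ∈ autInducedBy S Q) (q : Q) : ((q⁻¹ * a q : Q) : Ω) ∈ dcom S := by
  obtain ⟨g, hg, eg⟩ := mem_autInducedBy.mp ha
  rw [Subgroup.coe_mul, Subgroup.coe_inv, eg]
  exact mem_dcom (hQ.1.le q.2) hg

theorem autS_fix (_h : SqCenter F p) {a : MulAut Q}
    (ha : a ∈ autInducedBy S Q) {q : Q} (hq : (q : Ω) ∈ zcen S) : a q = q := by
  obtain ⟨g, hg, eg⟩ := mem_autInducedBy.mp ha
  exact Subtype.ext (by rw [eg, (mem_zcen.mp hq).2 g hg, mul_inv_cancel_right])

theorem mem_zcen_of_fixed (h : SqCenter F p) (hQ : IsSite F p Q) {q : Q}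
    (hq : ∀ a ∈ autInducedBy S Q, a q = q) : (q : Ω) ∈ zcen S := by
  refine mem_zcen.mpr ⟨hQ.1.le q.2, fun s hs => ?_⟩
  have e := congrArg Subtype.val (hq _ (conjAut_mem_autInducedBy (h.site_normalized hQ hs) hs))
  rw [conjAut_apply] at e
  exact mul_inv_eq_iff_eq_mul.mp e

theorem autS_ne_bot (h : SqCenter F p) (hQ : IsSite F p Q) :
    ∃ a ∈ autInducedBy S Q, ∀ q : Q, (q : Ω) ∉ zcen S → a q ≠ q := by
  obtain ⟨x, hx, hxQ⟩ := SetLike.exists_of_lt hQ.1
  refine ⟨_, conjAut_mem_autInducedBy (h.site_normalized hQ hx) hx, fun q hq e => hxQ ?_⟩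
  have e' := congrArg Subtype.val e
  rw [conjAut_apply] at e'
  have hc : Commute x q := mul_inv_eq_iff_eq_mul.mp e'
  refine site_centralizer hQ hx fun r hr => ?_
  obtain ⟨z, hz, j, rfl⟩ := h.site_gen hQ q.2 hq hr
  exact (Commute.mul_right (show Commute x z from (mem_zcen.mp hz).2 x hx) (hc.zpow_right j)).eq

/-- An automorphism sending the derived subgroup into the centre normalizes `Aut_S(Q)`. -/
theorem normalizes_autS (h : SqCenter F p) (hQ : IsSite F p Q) {g : MulAut Q}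
    (hg : g ∈ F.autGroup Q) (hgD : ∀ d : Q, (d : Ω) ∈ dcom S → ((g d : Q) : Ω) ∈ zcen S) :
    g ∈ Subgroup.normalizer (autInducedBy S Q : Set (MulAut Q)) := by
  classical
  have hp : p.Prime := Fact.out
  haveI := finite_of_le hQ.1.le
  haveI : Finite (MulAut Q) := Finite.of_injective (fun f : MulAut Q => (f : Q → Q)) DFunLike.coe_injective
  letI : CommGroup Q := { (inferInstance : Group Q) with
    mul_comm := fun a b => Subtype.ext (h.site_comm hQ a.2 b.2) }
  set A := autInducedBy S Q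
  let D0 : Subgroup Q := (dcom S).subgroupOf Q
  let D1 : Subgroup Q := D0.map g.toMonoidHom
  let V := D0 ⊔ D1
  have hD0p : ∀ x ∈ D0, x ^ p = 1 := fun x hx => Subtype.ext (by
    have hx : (x : Ω) ∈ dcom S := hx
    rw [Subgroup.coe_pow, h.dcom_pow hx, Subgroup.coe_one])
  have hD1p : ∀ x ∈ D1, x ^ p = 1 := by
    rintro _ ⟨x, hx, rfl⟩
    rw [← map_pow, hD0p x hx, map_one]
  have hVp : ∀ x ∈ V, x ^ p = 1 := fun x hx => by
    obtain ⟨a, ha, b, hb, rfl⟩ := Subgroup.mem_sup.mp hx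
    rw [mul_pow, hD0p a ha, hD1p b hb, mul_one]
  have hVZ : ∀ x ∈ V, (x : Ω) ∈ zcen S := by
    have : V ≤ (zcen S).subgroupOf Q := sup_le (fun x hx => h.dZ hx)
      (by rintro _ ⟨x, hx, rfl⟩; exact hgD x hx)
    exact fun x hx => this hx
  let H : Subgroup (MulAut Q) :=
    { carrier := {α | (∀ q : Q, q⁻¹ * α q ∈ V) ∧ (∀ v ∈ V, v⁻¹ * α v ∈ D1) ∧ ∀ v ∈ D1, α v = v}
      one_mem' := ⟨fun q => by simp, fun v _ => by simp, fun v _ => rfl⟩
      mul_mem' := by
        rintro α β ⟨a1, a2, a3⟩ ⟨b1, b2, b3⟩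
        refine ⟨fun q => ?_, fun v hv => ?_, fun v hv => by rw [MulAut.mul_apply, b3 v hv, a3 v hv]⟩
        · have := V.mul_mem (b1 q) (a1 (β q))
          rw [mul_assoc, mul_inv_cancel_left] at this
          exact this
        · have hb : β v ∈ V := by
            simpa using V.mul_mem hv (Subgroup.mem_sup_right (b2 v hv))
          have := D1.mul_mem (b2 v hv) (a2 (β v) hb)
          rw [mul_assoc, mul_inv_cancel_left] at this
          exact this
      inv_mem' := by
        rintro α ⟨a1, a2, a3⟩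
        have hinv : ∀ q : Q, α (α⁻¹ q) = q := fun q => α.apply_symm_apply q
        refine ⟨fun q => ?_, fun v hv => ?_, fun v hv => ?_⟩
        · have := V.inv_mem (a1 (α⁻¹ q))
          rw [hinv, mul_inv_rev, inv_inv] at this
          exact this
        · have hb : α⁻¹ v ∈ V := by
            have := V.mul_mem (V.inv_mem (a1 (α⁻¹ v))) hv
            rw [hinv] at this
            simpa [mul_assoc, mul_comm, mul_left_comm] using this
          have := D1.inv_mem (a2 _ hb)
          rw [hinv, mul_inv_rev, inv_inv] at this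
          exact this
        · conv_lhs => rw [← a3 v hv]
          exact α.symm_apply_apply v }
  have hHp : IsPGroup p H := by
    rintro ⟨α, a1, a2, a3⟩
    refine ⟨2, Subtype.ext (MulEquiv.ext fun q => ?_)⟩
    have hstep : ∀ v ∈ V, ∀ n : ℕ, (α ^ n) v = v * (v⁻¹ * α v) ^ n := fun v hv n => by
      induction n with
      | zero => simp
      | succ n ih =>
        rw [pow_succ', MulAut.mul_apply, ih, map_mul, map_pow, a3 _ (a2 v hv), pow_succ' (v⁻¹ * α v),
          ← mul_assoc v, mul_inv_cancel_left]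
    have hfixV : ∀ v ∈ V, (α ^ p) v = v := fun v hv => by
      rw [hstep v hv, hD1p _ (a2 v hv), mul_one]
    have hdiff : ∀ n : ℕ, q⁻¹ * (α ^ n) q ∈ V := fun n => by
      induction n with
      | zero => simp
      | succ n ih =>
        have := V.mul_mem ih (a1 ((α ^ n) q))
        rw [mul_assoc, mul_inv_cancel_left] at this
        rw [pow_succ', MulAut.mul_apply]
        exact this
    set u := q⁻¹ * (α ^ p) q
    have hiter : ∀ n : ℕ, ((α ^ p) ^ n) q = q * u ^ n := fun n => by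
      induction n with
      | zero => simp
      | succ n ih =>
        rw [pow_succ', MulAut.mul_apply, ih, map_mul, map_pow, hfixV u (hdiff p), pow_succ' u,
          ← mul_assoc q, mul_inv_cancel_left]
    rw [Subgroup.coe_pow, Subgroup.coe_one, MulAut.one_apply, pow_two, pow_mul, hiter,
      hVp u (hdiff p), mul_one]
  have hAH : A ≤ H := fun a ha =>
    ⟨fun q => Subgroup.mem_sup_left (h.autS_diff hQ ha q),
      fun v hv => by rw [h.autS_fix ha (hVZ v hv), inv_mul_cancel]; exact D1.one_mem,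
      fun v hv => h.autS_fix ha (hVZ v (Subgroup.mem_sup_right hv))⟩
  have hgs : ∀ q : Q, g (g⁻¹ q) = q := fun q => g.apply_symm_apply q
  have hbH : ∀ a ∈ A, g * a * g⁻¹ ∈ H ⊓ F.autGroup Q := by
    intro a ha
    have key : ∀ q : Q, q⁻¹ * (g * a * g⁻¹) q ∈ D1 := fun q =>
      ⟨(g⁻¹ q)⁻¹ * a (g⁻¹ q), h.autS_diff hQ ha _, by
        simp only [MulEquiv.coe_toMonoidHom, map_mul, map_inv, hgs, MulAut.mul_apply]⟩
    refine ⟨⟨fun q => Subgroup.mem_sup_right (key q), fun v _ => key v, ?_⟩,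
      Subgroup.mul_mem _ (Subgroup.mul_mem _ hg (autInducedBy_le hQ.1.le ha)) (Subgroup.inv_mem _ hg)⟩
    rintro _ ⟨x, hx, rfl⟩
    simp only [MulEquiv.coe_toMonoidHom, MulAut.mul_apply]
    rw [show g⁻¹ (g x) = x from g.symm_apply_apply x, h.autS_fix ha (h.dZ hx)]
  obtain ⟨-, R, hR⟩ := (fullyNormalized_props h.isP h.sat hQ.2.1).2.1
  have hmax : (H.subgroupOf (F.autGroup Q)) = (R : Subgroup (F.autGroup Q)) :=
    R.3 (hHp.comap_of_injective _ (F.autGroup Q).subtype_injective)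
      (by rw [hR]; exact fun x hx => hAH hx)
  refine mem_normalizer_of_maps_finite fun a ha => ?_
  obtain ⟨h1, h2⟩ := hbH a ha
  have : (⟨_, h2⟩ : F.autGroup Q) ∈ H.subgroupOf (F.autGroup Q) := h1
  rw [hmax, hR] at this
  exact this

/-- Some automorphism of a site moves `Aut_S(Q)`. -/
theorem exists_moves (h : SqCenter F p) (hQ : IsSite F p Q) :
    ∃ g ∈ F.autGroup Q, g ∉ Subgroup.normalizer (autInducedBy S Q : Set (MulAut Q)) := by
  by_contra hno
  push_neg at hno
  obtain ⟨a, ha, hne⟩ := h.autS_ne_bot hQ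
  obtain ⟨e, he, heZ⟩ := SetLike.exists_of_lt (h.zcen_lt_site hQ)
  haveI : ((autInducedBy S Q).subgroupOf (F.autGroup Q)).Normal := ⟨fun x hx g =>
    Subgroup.mem_subgroupOf.mpr
      (by simpa using (Subgroup.mem_normalizer_iff.mp (hno g g.2) (x : MulAut Q)).mp hx)⟩
  have hle := Cfsg.Lib.Components.le_pCore (p := p) (G := F.autGroup Q)
    (N := (autInducedBy S Q).subgroupOf (F.autGroup Q))
    ((isPGroup_autInducedBy h.isP Q).comap_of_injective _ (F.autGroup Q).subtype_injective)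
  have hin : a ∈ Inn Q := by
    rw [← hQ.2.2.2.2]
    exact ⟨⟨a, autInducedBy_le hQ.1.le ha⟩, hle (Subgroup.mem_subgroupOf.mpr ha), rfl⟩
  obtain ⟨q, hq⟩ := hin
  refine hne ⟨e, he⟩ heZ ?_
  rw [← hq]
  refine Subtype.ext ?_
  show (q : Ω) * e * (q : Ω)⁻¹ = e
  rw [h.site_comm hQ q.2 he, mul_inv_cancel_right]

/-- The elements preserved by the normalizer of `Aut_S(Q)`. -/
theorem normalizer_preserves (h : SqCenter F p) (hQ : IsSite F p Q) {n : MulAut Q}
    (hn : n ∈ Subgroup.normalizer (autInducedBy S Q : Set (MulAut Q))) :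
    (∀ q : Q, (q : Ω) ∈ zcen S → ((n q : Q) : Ω) ∈ zcen S) ∧
      ∀ q : Q, (q : Ω) ∈ dcom S → ((n q : Q) : Ω) ∈ dcom S := by
  have hconj : ∀ a ∈ autInducedBy S Q, n⁻¹ * a * n ∈ autInducedBy S Q := fun a ha => by
    simpa using (Subgroup.mem_normalizer_iff.mp (Subgroup.inv_mem _ hn) a).mp ha
  refine ⟨fun q hq => h.mem_zcen_of_fixed hQ fun a ha => ?_, fun q hq => ?_⟩
  · have := congrArg n (h.autS_fix (hconj a ha) hq)
    simp only [MulAut.mul_apply] at this
    rwa [show n (n⁻¹ (a (n q))) = a (n q) from n.apply_symm_apply _] at this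
  · obtain ⟨a, ha, hne⟩ := h.autS_ne_bot hQ
    obtain ⟨e, he, heZ⟩ := SetLike.exists_of_lt (h.zcen_lt_site hQ)
    set d := (⟨e, he⟩ : Q)⁻¹ * a ⟨e, he⟩
    have hd1 : (d : Ω) ≠ 1 := fun h1 => hne ⟨e, he⟩ heZ
      (inv_mul_eq_one.mp (Subtype.ext h1 : d = 1)).symm
    obtain ⟨i, hi⟩ := h.dcom_gen (h.autS_diff hQ ha _) hd1 hq
    have hq' : q = d ^ i := Subtype.ext (by rw [Subgroup.coe_zpow]; exact hi.symm)
    have hmem : ((n d : Q) : Ω) ∈ dcom S := by
      have hb : n * a * n⁻¹ ∈ autInducedBy S Q := (Subgroup.mem_normalizer_iff.mp hn a).mp ha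
      have := h.autS_diff hQ hb (n ⟨e, he⟩)
      rwa [MulAut.mul_apply, MulAut.mul_apply, show n⁻¹ (n ⟨e, he⟩) = ⟨e, he⟩ from n.symm_apply_apply _,
        ← map_inv, ← map_mul] at this
    rw [hq', map_zpow, Subgroup.coe_zpow]
    exact Subgroup.zpow_mem _ hmem i

end SqCenter

end Cfsg.Lib.Fusion
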