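import Cfsg.Prelude.Def_Transfer
import Cfsg.Agent.PGroups.Basic
import Cfsg.Agent.Fusion.CenterIndex
import Cfsg.Agent.Classical.Orth.Dihedral
import Mathlib.GroupTheory.SpecificGroups.Dihedral

/-!
Generalized extraspecial groups with a noncentral element of order `p` outside a maximal
elementary abelian subgroup split off a group of order `p³`.
-/

set_option autoImplicit false

namespace Cfsg.Lib.Fusion

open scoped commutatorElement

/-- A carrier in the lowest universe. -/
def FinCarrier (n : ℕ) : Type := Fin n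

variable {p : ℕ} [Fact p.Prime]

theorem three_le_of_noncomm {G : Type*} [Group G] [Finite G] (hG : IsPGroup p G) {x y : G}
    (hxy : x * y ≠ y * x) : p ^ 3 ≤ Nat.card G := by
  have hp : p.Prime := Fact.out
  obtain ⟨k, hk⟩ := IsPGroup.iff_card.mp hG
  rw [hk]
  refine Nat.pow_le_pow_right hp.pos ?_
  by_contra hlt
  rcases (show k = 0 ∨ k = 1 ∨ k = 2 by omega) with rfl | rfl | rfl
  · haveI : Subsingleton G := (Nat.card_eq_one_iff_unique.mp (by rw [hk, pow_zero])).1
    exact hxy (Subsingleton.elim _ _)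
  · rw [pow_one] at hk
    haveI := isCyclic_of_prime_card hk
    exact hxy (IsCyclic.commGroup.mul_comm x y)
  · exact hxy (IsPGroup.commutative_of_card_eq_prime_sq hk x y)

theorem card_le_of_lt {G : Type*} [Group G] [Finite G] (hG : IsPGroup p G) {A B : Subgroup G}
    (hlt : A < B) : p * Nat.card A ≤ Nat.card B := by
  have hp : p.Prime := Fact.out
  obtain ⟨a, ha⟩ := IsPGroup.iff_card.mp (hG.to_subgroup A)
  obtain ⟨b, hb⟩ := IsPGroup.iff_card.mp (hG.to_subgroup B)
  have : Nat.card A < Nat.card B := by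
    by_contra h
    exact hlt.ne (Subgroup.eq_of_le_of_card_ge hlt.le (not_lt.mp h))
  rw [ha, hb] at this ⊢
  rw [← pow_succ']
  exact Nat.pow_le_pow_right hp.pos ((Nat.pow_lt_pow_iff_right hp.one_lt).mp this)

/-- A nonabelian group of order `p³` is extraspecial. -/
theorem isExtraspecial_of_cube {G : Type*} [Group G] [Finite G] (hcard : Nat.card G = p ^ 3) {a b : G}
    (hab : a * b ≠ b * a) : Cfsg.IsExtraspecial p G := by
  classical
  have hp : p.Prime := Fact.out
  have hG : IsPGroup p G := IsPGroup.of_card hcard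
  haveI : Nontrivial G := ⟨⟨a * b, b * a, hab⟩⟩
  haveI := hG.center_nontrivial
  have hext : ∀ x : G, x ∉ Subgroup.center G → ∀ y : G, y * x ≠ x * y →
      IsCoatom (Subgroup.center G ⊔ Subgroup.zpowers y) ∧
        x ∉ Subgroup.center G ⊔ Subgroup.zpowers y ∧ p * p ≤ Nat.card ↥(Subgroup.center G ⊔ Subgroup.zpowers y) ∧
        Nat.card (Subgroup.center G) = p := by
    intro x hx y hy
    set M := Subgroup.center G ⊔ Subgroup.zpowers y
    have hxM : x ∉ M := by
      intro hxm
      obtain ⟨z, hz', w, ⟨i, hi⟩, e⟩ := Subgroup.mem_sup_of_normal_left.mp hxm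
      subst hi
      apply hy
      rw [← e]
      calc y * (z * y ^ i) = (y * z) * y ^ i := by group
        _ = (z * y) * y ^ i := by rw [Subgroup.mem_center_iff.mp hz' y]
        _ = z * y ^ i * y := by group
    have hyZ : y ∉ Subgroup.center G := fun h' => hy (Subgroup.mem_center_iff.mp h' x).symm
    have hZ : p ≤ Nat.card (Subgroup.center G) := by
      obtain ⟨k, hk⟩ := IsPGroup.iff_card.mp (hG.to_subgroup (Subgroup.center G))
      rw [hk]
      refine Nat.le_self_pow (fun h0 => ?_) p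
      rw [h0, pow_zero] at hk
      exact (Finite.one_lt_card (α := Subgroup.center G)).ne' hk
    have h1 := card_le_of_lt hG (lt_of_le_of_ne le_sup_left
      fun e => hyZ (e.symm ▸ Subgroup.mem_sup_right (Subgroup.mem_zpowers y)) : Subgroup.center G < M)
    have h2 := card_le_of_lt hG (lt_top_iff_ne_top.mpr fun e => hxM (e ▸ Subgroup.mem_top x) : M < ⊤)
    rw [Subgroup.card_top, hcard] at h2
    have hMle : Nat.card M ≤ p * p := Nat.le_of_mul_le_mul_left (by rw [show p ^ 3 = p * (p * p) by ring] at h2; exact h2) hp.pos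
    have hpp : p * p ≤ Nat.card M := le_trans (Nat.mul_le_mul_left p hZ) h1
    refine ⟨⟨fun e => hxM (e ▸ Subgroup.mem_top x), fun K hK => Subgroup.eq_top_of_le_card _ ?_⟩,
      hxM, hpp, le_antisymm (Nat.le_of_mul_le_mul_left (h1.trans hMle) hp.pos) hZ⟩
    rw [hcard, show p ^ 3 = p * (p * p) by ring]
    exact (Nat.mul_le_mul_left p hpp).trans (card_le_of_lt hG hK)
  have hex : ∀ x : G, x ∉ Subgroup.center G → ∃ y : G, y * x ≠ x * y := fun x hx => by
    by_contra hno; push Not at hno; exact hx (Subgroup.mem_center_iff.mpr hno)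
  have hfr : frattini G ≤ Subgroup.center G := fun x hx => by
    by_contra hxZ
    obtain ⟨y, hy⟩ := hex x hxZ
    exact (hext x hxZ y hy).2.1 (frattini_le_coatom (hext x hxZ y hy).1 hx)
  have haZ : a ∉ Subgroup.center G := fun h => hab (Subgroup.mem_center_iff.mp h b).symm
  have hcZ := (hext a haZ b (Ne.symm hab)).2.2.2
  have hc : commutator G = Subgroup.center G := by
    refine Subgroup.eq_of_le_of_card_ge ((Cfsg.Lib.PGroups.commutator_le_frattini hG).trans hfr) ?_
    rw [hcZ]
    obtain ⟨k, hk⟩ := IsPGroup.iff_card.mp (hG.to_subgroup (commutator G))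
    rw [hk]
    refine Nat.le_self_pow (fun h0 => hab ?_) p
    rw [h0, pow_zero, Subgroup.card_eq_one] at hk
    exact commutatorElement_eq_one_iff_mul_comm.mp (Subgroup.mem_bot.mp (hk ▸
      Subgroup.commutator_mem_commutator (Subgroup.mem_top a) (Subgroup.mem_top b)))
  exact ⟨⟨hG, le_antisymm hfr (hc ▸ Cfsg.Lib.PGroups.commutator_le_frattini hG), hc⟩, hcZ⟩

/-- The data of the exceptional shape. -/
structure ShapeData (G : Type*) [Group G] (p : ℕ) (C : Subgroup G) (y u : G) : Prop where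
  isP : IsPGroup p G
  card_comm : Nat.card (commutator G) = p
  comm_le : commutator G ≤ C
  ab : ∀ a ∈ C, ∀ b ∈ C, a * b = b * a
  exp : ∀ a ∈ C, a ^ p = 1
  y_mem : y ∈ C
  u_pow : u ^ p = 1
  noncomm : u * y ≠ y * u
  gen : ∀ g : G, ∃ c ∈ C, ∃ i : ℤ, g = c * u ^ i

variable {G : Type*} [Group G] {C : Subgroup G} {y u : G}

/-- The split. -/
theorem ShapeData.split [Finite G] (h : ShapeData G p C y u) :
    ∃ E A : Subgroup G, Nat.card E = p ^ 3 ∧ y ∈ E ∧ u ∈ E ∧ (p ≠ 2 → ∀ g ∈ E, g ^ p = 1) ∧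
      A ≤ Subgroup.center G ∧ (∀ a ∈ A, a ^ p = 1) ∧
      Nonempty (G ≃* E × A) := by
  classical
  have hp : p.Prime := Fact.out
  set D := commutator G with hD
  haveI : D.Normal := inferInstanceAs (commutator G).Normal
  have hDZ : D ≤ Subgroup.center G := Cfsg.Lib.PGroups.le_center_of_card_eq_prime h.isP h.card_comm
  set d : G := ⁅u, y⁆ with hd
  have hdD : d ∈ D := Subgroup.commutator_mem_commutator (Subgroup.mem_top u) (Subgroup.mem_top y)
  have hd1 : d ≠ 1 := fun e => h.noncomm (commutatorElement_eq_one_iff_mul_comm.mp e)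
  have hDd : D = Subgroup.zpowers d := by
    refine (Subgroup.eq_of_le_of_card_ge (Subgroup.zpowers_le.mpr hdD) ?_).symm
    rw [h.card_comm, Nat.card_zpowers, orderOf_eq_prime (h.exp d (h.comm_le hdD)) hd1]
  have hy1 : y ≠ 1 := fun e => h.noncomm (by rw [e, one_mul, mul_one])
  have hu1 : u ≠ 1 := fun e => h.noncomm (by rw [e, one_mul, mul_one])
  have hdvd : ∀ {x z : G} {i : ℤ}, x ^ p = 1 → x * z ≠ z * x → x ^ i * z = z * x ^ i → (p : ℤ) ∣ i := by
    intro x z i hx hxz hc
    by_contra hn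
    apply hxz
    obtain ⟨a, b, hab⟩ := Int.isCoprime_iff_nat_coprime.mpr (show (i.natAbs).Coprime (p : ℤ).natAbs from
      ((Nat.Prime.coprime_iff_not_dvd hp).mpr fun hdv => hn (Int.natCast_dvd.mpr hdv)).symm)
    have e : x = (x ^ i) ^ a := by
      conv_lhs => rw [← zpow_one x, ← hab]
      rw [zpow_add, mul_comm a, mul_comm b, zpow_mul, zpow_mul, zpow_natCast, hx, one_zpow, mul_one]
    rw [e]
    exact ((show Commute (x ^ i) z from hc).zpow_left a).eq
  have hpow0 : ∀ {x : G} {i : ℤ}, x ^ p = 1 → (p : ℤ) ∣ i → x ^ i = 1 := by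
    intro x i hx hi
    obtain ⟨j, rfl⟩ := hi
    rw [zpow_mul, zpow_natCast, hx, one_zpow]
  -- the centre
  have hZC : ∀ z ∈ Subgroup.center G, z ∈ C := fun z hz => by
    obtain ⟨c, hc, i, e⟩ := h.gen z
    have hi : u ^ i * y = y * u ^ i := by
      have h1 := Subgroup.mem_center_iff.mp hz y
      rw [e, ← mul_assoc, h.ab y h.y_mem c hc, mul_assoc, mul_assoc] at h1
      exact (mul_left_cancel h1).symm
    rw [e, hpow0 h.u_pow (hdvd h.u_pow h.noncomm hi), mul_one]
    exact hc
  -- a complement of `D` in the centre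
  obtain ⟨A, hA⟩ := exists_maximal_of_wellFoundedGT
    (fun A : Subgroup G => A ≤ Subgroup.center G ∧ A ⊓ D = ⊥) ⟨⊥, bot_le, bot_inf_eq D⟩
  have hAD : ∀ z ∈ Subgroup.center G, ∃ a ∈ A, ∃ i : ℤ, z = a * d ^ i := by
    intro z hz
    by_contra hno
    push Not at hno
    haveI : A.Normal := ⟨fun a ha g => by
      rw [Subgroup.mem_center_iff.mp (hA.1.1 ha) g, mul_inv_cancel_right]; exact ha⟩
    have hle : A ⊔ Subgroup.zpowers z ≤ A := hA.2 ⟨sup_le hA.1.1 (Subgroup.zpowers_le.mpr hz), by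
      rw [eq_bot_iff]
      rintro w ⟨hw, hwD⟩
      obtain ⟨a, ha, t, ⟨i, hi'⟩, rfl⟩ := Subgroup.mem_sup_of_normal_left.mp hw
      replace hi' : z ^ i = t := hi'
      subst hi'
      by_cases hi : (p : ℤ) ∣ i
      · rw [show z ^ i = 1 from hpow0 (h.exp z (hZC z hz)) hi, mul_one] at hwD ⊢
        exact hA.1.2 ▸ Subgroup.mem_inf.mpr ⟨ha, hwD⟩
      · exfalso
        rw [hDd] at hwD
        obtain ⟨j, hj⟩ := hwD
        obtain ⟨m, n, hmn⟩ := Int.isCoprime_iff_nat_coprime.mpr (show (i.natAbs).Coprime (p : ℤ).natAbs from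
          ((Nat.Prime.coprime_iff_not_dvd hp).mpr fun hdv => hi (Int.natCast_dvd.mpr hdv)).symm)
        refine hno (a⁻¹ ^ m) (A.zpow_mem (A.inv_mem ha) m) (j * m) ?_
        have hj' : d ^ j = a * z ^ i := hj
        have hcm : Commute a (z ^ i) := (Subgroup.mem_center_iff.mp (hA.1.1 ha) (z ^ i)).symm
        rw [zpow_mul, hj', hcm.mul_zpow, ← mul_assoc, inv_zpow, inv_mul_cancel, one_mul]
        conv_lhs => rw [← zpow_one z, ← hmn]
        rw [zpow_add, mul_comm m, mul_comm n, zpow_mul, zpow_mul, zpow_natCast,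
          h.exp z (hZC z hz), one_zpow, mul_one]⟩ le_sup_left
    exact hno z (hle (Subgroup.mem_sup_right (Subgroup.mem_zpowers z))) 0 (by rw [zpow_zero, mul_one])
  have hAc : ∀ a ∈ A, ∀ g : G, g * a = a * g := fun a ha g => Subgroup.mem_center_iff.mp (hA.1.1 ha) g
  -- the group of order `p³`
  set T := Subgroup.zpowers d ⊔ Subgroup.zpowers y with hT
  have hTC : T ≤ C := sup_le (Subgroup.zpowers_le.mpr (h.comm_le hdD)) (Subgroup.zpowers_le.mpr h.y_mem)
  have hTmem : ∀ t ∈ T, ∃ i j : ℤ, t = d ^ i * y ^ j := fun t ht => by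
    haveI : (Subgroup.zpowers d).Normal := by rw [← hDd]; infer_instance
    obtain ⟨_, ⟨i, rfl⟩, _, ⟨j, rfl⟩, e⟩ := Subgroup.mem_sup_of_normal_left.mp ht
    exact ⟨i, j, e.symm⟩
  have huT : u ∈ Subgroup.normalizer (T : Set G) := by
    haveI : T.Normal := by
      refine ⟨fun t ht g => ?_⟩
      have h1 : ⁅g, t⁆ ∈ T := Subgroup.mem_sup_left (hDd ▸
        Subgroup.commutator_mem_commutator (Subgroup.mem_top g) (Subgroup.mem_top t))
      have := T.mul_mem h1 ht
      rwa [commutatorElement_def, inv_mul_cancel_right] at this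
    rw [Subgroup.normalizer_eq_top]; exact Subgroup.mem_top u
  set E := T ⊔ Subgroup.zpowers u with hE
  have hyE : y ∈ E := Subgroup.mem_sup_left (Subgroup.mem_sup_right (Subgroup.mem_zpowers y))
  have huE : u ∈ E := Subgroup.mem_sup_right (Subgroup.mem_zpowers u)
  have hdE : d ∈ E := Subgroup.mem_sup_left (Subgroup.mem_sup_left (Subgroup.mem_zpowers d))
  have hEmem : ∀ g ∈ E, ∃ t ∈ T, ∃ k : ℤ, g = t * u ^ k := fun g hg => by
    obtain ⟨t, ht, _, ⟨k, rfl⟩, e⟩ :=
      (Cfsg.Lib.Coprime.mem_sup_of_le_normalizer (Subgroup.zpowers_le.mpr huT)).mp hg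
    exact ⟨t, ht, k, e.symm⟩
  have hcardE : Nat.card E = p ^ 3 := by
    refine le_antisymm ?_ (three_le_of_noncomm (h.isP.to_subgroup E) (x := ⟨u, huE⟩) (y := ⟨y, hyE⟩)
      fun e => h.noncomm (congrArg Subtype.val e))
    have h1 : Nat.card E ≤ Nat.card T * p :=
      card_sup_zpowers_prime_le hp huT (by rw [h.u_pow]; exact T.one_mem)
    have h2 : Nat.card T ≤ Nat.card (Subgroup.zpowers d) * p := by
      refine card_sup_zpowers_prime_le hp ?_ (by rw [h.exp y h.y_mem]; exact Subgroup.one_mem _)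
      haveI : (Subgroup.zpowers d).Normal := by rw [← hDd]; infer_instance
      rw [Subgroup.normalizer_eq_top]; exact Subgroup.mem_top y
    rw [← hDd, h.card_comm] at h2
    calc Nat.card E ≤ Nat.card T * p := h1
      _ ≤ p * p * p := Nat.mul_le_mul_right p h2
      _ = p ^ 3 := by ring
  refine ⟨E, A, hcardE, hyE, huE, fun hp2 g hg => ?_, hA.1.1, fun a ha => h.exp a (hZC a (hA.1.1 ha)), ?_⟩
  · obtain ⟨t, ht, k, rfl⟩ := hEmem g hg
    have hc : ∀ x z : G, ⁅z, x⁆ ∈ Subgroup.center G := fun x z =>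
      hDZ (Subgroup.commutator_mem_commutator (Subgroup.mem_top z) (Subgroup.mem_top x))
    rw [Cfsg.Lib.PGroups.mul_pow_of_central (hc t (u ^ k)), h.exp t (hTC ht), one_mul]
    obtain ⟨c, hc'⟩ : p ∣ p.choose 2 := hp.dvd_choose_self (by norm_num)
      (lt_of_le_of_ne hp.two_le (Ne.symm hp2))
    rw [hc', pow_mul, h.exp _ (h.comm_le (Subgroup.commutator_mem_commutator (Subgroup.mem_top _)
      (Subgroup.mem_top _))), one_pow, mul_one, ← zpow_natCast (u ^ k), ← zpow_mul, mul_comm, zpow_mul,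
      zpow_natCast, h.u_pow, one_zpow]
  · let f : E × A →* G :=
      MonoidHom.noncommCoprod E.subtype A.subtype fun e a => (hAc a a.2 e : (e : G) * a = a * e)
    refine ⟨(MulEquiv.ofBijective f ⟨?_, ?_⟩).symm⟩
    · rw [injective_iff_map_eq_one]
      rintro ⟨⟨e, he⟩, ⟨a, ha⟩⟩ hea
      replace hea : e * a = 1 := hea
      have heA : e ∈ A := by rw [eq_inv_of_mul_eq_one_left hea]; exact A.inv_mem ha
      have heD : e ∈ D := by
        obtain ⟨t, ht, k, rfl⟩ := hEmem e he
        have hk := hAc _ heA y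
        rw [← mul_assoc, h.ab y h.y_mem t (hTC ht), mul_assoc, mul_assoc] at hk
        rw [hpow0 h.u_pow (hdvd h.u_pow h.noncomm (mul_left_cancel hk).symm), mul_one] at heA ⊢
        obtain ⟨i, j, rfl⟩ := hTmem t ht
        have hj := hAc _ heA u
        have hdi : u * d ^ i = d ^ i * u := Subgroup.mem_center_iff.mp (hDZ (D.zpow_mem hdD i)) u
        rw [← mul_assoc, hdi, mul_assoc, mul_assoc] at hj
        rw [hpow0 (h.exp y h.y_mem) (hdvd (h.exp y h.y_mem) (Ne.symm h.noncomm) (mul_left_cancel hj).symm),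
          mul_one]
        exact D.zpow_mem hdD i
      have he1 : e = 1 := Subgroup.mem_bot.mp (hA.1.2 ▸ Subgroup.mem_inf.mpr ⟨heA, heD⟩)
      subst he1
      rw [one_mul] at hea
      subst hea
      rfl
    · intro g
      obtain ⟨c, hc, i, rfl⟩ := h.gen g
      have hcd : ⁅u, c⁆ ∈ Subgroup.zpowers d :=
        hDd ▸ Subgroup.commutator_mem_commutator (Subgroup.mem_top u) (Subgroup.mem_top c)
      obtain ⟨j, hj⟩ := hcd
      have huc : u * c * u⁻¹ = d ^ j * c := by
        rw [show d ^ j = ⁅u, c⁆ from hj, commutatorElement_def]; group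
      have huy : u * y * u⁻¹ = d * y := by rw [hd, commutatorElement_def]; group
      have hdc : Commute d y := (Subgroup.mem_center_iff.mp (hDZ hdD) y).symm
      set z := c * y ^ (-j) with hz
      have hzc : u * z * u⁻¹ = z := by
        rw [← conj_mul, huc, ← conj_zpow, huy, hdc.mul_zpow, hz]
        have e1 : c * d ^ (-j) = d ^ (-j) * c := Subgroup.mem_center_iff.mp (hDZ (D.zpow_mem hdD _)) c
        rw [mul_assoc (d ^ j), ← mul_assoc c, e1, ← mul_assoc, ← mul_assoc, ← zpow_add, add_neg_cancel,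
          zpow_zero, one_mul]
      have hzZ : z ∈ Subgroup.center G := Subgroup.mem_center_iff.mpr fun g' => by
        obtain ⟨c', hc', k, rfl⟩ := h.gen g'
        have h1 : Commute u z := mul_inv_eq_iff_eq_mul.mp hzc
        have h2 : Commute c' z := h.ab c' hc' z (C.mul_mem hc (C.zpow_mem h.y_mem _))
        exact (h2.mul_left (h1.zpow_left k)).eq
      obtain ⟨a, ha, m, hm⟩ := hAD z hzZ
      refine ⟨(⟨d ^ m * y ^ j * u ^ i, E.mul_mem (E.mul_mem (E.zpow_mem hdE m) (E.zpow_mem hyE j))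
        (E.zpow_mem huE i)⟩, ⟨a, ha⟩), ?_⟩
      show d ^ m * y ^ j * u ^ i * a = c * u ^ i
      rw [hAc a ha, ← mul_assoc, ← mul_assoc, ← hm, hz, mul_assoc c, ← zpow_add, neg_add_cancel,
        zpow_zero, mul_one]

/-- The exceptional shapes. -/
theorem ShapeData.exception [Finite G] (h : ShapeData G p C y u) :
    (p = 2 → ∃ (A : Type) (_ : CommGroup A), (∀ a : A, a ^ 2 = 1) ∧
      Nonempty (G ≃* DihedralGroup 4 × A)) ∧
    (p ≠ 2 → ∃ (E : Type) (_ : Group E) (A : Type) (_ : CommGroup A), Cfsg.IsExtraspecial p E ∧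
      Nat.card E = p ^ 3 ∧ Monoid.exponent E = p ∧ (∀ a : A, a ^ p = 1) ∧ Nonempty (G ≃* E × A)) := by
  classical
  have hp : p.Prime := Fact.out
  obtain ⟨E, A, hE, hyE, huE, hexp, hAZ, hAp, ⟨φ⟩⟩ := h.split
  let eA : FinCarrier (Nat.card A) ≃ A := (Finite.equivFin A).symm
  letI gA : Group (FinCarrier (Nat.card A)) := eA.group
  have hfA : FinCarrier (Nat.card A) ≃* A := eA.mulEquiv
  letI cA : CommGroup (FinCarrier (Nat.card A)) :=
    { gA with mul_comm := fun a b => hfA.injective (by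
        rw [map_mul, map_mul]
        exact Subtype.ext (Subgroup.mem_center_iff.mp (hAZ (hfA b).2) (hfA a))) }
  have hA1 : ∀ a : FinCarrier (Nat.card A), a ^ p = 1 := fun a => hfA.injective (by
    rw [map_pow, map_one]; exact Subtype.ext (hAp _ (hfA a).2))
  refine ⟨fun h2 => ?_, fun hp2 => ?_⟩
  · subst h2
    refine ⟨FinCarrier (Nat.card A), cA, hA1, ?_⟩
    set ye : E := ⟨y, hyE⟩
    set ue : E := ⟨u, huE⟩
    have hyy : ye * ye = 1 := Subtype.ext (by simpa [pow_two] using h.exp y h.y_mem)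
    have huu : ue * ue = 1 := Subtype.ext (by simpa [pow_two] using h.u_pow)
    have hnc : ue * ye ≠ ye * ue := fun e => h.noncomm (congrArg Subtype.val e)
    have hr4 : orderOf (ue * ye) = 2 ^ (1 + 1) := by
      refine orderOf_eq_prime_pow (fun e => hnc ?_) ?_
      · rw [pow_one, pow_two] at e
        calc ue * ye = (ue * ye)⁻¹ := eq_inv_of_mul_eq_one_left e
          _ = ye * ue := by rw [mul_inv_rev, inv_eq_of_mul_eq_one_right hyy, inv_eq_of_mul_eq_one_right huu]
      · have hc : ⁅u, y⁆ = (u * y) ^ 2 := by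
          rw [commutatorElement_def,
            inv_eq_of_mul_eq_one_right (show y * y = 1 by simpa [pow_two] using h.exp y h.y_mem),
            inv_eq_of_mul_eq_one_right (show u * u = 1 by simpa [pow_two] using h.u_pow), pow_two]
          group
        refine Subtype.ext ?_
        show (u * y) ^ 2 ^ (1 + 1) = 1
        rw [show 2 ^ (1 + 1) = 2 * 2 by norm_num, pow_mul, ← hc]
        exact h.exp _ (h.comm_le (Subgroup.commutator_mem_commutator (Subgroup.mem_top u) (Subgroup.mem_top y)))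
    obtain ⟨δ⟩ : Nonempty (E ≃* DihedralGroup 4) := by
      refine Cfsg.Lib.Classical.Refl.nonempty_dihedral (ue * ye) ue 4 (by rw [hr4]; norm_num) huu ?_ ?_ ?_
      · rw [← mul_assoc ue ue ye, huu, one_mul, mul_inv_rev, inv_eq_of_mul_eq_one_right huu,
          inv_eq_of_mul_eq_one_right hyy]
      · rintro ⟨i, hi⟩
        apply hnc
        replace hi : (ue * ye) ^ i = ue := hi
        have hc : Commute ue (ue * ye) := by
          have := (Commute.refl (ue * ye)).zpow_left i
          rwa [hi] at this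
        have h1 : ue * (ue * ye) = ue * ye * ue := hc.eq
        rw [← mul_assoc, huu, one_mul, mul_assoc] at h1
        calc ue * ye = ue * (ue * (ye * ue)) := by rw [← h1]
          _ = ye * ue := by rw [← mul_assoc, huu, one_mul]
      · rw [hE]; norm_num
    exact ⟨φ.trans (δ.prodCongr hfA.symm)⟩
  · let eE : FinCarrier (Nat.card E) ≃ E := (Finite.equivFin E).symm
    letI gE : Group (FinCarrier (Nat.card E)) := eE.group
    have hfE : FinCarrier (Nat.card E) ≃* E := eE.mulEquiv
    haveI : Finite (FinCarrier (Nat.card E)) := Finite.of_equiv _ eE.symm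
    refine ⟨FinCarrier (Nat.card E), gE, FinCarrier (Nat.card A), cA, ?_, ?_, ?_, hA1, ⟨φ.trans (hfE.symm.prodCongr hfA.symm)⟩⟩
    · refine isExtraspecial_of_cube (by rw [Nat.card_congr eE, hE]) (a := hfE.symm ⟨u, huE⟩) (b := hfE.symm ⟨y, hyE⟩) ?_
      rw [← map_mul, ← map_mul]
      exact fun e => h.noncomm (congrArg Subtype.val (hfE.symm.injective e))
    · rw [Nat.card_congr eE, hE]
    · rw [Monoid.exponent_eq_of_mulEquiv hfE]
      rcases (Nat.dvd_prime hp).mp (Monoid.exponent_dvd_iff_forall_pow_eq_one.mpr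
        fun g : E => Subtype.ext (hexp hp2 g g.2)) with h' | h'
      · haveI := Monoid.exp_eq_one_iff.mp h'
        exact absurd (congrArg Subtype.val (Subsingleton.elim (⟨u, huE⟩ : E) 1))
          fun e : u = 1 => h.noncomm (by rw [e, one_mul, mul_one])
      · exact h'

end Cfsg.Lib.Fusion
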