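import Cfsg.Agent.Fusion.Essential

/-!
Rigidity: two maps of a saturated system that agree on a centric subgroup differ by conjugation
with an element of its centre.
-/

set_option autoImplicit false

namespace Cfsg.Lib.Fusion

open Cfsg Cfsg.FusionSystem

variable {Ω : Type*} [Group Ω] {S : Subgroup Ω} {F : FusionSystem S} {p : ℕ}

theorem centric_img {Q : Subgroup Ω} (hQ : F.IsCentric Q) {f : Ω → Ω} (hf : IsMap F Q f) :
    centralizerIn S (img Q f) ≤ img Q f :=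
  hQ.2 _ (isConj_iff.mpr ⟨f, hf, rfl⟩)

theorem centric_of_isConj {Q R : Subgroup Ω} (hQ : F.IsCentric Q) (h : F.IsConj Q R) :
    F.IsCentric R :=
  ⟨(isConj_le h).2, fun _ hU => hQ.2 _ (isConj_trans h hU)⟩

theorem centric_of_le {Q R : Subgroup Ω} (hQ : F.IsCentric Q) (hQR : Q ≤ R) (hR : R ≤ S) :
    F.IsCentric R := by
  refine ⟨hR, fun U hU c hc => ?_⟩
  obtain ⟨f, hf, rfl⟩ := isConj_iff.mp hU
  exact img_mono hQR f (centric_img hQ (hf.mono hQR)
    ⟨hc.1, Subgroup.centralizer_le (fun x hx => img_mono hQR f hx) hc.2⟩)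

/-- The automorphisms in the system fixing `Q` elementwise when `Q` is normal in `P`. -/
theorem rigidity_aut [Finite S] [Fact p.Prime] (hS : IsPGroup p S) (hF : F.IsSaturated p)
    {P Q : Subgroup Ω} (hP : P ≤ S) (hQP : Q ≤ P) (hn : ∀ x ∈ P, ∀ q ∈ Q, x * q * x⁻¹ ∈ Q)
    (hQ : F.IsCentric Q) {h : MulAut P} (hh : h ∈ F.autGroup P)
    (hfix : ∀ q ∈ Q, autFun h q = q) :
    ∃ z ∈ centralizerIn S Q, ∀ x ∈ P, autFun h x = z * x * z⁻¹ := by
  have := finite_of_le hP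
  have := finite_of_le (hQP.trans hP)
  have hC := hQ.2 Q (isConj_refl (hQP.trans hP))
  -- the group of such automorphisms
  let K : Subgroup (MulAut P) :=
    { carrier := {k | k ∈ F.autGroup P ∧ ∀ q ∈ Q, autFun k q = q}
      one_mem' := ⟨Subgroup.one_mem _, fun q hq => by rw [autFun_apply_mem _ (hQP hq)]; rfl⟩
      mul_mem' := fun {a b} ha hb => ⟨Subgroup.mul_mem _ ha.1 hb.1, fun q hq => by
        rw [autFun_mul _ _ (hQP hq), hb.2 q hq, ha.2 q hq]⟩
      inv_mem' := fun {a} ha => ⟨Subgroup.inv_mem _ ha.1, fun q hq => by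
        conv_lhs => rw [← ha.2 q hq]
        rw [← autFun_mul _ _ (hQP hq), inv_mul_cancel, autFun_apply_mem _ (hQP hq)]
        rfl⟩ }
  have hKX : K ≤ F.autGroup P := fun k hk => hk.1
  have hd : ∀ k ∈ K, ∀ x ∈ P, autFun k x * x⁻¹ ∈ centralizerIn S Q := by
    intro k hk x hx
    have hm : IsMap F P (autFun k) := (isMap_autFun hP).mpr hk.1
    refine mem_centralizerIn.mpr ⟨S.mul_mem (hm.mem_S hx) (S.inv_mem (hP hx)), fun q hq => ?_⟩
    have h1 : x⁻¹ * q * x ∈ Q := by simpa using hn x⁻¹ (P.inv_mem hx) q hq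
    calc autFun k x * x⁻¹ * q * (autFun k x * x⁻¹)⁻¹
        = autFun k x * (x⁻¹ * q * x) * (autFun k x)⁻¹ := by group
      _ = autFun k x * autFun k (x⁻¹ * q * x) * (autFun k x)⁻¹ := by rw [hk.2 _ h1]
      _ = autFun k (x * (x⁻¹ * q * x) * x⁻¹) := (hm.map_conj hx (hQP h1)).symm
      _ = q := by
        rw [show x * (x⁻¹ * q * x) * x⁻¹ = q by group]
        exact hk.2 q hq
  have hKp : IsPGroup p K := by
    rintro ⟨k, hk⟩
    have hCp : IsPGroup p (centralizerIn S Q) :=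
      hS.of_injective _ (Subgroup.inclusion_injective inf_le_left)
    have hpow : ∀ (x : Ω) (hx : x ∈ P) (i : ℕ), autFun (k ^ i) x = (autFun k x * x⁻¹) ^ i * x := by
      intro x hx i
      induction i with
      | zero => rw [pow_zero, autFun_apply_mem _ hx]; simp
      | succ i ih =>
        have hmem : (autFun k x * x⁻¹) ^ i ∈ Q := Q.pow_mem (hC (hd k hk x hx)) i
        rw [pow_succ', autFun_mul _ _ hx, ih,
          ((isMap_autFun hP).mpr hk.1).map_mul (hQP hmem) hx, hk.2 _ hmem, pow_succ]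
        group
    have : Finite (centralizerIn S Q) := finite_of_le inf_le_left
    obtain ⟨n, hn'⟩ := IsPGroup.iff_card.mp hCp
    refine ⟨n, Subtype.ext (MulEquiv.ext fun x => Subtype.ext ?_)⟩
    show (((k ^ p ^ n) x : P) : Ω) = x
    rw [← autFun_apply, hpow x x.2, ← hn']
    have := congrArg Subtype.val (pow_card_eq_one' (x := (⟨_, hd k hk x x.2⟩ : centralizerIn S Q)))
    rw [show (autFun k ↑x * (↑x)⁻¹) ^ Nat.card ↥(centralizerIn S Q) = 1 from this, one_mul]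
  obtain ⟨V, hPV, hV⟩ := exists_fullyNormalized (F := F) hP
  obtain ⟨-, hfa, -⟩ := fullyNormalized_props hS hF hV
  obtain ⟨f, hf, hi⟩ := isConj_iff.mp hPV
  have hK' : (K.map (MulAut.congr (hf.equiv hi)).toMonoidHom) ≤ F.autGroup V := by
    rw [← map_congr_autGroup hf hi]
    exact Subgroup.map_mono hKX
  obtain ⟨χ, hχ, hχK⟩ := exists_conj_into_autS hfa (hKp.map _) hK'
  obtain ⟨g, hg, eg⟩ := mem_autInducedBy.mp (hχK _ ⟨h, ⟨hh, hfix⟩, rfl⟩)
  have hχm : IsMap F V (autFun χ) := (isMap_autFun hV.1).mpr hχ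
  have hfV : ∀ x ∈ P, f x ∈ V := fun x hx => hi ▸ IsMap.apply_mem_img hx
  have hm : IsMap F P (autFun χ ∘ f) := hf.comp hχm hfV
  have key : ∀ x ∈ P, autFun χ (f (autFun h x)) = g * autFun χ (f x) * g⁻¹ := by
    intro x hx
    have e := eg ⟨autFun χ (f x), autFun_mem χ (hfV x hx)⟩
    rw [← autFun_apply (χ * (MulAut.congr (hf.equiv hi)).toMonoidHom h * χ⁻¹)] at e
    rw [← autFun_mul _ χ (hfV x hx), inv_mul_cancel_right, autFun_mul _ _ (hfV x hx)] at e
    rw [← congr_equiv_spec hf hi h hx]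
    exact e
  have hgQ : g ∈ img Q (autFun χ ∘ f) := centric_img hQ (hm.mono hQP) (mem_centralizerIn.mpr
    ⟨hg, fun y hy => by
      obtain ⟨q, hq, rfl⟩ := (hm.mono hQP).mem_img.mp hy
      show g * autFun χ (f q) * g⁻¹ = autFun χ (f q)
      rw [← key q (hQP hq), hfix q hq]⟩)
  obtain ⟨z, hz, hzg⟩ := (hm.mono hQP).mem_img.mp hgQ
  have hzx : ∀ x ∈ P, autFun h x = z * x * z⁻¹ := by
    intro x hx
    refine hm.injOn (autFun_mem h hx) (P.mul_mem (P.mul_mem (hQP hz) hx) (P.inv_mem (hQP hz))) ?_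
    rw [hm.map_conj (hQP hz) hx, hzg]
    exact key x hx
  refine ⟨z, mem_centralizerIn.mpr ⟨hP (hQP hz), fun q hq => ?_⟩, hzx⟩
  rw [← hzx q (hQP hq), hfix q hq]

/-- Two maps agreeing on a centric normal subgroup of their source differ by conjugation with an
element of its centre. -/
theorem rigidity [Finite S] [Fact p.Prime] (hS : IsPGroup p S) (hF : F.IsSaturated p)
    {P Q : Subgroup Ω} (hQP : Q ≤ P) (hn : ∀ x ∈ P, ∀ q ∈ Q, x * q * x⁻¹ ∈ Q)
    (hQ : F.IsCentric Q) {f f' : Ω → Ω} (hf : IsMap F P f) (hf' : IsMap F P f')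
    (e : ∀ q ∈ Q, f q = f' q) :
    ∃ z ∈ centralizerIn S Q, z ∈ Q ∧ ∀ x ∈ P, f' x = f (z * x * z⁻¹) := by
  have hP := hf.le
  obtain ⟨k, hk, hki, hl, hr⟩ := hf.exists_inv
  have hC := hQ.2 Q (isConj_refl (hQP.trans hP))
  have hmem : ∀ x ∈ P, f' x ∈ img P f := by
    intro x hx
    have hfQ : F.IsConj Q (img Q f) := isConj_iff.mpr ⟨f, hf.mono hQP, rfl⟩
    have hc : (f x)⁻¹ * f' x ∈ centralizerIn S (img Q f) := mem_centralizerIn.mpr
      ⟨S.mul_mem (S.inv_mem (hf.mem_S hx)) (hf'.mem_S hx), fun y hy => by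
        obtain ⟨q, hq, rfl⟩ := (hf.mono hQP).mem_img.mp hy
        have h2 : f' x * f q * (f' x)⁻¹ = f x * f q * (f x)⁻¹ := by
          rw [e q hq, ← hf'.map_conj hx (hQP hq), ← e _ (hn x hx q hq), hf.map_conj hx (hQP hq),
            e q hq]
        calc (f x)⁻¹ * f' x * f q * ((f x)⁻¹ * f' x)⁻¹
            = (f x)⁻¹ * (f' x * f q * (f' x)⁻¹) * f x := by group
          _ = f q := by rw [h2]; group⟩
    have h1 : f x * ((f x)⁻¹ * f' x) ∈ img P f := (img P f).mul_mem (IsMap.apply_mem_img hx)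
      (img_mono hQP f (hQ.2 _ hfQ hc))
    rwa [mul_inv_cancel_left] at h1
  have hh : IsMap F P (k ∘ f') := hf'.comp hk hmem
  have hhi : img P (k ∘ f') = P := by
    have := finite_of_le hP
    refine Subgroup.eq_of_le_of_card_ge (IsMap.img_le_iff.mpr fun x hx => ?_) hh.card_img.ge
    obtain ⟨y, hy, hye⟩ := hf.mem_img.mp (hmem x hx)
    show k (f' x) ∈ P
    rw [← hye, hl y hy]
    exact hy
  obtain ⟨α, hα, hαe⟩ := hh.exists_aut hhi
  obtain ⟨z, hz, hze⟩ := rigidity_aut hS hF hP hQP hn hQ hα fun q hq => by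
    rw [hαe q (hQP hq)]
    show k (f' q) = q
    rw [← e q hq, hl q (hQP hq)]
  refine ⟨z, hz, hC hz, fun x hx => ?_⟩
  rw [← hze x hx, hαe x hx]
  exact (hr _ (hmem x hx)).symm

end Cfsg.Lib.Fusion
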