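import Cfsg.Agent.Fusion.NormalizerSystem

/-!
Working with a realization of a fusion system: maps and group elements, and the radical criterion
by way of the model.
-/

set_option autoImplicit false

namespace Cfsg.Lib.Fusion

open Cfsg Cfsg.FusionSystem

variable {Ω : Type*} [Group Ω] {S : Subgroup Ω} {F : FusionSystem S} {p : ℕ}
  {L : Type*} [Group L] {T : Subgroup Ω} {E : FusionSystem T} {ι : T →* L}

theorem exists_elt_of_isMap (h : E.IsRealizedBy ι) {P : Subgroup Ω} {f : Ω → Ω}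
    (hf : IsMap E P f) :
    ∃ g : L, ∀ x : T, (x : Ω) ∈ P → ∀ x' : T, (x' : Ω) = f x → ι x' = g * ι x * g⁻¹ := by
  obtain ⟨φ, hφ, e⟩ := hf
  have hle := E.le_of_mem hφ
  obtain ⟨g, hg⟩ := (h.2 P hle.1 φ hle.2).mp hφ
  refine ⟨g, fun x hx x' hx' => ?_⟩
  obtain rfl : x' = ⟨φ ⟨x, hx⟩, hle.2 _⟩ := Subtype.ext (hx'.trans (e ⟨x, hx⟩).symm)
  exact hg ⟨x, hx⟩

theorem exists_isMap_of_elt (h : E.IsRealizedBy ι) {P : Subgroup Ω} (hP : P ≤ T) (g : L)
    (hg : ∀ x : T, (x : Ω) ∈ P → g * ι x * g⁻¹ ∈ ι.range) :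
    ∃ f : Ω → Ω, IsMap E P f ∧ (∀ x ∈ P, f x ∈ T) ∧
      ∀ x : T, (x : Ω) ∈ P → ∀ x' : T, ((x' : Ω) = f x ↔ ι x' = g * ι x * g⁻¹) := by
  let e := MonoidHom.ofInjective h.1
  let c : P →* ι.range := ((MulAut.conj g).toMonoidHom.comp
    (ι.comp (Subgroup.inclusion hP))).codRestrict _ fun x => hg _ x.2
  let φ : P →* Ω := T.subtype.comp (e.symm.toMonoidHom.comp c)
  have hv : ∀ x : P, φ x ∈ T := fun x => (e.symm (c x)).2
  have hι : ∀ x : P, ι (e.symm (c x)) = g * ι ⟨x, hP x.2⟩ * g⁻¹ := fun x =>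
    congrArg Subtype.val (e.apply_symm_apply (c x))
  have hφ : φ ∈ E.Hom P := (h.2 P hP φ hv).mpr ⟨g, fun x => hι x⟩
  refine ⟨toFun' φ, isMap_of_mem hφ, fun x hx => ?_, fun x hx x' => ?_⟩
  · rw [toFun'_apply_mem φ hx]
    exact hv _
  · rw [toFun'_apply_mem φ hx]
    refine ⟨fun hx' => ?_, fun hx' => ?_⟩
    · obtain rfl : x' = e.symm (c ⟨x, hx⟩) := Subtype.ext hx'
      exact hι ⟨x, hx⟩
    · exact congrArg Subtype.val (h.1 (hx'.trans (hι ⟨x, hx⟩).symm))

theorem isMap_of_isSubsystemOf (hs : E.IsSubsystemOf F) {P : Subgroup Ω} {f : Ω → Ω}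
    (hf : IsMap E P f) : IsMap F P f :=
  let ⟨φ, hφ, e⟩ := hf
  ⟨φ, hs P hφ, e⟩

theorem isSubsystemOf_of_isNormalizerSystem {Q : Subgroup Ω}
    {N : FusionSystem (normalizerIn S Q)} (hN : F.IsNormalizerSystem Q N) : N.IsSubsystemOf F :=
  fun P φ hφ => by
    rw [hN P] at hφ
    exact hφ.1

theorem pCore_le_range [Finite L] [Fact p.Prime] (h : ∃ U : Sylow p L, (U : Subgroup L) = ι.range) :
    pCore p L ≤ ι.range := by
  obtain ⟨U, hU⟩ := h
  rw [← hU]
  refine sSup_le fun N hN => ?_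
  haveI := hN.1
  obtain ⟨R, hR⟩ := hN.2.exists_le_sylow
  obtain ⟨g, rfl⟩ := MulAction.exists_smul_eq L R U
  intro x hx
  rw [Sylow.coe_subgroup_smul, Subgroup.mem_smul_pointwise_iff_exists] at *
  exact ⟨g⁻¹ * x * g, hR (by simpa using hN.1.conj_mem x hx g⁻¹), by
    show g * (g⁻¹ * x * g) * g⁻¹ = x
    group⟩

/-- If the core of the model is `Q`, then `Q` is radical. -/
theorem radical_of_pCore_le {S : Subgroup Ω} {F : FusionSystem S} [Finite S] [Fact p.Prime]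
    [Finite L] (hS : IsPGroup p S) {Q : Subgroup Ω} (hQ : Q ≤ S)
    {N : FusionSystem (normalizerIn S Q)} (hN : F.IsNormalizerSystem Q N)
    {ι : normalizerIn S Q →* L} (h : N.IsRealizedBy ι)
    (hnor : ((Q.subgroupOf _).map ι).Normal)
    (hcen : Subgroup.centralizer (((Q.subgroupOf _).map ι : Subgroup L) : Set L) ≤
      (Q.subgroupOf _).map ι)
    (hcore : pCore p L ≤ (Q.subgroupOf _).map ι) : F.IsRadical p Q := by
  have := finite_of_le hQ
  set QL := (Q.subgroupOf (normalizerIn S Q)).map ι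
  haveI := hnor
  let eQ : Q ≃* QL :=
    (Subgroup.subgroupOfEquivOfLe (le_normalizerIn hQ)).symm.trans
      ((Q.subgroupOf (normalizerIn S Q)).equivMapOfInjective ι h.1)
  have heQ : ∀ q : Q, (eQ q : L) = ι ⟨q, le_normalizerIn hQ q.2⟩ := fun q => rfl
  let θ : L →* MulAut Q := (MulAut.congr eQ.symm).toMonoidHom.comp MulAut.conjNormal
  have hθ : ∀ g q, ι ⟨(θ g q : Q), le_normalizerIn hQ (θ g q).2⟩ =
      g * ι ⟨q, le_normalizerIn hQ q.2⟩ * g⁻¹ := fun g q => by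
    rw [← heQ, ← heQ]
    show ((eQ (eQ.symm (MulAut.conjNormal g (eQ q))) : QL) : L) = _
    rw [eQ.apply_symm_apply, MulAut.conjNormal_apply]
  have hθX : ∀ g, θ g ∈ F.autGroup Q := by
    intro g
    obtain ⟨f, hf, -, hfe⟩ := exists_isMap_of_elt h (le_normalizerIn hQ) g fun x hx => by
      rw [show x = ⟨((⟨x, hx⟩ : Q) : Ω), le_normalizerIn hQ hx⟩ from rfl, ← hθ]
      exact ⟨_, rfl⟩
    refine (isMap_autFun hQ).mp ((isMap_of_isSubsystemOf
      (isSubsystemOf_of_isNormalizerSystem hN) hf).congr fun x hx => ?_)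
    rw [autFun_apply_mem _ hx]
    exact (hfe ⟨x, le_normalizerIn hQ hx⟩ hx ⟨_, le_normalizerIn hQ (θ g ⟨x, hx⟩).2⟩).mpr
      (hθ g ⟨x, hx⟩)
  let θ' : L →* F.autGroup Q := θ.codRestrict _ hθX
  have hsurj : Function.Surjective θ' := by
    rintro ⟨α, hα⟩
    have hm := (isMap_autFun hQ).mpr hα
    have hmN : IsMap N Q (autFun α) := (isMap_of_isNormalizerSystem hN).mpr
      ⟨le_normalizerIn hQ, fun x hx => le_normalizerIn hQ (autFun_mem α hx), hm, autFun α,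
        by rwa [sup_idem], fun _ _ => rfl, img_autFun α⟩
    obtain ⟨g, hg⟩ := exists_elt_of_isMap h hmN
    refine ⟨g, Subtype.ext (MulEquiv.ext fun q => Subtype.ext ?_)⟩
    have e := hg ⟨q, le_normalizerIn hQ q.2⟩ q.2 ⟨(α q : Q), le_normalizerIn hQ (α q).2⟩
      (autFun_apply α q).symm
    exact congrArg (fun z : normalizerIn S Q => (z : Ω)) (h.1 ((hθ g q).trans e.symm))
  have hker : IsPGroup p θ'.ker := by
    have hle : θ'.ker ≤ QL := fun g hg => hcen (Subgroup.mem_centralizer_iff.mpr fun y hy => by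
      have e := hθ g ⟨(eQ.symm ⟨y, hy⟩ : Q), (eQ.symm ⟨y, hy⟩).2⟩
      rw [show θ g = 1 from congrArg Subtype.val (MonoidHom.mem_ker.mp hg)] at e
      have e' : (eQ (eQ.symm ⟨y, hy⟩) : L) = g * (eQ (eQ.symm ⟨y, hy⟩) : L) * g⁻¹ := e
      rw [eQ.apply_symm_apply] at e'
      exact eq_mul_inv_iff_mul_eq.mp e')
    have hQp : IsPGroup p QL :=
      ((hS.of_injective _ (Subgroup.inclusion_injective inf_le_left)).to_subgroup _).map _
    exact hQp.of_injective _ (Subgroup.inclusion_injective hle)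
  refine ⟨hQ, le_antisymm ?_ ?_⟩
  · have hp : IsPGroup p ((pCore p (F.autGroup Q)).comap θ') :=
      IsPGroup.comap_of_ker_isPGroup (Cfsg.Lib.Components.isPGroup_pCore p) θ' hker
    have hle := (Cfsg.Lib.Components.le_pCore (p := p) hp).trans hcore
    rintro _ ⟨β, hβ, rfl⟩
    obtain ⟨g, rfl⟩ := hsurj β
    obtain ⟨s, hs, rfl⟩ := hle (show g ∈ (pCore p (F.autGroup Q)).comap θ' from hβ)
    refine ⟨⟨s, hs⟩, MulEquiv.ext fun q => Subtype.ext ?_⟩
    show (s : Ω) * q * (s : Ω)⁻¹ = (θ (ι s) q : Ω)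
    have e := hθ (ι s) q
    rw [← _root_.map_inv ι, ← _root_.map_mul ι, ← _root_.map_mul ι] at e
    exact (congrArg Subtype.val (h.1 e)).symm
  · intro β hβ
    refine ⟨⟨β, inn_le_autGroup hQ hβ⟩, ?_, rfl⟩
    have hn := inn_normal_autGroup F Q
    have hle : (Inn Q).subgroupOf (F.autGroup Q) ≤ pCore p (F.autGroup Q) := le_sSup ⟨hn, ?_⟩
    exact hle hβ
    exact ((hS.of_injective _ (Subgroup.inclusion_injective hQ)).of_surjective _
      (MulAut.conj (G := Q)).rangeRestrict_surjective).of_injective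
      (Subgroup.subgroupOfEquivOfLe (inn_le_autGroup (F := F) hQ)).toMonoidHom
      (Subgroup.subgroupOfEquivOfLe (inn_le_autGroup (F := F) hQ)).injective

end Cfsg.Lib.Fusion
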