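import Cfsg.Agent.Fusion.Alperin

/-!
Sites of the Alperin induction where some automorphism is bad are essential; essential subgroups
are radical.
-/

set_option autoImplicit false

namespace Cfsg.Lib.Fusion

open Cfsg Cfsg.FusionSystem

variable {Ω : Type*} [Group Ω] {S : Subgroup Ω} {F : FusionSystem S} {p : ℕ}

theorem inn_le_autGroup {Q : Subgroup Ω} (hQ : Q ≤ S) : Inn Q ≤ F.autGroup Q :=
  (inn_le_autInducedBy hQ).trans (autInducedBy_le hQ)

theorem conj_mem_inn {Q : Type*} [Group Q] {β : MulAut Q} (hβ : β ∈ Inn Q) (α : MulAut Q) :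
    α * β * α⁻¹ ∈ Inn Q := by
  obtain ⟨q, rfl⟩ := hβ
  refine ⟨α q, MulEquiv.ext fun x => ?_⟩
  show α q * x * (α q)⁻¹ = α (q * α⁻¹ x * q⁻¹)
  rw [map_mul, map_mul, map_inv, MulAut.apply_inv_self]

theorem inn_normal_autGroup (F : FusionSystem S) (Q : Subgroup Ω) :
    ((Inn Q).subgroupOf (F.autGroup Q)).Normal :=
  ⟨fun β hβ α => conj_mem_inn hβ (α : MulAut Q)⟩

theorem exists_noninner [Finite S] [Fact p.Prime] (hS : IsPGroup p S) {Q : Subgroup Ω}
    (hQS : Q < S) (hC : centralizerIn S Q ≤ Q) :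
    ∃ β ∈ autInducedBy S Q, β ∉ Inn Q := by
  obtain ⟨g, hg, hgQ⟩ := SetLike.exists_of_lt (lt_normalizerIn hS hQS)
  exact ⟨conjAut Q g hg.2, conjAut_mem_autInducedBy hg.2 hg.1,
    fun h => hgQ (mem_of_inn hC hg.1 hg.2 h hQS.le)⟩

/-- A site with a bad automorphism is essential. -/
theorem essential_of_bad [Finite S] [Fact p.Prime] (hS : IsPGroup p S) (hF : F.IsSaturated p)
    {Φ : Subgroup Ω → (Ω → Ω) → Prop} (hΦ : IsMapClass F Φ) {Q : Subgroup Ω} (hQS : Q < S)
    (hQ : F.IsFullyNormalized Q) (hQc : F.IsCentric Q)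
    (hIH : ∀ (T : Subgroup Ω) (f : Ω → Ω), Nat.card Q < Nat.card T → IsMap F T f → Φ T f)
    {α₀ : MulAut Q} (hα₀ : α₀ ∈ F.autGroup Q) (hbad : ¬ Φ Q (autFun α₀)) :
    F.IsEssential p Q := by
  obtain ⟨-, hfa, hrec⟩ := fullyNormalized_props hS hF hQ
  have := finite_of_le hQ.1
  refine ⟨hQc, hQ, inn_normal_autGroup F Q, ?_⟩
  haveI := inn_normal_autGroup F Q
  obtain ⟨R, hR⟩ := hfa.2
  set π := QuotientGroup.mk' ((Inn Q).subgroupOf (F.autGroup Q)) with hπ
  have hsurj : Function.Surjective π := QuotientGroup.mk'_surjective _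
  set H := (goodAut F Φ hΦ Q hQ.1).subgroupOf (F.autGroup Q) with hH
  have hkerH : π.ker ≤ H := by
    rw [hπ, QuotientGroup.ker_mk']
    intro β hβ
    exact autInducedBy_le_good hΦ hQ.1 (inn_le_autInducedBy hQ.1 hβ)
  refine ⟨H.map π, ?_, ?_, R.mapSurjective hsurj, ?_⟩
  · obtain ⟨β, hβ, hβI⟩ := exists_noninner hS hQS (hQc.2 Q (isConj_refl hQ.1))
    have hx : π ⟨β, autInducedBy_le hQ.1 hβ⟩ ≠ 1 := fun h =>
      hβI ((QuotientGroup.eq_one_iff (N := (Inn Q).subgroupOf (F.autGroup Q)) _).mp h)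
    obtain ⟨k, hk⟩ := ((isPGroup_autInducedBy hS Q) ⟨β, hβ⟩)
    have hk' : (π ⟨β, autInducedBy_le hQ.1 hβ⟩) ^ p ^ k = 1 := by
      rw [← map_pow, show (⟨β, autInducedBy_le hQ.1 hβ⟩ : F.autGroup Q) ^ p ^ k = 1 from
        Subtype.ext (show β ^ p ^ k = 1 from congrArg Subtype.val hk), map_one]
    obtain ⟨j, -, hj⟩ := (Nat.dvd_prime_pow (Fact.out : p.Prime)).mp (orderOf_dvd_of_pow_eq_one hk')
    have : j ≠ 0 := fun h => hx (orderOf_eq_one_iff.mp (by rw [hj, h, pow_zero]))
    exact ((dvd_pow_self p this).trans (dvd_of_eq hj.symm)).trans (orderOf_dvd_natCard _)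
  · intro htop
    have h1 : H = ⊤ := by
      rw [← Subgroup.comap_map_eq_self hkerH, htop, Subgroup.comap_top]
    have : (⟨α₀, hα₀⟩ : F.autGroup Q) ∈ H := h1 ▸ Subgroup.mem_top _
    exact hbad this.2
  · refine iSup_le fun K x hx => ?_
    have hKne : (K : Subgroup (F.autGroup Q ⧸ (Inn Q).subgroupOf (F.autGroup Q))) ≠ ⊥ := by
      intro h
      refine K.2.2 fun A _ _ => ?_
      show Nat.card A ≤ p ^ 0
      rw [pow_zero]
      haveI : Subsingleton (K : Subgroup (F.autGroup Q ⧸ (Inn Q).subgroupOf (F.autGroup Q))) := by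
        rw [h]; infer_instance
      exact le_of_eq (Nat.card_unique (α := A))
    obtain ⟨q, hq, hq1⟩ := (Subgroup.bot_or_exists_ne_one _).resolve_left hKne
    obtain ⟨α, rfl⟩ := hsurj x
    have hq' := K.2.1 hq
    have hxq := K.2.1 (conj_mem_of_maps hx hq)
    obtain ⟨β, hβ, rfl⟩ := hq'
    obtain ⟨γ, hγ, hγe⟩ := hxq
    refine ⟨α, ?_, rfl⟩
    rw [hR] at hβ hγ
    refine good_of_conj (p := p) hΦ hQ.1 hrec hIH α.2 hβ (fun hI => hq1 ?_) ?_
    · exact (QuotientGroup.eq_one_iff (N := (Inn Q).subgroupOf (F.autGroup Q)) _).mpr hI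
    · have : π (γ⁻¹ * (α * β * α⁻¹)) = 1 := by
        rw [map_mul, map_inv, map_mul, map_mul, map_inv, ← hγe]
        group
      have hI := inn_le_autInducedBy hQ.1 ((QuotientGroup.eq_one_iff (N := (Inn Q).subgroupOf (F.autGroup Q)) _).mp this)
      have := Subgroup.mul_mem _ hγ hI
      rw [mul_inv_cancel_left] at this
      exact this
where
  conj_mem_of_maps {X : Type _} [Group X] {K : Subgroup X} {x q : X}
      (hx : x ∈ Subgroup.normalizer (K : Set X)) (hq : q ∈ K) : x * q * x⁻¹ ∈ K :=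
    (Subgroup.mem_normalizer_iff.mp hx q).mp hq

theorem radical_of_stronglyEmbedded [Finite S] [Fact p.Prime] (hS : IsPGroup p S)
    {Q : Subgroup Ω} (hQ : F.IsEssential p Q) : F.IsRadical p Q := by
  obtain ⟨hQc, -, hn, E, -, hE, P, hP⟩ := hQ
  have hQS := hQc.1
  refine ⟨hQS, le_antisymm ?_ ?_⟩
  · rintro _ ⟨β, hβ, rfl⟩
    by_contra hI
    set π := QuotientGroup.mk' ((Inn Q).subgroupOf (F.autGroup Q)) with hπ
    have hsurj : Function.Surjective π := QuotientGroup.mk'_surjective _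
    have := finite_of_le hQS
    have hcore : (pCore p (F.autGroup Q)).Normal ∧ IsPGroup p (pCore p (F.autGroup Q)) :=
      ⟨Subgroup.sSup_normal _ fun N hN => hN.1,
        Sylow.sSup_of_normal {N : Subgroup (F.autGroup Q) | N.Normal ∧ IsPGroup p N}
          (fun N hN => hN.2) fun N hN => hN.1⟩
    have hKn : ((pCore p (F.autGroup Q)).map π).Normal := hcore.1.map π hsurj
    have hKp : IsPGroup p ((pCore p (F.autGroup Q)).map π) := hcore.2.map π
    have hmem : π β ∈ (pCore p (F.autGroup Q)).map π := ⟨β, hβ, rfl⟩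
    have hne : π β ≠ 1 := fun h => hI ((QuotientGroup.eq_one_iff (N := (Inn Q).subgroupOf (F.autGroup Q)) β).mp h)
    obtain ⟨T, hT⟩ := hKp.exists_le_sylow
    obtain ⟨g, rfl⟩ := MulAction.exists_smul_eq (F.autGroup Q ⧸ (Inn Q).subgroupOf (F.autGroup Q)) T P
    have hKP : (pCore p (F.autGroup Q)).map π ≤ ((g • T : Sylow p _) : Subgroup _) := by
      intro k hk
      refine ⟨g⁻¹ * k * g, hT ?_, by simp [mul_assoc]⟩
      have := hKn.conj_mem k hk g⁻¹
      simpa using this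
    refine hE (top_unique ?_)
    refine le_trans ?_ hP
    refine le_trans ?_ (le_iSup _ ⟨(pCore p (F.autGroup Q)).map π, hKP, ?_⟩)
    · exact Subgroup.le_normalizer_of_normal (K := ⊤)
    · intro h
      obtain ⟨k, hk⟩ := hKp ⟨π β, hmem⟩
      -- a nontrivial element of `p`-power order has a power of order `p`
      obtain ⟨j, -, hj⟩ := (Nat.dvd_prime_pow (Fact.out : p.Prime)).mp
        (orderOf_dvd_of_pow_eq_one (show (π β) ^ p ^ k = 1 from congrArg Subtype.val hk))
      have hj0 : j ≠ 0 := fun h0 => hne (orderOf_eq_one_iff.mp (by rw [hj, h0, pow_zero]))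
      obtain ⟨i, rfl⟩ := Nat.exists_eq_succ_of_ne_zero hj0
      have hy : orderOf ((π β) ^ p ^ i) = p := by
        rw [orderOf_pow, hj]
        rw [show (p ^ (i + 1)).gcd (p ^ i) = p ^ i from
          Nat.gcd_eq_right (pow_dvd_pow p (Nat.le_succ i)), pow_succ,
          Nat.mul_div_cancel_left _ (pow_pos (Fact.out : p.Prime).pos i)]
      let y : ↥((pCore p (F.autGroup Q)).map π) := ⟨(π β) ^ p ^ i, Subgroup.pow_mem _ hmem _⟩
      have h1 := h (Subgroup.zpowers y) inferInstance (fun a ha => by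
        obtain ⟨n, rfl⟩ := ha
        have : y ^ p = 1 := by
          apply Subtype.ext
          show ((π β) ^ p ^ i) ^ p = 1
          exact orderOf_dvd_iff_pow_eq_one.mp (dvd_of_eq hy)
        show (y ^ n) ^ p = 1
        rw [← zpow_natCast, zpow_comm, zpow_natCast, this, one_zpow])
      rw [Nat.sub_self, pow_zero, Nat.card_zpowers] at h1
      have : orderOf y = p := (orderOf_injective ((pCore p (F.autGroup Q)).map π).subtype
        Subtype.coe_injective y).symm.trans hy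
      exact absurd h1 (by rw [this]; exact not_le.mpr (Fact.out : p.Prime).one_lt)
  · intro β hβ
    refine ⟨⟨β, inn_le_autGroup hQS hβ⟩, ?_, rfl⟩
    have hle : (Inn Q).subgroupOf (F.autGroup Q) ≤ pCore p (F.autGroup Q) := le_sSup ⟨hn, ?_⟩
    exact hle hβ
    exact ((hS.of_injective _ (Subgroup.inclusion_injective hQS)).of_surjective _
      (MulAut.conj (G := Q)).rangeRestrict_surjective).of_injective
      (Subgroup.subgroupOfEquivOfLe (inn_le_autGroup (F := F) hQS)).toMonoidHom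
      (Subgroup.subgroupOfEquivOfLe (inn_le_autGroup (F := F) hQS)).injective

end Cfsg.Lib.Fusion
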