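import Cfsg.Agent.Fusion.CenterIndexSites
import Cfsg.Agent.Fusion.Essential
import Cfsg.Agent.Fusion.NormalizerSystem
import Cfsg.Agent.Fusion.CenterPower

/-!
Fusion systems on groups with a unique abelian subgroup of index `p` that is not essential.
-/

set_option autoImplicit false

namespace Cfsg.Lib.Fusion

open Cfsg Cfsg.FusionSystem
open scoped commutatorElement

variable {Ω : Type*} [Group Ω] {S : Subgroup Ω} {F : FusionSystem S} {p : ℕ}

/-- A subgroup preserved at all essential subgroups is normal. -/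
theorem isNormal_of_essential [Finite S] [Fact p.Prime] (hS : IsPGroup p S) (hF : F.IsSaturated p)
    {U : Subgroup Ω} (hUS : U ≤ S) (hUn : S ≤ Subgroup.normalizer (U : Set Ω))
    (hS' : ∀ φ ∈ F.autGroup S, ∀ x : S, (x : Ω) ∈ U → ((φ x : S) : Ω) ∈ U)
    (hE : ∀ P, P < S → F.IsEssential p P → U ≤ P ∧ ∀ α ∈ F.autGroup P, ∀ x : P, (x : Ω) ∈ U → ((α x : P) : Ω) ∈ U) :
    F.IsNormal U := by
  have hclass := isMapClass_extendsWith (F := F) hUS (conj_map_eq hUS hUn)
  refine isNormal_of_extendsWith hUS fun P f hf => alperin_induction hS hF hclass (fun g hg => ?_)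
    (fun Q hQS hQn hQc hIH α hα => ?_) hf
  · refine ⟨g, by rwa [sup_eq_left.mpr hUS], fun _ _ => rfl, img_eq_of_apply hg hUS fun x hx => ?_⟩
    obtain ⟨φ, hφ, e⟩ := hg.exists_aut (img_eq_of_apply hg le_rfl fun u hu => hg.mem_S hu)
    rw [← e x (hUS hx), autFun_apply_mem φ (hUS hx)]
    exact hS' φ hφ _ hx
  · by_contra hbad
    have hess := essential_of_bad hS hF hclass hQS hQn hQc hIH hα hbad
    obtain ⟨hUQ, hpres⟩ := hE Q hQS hess
    apply hbad
    have hm := (isMap_autFun hQS.le).mpr hα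
    refine ⟨autFun α, by rwa [sup_eq_left.mpr hUQ], fun _ _ => rfl,
      img_eq_of_apply hm hUQ fun x hx => ?_⟩
    rw [autFun_apply_mem α (hUQ hx)]
    exact hpres α hα _ hx

/-- The standing hypotheses. -/
structure AbIndexP (F : FusionSystem S) (p : ℕ) (A : Subgroup Ω) : Prop where
  isP : IsPGroup p S
  sat : F.IsSaturated p
  le : A ≤ S
  comm : ∀ a ∈ A, ∀ b ∈ A, a * b = b * a
  idx : Nat.card S = p * Nat.card A
  nonab : ∃ a b : S, a * b ≠ b * a
  uniq : ∀ B : Subgroup Ω, B ≤ S → (∀ a ∈ B, ∀ b ∈ B, a * b = b * a) → Nat.card S = p * Nat.card B → B = A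

namespace AbIndexP

variable [Finite S] [Fact p.Prime] {A : Subgroup Ω} {P : Subgroup Ω}

theorem pow_lt {X Y : Subgroup Ω} (hS : IsPGroup p S) (hY : Y ≤ S) (hlt : X < Y) :
    p * Nat.card X ≤ Nat.card Y := SqCenter.eq_of_lt hS hY hlt

theorem normalizes (h : AbIndexP F p A) {g : Ω} (hg : g ∈ S) :
    g ∈ Subgroup.normalizer (A : Set Ω) := by
  haveI := finite_of_le h.le
  by_contra hgA
  have hlt : A < normalizerIn S A := lt_normalizerIn h.isP (lt_of_le_of_ne h.le fun e => by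
    have := h.idx
    rw [e] at this
    have hp := (Fact.out : p.Prime).two_le
    haveI := finite_of_le (le_refl S)
    nlinarith [Nat.card_pos (α := S)])
  have h1 := pow_lt h.isP inf_le_left hlt
  rw [← h.idx] at h1
  exact hgA (Subgroup.eq_of_le_of_card_ge inf_le_left h1 ▸ hg).2

theorem sup_zpowers (h : AbIndexP F p A) {x : Ω} (hx : x ∈ S) (hxA : x ∉ A) {s : Ω} (hs : s ∈ S) :
    ∃ a ∈ A, ∃ i : ℤ, s = a * x ^ i := by
  have hle : A ⊔ Subgroup.zpowers x ≤ S := sup_le h.le (Subgroup.zpowers_le.mpr hx)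
  have hlt : A < A ⊔ Subgroup.zpowers x := lt_of_le_of_ne le_sup_left fun e =>
    hxA (e.symm ▸ Subgroup.mem_sup_right (Subgroup.mem_zpowers x))
  have htop : A ⊔ Subgroup.zpowers x = S := Subgroup.eq_of_le_of_card_ge hle
    (by rw [h.idx]; exact pow_lt h.isP hle hlt)
  obtain ⟨a, ha, w, ⟨i, hi⟩, e⟩ := (Cfsg.Lib.Coprime.mem_sup_of_le_normalizer
    (Subgroup.zpowers_le.mpr (h.normalizes hx))).mp (htop.symm ▸ hs : s ∈ A ⊔ Subgroup.zpowers x)
  exact ⟨a, ha, i, by rw [← e, ← hi]⟩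

theorem zcen_le_A (h : AbIndexP F p A) : zcen S ≤ A := by
  intro z hz
  by_contra hzA
  obtain ⟨a, b, hab⟩ := h.nonab
  obtain ⟨a', ha', i, hi⟩ := h.sup_zpowers (zcen_le hz) hzA a.2
  obtain ⟨b', hb', j, hj⟩ := h.sup_zpowers (zcen_le hz) hzA b.2
  apply hab
  apply Subtype.ext
  have hzc : ∀ c ∈ A, ∀ k : ℤ, Commute c (z ^ k) := fun c hc k =>
    (show Commute c z from (mem_zcen.mp hz).2 c (h.le hc)).zpow_right k
  show (a : Ω) * b = b * a
  rw [hi, hj]
  exact ((show Commute a' b' from h.comm a' ha' b' hb').mul_right (hzc a' ha' j)).mul_left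
    (((hzc b' hb' i).symm).mul_right ((Commute.refl z).zpow_zpow i j))

theorem mem_zcen_iff (h : AbIndexP F p A) {x : Ω} (hx : x ∈ S) (hxA : x ∉ A) {a : Ω} (ha : a ∈ A) :
    a ∈ zcen S ↔ x * a = a * x := by
  refine ⟨fun hz => (mem_zcen.mp hz).2 x hx, fun hc => mem_zcen.mpr ⟨h.le ha, fun s hs => ?_⟩⟩
  obtain ⟨b, hb, i, rfl⟩ := h.sup_zpowers hx hxA hs
  exact (Commute.mul_left (show Commute b a from h.comm b hb a ha)
    ((show Commute x a from hc).zpow_left i)).eq

theorem self_centralizing (h : AbIndexP F p A) {s : Ω} (hs : s ∈ S)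
    (hc : ∀ a ∈ A, s * a = a * s) : s ∈ A := by
  by_contra hsA
  obtain ⟨a, b, hab⟩ := h.nonab
  obtain ⟨a', ha', i, hi⟩ := h.sup_zpowers hs hsA a.2
  obtain ⟨b', hb', j, hj⟩ := h.sup_zpowers hs hsA b.2
  apply hab
  apply Subtype.ext
  have hzc : ∀ c ∈ A, ∀ k : ℤ, Commute c (s ^ k) := fun c hcA k =>
    (show Commute s c from hc c hcA).symm.zpow_right k
  show (a : Ω) * b = b * a
  rw [hi, hj]
  exact ((show Commute a' b' from h.comm a' ha' b' hb').mul_right (hzc a' ha' j)).mul_left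
    (((hzc b' hb' i).symm).mul_right ((Commute.refl s).zpow_zpow i j))

theorem aut_mem (h : AbIndexP F p A) {φ : MulAut S} {x : S} (hx : (x : Ω) ∈ A) :
    ((φ x : S) : Ω) ∈ A := by
  have := h.uniq (((A.subgroupOf S).map φ.toMonoidHom).map S.subtype) (Subgroup.map_subtype_le _) ?_ ?_
  · exact this ▸ ⟨φ x, ⟨x, hx, rfl⟩, rfl⟩
  · rintro _ ⟨_, ⟨a, ha, rfl⟩, rfl⟩ _ ⟨_, ⟨b, hb, rfl⟩, rfl⟩
    rw [← map_mul, ← map_mul, ← map_mul, ← map_mul,
      show a * b = b * a from Subtype.ext (h.comm _ ha _ hb)]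
  · rw [Subgroup.card_map_of_injective S.subtype_injective, Subgroup.card_map_of_injective φ.injective,
      Nat.card_congr (Subgroup.subgroupOfEquivOfLe h.le).toEquiv, h.idx]

/-- An essential subgroup other than `A`. -/
theorem site_facts (h : AbIndexP F p A) (hPS : P < S) (hP : F.IsEssential p P) (hne : P ≠ A) :
    zcen S ≤ P ∧ ∃ x ∈ P, x ∉ A := by
  have hc : centralizerIn S P ≤ P := hP.1.2 P (isConj_refl hPS.le)
  refine ⟨fun z hz => hc (mem_centralizerIn.mpr ⟨zcen_le hz, fun q hq => by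
    rw [← (mem_zcen.mp hz).2 q (hPS.le hq), mul_inv_cancel_right]⟩), ?_⟩
  by_contra hno
  push_neg at hno
  refine hne (le_antisymm hno fun a ha => hc (mem_centralizerIn.mpr ⟨h.le ha, fun q hq => by
    rw [h.comm a ha q (hno q hq), mul_inv_cancel_right]⟩))

theorem center_of_nonab (h : AbIndexP F p A) (hPS : P ≤ S) {x : Ω} (hxA : x ∉ A) (hxP : x ∈ P)
    (hZP : zcen S ≤ P) (hnab : ¬ ∀ a ∈ P, ∀ b ∈ P, a * b = b * a) {z : Ω} (hz : z ∈ P) :
    (∀ q ∈ P, z * q = q * z) ↔ z ∈ zcen S := by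
  refine ⟨fun hc => ?_, fun hzc q hq => ((mem_zcen.mp hzc).2 q (hPS hq)).symm⟩
  have hzA : z ∈ A := by
    by_contra hzA
    apply hnab
    have hin : ∀ b ∈ P, b ∈ A → b ∈ zcen S := fun b hb hbA =>
      (h.mem_zcen_iff (hPS hz) hzA hbA).mpr (hc b hb)
    intro a ha b hb
    obtain ⟨a', ha', i, rfl⟩ := h.sup_zpowers (hPS hz) hzA (hPS ha)
    obtain ⟨b', hb', j, rfl⟩ := h.sup_zpowers (hPS hz) hzA (hPS hb)
    have haP : a' ∈ P := by simpa using P.mul_mem ha (P.zpow_mem hz (-i))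
    have hbP : b' ∈ P := by simpa using P.mul_mem hb (P.zpow_mem hz (-j))
    have hca : ∀ c ∈ P, c ∈ A → ∀ k : ℤ, Commute c (z ^ k) := fun c hcP hcA k =>
      (show Commute z c from hc c hcP).symm.zpow_right k
    exact ((show Commute a' b' from h.comm a' ha' b' hb').mul_right (hca a' haP ha' j)).mul_left
      (((hca b' hbP hb' i).symm).mul_right ((Commute.refl z).zpow_zpow i j))
  exact (h.mem_zcen_iff (hPS hxP) hxA hzA).mpr (hc x hxP).symm

/-- An abelian essential subgroup consists of the centre and powers of an element. -/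
theorem abelian_gen (h : AbIndexP F p A) (hPS : P ≤ S) {x : Ω} (hxA : x ∉ A) (hxP : x ∈ P)
    (hab : ∀ a ∈ P, ∀ b ∈ P, a * b = b * a) {q : Ω} (hq : q ∈ P) :
    ∃ z ∈ zcen S, ∃ i : ℤ, q = z * x ^ i := by
  obtain ⟨a, ha, i, rfl⟩ := h.sup_zpowers (hPS hxP) hxA (hPS hq)
  have haP : a ∈ P := by simpa using P.mul_mem hq (P.zpow_mem hxP (-i))
  exact ⟨a, (h.mem_zcen_iff (hPS hxP) hxA ha).mpr (hab x hxP a haP), i, rfl⟩

theorem exists_abelian_site (h : AbIndexP F p A) (hS1 : S ≠ ⊥) (hcore : F.core = ⊥)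
    (hAe : ¬ F.IsEssential p A) :
    ∃ P, P < S ∧ F.IsEssential p P ∧ P ≠ A ∧ ∀ a ∈ P, ∀ b ∈ P, a * b = b * a := by
  by_contra hno
  push_neg at hno
  have hUn : S ≤ Subgroup.normalizer (zcen S : Set Ω) := SqCenter.normalizes_of_le_zcen le_rfl
  have hn := isNormal_of_essential h.isP h.sat zcen_le hUn (fun φ _ x hx => aut_mem_zcen hx)
    fun P hPS hP => by
      have hne : P ≠ A := fun e => hAe (e ▸ hP)
      obtain ⟨hZP, x, hxP, hxA⟩ := h.site_facts hPS hP hne
      obtain ⟨a, ha, b, hb, hab⟩ := hno P hPS hP hne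
      have hiff := fun {z : Ω} (hz : z ∈ P) => h.center_of_nonab hPS.le hxA hxP hZP
        (fun hall => hab (hall a ha b hb)) hz
      refine ⟨hZP, fun α _ z hz => (hiff (α z).2).mp fun q hq => ?_⟩
      have e : z * α.symm ⟨q, hq⟩ = α.symm ⟨q, hq⟩ * z :=
        Subtype.ext ((hiff z.2).mpr hz _ (α.symm ⟨q, hq⟩).2)
      have := congrArg α e
      rw [map_mul, map_mul, MulEquiv.apply_symm_apply] at this
      exact congrArg Subtype.val this
  have hb : zcen S = ⊥ := le_bot_iff.mp (hcore ▸ le_sSup (show zcen S ∈ {Q | F.IsNormal Q} from hn))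
  haveI : Nontrivial S := (Subgroup.nontrivial_iff_ne_bot S).mpr hS1
  haveI := h.isP.center_nontrivial
  obtain ⟨z, hz⟩ := exists_ne (1 : Subgroup.center S)
  refine hz (Subtype.ext (Subtype.ext (Subgroup.mem_bot.mp (hb ▸ ?_))))
  exact ⟨z, z.2, rfl⟩

theorem pow_mem_A (h : AbIndexP F p A) {x : Ω} (hx : x ∈ S) : x ^ p ∈ A := by
  haveI : (A.subgroupOf S).Normal := (Subgroup.normal_subgroupOf_iff_le_normalizer h.le).mpr
    fun g hg => h.normalizes hg
  have hidx : (A.subgroupOf S).index = p := by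
    have h1 := Subgroup.index_mul_card (A.subgroupOf S)
    rw [Nat.card_congr (Subgroup.subgroupOfEquivOfLe h.le).toEquiv, h.idx] at h1
    haveI := finite_of_le h.le
    exact Nat.eq_of_mul_eq_mul_right Nat.card_pos h1
  have := Subgroup.pow_index_mem (A.subgroupOf S) ⟨x, hx⟩
  rw [hidx] at this
  exact this

/-- The elementary part of the centre coming from commutators. -/
theorem diff_pow (h : AbIndexP F p A) {x : Ω} (hx : x ∈ S) {a : Ω} (ha : a ∈ A)
    (hz : a⁻¹ * (x * a * x⁻¹) ∈ zcen S) : (a⁻¹ * (x * a * x⁻¹)) ^ p = 1 := by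
  set z := a⁻¹ * (x * a * x⁻¹) with hzd
  have hxz : x * z = z * x := (mem_zcen.mp hz).2 x hx
  have hk : ∀ n : ℕ, x ^ n * a * (x ^ n)⁻¹ = a * z ^ n := fun n => by
    induction n with
    | zero => simp
    | succ n ih =>
      calc x ^ (n + 1) * a * (x ^ (n + 1))⁻¹ = x * (x ^ n * a * (x ^ n)⁻¹) * x⁻¹ := by
            rw [pow_succ']; group
        _ = x * (a * z ^ n) * x⁻¹ := by rw [ih]
        _ = (x * a * x⁻¹) * (x * z ^ n * x⁻¹) := by group
        _ = (a * z) * z ^ n := by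
            rw [show x * z ^ n * x⁻¹ = z ^ n by
              rw [((show Commute x z from hxz).pow_right n).eq, mul_inv_cancel_right],
              show x * a * x⁻¹ = a * z by rw [hzd, mul_inv_cancel_left]]
        _ = a * z ^ (n + 1) := by rw [mul_assoc, ← pow_succ']
  have := hk p
  rw [h.comm (x ^ p) (h.pow_mem_A hx) a ha, mul_inv_cancel_right, left_eq_mul] at this
  exact this

/-- The subgroup `[S,S] ∩ Z(S)`, as seen from one element outside `A`. -/
theorem exists_diff (h : AbIndexP F p A) {x : Ω} (hx : x ∈ S) (hxA : x ∉ A) {d : Ω}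
    (hd : d ∈ dcom S) : ∃ a ∈ A, a⁻¹ * (x * a * x⁻¹) = d := by
  classical
  have hAx : ∀ a ∈ A, x * a * x⁻¹ ∈ A := fun a ha => conj_mem_of_mem_normalizer (h.normalizes hx) ha
  let E : Subgroup S :=
    { carrier := {s | ∃ a ∈ A, a⁻¹ * (x * a * x⁻¹) = (s : Ω)}
      one_mem' := ⟨1, A.one_mem, by simp⟩
      mul_mem' := by
        rintro u v ⟨a, ha, hu⟩ ⟨b, hb, hv⟩
        refine ⟨a * b, A.mul_mem ha hb, ?_⟩
        rw [Subgroup.coe_mul, ← hu, ← hv]
        have hc : Commute b⁻¹ (a⁻¹ * (x * a * x⁻¹)) :=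
          h.comm _ (A.inv_mem hb) _ (A.mul_mem (A.inv_mem ha) (hAx a ha))
        calc (a * b)⁻¹ * (x * (a * b) * x⁻¹)
            = b⁻¹ * (a⁻¹ * (x * a * x⁻¹)) * (x * b * x⁻¹) := by group
          _ = (a⁻¹ * (x * a * x⁻¹)) * b⁻¹ * (x * b * x⁻¹) := by rw [hc.eq]
          _ = _ := by group
      inv_mem' := by
        rintro u ⟨a, ha, hu⟩
        refine ⟨a⁻¹, A.inv_mem ha, ?_⟩
        rw [Subgroup.coe_inv, ← hu]
        have hc : Commute a (x * a⁻¹ * x⁻¹) := h.comm _ ha _ (hAx _ (A.inv_mem ha))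
        rw [inv_inv, hc.eq]
        group }
  have hEA : ∀ e ∈ E, (e : Ω) ∈ A := by
    rintro e ⟨a, ha, he⟩; rw [← he]; exact A.mul_mem (A.inv_mem ha) (hAx a ha)
  haveI : E.Normal := ⟨fun e he g => by
    obtain ⟨b, hb, i, hi⟩ := h.sup_zpowers hx hxA g.2
    obtain ⟨a, ha, hea⟩ := he
    have hxi : ∀ c ∈ A, x ^ i * c * (x ^ i)⁻¹ ∈ A := fun c hc =>
      conj_mem_of_mem_normalizer (h.normalizes (S.zpow_mem hx i)) hc
    refine ⟨x ^ i * a * (x ^ i)⁻¹, hxi a ha, ?_⟩
    simp only [Subgroup.coe_mul, Subgroup.coe_inv, hi, ← hea]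
    have hc : Commute b (x ^ i * (a⁻¹ * (x * a * x⁻¹)) * (x ^ i)⁻¹) :=
      h.comm _ hb _ (hxi _ (A.mul_mem (A.inv_mem ha) (hAx a ha)))
    calc (x ^ i * a * (x ^ i)⁻¹)⁻¹ * (x * (x ^ i * a * (x ^ i)⁻¹) * x⁻¹)
        = x ^ i * (a⁻¹ * (x * a * x⁻¹)) * (x ^ i)⁻¹ := by group
      _ = b * (x ^ i * (a⁻¹ * (x * a * x⁻¹)) * (x ^ i)⁻¹) * b⁻¹ := by
          rw [hc.eq, mul_inv_cancel_right]
      _ = _ := by group⟩
  let q := QuotientGroup.mk' E
  have hcomm : ∀ a ∈ A, ∀ ha : a ∈ S, q ⟨x, hx⟩ * q ⟨a, ha⟩ = q ⟨a, ha⟩ * q ⟨x, hx⟩ := fun a ha haS => by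
    rw [← map_mul, ← map_mul]
    refine (QuotientGroup.eq.mpr ?_).symm
    refine ⟨x⁻¹ * a * x, by simpa using conj_mem_of_mem_normalizer (h.normalizes (S.inv_mem hx)) ha, ?_⟩
    simp only [Subgroup.coe_mul, Subgroup.coe_inv]
    group
  obtain ⟨y, hy, rfl⟩ := hd
  have hle : commutator S ≤ E := by
    rw [commutator_def, Subgroup.commutator_le]
    intro u _ v _
    rw [← QuotientGroup.eq_one_iff]
    show q ⁅u, v⁆ = 1
    rw [map_commutatorElement, commutatorElement_eq_one_iff_mul_comm]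
    obtain ⟨a, ha, i, hi⟩ := h.sup_zpowers hx hxA u.2
    obtain ⟨b, hb, j, hj⟩ := h.sup_zpowers hx hxA v.2
    rw [show u = ⟨a, h.le ha⟩ * ⟨x, hx⟩ ^ i from Subtype.ext (by simpa using hi),
      show v = ⟨b, h.le hb⟩ * ⟨x, hx⟩ ^ j from Subtype.ext (by simpa using hj),
      map_mul, map_mul, map_zpow, map_zpow]
    have h1 : Commute (q ⟨a, h.le ha⟩) (q ⟨b, h.le hb⟩) :=
      (show Commute (⟨a, h.le ha⟩ : S) ⟨b, h.le hb⟩ from Subtype.ext (h.comm a ha b hb)).map q
    exact (h1.mul_right ((show Commute (q ⟨x, hx⟩) (q ⟨a, h.le ha⟩) from hcomm a ha _).symm.zpow_right j)).mul_left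
      (((show Commute (q ⟨x, hx⟩) (q ⟨b, h.le hb⟩) from hcomm b hb _).zpow_left i).mul_right
        ((Commute.refl (q ⟨x, hx⟩)).zpow_zpow i j))
  exact hle hy

theorem coe_gen_pow (h : AbIndexP F p A) {x : Ω} (hx : x ∈ S) (hxA : x ∉ A) :
    x ^ p ∈ zcen S :=
  (h.mem_zcen_iff hx hxA (h.pow_mem_A hx)).mpr (((Commute.refl x).pow_right p).eq)

/-- `[S,S] ∩ Z(S)` has order `p`. -/
theorem card_diff (h : AbIndexP F p A) (hPS : P < S) (hP : F.IsEssential p P) {x : Ω} (hxA : x ∉ A)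
    (hxP : x ∈ P) (hab : ∀ a ∈ P, ∀ b ∈ P, a * b = b * a) (hZP : zcen S ≤ P) :
    Nat.card ↥(dcom S ⊓ zcen S) = p := by
  classical
  have hp : p.Prime := Fact.out
  haveI := finite_of_le hPS.le
  haveI : Finite (MulAut P) := Finite.of_injective (fun f : MulAut P => (f : P → P)) DFunLike.coe_injective
  letI : CommGroup P := { (inferInstance : Group P) with
    mul_comm := fun a b => Subtype.ext (hab a a.2 b b.2) }
  have hx : x ∈ S := hPS.le hxP
  have hgen := fun {q : Ω} (hq : q ∈ P) => h.abelian_gen hPS.le hxA hxP hab hq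
  have hDd : ∀ z ∈ dcom S ⊓ zcen S, ∃ a ∈ A, a⁻¹ * (x * a * x⁻¹) = z := fun z hz =>
    h.exists_diff hx hxA hz.1
  have hDp : ∀ z ∈ dcom S ⊓ zcen S, z ^ p = 1 := fun z hz => by
    obtain ⟨a, ha, rfl⟩ := hDd z hz; exact h.diff_pow hx ha hz.2
  have hfix : ∀ α ∈ autInducedBy S P, ∀ q : P, (q : Ω) ∈ zcen S → α q = q := fun α hα q hq => by
    obtain ⟨g, hg, eg⟩ := mem_autInducedBy.mp hα
    exact Subtype.ext (by rw [eg, (mem_zcen.mp hq).2 g hg, mul_inv_cancel_right])
  have hdiff : ∀ α ∈ autInducedBy S P, ∀ q : P,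
      (q : Ω)⁻¹ * (α q : P) ∈ dcom S ⊓ zcen S := fun α hα q => by
    obtain ⟨g, hg, eg⟩ := mem_autInducedBy.mp hα
    refine ⟨by rw [eg]; exact mem_dcom (hPS.le q.2) hg, ?_⟩
    obtain ⟨z, hz, i, hi⟩ := hgen q.2
    obtain ⟨z', hz', j, hj⟩ := hgen (α q).2
    have hd : (q : Ω)⁻¹ * (α q : P) ∈ A := by
      obtain ⟨a, ha, e⟩ := h.exists_diff hx hxA (show (q : Ω)⁻¹ * (α q : P) ∈ dcom S by
        rw [eg]; exact mem_dcom (hPS.le q.2) hg)
      rw [← e]
      exact A.mul_mem (A.inv_mem ha) (conj_mem_of_mem_normalizer (h.normalizes hx) ha)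
    exact (h.mem_zcen_iff hx hxA hd).mpr (hab x hxP _ (P.mul_mem (P.inv_mem q.2) (α q).2))
  -- an automorphism moving the centre
  have hns : ∃ g ∈ F.autGroup P, ∃ q : P, (q : Ω) ∈ zcen S ∧ ((g q : P) : Ω) ∉ zcen S := by
    by_contra hno
    push_neg at hno
    let H : Subgroup (F.autGroup P) :=
      { carrier := {α | (∀ q : P, (q : Ω) ∈ zcen S → (α : MulAut P) q = q) ∧
          ∀ q : P, ((q⁻¹ * (α : MulAut P) q : P) : Ω) ∈ zcen S}
        one_mem' := ⟨fun q _ => rfl, fun q => by simp⟩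
        mul_mem' := by
          rintro α β ⟨a1, a2⟩ ⟨b1, b2⟩
          refine ⟨fun q hq => by rw [Subgroup.coe_mul, MulAut.mul_apply, b1 q hq, a1 q hq], fun q => ?_⟩
          have := Subgroup.mul_mem _ (b2 q) (a2 ((β : MulAut P) q))
          rw [← Subgroup.coe_mul, mul_assoc, mul_inv_cancel_left] at this
          exact this
        inv_mem' := by
          rintro α ⟨a1, a2⟩
          have hinv : ∀ q : P, (α : MulAut P) ((α : MulAut P)⁻¹ q) = q := fun q =>
            (α : MulAut P).apply_symm_apply q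
          refine ⟨fun q hq => ?_, fun q => ?_⟩
          · rw [Subgroup.coe_inv]
            conv_lhs => rw [← a1 q hq]
            exact (α : MulAut P).symm_apply_apply q
          · have := Subgroup.inv_mem _ (a2 ((α : MulAut P)⁻¹ q))
            rw [← Subgroup.coe_inv, hinv, mul_inv_rev, inv_inv] at this
            rw [Subgroup.coe_inv]
            exact this }
    haveI : H.Normal := ⟨fun α hα g => by
      obtain ⟨a1, a2⟩ := hα
      have hg' := hno _ (Subgroup.inv_mem _ g.2)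
      have hgg : ∀ q : P, (g : MulAut P) ((g : MulAut P)⁻¹ q) = q := fun q =>
        (g : MulAut P).apply_symm_apply q
      refine ⟨fun q hq => ?_, fun q => ?_⟩
      · simp only [Subgroup.coe_mul, Subgroup.coe_inv, MulAut.mul_apply]
        rw [a1 _ (hg' q hq), hgg]
      · simp only [Subgroup.coe_mul, Subgroup.coe_inv, MulAut.mul_apply]
        have := hno _ g.2 _ (a2 ((g : MulAut P)⁻¹ q))
        rw [map_mul, map_inv, hgg] at this
        simpa using this⟩
    have hHp : IsPGroup p H := by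
      rintro ⟨⟨α, hαF⟩, a1, a2⟩
      obtain ⟨k, hk⟩ := IsPGroup.iff_card.mp (h.isP.of_injective _ (Subgroup.inclusion_injective hPS.le))
      refine ⟨k, Subtype.ext (Subtype.ext (MulEquiv.ext fun q => ?_))⟩
      have hn : ∀ n : ℕ, (α ^ n) q = q * (q⁻¹ * α q) ^ n := fun n => by
        induction n with
        | zero => simp
        | succ n ih =>
          rw [pow_succ', MulAut.mul_apply, ih, map_mul, map_pow, a1 _ (a2 q), pow_succ' (q⁻¹ * α q),
            ← mul_assoc q, mul_inv_cancel_left]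
      show (α ^ p ^ k) q = q
      rw [hn, ← hk, pow_card_eq_one', mul_one]
    have hle := Cfsg.Lib.Components.le_pCore (p := p) (G := F.autGroup P) (N := H) hHp
    have hrad := radical_of_stronglyEmbedded h.isP hP
    obtain ⟨β, hβ, hβI⟩ := exists_noninner h.isP hPS (hP.1.2 P (isConj_refl hPS.le))
    apply hβI
    rw [← hrad.2]
    refine ⟨⟨β, autInducedBy_le hPS.le hβ⟩, hle ⟨fun q hq => hfix β hβ q hq, fun q => ?_⟩, rfl⟩
    rw [Subgroup.coe_mul, Subgroup.coe_inv]
    exact (hdiff β hβ q).2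
  obtain ⟨g₀, hg₀, q₀, hq₀, hq₀g⟩ := hns
  -- the derived part meets the moved centre trivially
  have key : ∀ g ∈ F.autGroup P, ∀ d : P, (d : Ω) ∈ dcom S ⊓ zcen S → d ≠ 1 →
      ((g d : P) : Ω) ∈ zcen S → ∀ q : P, (q : Ω) ∈ zcen S → ((g⁻¹ q : P) : Ω) ∈ zcen S := by
    intro g hg d hd hd1 hgd
    set e := g d with hed
    obtain ⟨a, ha, had⟩ := hDd d hd
    have hx' : ∀ z : Ω, z ∈ zcen S → a * z * a⁻¹ = z := fun z hz => by
      rw [(mem_zcen.mp hz).2 a (h.le ha), mul_inv_cancel_right]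
    have hxa : a * x * a⁻¹ = x * (d : Ω)⁻¹ := by
      have hdc : Commute x (d : Ω)⁻¹ := (show Commute x (d : Ω) from (mem_zcen.mp hd.2).2 x hx).inv_right
      have had' : x * a * x⁻¹ * a⁻¹ = (d : Ω) := by
        rw [← had, h.comm a⁻¹ (A.inv_mem ha) _ (conj_mem_of_mem_normalizer (h.normalizes hx) ha)]
      rw [hdc.eq, ← had']; group
    have han : a ∈ Subgroup.normalizer (P : Set Ω) := by
      refine mem_normalizer_of_maps_finite fun q hq => ?_
      obtain ⟨z, hz, i, rfl⟩ := hgen hq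
      rw [show a * (z * x ^ i) * a⁻¹ = (a * z * a⁻¹) * (a * x * a⁻¹) ^ i by rw [conj_zpow]; group,
        hxa, hx' z hz]
      exact P.mul_mem (hZP hz) (P.zpow_mem (P.mul_mem hxP (P.inv_mem d.2)) i)
    set t := conjAut P a han
    have ht : t ∈ autInducedBy S P := conjAut_mem_autInducedBy han (h.le ha)
    have htx : ∀ q : P, t q = q → (q : Ω) ∈ zcen S := fun q hq => by
      obtain ⟨z, hz, i, hi⟩ := hgen q.2
      have e1 : (a * x * a⁻¹) ^ i = x ^ i := by
        have := congrArg Subtype.val hq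
        rw [conjAut_apply, hi, show a * (z * x ^ i) * a⁻¹ = (a * z * a⁻¹) * (a * x * a⁻¹) ^ i by
          rw [conj_zpow]; group, hx' z hz] at this
        exact mul_left_cancel this
      rw [hxa] at e1
      have hdi : ((d : Ω)⁻¹) ^ i = 1 := by
        rw [(show Commute x (d : Ω)⁻¹ from (mem_zcen.mp (Subgroup.inv_mem _ hd.2)).2 x hx).mul_zpow] at e1
        exact mul_eq_left.mp e1
      rw [hi]
      refine Subgroup.mul_mem _ hz ?_
      have ho : orderOf (d : Ω) = p := orderOf_eq_prime (hDp _ hd) fun e => hd1 (Subtype.ext e)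
      rw [inv_zpow, inv_eq_one, ← orderOf_dvd_iff_zpow_eq_one, ho] at hdi
      obtain ⟨j, rfl⟩ := hdi
      rw [zpow_mul, zpow_natCast]
      exact Subgroup.zpow_mem _ (h.coe_gen_pow hx hxA) j
    have hep : e ^ p = 1 := by
      rw [hed, ← map_pow, show d ^ p = 1 from Subtype.ext (by rw [Subgroup.coe_pow, hDp _ hd, Subgroup.coe_one]),
        map_one]
    let D0 : Subgroup P := (dcom S ⊓ zcen S).subgroupOf P
    let V := D0 ⊔ Subgroup.zpowers e
    have hD0p : ∀ v ∈ D0, v ^ p = 1 := fun v hv => Subtype.ext (by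
      rw [Subgroup.coe_pow, hDp _ (Subgroup.mem_subgroupOf.mp hv), Subgroup.coe_one])
    have hEp : ∀ v ∈ Subgroup.zpowers e, v ^ p = 1 := by
      rintro _ ⟨i, rfl⟩
      show (e ^ i) ^ p = 1
      rw [← zpow_natCast (e ^ i), ← zpow_mul, mul_comm, zpow_mul, zpow_natCast, hep, one_zpow]
    have hVp : ∀ v ∈ V, v ^ p = 1 := fun v hv => by
      obtain ⟨u, hu, w, hw, rfl⟩ := Subgroup.mem_sup.mp hv
      rw [mul_pow, hD0p u hu, hEp w hw, mul_one]
    have hVZ : ∀ v ∈ V, (v : Ω) ∈ zcen S := fun v hv => by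
      have : V ≤ (zcen S).subgroupOf P := sup_le (fun u hu => hu.2) (Subgroup.zpowers_le.mpr hgd)
      exact this hv
    let H : Subgroup (MulAut P) :=
      { carrier := {α | (∀ q : P, q⁻¹ * α q ∈ V) ∧ (∀ v ∈ V, v⁻¹ * α v ∈ Subgroup.zpowers e) ∧
          ∀ v ∈ Subgroup.zpowers e, α v = v}
        one_mem' := ⟨fun q => by simp, fun v _ => by simp, fun v _ => rfl⟩
        mul_mem' := by
          rintro α β ⟨a1, a2, a3⟩ ⟨b1, b2, b3⟩
          refine ⟨fun q => ?_, fun v hv => ?_, fun v hv => by rw [MulAut.mul_apply, b3 v hv, a3 v hv]⟩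
          · have := V.mul_mem (b1 q) (a1 (β q))
            rw [mul_assoc, mul_inv_cancel_left] at this
            exact this
          · have hb : β v ∈ V := by
              simpa using V.mul_mem hv (Subgroup.mem_sup_right (b2 v hv))
            have := Subgroup.mul_mem _ (b2 v hv) (a2 (β v) hb)
            rw [mul_assoc, mul_inv_cancel_left] at this
            exact this
        inv_mem' := by
          rintro α ⟨a1, a2, a3⟩
          have hinv : ∀ q : P, α (α⁻¹ q) = q := fun q => α.apply_symm_apply q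
          refine ⟨fun q => ?_, fun v hv => ?_, fun v hv => ?_⟩
          · have := V.inv_mem (a1 (α⁻¹ q))
            rw [hinv, mul_inv_rev, inv_inv] at this
            exact this
          · have hb : α⁻¹ v ∈ V := by
              have := V.mul_mem (V.inv_mem (a1 (α⁻¹ v))) hv
              rw [hinv] at this
              simpa [mul_assoc, mul_comm, mul_left_comm] using this
            have := Subgroup.inv_mem _ (a2 _ hb)
            rw [hinv, mul_inv_rev, inv_inv] at this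
            exact this
          · conv_lhs => rw [← a3 v hv]
            exact α.symm_apply_apply v }
    have hHp : IsPGroup p H := by
      rintro ⟨α, a1, a2, a3⟩
      refine ⟨2, Subtype.ext (MulEquiv.ext fun q => ?_)⟩
      have hstep : ∀ v ∈ V, ∀ n : ℕ, (α ^ n) v = v * (v⁻¹ * α v) ^ n := fun v hv n => by
        induction n with
        | zero => simp
        | succ n ih =>
          rw [pow_succ', MulAut.mul_apply, ih, map_mul, map_pow, a3 _ (a2 v hv), pow_succ' (v⁻¹ * α v),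
            ← mul_assoc v, mul_inv_cancel_left]
      have hfixV : ∀ v ∈ V, (α ^ p) v = v := fun v hv => by
        rw [hstep v hv, hEp _ (a2 v hv), mul_one]
      have hdiff' : ∀ n : ℕ, q⁻¹ * (α ^ n) q ∈ V := fun n => by
        induction n with
        | zero => simp
        | succ n ih =>
          have := V.mul_mem ih (a1 ((α ^ n) q))
          rw [mul_assoc, mul_inv_cancel_left] at this
          rw [pow_succ', MulAut.mul_apply]
          exact this
      set u := q⁻¹ * (α ^ p) q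
      have hiter : ∀ n : ℕ, ((α ^ p) ^ n) q = q * u ^ n := fun n => by
        induction n with
        | zero => simp
        | succ n ih =>
          rw [pow_succ', MulAut.mul_apply, ih, map_mul, map_pow, hfixV u (hdiff' p), pow_succ' u,
            ← mul_assoc q, mul_inv_cancel_left]
      rw [Subgroup.coe_pow, Subgroup.coe_one, MulAut.one_apply, pow_two, pow_mul, hiter,
        hVp u (hdiff' p), mul_one]
    have hgg : ∀ q : P, g (g⁻¹ q) = q := fun q => g.apply_symm_apply q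
    have hbH : g * t * g⁻¹ ∈ H := by
      have hk : ∀ q : P, q⁻¹ * (g * t * g⁻¹) q ∈ Subgroup.zpowers e := fun q => by
        obtain ⟨z, hz, i, hi⟩ := hgen (g⁻¹ q).2
        have h1 : (g⁻¹ q)⁻¹ * t (g⁻¹ q) = d ^ (-i) := by
          refine Subtype.ext ?_
          rw [Subgroup.coe_mul, Subgroup.coe_inv, conjAut_apply, hi, Subgroup.coe_zpow,
            show a * (z * x ^ i) * a⁻¹ = (a * z * a⁻¹) * (a * x * a⁻¹) ^ i by rw [conj_zpow]; group,
            hx' z hz, hxa,
            (show Commute x (d : Ω)⁻¹ from (mem_zcen.mp (Subgroup.inv_mem _ hd.2)).2 x hx).mul_zpow,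
            zpow_neg, inv_zpow]
          group
        have h2 := congrArg g h1
        rw [map_mul, map_inv, hgg, map_zpow] at h2
        rw [show (g * t * g⁻¹) q = g (t (g⁻¹ q)) from rfl, h2]
        exact Subgroup.zpow_mem _ (Subgroup.mem_zpowers e) _
      refine ⟨fun q => Subgroup.mem_sup_right (hk q), fun v _ => hk v, ?_⟩
      rintro _ ⟨i, rfl⟩
      show (g * t * g⁻¹) (e ^ i) = e ^ i
      rw [map_zpow]
      congr 1
      rw [MulAut.mul_apply, MulAut.mul_apply, hed, show g⁻¹ (g d) = d from g.symm_apply_apply d,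
        hfix t ht d hd.2]
    have hAH : autInducedBy S P ≤ H := fun α hα =>
      ⟨fun q => Subgroup.mem_sup_left (by
          show ((q⁻¹ * α q : P) : Ω) ∈ dcom S ⊓ zcen S
          rw [Subgroup.coe_mul, Subgroup.coe_inv]; exact hdiff α hα q),
        fun v hv => by rw [hfix α hα v (hVZ v hv), inv_mul_cancel]; exact Subgroup.one_mem _,
        fun v hv => hfix α hα v (hVZ v (Subgroup.mem_sup_right hv))⟩
    obtain ⟨-, R, hR⟩ := (fullyNormalized_props h.isP h.sat hP.2.1).2.1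
    have hmax : H.subgroupOf (F.autGroup P) = (R : Subgroup (F.autGroup P)) :=
      R.3 (hHp.comap_of_injective _ (F.autGroup P).subtype_injective)
        (by rw [hR]; exact fun u hu => hAH hu)
    have hb : g * t * g⁻¹ ∈ F.autGroup P :=
      Subgroup.mul_mem _ (Subgroup.mul_mem _ hg (autInducedBy_le hPS.le ht)) (Subgroup.inv_mem _ hg)
    have hbS : g * t * g⁻¹ ∈ autInducedBy S P := by
      have : (⟨_, hb⟩ : F.autGroup P) ∈ H.subgroupOf (F.autGroup P) := hbH
      rw [hmax, hR] at this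
      exact this
    intro q hq
    refine htx _ ?_
    have := congrArg g.symm (hfix _ hbS q hq)
    simpa [MulAut.mul_apply] using this
  haveI : Finite ↥(dcom S ⊓ zcen S) := finite_of_le (inf_le_right.trans zcen_le)
  refine le_antisymm ?_ ?_
  · -- `g₀⁻¹` embeds it into `P / Z(S)`
    have hgi := Subgroup.inv_mem _ hg₀
    have hno : ∀ z ∈ dcom S ⊓ zcen S, ∀ hz : z ∈ P, z ≠ 1 → ((g₀⁻¹ ⟨z, hz⟩ : P) : Ω) ∉ zcen S :=
      fun z hz hzP hz1 hbad => hq₀g (by
        have := key _ hgi ⟨z, hzP⟩ hz (fun e => hz1 (congrArg Subtype.val e)) hbad q₀ hq₀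
        rwa [inv_inv] at this)
    haveI : NeZero p := ⟨hp.ne_zero⟩
    have hco : ∀ z : ↥(dcom S ⊓ zcen S), ∃ i : Fin p,
        ((g₀⁻¹ ⟨z, hZP z.2.2⟩ : P) : Ω) * (x ^ (i : ℕ))⁻¹ ∈ zcen S := fun z => by
      obtain ⟨w, hw, j, hj⟩ := hgen (g₀⁻¹ ⟨z, hZP z.2.2⟩).2
      have hm : 0 ≤ j % p ∧ j % p < p := ⟨Int.emod_nonneg _ (by exact_mod_cast hp.ne_zero),
        Int.emod_lt_of_pos _ (by exact_mod_cast hp.pos)⟩
      refine ⟨⟨(j % p).toNat, by omega⟩, ?_⟩
      have he : x ^ j = x ^ (j % p) * (x ^ p) ^ (j / (p : ℤ)) := by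
        rw [← zpow_natCast x p, ← zpow_mul, ← zpow_add, Int.emod_add_mul_ediv j p]
      rw [hj, he]
      show w * (x ^ (j % (p : ℤ)) * (x ^ p) ^ (j / (p : ℤ))) * (x ^ (j % (p : ℤ)).toNat)⁻¹ ∈ zcen S
      rw [← zpow_natCast x (j % (p : ℤ)).toNat, Int.toNat_of_nonneg hm.1,
        ← ((Commute.refl x).pow_left p).zpow_zpow (j / (p : ℤ)) (j % (p : ℤ)) |>.eq, ← mul_assoc,
        mul_inv_cancel_right]
      exact Subgroup.mul_mem _ hw (Subgroup.zpow_mem _ (h.coe_gen_pow hx hxA) _)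
    choose f hf using hco
    have hinj : Function.Injective f := by
      intro u v huv
      by_contra huv'
      have hmem := Subgroup.mul_mem _ (hf u) (Subgroup.inv_mem _ (hf v))
      rw [huv, mul_inv_rev, inv_inv, mul_assoc, inv_mul_cancel_left] at hmem
      refine hno ((u : Ω) * (v : Ω)⁻¹) (Subgroup.mul_mem _ u.2 (Subgroup.inv_mem _ v.2))
        (P.mul_mem (hZP u.2.2) (P.inv_mem (hZP v.2.2)))
        (fun e => huv' (Subtype.ext (mul_inv_eq_one.mp e))) ?_
      rw [show (⟨(u : Ω) * (v : Ω)⁻¹, P.mul_mem (hZP u.2.2) (P.inv_mem (hZP v.2.2))⟩ : P) =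
        ⟨u, hZP u.2.2⟩ * ⟨v, hZP v.2.2⟩⁻¹ from rfl, map_mul, map_inv]
      exact hmem
    calc Nat.card ↥(dcom S ⊓ zcen S) ≤ Nat.card (Fin p) := Nat.card_le_card_of_injective f hinj
      _ = p := Nat.card_fin p
  · obtain ⟨β, hβ, hβI⟩ := exists_noninner h.isP hPS (hP.1.2 P (isConj_refl hPS.le))
    have hb : ∃ q : P, β q ≠ q := by
      by_contra hall
      push_neg at hall
      exact hβI (show β ∈ Inn P from (MulEquiv.ext hall : β = 1) ▸ Subgroup.one_mem _)
    obtain ⟨q, hq⟩ := hb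
    have hdq := hdiff β hβ q
    have hne : (q : Ω)⁻¹ * (β q : P) ≠ 1 := fun e =>
      hq (Subtype.ext (inv_mul_eq_one.mp e).symm)
    have ho : orderOf ((q : Ω)⁻¹ * (β q : P)) = p := orderOf_eq_prime (hDp _ hdq) hne
    exact (le_of_eq ((Nat.card_zpowers _).trans ho).symm).trans
      (Subgroup.card_le_of_le (Subgroup.zpowers_le.mpr hdq))

/-- The local subsystem at an abelian essential subgroup has centre of index `p ^ 2`. -/
theorem exists_local (h : AbIndexP F p A) (hPS : P < S) (hP : F.IsEssential p P) {x : Ω}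
    (hxA : x ∉ A) (hxP : x ∈ P) (hab : ∀ a ∈ P, ∀ b ∈ P, a * b = b * a) (hZP : zcen S ≤ P) :
    ∃ (_ : SqCenter (normalizerSystem F hP.2.1.1) p), IsSite (normalizerSystem F hP.2.1.1) p P ∧
      zcen (normalizerIn S P) = zcen S ∧ dcom (normalizerIn S P) = dcom S ⊓ zcen S ∧
        (normalizerSystem F hP.2.1.1).autGroup P = F.autGroup P := by
  classical
  have hp : p.Prime := Fact.out
  set T := normalizerIn S P with hTdef
  haveI : Finite T := finite_of_le inf_le_left
  haveI := finite_of_le hPS.le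
  set N := normalizerSystem F hP.2.1.1
  have hx : x ∈ S := hPS.le hxP
  have hPT : P ≤ T := le_normalizerIn hPS.le
  have hTp : IsPGroup p T := h.isP.of_injective _ (Subgroup.inclusion_injective inf_le_left)
  have hsat : N.IsSaturated p := saturated_normalizerSystem h.isP h.sat hP.2.1
  have hgen := fun {q : Ω} (hq : q ∈ P) => h.abelian_gen hPS.le hxA hxP hab hq
  have hD := h.card_diff hPS hP hxA hxP hab hZP
  -- elements of `T` inside `A` move `x` by the derived part
  have hTA : ∀ a ∈ T, a ∈ A → a⁻¹ * (x * a * x⁻¹) ∈ dcom S ⊓ zcen S := fun a haT ha => by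
    have hdA : a⁻¹ * (x * a * x⁻¹) ∈ A :=
      A.mul_mem (A.inv_mem ha) (conj_mem_of_mem_normalizer (h.normalizes hx) ha)
    refine ⟨mem_dcom (h.le ha) hx, (h.mem_zcen_iff hx hxA hdA).mpr ?_⟩
    have hP' : a⁻¹ * (x * a * x⁻¹) ∈ P := by
      have := P.mul_mem (conj_mem_of_mem_normalizer ((Subgroup.normalizer _).inv_mem haT.2) hxP) (P.inv_mem hxP)
      simpa [mul_assoc] using this
    exact hab x hxP _ hP'
  have hzT : zcen T = zcen S := by
    ext z
    rw [mem_zcen]
    refine ⟨fun ⟨hzT, hc⟩ => ?_, fun hz =>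
      ⟨hPT (hZP hz), fun s hs => (mem_zcen.mp hz).2 s hs.1⟩⟩
    have hzP : z ∈ P := hP.1.2 P (isConj_refl hPS.le) (mem_centralizerIn.mpr ⟨hzT.1, fun q hq => by
      rw [← hc q (hPT hq), mul_inv_cancel_right]⟩)
    obtain ⟨a, ha, i, rfl⟩ := hgen hzP
    refine Subgroup.mul_mem _ ha ?_
    obtain ⟨β, hβ, hβI⟩ := exists_noninner h.isP hPS (hP.1.2 P (isConj_refl hPS.le))
    obtain ⟨g, hg, eg⟩ := mem_autInducedBy.mp hβ
    have hgT : g ∈ T := ⟨hg, mem_normalizer_of_mem_autInducedBy eg⟩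
    have hgA : g * a * g⁻¹ = a := by rw [(mem_zcen.mp ha).2 g hg, mul_inv_cancel_right]
    have hgx : g * x ^ i * g⁻¹ = x ^ i := by
      have h1 := hc g hgT
      have h2 : g * (a * x ^ i) * g⁻¹ = a * x ^ i := by rw [h1, mul_inv_cancel_right]
      rw [show g * (a * x ^ i) * g⁻¹ = (g * a * g⁻¹) * (g * x ^ i * g⁻¹) by group, hgA] at h2
      exact mul_left_cancel h2
    rcases Classical.em ((p : ℤ) ∣ i) with ⟨j, rfl⟩ | hndvd
    · rw [zpow_mul, zpow_natCast]
      exact Subgroup.zpow_mem _ (h.coe_gen_pow hx hxA) j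
    · exfalso
      apply hβI
      have hcop : IsCoprime (p : ℤ) i :=
        (Prime.coprime_iff_not_dvd (Nat.prime_iff_prime_int.mp hp)).mpr hndvd
      obtain ⟨u, v, huv⟩ := hcop
      have hxz := h.coe_gen_pow hx hxA
      have hgx' : g * x * g⁻¹ = x := by
        have e : x = (x ^ p) ^ u * (x ^ i) ^ v := by
          rw [← zpow_natCast x p, ← zpow_mul, ← zpow_mul, ← zpow_add, mul_comm (p : ℤ) u,
            mul_comm i v, huv, zpow_one]
        have h5 : g * (x ^ p) ^ u * g⁻¹ = (x ^ p) ^ u := by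
          rw [(mem_zcen.mp (Subgroup.zpow_mem _ hxz u)).2 g hg, mul_inv_cancel_right]
        have h6 : g * (x ^ i) ^ v * g⁻¹ = (x ^ i) ^ v := by rw [← conj_zpow, hgx]
        conv_lhs => rw [e]
        calc g * ((x ^ p) ^ u * (x ^ i) ^ v) * g⁻¹
            = (g * (x ^ p) ^ u * g⁻¹) * (g * (x ^ i) ^ v * g⁻¹) := by group
          _ = x := by rw [h5, h6, ← e]
      have hb1 : β = 1 := by
        refine MulEquiv.ext fun q => Subtype.ext ?_
        obtain ⟨w, hw, k, hk⟩ := hgen q.2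
        rw [eg, MulAut.one_apply, hk, show g * (w * x ^ k) * g⁻¹ = (g * w * g⁻¹) * (g * x * g⁻¹) ^ k by
          rw [conj_zpow]; group, hgx', (mem_zcen.mp hw).2 g hg, mul_inv_cancel_right]
      rw [hb1]; exact Subgroup.one_mem _
  have hidx : (Subgroup.center T).index ≤ p ^ 2 := by
    haveI : NeZero p := ⟨hp.ne_zero⟩
    haveI : Finite ↥(dcom S ⊓ zcen S) := finite_of_le (inf_le_right.trans zcen_le)
    have hsplit : ∀ t ∈ T, ∃ a ∈ T, a ∈ A ∧ ∃ i : ℤ, t = a * x ^ i := fun t ht => by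
      obtain ⟨a, ha, i, rfl⟩ := h.sup_zpowers hx hxA ht.1
      refine ⟨a, ?_, ha, i, rfl⟩
      simpa using T.mul_mem ht (T.zpow_mem (hPT hxP) (-i))
    choose! fa hfaT hfaA fi hfi using hsplit
    let δ : ↥T → ↥(dcom S ⊓ zcen S) := fun t => ⟨_, hTA (fa t) (hfaT t t.2) (hfaA t t.2)⟩
    let r : ↥T → Fin p := fun t => ⟨((fi t) % (p : ℤ)).toNat, by
      have h1 := Int.emod_nonneg (fi t) (show (p : ℤ) ≠ 0 by exact_mod_cast hp.ne_zero)
      have h2 := Int.emod_lt_of_pos (fi t) (show (0 : ℤ) < p by exact_mod_cast hp.pos)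
      omega⟩
    rw [Subgroup.index_eq_card]
    calc Nat.card (↥T ⧸ Subgroup.center T) ≤ Nat.card (↥(dcom S ⊓ zcen S) × Fin p) := by
          refine Nat.card_le_card_of_injective (fun c => (δ c.out, r c.out)) fun c₁ c₂ heq => ?_
          rw [← c₁.out_eq, ← c₂.out_eq]
          refine QuotientGroup.eq.mpr ?_
          set t₁ := c₁.out
          set t₂ := c₂.out
          obtain ⟨hd, hr⟩ := Prod.ext_iff.mp heq
          have hd' : (fa t₁)⁻¹ * (x * fa t₁ * x⁻¹) = (fa t₂)⁻¹ * (x * fa t₂ * x⁻¹) :=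
            congrArg Subtype.val hd
          have hr' : (fi t₁) % (p : ℤ) = (fi t₂) % (p : ℤ) := by
            have := congrArg Fin.val hr
            change ((fi t₁) % (p : ℤ)).toNat = ((fi t₂) % (p : ℤ)).toNat at this
            have h1 := Int.emod_nonneg (fi t₁) (show (p : ℤ) ≠ 0 by exact_mod_cast hp.ne_zero)
            have h2 := Int.emod_nonneg (fi t₂) (show (p : ℤ) ≠ 0 by exact_mod_cast hp.ne_zero)
            omega
          obtain ⟨j, hj⟩ : (p : ℤ) ∣ fi t₂ - fi t₁ := Int.ModEq.dvd hr'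
          have haa : (fa t₁)⁻¹ * fa t₂ ∈ zcen S := by
            refine (h.mem_zcen_iff hx hxA (A.mul_mem (A.inv_mem (hfaA t₁ t₁.2)) (hfaA t₂ t₂.2))).mpr ?_
            have hA1 := hfaA t₁ t₁.2
            have hA2 := hfaA t₂ t₂.2
            have hc1 : Commute (fa t₁) (fa t₂)⁻¹ := h.comm _ hA1 _ (A.inv_mem hA2)
            rw [← mul_inv_eq_iff_eq_mul]
            calc x * ((fa t₁)⁻¹ * fa t₂) * x⁻¹ = (x * fa t₁ * x⁻¹)⁻¹ * (x * fa t₂ * x⁻¹) := by group
              _ = ((fa t₁) * ((fa t₁)⁻¹ * (x * fa t₁ * x⁻¹)))⁻¹ *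
                  (fa t₂ * ((fa t₂)⁻¹ * (x * fa t₂ * x⁻¹))) := by rw [mul_inv_cancel_left, mul_inv_cancel_left]
              _ = ((fa t₂)⁻¹ * (x * fa t₂ * x⁻¹))⁻¹ * ((fa t₁)⁻¹ * fa t₂) *
                  ((fa t₂)⁻¹ * (x * fa t₂ * x⁻¹)) := by rw [hd']; group
              _ = _ := by
                rw [(show Commute ((fa t₂)⁻¹ * (x * fa t₂ * x⁻¹))⁻¹ ((fa t₁)⁻¹ * fa t₂) from
                  h.comm _ (A.inv_mem (A.mul_mem (A.inv_mem hA2) (conj_mem_of_mem_normalizer (h.normalizes hx) hA2)))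
                    _ (A.mul_mem (A.inv_mem hA1) hA2)).eq]
                group
          have hmem : ((t₁⁻¹ * t₂ : T) : Ω) ∈ zcen T := by
            rw [hzT, Subgroup.coe_mul, Subgroup.coe_inv, hfi t₁ t₁.2, hfi t₂ t₂.2, mul_inv_rev]
            have hfi2 : fi t₂ = fi t₁ + (p : ℤ) * j := by omega
            rw [show (x ^ fi t₁)⁻¹ * (fa t₁)⁻¹ * (fa t₂ * x ^ fi t₂) =
              (x ^ fi t₁)⁻¹ * (((fa t₁)⁻¹ * fa t₂) * x ^ fi t₂) by group,
              ← ((show Commute (x ^ fi t₂) ((fa t₁)⁻¹ * fa t₂) from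
                (mem_zcen.mp haa).2 _ (S.zpow_mem hx _))).eq, ← mul_assoc, hfi2, zpow_add,
              inv_mul_cancel_left, zpow_mul, zpow_natCast]
            exact Subgroup.mul_mem _ (Subgroup.zpow_mem _ (h.coe_gen_pow hx hxA) j) haa
          obtain ⟨w, hw, e⟩ := hmem
          rw [← show w = t₁⁻¹ * t₂ from Subtype.ext e]
          exact hw
      _ = p ^ 2 := by rw [Nat.card_prod, Nat.card_fin, hD, pow_two]
  have hnab : ∃ a b : T, a * b ≠ b * a := by
    obtain ⟨β, hβ, hβI⟩ := exists_noninner h.isP hPS (hP.1.2 P (isConj_refl hPS.le))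
    by_contra hall
    push_neg at hall
    obtain ⟨g, hg, eg⟩ := mem_autInducedBy.mp hβ
    have hgT : g ∈ T := ⟨hg, mem_normalizer_of_mem_autInducedBy eg⟩
    apply hβI
    rw [show β = 1 from MulEquiv.ext fun q => Subtype.ext (by
      have := congrArg Subtype.val (hall ⟨g, hgT⟩ ⟨q, hPT q.2⟩)
      simp only [Subgroup.coe_mul] at this
      rw [eg, this, mul_inv_cancel_right]; rfl)]
    exact Subgroup.one_mem _
  have hsq : SqCenter N p := sqCenter_of_index hTp hsat hidx hnab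
  have hsys := isNormalizerSystem_normalizerSystem (F := F) hP.2.1.1
  have haut : N.autGroup P = F.autGroup P := by
    ext α
    rw [← isMap_autFun hPT, ← isMap_autFun hPS.le, isMap_of_isNormalizerSystem hsys]
    refine ⟨fun hm => hm.2.2.1, fun hm => ⟨hPT, fun q hq => hPT (autFun_mem α hq), hm,
      autFun α, by rwa [sup_idem], fun _ _ => rfl, img_autFun α⟩⟩
  have hfn : N.IsFullyNormalized P := fullyNormalized_of_normalized hPT fun t ht => ht.2
  refine ⟨hsq, ⟨lt_of_le_of_ne hPT (lt_normalizerIn h.isP hPS).ne, hfn, ?_, ?_⟩, hzT, ?_, haut⟩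
  · exact centric_of_fullyCentralized hTp hsat (fullyNormalized_props hTp hsat hfn).1
      fun c hc => hP.1.2 P (isConj_refl hPS.le) ⟨hc.1.1, hc.2⟩
  · obtain ⟨-, hrad⟩ := radical_of_stronglyEmbedded h.isP hP
    refine ⟨hPT, ?_⟩
    rw [haut]
    exact hrad
  · have hle : dcom T ≤ dcom S ⊓ zcen S := by
      refine le_inf ?_ (hzT ▸ hsq.dZ)
      rintro _ ⟨y, hy, rfl⟩
      have hTS : T ≤ S := inf_le_left
      refine ⟨Subgroup.inclusion hTS y, ?_, rfl⟩
      have : (commutator T).map (Subgroup.inclusion hTS) ≤ commutator S := by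
        rw [commutator_def, commutator_def]
        exact (Subgroup.map_commutator _ _ _).le.trans (Subgroup.commutator_mono le_top le_top)
      exact this ⟨y, hy, rfl⟩
    haveI : Finite ↥(dcom S ⊓ zcen S) := finite_of_le (inf_le_right.trans zcen_le)
    exact Subgroup.eq_of_le_of_card_ge hle (by rw [hD, hsq.cardD])

end AbIndexP

end Cfsg.Lib.Fusion
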