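import Cfsg.Agent.Fusion.CenterIndexSites
import Cfsg.Agent.Classical.Orth.Dihedral

/-!
The endgame for centre of index `p ^ 2`.
-/

set_option autoImplicit false

namespace Cfsg.Lib.Fusion

open Cfsg Cfsg.FusionSystem
open scoped commutatorElement

variable {Ω : Type*} [Group Ω] {S : Subgroup Ω} {F : FusionSystem S} {p : ℕ}

namespace SqCenter

variable [Finite S] [Fact p.Prime] {Q : Subgroup Ω}

theorem exists_noncomm (hS1 : S ≠ ⊥) (hS : IsPGroup p S) (hF : F.IsSaturated p)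
    (hcore : F.core = ⊥) : ∃ a b : S, a * b ≠ b * a := by
  by_contra hab
  push_neg at hab
  have hcl : F.StronglyClosed S := stronglyClosed_of_apply le_rfl fun _ _ hf x hx _ => hf.mem_S hx
  refine hS1 (le_bot_iff.mp (hcore ▸ le_sSup (show S ∈ {Q | F.IsNormal Q} from
    isNormal_of_le_radical hS hF hcl fun P _ hPc _ s hs =>
      hPc.2 P (isConj_refl hPc.1) (mem_centralizerIn.mpr ⟨hs, fun x hx => ?_⟩))))
  have := congrArg Subtype.val (hab ⟨s, hs⟩ ⟨x, hPc.1 hx⟩)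
  simp only [Subgroup.coe_mul] at this
  rw [this, mul_inv_cancel_right]

/-- With trivial core the centre is the derived subgroup and a site has exponent `p`. -/
theorem small_of_bot (h : SqCenter F p) (hQ : IsSite F p Q) (hbot : siteCore F Q = ⊥) :
    zcen S = dcom S ∧ ∀ q ∈ Q, q ^ p = 1 := by
  obtain ⟨d, e, w, hep, hD⟩ := h.exists_siteData hQ
  have hone : ∀ c : Q, (c : Ω) ∈ siteCore F Q → c = 1 := fun c hc => by
    rw [hbot, Subgroup.mem_bot] at hc; exact Subtype.ext hc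
  constructor
  · refine le_antisymm (fun z hz => ?_) h.dZ
    obtain ⟨c, hc, i, hi⟩ := h.zcen_decomp hQ hD hep (q := ⟨z, zcen_le_site hQ hz⟩) hz
    rw [hone c hc, one_mul] at hi
    rw [show z = ((d ^ i : Q) : Ω) from congrArg Subtype.val hi, Subgroup.coe_zpow]
    exact Subgroup.zpow_mem _ hD.d_mem i
  · intro q hq
    obtain ⟨c, hc, i, j, hij⟩ := hD.decomp ⟨q, hq⟩
    rw [hone c hc, one_mul] at hij
    have hcm : Commute (d ^ i) (e ^ j) := Subtype.ext (h.site_comm hQ (d ^ i).2 (e ^ j).2)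
    have h1 : ∀ (x : Q) (k : ℤ), x ^ p = 1 → (x ^ k) ^ p = 1 := fun x k hx => by
      rw [← zpow_natCast (x ^ k), ← zpow_mul, mul_comm, zpow_mul, zpow_natCast, hx, one_zpow]
    have : (⟨q, hq⟩ : Q) ^ p = 1 := by
      rw [hij, hcm.mul_pow, h1 d i (Subtype.ext (by rw [Subgroup.coe_pow, h.dcom_pow hD.d_mem,
        Subgroup.coe_one])), h1 e j hep, one_mul]
    exact congrArg Subtype.val this

theorem card_cube (h : SqCenter F p) (hz : zcen S = dcom S) : Nat.card S = p ^ 3 := by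
  rw [h.card_S, hz, h.cardD]; ring

theorem isExtraspecial_of_eq (h : SqCenter F p) (hz : zcen S = dcom S) :
    Cfsg.IsExtraspecial p S := by
  classical
  have hp : p.Prime := Fact.out
  have hc : commutator S = Subgroup.center S := Subgroup.map_injective S.subtype_injective hz.symm
  have hcardZ : Nat.card (Subgroup.center S) = p := by
    rw [← hc, ← h.cardD, dcom, Subgroup.card_map_of_injective S.subtype_injective]
  have hS3 := h.card_cube hz
  refine ⟨⟨h.isP, le_antisymm (fun x hx => ?_) (hc ▸ Cfsg.Lib.PGroups.commutator_le_frattini h.isP), hc⟩,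
    hcardZ⟩
  by_contra hxZ
  obtain ⟨y, hy⟩ : ∃ y : S, y * x ≠ x * y := by
    by_contra hno; push_neg at hno; exact hxZ (Subgroup.mem_center_iff.mpr hno)
  set M := Subgroup.center S ⊔ Subgroup.zpowers y
  have hxM : x ∉ M := by
    intro hxm
    obtain ⟨z, hz', w, ⟨i, hi⟩, e⟩ := Subgroup.mem_sup_of_normal_left.mp hxm
    subst hi
    apply hy
    rw [← e]
    calc y * (z * y ^ i) = (y * z) * y ^ i := by group
      _ = (z * y) * y ^ i := by rw [Subgroup.mem_center_iff.mp hz' y]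
      _ = z * y ^ i * y := by group
  have hyZ : y ∉ Subgroup.center S := fun h' => hy (Subgroup.mem_center_iff.mp h' x).symm
  have hlt : ∀ A B : Subgroup S, A < B → p * Nat.card A ≤ Nat.card B := fun A B hAB => by
    have := eq_of_lt (A := A.map S.subtype) (B := B.map S.subtype) h.isP
      (by rintro _ ⟨b, -, rfl⟩; exact b.2)
      (lt_of_le_of_ne (Subgroup.map_mono hAB.le) fun e =>
        hAB.ne (Subgroup.map_injective S.subtype_injective e))
    rwa [Subgroup.card_map_of_injective S.subtype_injective,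
      Subgroup.card_map_of_injective S.subtype_injective] at this
  have hM : p * Nat.card (Subgroup.center S) ≤ Nat.card M := hlt _ _ (lt_of_le_of_ne le_sup_left
    fun e => hyZ (e.symm ▸ Subgroup.mem_sup_right (Subgroup.mem_zpowers y)))
  have hcoatom : IsCoatom M := by
    refine ⟨fun e => hxM (e ▸ Subgroup.mem_top x), fun K hK => ?_⟩
    refine Subgroup.eq_top_of_le_card _ ?_
    have := hlt M K hK
    rw [hcardZ] at hM
    rw [hS3]
    calc p ^ 3 = p * (p * p) := by ring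
      _ ≤ p * Nat.card M := Nat.mul_le_mul_left p hM
      _ ≤ _ := this
  exact hxM (frattini_le_coatom hcoatom hx)

theorem exponent_odd (h : SqCenter F p) (hp2 : p ≠ 2) (hS1 : S ≠ ⊥) (hcore : F.core = ⊥) :
    Monoid.exponent S = p := by
  classical
  have hp : p.Prime := Fact.out
  suffices hall : ∀ x : S, x ^ p = 1 by
    rcases (Nat.dvd_prime hp).mp (Monoid.exponent_dvd_iff_forall_pow_eq_one.mpr hall) with h' | h'
    · haveI := Monoid.exp_eq_one_iff.mp h'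
      exact absurd (Subgroup.eq_bot_iff_forall _ |>.mpr fun x hx =>
        congrArg Subtype.val (Subsingleton.elim (⟨x, hx⟩ : S) 1)) hS1
    · exact h'
  obtain ⟨Q, hQ⟩ := h.exists_site hS1 hcore
  have hcomm : ∀ x y : S, ⁅y, x⁆ ∈ Subgroup.center S := fun x y => by
    have := h.dZ ⟨⁅y, x⁆, Subgroup.commutator_mem_commutator (Subgroup.mem_top y) (Subgroup.mem_top x), rfl⟩
    obtain ⟨z, hz, e⟩ := this
    exact (show z = ⁅y, x⁆ from Subtype.ext e) ▸ hz
  have hmul : ∀ x y : S, x ^ p = 1 → y ^ p = 1 → (x * y) ^ p = 1 := fun x y hx hy => by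
    rw [Cfsg.Lib.PGroups.mul_pow_of_central (hcomm x y), hx, hy, one_mul, one_mul]
    obtain ⟨k, hk⟩ : p ∣ p.choose 2 := hp.dvd_choose_self (by norm_num)
      (lt_of_le_of_ne hp.two_le (Ne.symm hp2))
    rw [hk, pow_mul, show ⁅y, x⁆ ^ p = 1 from Subtype.ext (h.dcom_pow
      ⟨⁅y, x⁆, Subgroup.commutator_mem_commutator (Subgroup.mem_top y) (Subgroup.mem_top x), rfl⟩),
      one_pow]
  let M : Subgroup Ω := (show Subgroup S from
    { carrier := {x | x ^ p = 1}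
      one_mem' := one_pow p
      mul_mem' := fun {a b} ha hb => hmul a b ha hb
      inv_mem' := fun {a} (ha : a ^ p = 1) => by show a⁻¹ ^ p = 1; rw [inv_pow, ha, inv_one] }).map S.subtype
  have hMmem : ∀ x : Ω, x ∈ M ↔ x ∈ S ∧ x ^ p = 1 := fun x => by
    constructor
    · rintro ⟨y, hy, rfl⟩; exact ⟨y.2, congrArg Subtype.val hy⟩
    · exact fun ⟨hx, hxp⟩ => ⟨⟨x, hx⟩, Subtype.ext hxp, rfl⟩
  have hMS : M ≤ S := fun x hx => ((hMmem x).mp hx).1
  have hQM : ∀ R, IsSite F p R → R ≤ M := fun R hR x hx => (hMmem x).mpr ⟨hR.1.le hx,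
    (h.small_of_bot hR (h.siteCore_eq_bot_odd hp2 hcore hR)).2 x hx⟩
  intro x
  by_contra hx
  have hxM : (x : Ω) ∉ M := fun h' => hx (Subtype.ext ((hMmem _).mp h').2)
  have hlt : M < S := lt_of_le_of_ne hMS fun e => hxM (e.symm ▸ x.2)
  have hMQ : ∀ R, IsSite F p R → M ≤ R := fun R hR => by
    rcases eq_or_lt_of_le (hQM R hR) with e | e
    · exact e.ge
    · have h1 := eq_of_lt h.isP hMS e
      have h2 := eq_of_lt h.isP le_rfl hlt
      rw [h.card_S, pow_two, mul_assoc, ← h.card_site hR] at h2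
      have h3 := Nat.le_of_mul_le_mul_left h2 hp.pos
      haveI := finite_of_le hR.1.le
      nlinarith [hp.two_le, Nat.card_pos (α := R)]
  have hMn : M = ⊥ := h.eq_bot_of_sites hcore hMS
    (fun s hs => normalizes_of_dcom_le hMS (h.dZ.trans (zcen_le_site hQ |>.trans (hQM Q hQ))) hs) hMQ
    (fun φ _ y hy => (hMmem _).mpr ⟨(φ y).2, by
      have : y ^ p = 1 := Subtype.ext ((hMmem _).mp hy).2
      rw [← Subgroup.coe_pow, ← map_pow, this, map_one, Subgroup.coe_one]⟩)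
    (fun R hR α _ y hy => (hMmem _).mpr ⟨hR.1.le (α y).2, by
      have : y ^ p = 1 := Subtype.ext ((hMmem _).mp hy).2
      rw [← Subgroup.coe_pow, ← map_pow, this, map_one, Subgroup.coe_one]⟩)
  have := (h.zcen_lt_site hQ).trans_le (hQM Q hQ)
  rw [hMn] at this
  exact not_lt_bot this

/-! ### The prime two -/

theorem sq_eq_one_two (h : SqCenter F 2) (hcore : F.core = ⊥) :
    (∀ z ∈ zcen S, z ^ 2 = 1) ∧ ∀ R, IsSite F 2 R → ∀ q ∈ R, q ^ 2 = 1 := by
  let U : Subgroup Ω := (show Subgroup S from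
    { carrier := {x | ∃ z ∈ Subgroup.center S, z ^ 2 = x}
      one_mem' := ⟨1, Subgroup.one_mem _, one_pow 2⟩
      mul_mem' := by
        rintro _ _ ⟨a, ha, rfl⟩ ⟨b, hb, rfl⟩
        exact ⟨a * b, Subgroup.mul_mem _ ha hb,
          (show Commute a b from (Subgroup.mem_center_iff.mp hb a)).mul_pow 2⟩
      inv_mem' := by
        rintro _ ⟨a, ha, rfl⟩
        exact ⟨a⁻¹, Subgroup.inv_mem _ ha, inv_pow a 2⟩ }).map S.subtype
  have hUmem : ∀ x : Ω, x ∈ U ↔ ∃ z ∈ zcen S, z ^ 2 = x := fun x => by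
    constructor
    · rintro ⟨y, ⟨z, hz, rfl⟩, rfl⟩; exact ⟨z, ⟨z, hz, rfl⟩, rfl⟩
    · rintro ⟨_, ⟨z, hz, rfl⟩, rfl⟩; exact ⟨z ^ 2, ⟨z, hz, rfl⟩, rfl⟩
  have hUle : U ≤ zcen S := fun x hx => by
    obtain ⟨z, hz, rfl⟩ := (hUmem x).mp hx; exact Subgroup.pow_mem _ hz 2
  have hsq : ∀ R, IsSite F 2 R → ∀ q : R, ((q : Ω)) ^ 2 ∈ U := fun R hR q => by
    obtain ⟨d, e, w, hep, hD⟩ := h.exists_siteData hR
    obtain ⟨c, hc, i, j, rfl⟩ := hD.decomp q
    refine (hUmem _).mpr ⟨c, siteCore_le_zcen R hc, ?_⟩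
    have hd2 : d ^ 2 = 1 := Subtype.ext (by
      rw [Subgroup.coe_pow, h.dcom_pow hD.d_mem, Subgroup.coe_one])
    have hcm : ∀ a b : R, Commute a b := fun a b => Subtype.ext (h.site_comm hR a.2 b.2)
    have h1 : ∀ (x : R) (k : ℤ), x ^ 2 = 1 → (x ^ k) ^ 2 = 1 := fun x k hx => by
      rw [← zpow_natCast (x ^ k), ← zpow_mul, mul_comm, zpow_mul, zpow_natCast, hx, one_zpow]
    rw [← Subgroup.coe_pow, ← Subgroup.coe_pow, (hcm _ _).mul_pow, (hcm _ _).mul_pow, h1 d i hd2,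
      h1 e j hep, mul_one, mul_one]
  have hU : U = ⊥ := h.eq_bot_of_sites hcore (hUle.trans zcen_le) (normalizes_of_le_zcen hUle)
    (fun R hR => hUle.trans (zcen_le_site hR))
    (fun φ _ x hx => by
      obtain ⟨z, hz, e⟩ := (hUmem _).mp hx
      refine (hUmem _).mpr ⟨_, aut_mem_zcen (φ := φ) (x := ⟨z, zcen_le hz⟩) hz, ?_⟩
      rw [← Subgroup.coe_pow, ← map_pow, show (⟨z, zcen_le hz⟩ : S) ^ 2 = x from Subtype.ext e])
    (fun R hR α _ x hx => by
      obtain ⟨z, hz, e⟩ := (hUmem _).mp hx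
      have := hsq R hR (α ⟨z, zcen_le_site hR hz⟩)
      rwa [← Subgroup.coe_pow, ← map_pow,
        show (⟨z, zcen_le_site hR hz⟩ : R) ^ 2 = x from Subtype.ext e] at this)
  refine ⟨fun z hz => ?_, fun R hR q hq => ?_⟩
  · have := (hUmem (z ^ 2)).mpr ⟨z, hz, rfl⟩
    rwa [hU, Subgroup.mem_bot] at this
  · have := hsq R hR ⟨q, hq⟩
    rwa [hU, Subgroup.mem_bot] at this

/-- A maximal elementary abelian subgroup over the centre. -/
def IsElemMax (S X : Subgroup Ω) : Prop :=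
  zcen S ≤ X ∧ X ≤ S ∧ Nat.card X = 2 * Nat.card (zcen S) ∧ ∀ x ∈ X, x ^ 2 = 1

theorem elemMax_of_site (h : SqCenter F 2) (hcore : F.core = ⊥) {R : Subgroup Ω}
    (hR : IsSite F 2 R) : IsElemMax S R :=
  ⟨zcen_le_site hR, hR.1.le, h.card_site hR, (h.sq_eq_one_two hcore).2 R hR⟩

theorem comm_of_sq {a b : Ω} (ha : a ^ 2 = 1) (hb : b ^ 2 = 1) (hab : (a * b) ^ 2 = 1) :
    a * b = b * a := by
  rw [pow_two] at ha hb hab
  have h1 : a⁻¹ = a := inv_eq_of_mul_eq_one_right ha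
  have h2 : b⁻¹ = b := inv_eq_of_mul_eq_one_right hb
  calc a * b = (a * b)⁻¹ := (inv_eq_of_mul_eq_one_right hab).symm
    _ = b * a := by rw [mul_inv_rev, h1, h2]

theorem inter_elemMax (h : SqCenter F 2) {X Y : Subgroup Ω} (hX : IsElemMax S X)
    (hY : IsElemMax S Y) (hne : X ≠ Y) :
    (∀ x ∈ X, x ∈ Y → x ∈ zcen S) ∧ ∃ y ∈ Y, y ∉ X ∧ ∀ s ∈ S, s ∈ X ⊔ Subgroup.zpowers y := by
  have hYX : ¬ Y ≤ X := fun hle => hne (by
    haveI := finite_of_le hX.2.1
    exact (Subgroup.eq_of_le_of_card_ge hle (by rw [hX.2.2.1, hY.2.2.1])).symm)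
  obtain ⟨y, hy, hyX⟩ := SetLike.not_le_iff_exists.mp hYX
  have hle : X ⊔ Subgroup.zpowers y ≤ S := sup_le hX.2.1 (Subgroup.zpowers_le.mpr (hY.2.1 hy))
  have hlt : X < X ⊔ Subgroup.zpowers y := lt_of_le_of_ne le_sup_left fun e =>
    hyX (e.symm ▸ Subgroup.mem_sup_right (Subgroup.mem_zpowers y))
  have htop : X ⊔ Subgroup.zpowers y = S := Subgroup.eq_of_le_of_card_ge hle (by
    have := eq_of_lt h.isP hle hlt
    rw [hX.2.2.1, ← mul_assoc, ← pow_two] at this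
    rwa [h.card_S])
  have hcX : ∀ a ∈ X, ∀ b ∈ X, a * b = b * a := fun a ha b hb =>
    comm_of_sq (hX.2.2.2 a ha) (hX.2.2.2 b hb) (hX.2.2.2 _ (X.mul_mem ha hb))
  refine ⟨fun x hx hxY => mem_zcen.mpr ⟨hX.2.1 hx, fun s hs => ?_⟩, y, hy, hyX, fun s hs => htop.symm ▸ hs⟩
  have hle' : X ⊔ Subgroup.zpowers y ≤ Subgroup.centralizer {x} := by
    refine sup_le (fun a ha => ?_) (Subgroup.zpowers_le.mpr ?_)
    · exact Subgroup.mem_centralizer_singleton_iff.mpr (hcX a ha x hx)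
    · exact Subgroup.mem_centralizer_singleton_iff.mpr
        (comm_of_sq (hY.2.2.2 y hy) (hY.2.2.2 x hxY) (hY.2.2.2 _ (Y.mul_mem hy hxY)))
  exact Subgroup.mem_centralizer_singleton_iff.mp (hle' (htop.symm ▸ hs))

theorem no_three (h : SqCenter F 2) {X Y W : Subgroup Ω} (hX : IsElemMax S X) (hY : IsElemMax S Y)
    (hW : IsElemMax S W) (hXY : X ≠ Y) (hXW : X ≠ W) : Y = W := by
  by_contra hYW
  obtain ⟨hint, y, hy, hyX, htop⟩ := h.inter_elemMax hX hY hXY
  obtain ⟨hintW, x, hx, hxX, -⟩ := h.inter_elemMax hX hW hXW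
  obtain ⟨hintY, -⟩ := h.inter_elemMax hY hW hYW
  have hyn : Subgroup.zpowers y ≤ Subgroup.normalizer (X : Set Ω) := Subgroup.zpowers_le.mpr
    (normalizes_of_dcom_le hX.2.1 (h.dZ.trans hX.1) (hY.2.1 hy))
  obtain ⟨q, hq, w, ⟨b, hb⟩, e⟩ := (Cfsg.Lib.Coprime.mem_sup_of_le_normalizer hyn).mp (htop x (hW.2.1 hx))
  subst hb
  rcases Int.even_or_odd b with ⟨k, rfl⟩ | ⟨k, rfl⟩
  · apply hxX
    rw [← e]
    show q * y ^ (k + k) ∈ X
    rw [← two_mul, zpow_mul, show y ^ (2 : ℤ) = 1 by exact_mod_cast hY.2.2.2 y hy, one_zpow, mul_one]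
    exact hq
  · have hxq : x = q * y := by
      rw [← e]; show q * y ^ (2 * k + 1) = q * y
      rw [zpow_add, zpow_mul, show y ^ (2 : ℤ) = 1 by exact_mod_cast hY.2.2.2 y hy, one_zpow, one_mul, zpow_one]
    have hqy : q * y = y * q :=
      comm_of_sq (hX.2.2.2 q hq) (hY.2.2.2 y hy) (hxq ▸ hW.2.2.2 x hx)
    have hqZ : q ∈ zcen S := mem_zcen.mpr ⟨hX.2.1 hq, fun s hs => by
      have hle' : X ⊔ Subgroup.zpowers y ≤ Subgroup.centralizer {q} :=
        sup_le (fun a ha => Subgroup.mem_centralizer_singleton_iff.mpr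
          (comm_of_sq (hX.2.2.2 a ha) (hX.2.2.2 q hq) (hX.2.2.2 _ (X.mul_mem ha hq))))
          (Subgroup.zpowers_le.mpr (Subgroup.mem_centralizer_singleton_iff.mpr hqy.symm))
      exact Subgroup.mem_centralizer_singleton_iff.mp (hle' (htop s hs))⟩
    exact hxX (hX.1 (hintY x (hxq ▸ Y.mul_mem (hY.1 hqZ) hy) hx))

theorem site_preserved (h : SqCenter F 2) (hcore : F.core = ⊥) {R : Subgroup Ω}
    (hR : IsSite F 2 R) {φ : MulAut S} (hφ : φ ∈ F.autGroup S) {x : S} (hx : (x : Ω) ∈ R) :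
    ((φ x : S) : Ω) ∈ R := by
  let img' : MulAut S → Subgroup Ω := fun ψ => ((R.subgroupOf S).map ψ.toMonoidHom).map S.subtype
  have hRm := h.elemMax_of_site hcore hR
  have hmem : ∀ (ψ : MulAut S) (y : S), (y : Ω) ∈ img' ψ ↔ ((ψ⁻¹ y : S) : Ω) ∈ R := fun ψ y => by
    constructor
    · rintro ⟨_, ⟨z, hz, rfl⟩, e⟩
      rw [show y = ψ z from Subtype.ext e.symm, show ψ⁻¹ (ψ z) = z from ψ.symm_apply_apply z]
      exact hz
    · exact fun hy => ⟨y, ⟨ψ⁻¹ y, hy, ψ.apply_symm_apply y⟩, rfl⟩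
  have hmax : ∀ ψ : MulAut S, IsElemMax S (img' ψ) := fun ψ => by
    refine ⟨fun z hz => (hmem ψ ⟨z, zcen_le hz⟩).mpr (hRm.1 (aut_mem_zcen (φ := ψ⁻¹) hz)),
      fun z hz => by obtain ⟨y, -, rfl⟩ := hz; exact y.2, ?_, fun z hz => ?_⟩
    · rw [Subgroup.card_map_of_injective S.subtype_injective,
        Subgroup.card_map_of_injective ψ.injective,
        Nat.card_congr (Subgroup.subgroupOfEquivOfLe hRm.2.1).toEquiv, hRm.2.2.1]
    · obtain ⟨y, ⟨u, hu, rfl⟩, rfl⟩ := hz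
      have : u ^ 2 = 1 := Subtype.ext (hRm.2.2.2 u hu)
      rw [← map_pow, show (ψ.toMonoidHom u) ^ 2 = 1 by rw [← map_pow, this, map_one], map_one]
  have hsame : ∀ ψ : MulAut S, (∀ y : S, (y : Ω) ∈ R → ((ψ y : S) : Ω) ∈ R) ↔ img' ψ = R := fun ψ => by
    haveI := finite_of_le hR.1.le
    constructor
    · intro hp'
      refine Subgroup.eq_of_le_of_card_ge (fun z hz => ?_) (by rw [(hmax ψ).2.2.1, hRm.2.2.1])
      obtain ⟨y, ⟨u, hu, rfl⟩, rfl⟩ := hz
      exact hp' u hu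
    · intro e y hy
      rw [← e, hmem, show ψ⁻¹ (ψ y) = y from ψ.symm_apply_apply y]; exact hy
  have h2 : ∀ y : S, (y : Ω) ∈ R → (((φ ^ 2) y : S) : Ω) ∈ R := by
    by_cases he : img' φ = R
    · intro y hy
      rw [pow_two, MulAut.mul_apply]
      exact (hsame φ).mpr he _ ((hsame φ).mpr he y hy)
    refine (hsame (φ ^ 2)).mpr ?_
    by_contra he2
    have := h.no_three hRm (hmax φ) (hmax (φ ^ 2)) (Ne.symm he) (Ne.symm he2)
    apply he
    refine (hsame φ).mp fun y hy => ?_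
    have hy2 : ((φ (φ y) : S) : Ω) ∈ img' φ := by
      rw [this, hmem, show φ (φ y) = (φ ^ 2) y by rw [pow_two]; rfl,
        show (φ ^ 2)⁻¹ ((φ ^ 2) y) = y from (φ ^ 2).symm_apply_apply y]
      exact hy
    rwa [hmem, show φ⁻¹ (φ (φ y)) = φ y from φ.symm_apply_apply _] at hy2
  obtain ⟨n, hn, hin⟩ := h.pow_autS_index
  obtain ⟨s, hs, es⟩ := hin φ hφ
  obtain ⟨k, hk⟩ : ∃ k, n = 2 * k + 1 := Nat.odd_iff.mpr (Nat.two_dvd_ne_zero.mp hn)
  have h2k : ∀ m : ℕ, ∀ y : S, (y : Ω) ∈ R → ((((φ ^ 2) ^ m) y : S) : Ω) ∈ R := fun m => by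
    induction m with
    | zero => intro y hy; simpa using hy
    | succ m ih =>
      intro y hy
      rw [pow_succ', MulAut.mul_apply]
      exact h2 _ (ih y hy)
  have hRk : img' ((φ ^ 2) ^ k) = R := (hsame _).mp (h2k k)
  set y := ((φ ^ 2) ^ k)⁻¹ x
  have hy : (y : Ω) ∈ R := (hmem _ x).mp (hRk.symm ▸ hx)
  have := (es y).symm ▸ conj_mem_of_mem_normalizer (h.site_normalized hR hs) hy
  rw [hk, pow_succ', pow_mul, MulAut.mul_apply,
    show ((φ ^ 2) ^ k) y = x from ((φ ^ 2) ^ k).apply_symm_apply x] at this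
  exact this

theorem core_preserved (h : SqCenter F 2) (hcore : F.core = ⊥) {R : Subgroup Ω}
    (hR : IsSite F 2 R) {φ : MulAut S} (hφ : φ ∈ F.autGroup S) {x : S}
    (hx : (x : Ω) ∈ siteCore F R) : ((φ x : S) : Ω) ∈ siteCore F R := by
  have hxR : (x : Ω) ∈ R := zcen_le_site hR (siteCore_le_zcen R hx)
  obtain ⟨α, hα, hαe⟩ := restrict_site hR hφ fun q => h.site_preserved hcore hR hφ q.2
  have := siteCore_invariant hα (x := ⟨(x : Ω), hxR⟩) hx
  rwa [hαe] at this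

theorem card_zcen_core (h : SqCenter F p) (hQ : IsSite F p Q) :
    Nat.card (zcen S) = p * Nat.card (siteCore F Q) := by
  classical
  obtain ⟨d, e, w, hep, hD⟩ := h.exists_siteData hQ
  have hle := siteCore_le_zcen (F := F) Q
  haveI := finite_of_le (zcen_le : zcen S ≤ S)
  haveI := finite_of_le (hle.trans zcen_le)
  haveI := finite_of_le (dcom_le : dcom S ≤ S)
  refine le_antisymm ?_ (eq_of_lt h.isP zcen_le (lt_of_le_of_ne hle fun he => hD.d_ne ?_))
  · rw [mul_comm]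
    haveI : NeZero p := ⟨(Fact.out : p.Prime).ne_zero⟩
    calc Nat.card (zcen S) ≤ Nat.card (siteCore F Q × dcom S) := by
          refine Nat.card_le_card_of_surjective (fun u => ⟨(u.1 : Ω) * u.2,
            Subgroup.mul_mem _ (hle u.1.2) (h.dZ u.2.2)⟩) fun z => ?_
          obtain ⟨c, hc, i, hi⟩ := h.zcen_decomp hQ hD hep (q := ⟨z, zcen_le_site hQ z.2⟩) z.2
          exact ⟨(⟨c, hc⟩, ⟨(d : Ω) ^ i, Subgroup.zpow_mem _ hD.d_mem i⟩),
            Subtype.ext (by simpa using (congrArg Subtype.val hi).symm)⟩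
      _ = _ := by rw [Nat.card_prod, h.cardD]
  · have := hD.disj 1 (by rw [zpow_one, he]; exact h.dZ hD.d_mem)
    simpa using this

theorem normalizer_conj {M : Subgroup Ω} {g : Ω} (hg : g ∈ Subgroup.normalizer (M : Set Ω)) {x : Ω}
    (hx : x ∈ M) : g * x * g⁻¹ ∈ M := (Subgroup.mem_normalizer_iff.mp hg x).mp hx

/-- The automorphisms of a site move its elements within `M`. -/
theorem site_diff (h : SqCenter F 2) (hcore : F.core = ⊥) {R R' : Subgroup Ω} (hR : IsSite F 2 R)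
    (hR' : IsSite F 2 R') {M : Subgroup Ω}
    (hCM : siteCore F R ⊓ siteCore F R' ≤ M) {d e : R} {w : MulAut R} (hD : SiteData F R d e w)
    (hdM : (d : Ω) ∈ M) (heM : (e : Ω) ∈ M) {α : MulAut R} (hα : α ∈ F.autGroup R) :
    ∀ q : R, (q : Ω)⁻¹ * (α q : R) ∈ M := by
  letI : CommGroup R := { (inferInstance : Group R) with
    mul_comm := fun a b => Subtype.ext (h.site_comm hR a.2 b.2) }
  have hV : ∀ x ∈ Subgroup.closure ({d, e} : Set R), (x : Ω) ∈ M := by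
    have : Subgroup.closure ({d, e} : Set R) ≤ M.subgroupOf R := (Subgroup.closure_le _).mpr (by
      intro x hx
      rcases hx with rfl | rfl
      · exact hdM
      · exact heM)
    exact fun x hx => this hx
  have hgenD : ∀ x : R, (x : Ω) ∈ dcom S → ∃ i : ℤ, d ^ i = x := fun x hx => by
    obtain ⟨i, hi⟩ := h.dcom_gen hD.d_mem (fun e => hD.d_ne (Subtype.ext e)) hx
    exact ⟨i, Subtype.ext (by rw [Subgroup.coe_zpow]; exact hi)⟩
  have hgd : ∀ β ∈ F.autGroup R, ((β d : R) : Ω) ∈ M := fun β hβ => by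
    obtain ⟨k, hk, -, hkN, hkV⟩ := hD.factor β hβ
    obtain ⟨i, hi⟩ := hgenD _ ((h.normalizer_preserves hR hkN).2 d hD.d_mem)
    refine hV _ ?_
    have : β d = k ((k⁻¹ * β) d) := by
      rw [MulAut.mul_apply]; exact (k.apply_symm_apply _).symm
    rw [this, ← hi, map_zpow]
    exact Subgroup.zpow_mem _ hkV i
  let T : Subgroup R :=
    { carrier := {q | (q : Ω)⁻¹ * (α q : R) ∈ M}
      one_mem' := by simp
      mul_mem' := fun {a b} (ha : _ ∈ M) (hb : _ ∈ M) => by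
        show ((a * b : R) : Ω)⁻¹ * (α (a * b) : R) ∈ M
        have h1 : (a * b)⁻¹ * α (a * b) = (a⁻¹ * α a) * (b⁻¹ * α b) := by
          rw [map_mul, mul_inv]; exact mul_mul_mul_comm _ _ _ _
        rw [← Subgroup.coe_inv, ← Subgroup.coe_mul, h1]
        exact M.mul_mem ha hb
      inv_mem' := fun {a} (ha : _ ∈ M) => by
        show ((a⁻¹ : R) : Ω)⁻¹ * (α a⁻¹ : R) ∈ M
        have h1 : a⁻¹⁻¹ * α a⁻¹ = (a⁻¹ * α a)⁻¹ := by rw [map_inv, mul_inv]
        rw [← Subgroup.coe_inv, ← Subgroup.coe_mul, h1]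
        exact M.inv_mem ha }
  have hTd : d ∈ T := M.mul_mem (M.inv_mem hdM) (hgd α hα)
  have hTe : e ∈ T := by
    refine M.mul_mem (M.inv_mem heM) ?_
    have := M.inv_mem (hgd _ (Subgroup.mul_mem _ hα hD.w_mem))
    rwa [MulAut.mul_apply, hD.w_d, map_inv, Subgroup.coe_inv, inv_inv] at this
  have hTc : ∀ c : R, (c : Ω) ∈ siteCore F R → c ∈ T := by
    intro c hc
    obtain ⟨k, hk, hkfix, hkN, -⟩ := hD.factor α hα
    obtain ⟨φ, hφ, hφe⟩ := h.extend_normalizer hR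
      (Subgroup.mul_mem _ (Subgroup.inv_mem _ hk) hα) hkN
    have hαc : ((α c : R) : Ω) = ((φ ⟨c, hR.1.le c.2⟩ : S) : Ω) := by
      rw [hφe]
      have hmem : (((k⁻¹ * α) c : R) : Ω) ∈ siteCore F R :=
        siteCore_invariant (Subgroup.mul_mem _ (Subgroup.inv_mem _ hk) hα) hc
      congr 1
      rw [show α c = k ((k⁻¹ * α) c) from by rw [MulAut.mul_apply]; exact (k.apply_symm_apply _).symm]
      exact hkfix _ hmem
    show (c : Ω)⁻¹ * (α c : R) ∈ M
    rw [hαc]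
    have hφc : ((φ ⟨c, hR.1.le c.2⟩ : S) : Ω) ∈ siteCore F R :=
      h.core_preserved hcore hR hφ (x := ⟨c, hR.1.le c.2⟩) hc
    refine hCM ⟨Subgroup.mul_mem _ (Subgroup.inv_mem _ hc) hφc, ?_⟩
    by_cases hcR' : (c : Ω) ∈ siteCore F R'
    · exact Subgroup.mul_mem _ (Subgroup.inv_mem _ hcR')
        (h.core_preserved hcore hR' hφ (x := ⟨c, hR.1.le c.2⟩) hcR')
    have hcR'2 : ((φ ⟨c, hR.1.le c.2⟩ : S) : Ω) ∉ siteCore F R' := by
      intro hh
      refine hcR' ?_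
      have := h.core_preserved hcore hR' (Subgroup.inv_mem _ hφ) (x := φ ⟨c, hR.1.le c.2⟩) hh
      rwa [show φ⁻¹ (φ ⟨c, hR.1.le c.2⟩) = ⟨c, hR.1.le c.2⟩ from φ.symm_apply_apply _] at this
    obtain ⟨d', e', w', hep', hD'⟩ := h.exists_siteData hR'
    have key : ∀ z : Ω, z ∈ zcen S → z ∉ siteCore F R' → z * (d' : Ω) ∈ siteCore F R' := by
      intro z hz hzn
      obtain ⟨c', hc', i, hi⟩ := h.zcen_decomp hR' hD' hep' (q := ⟨z, zcen_le_site hR' hz⟩) hz
      have hzi : z = (c' : Ω) * (d' : Ω) ^ i := by simpa using congrArg Subtype.val hi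
      have hd2 : (d' : Ω) ^ (2 : ℤ) = 1 := by exact_mod_cast h.dcom_pow hD'.d_mem
      rcases Int.even_or_odd i with ⟨m, rfl⟩ | ⟨m, rfl⟩
      · exact absurd (by rw [hzi, ← two_mul, zpow_mul, hd2, one_zpow, mul_one]; exact hc') hzn
      · rw [hzi, mul_assoc, ← zpow_add_one, show 2 * m + 1 + 1 = 2 * (m + 1) by ring, zpow_mul, hd2,
          one_zpow, mul_one]
        exact hc'
    have hd' : (d' : Ω)⁻¹ = d' := inv_eq_of_mul_eq_one_right (by rw [← pow_two]; exact h.dcom_pow hD'.d_mem)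
    have hcZ := siteCore_le_zcen R hc
    have := Subgroup.mul_mem _ (Subgroup.inv_mem _ (key _ hcZ hcR'))
      (key _ (siteCore_le_zcen R hφc) hcR'2)
    rw [mul_inv_rev, hd'] at this
    have hcd : Commute (d' : Ω) ((c : Ω)⁻¹ * (φ ⟨c, hR.1.le c.2⟩ : S)) :=
      (mem_zcen.mp (Subgroup.mul_mem _ (Subgroup.inv_mem _ hcZ) (siteCore_le_zcen R hφc))).2 d'
        (zcen_le (h.dZ hD'.d_mem))
    have e2 : (d' : Ω) * (c : Ω)⁻¹ * ((φ ⟨c, hR.1.le c.2⟩ : S) * d') =
        (c : Ω)⁻¹ * (φ ⟨c, hR.1.le c.2⟩ : S) := by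
      calc (d' : Ω) * (c : Ω)⁻¹ * ((φ ⟨c, hR.1.le c.2⟩ : S) * d')
          = ((d' : Ω) * ((c : Ω)⁻¹ * (φ ⟨c, hR.1.le c.2⟩ : S))) * d' := by group
        _ = ((c : Ω)⁻¹ * (φ ⟨c, hR.1.le c.2⟩ : S)) * ((d' : Ω) * d') := by rw [hcd.eq]; group
        _ = _ := by rw [← pow_two, h.dcom_pow hD'.d_mem, mul_one]
    rwa [e2] at this
  intro q
  obtain ⟨c, hc, i, j, rfl⟩ := hD.decomp q
  exact T.mul_mem (T.mul_mem (hTc c hc) (T.zpow_mem hTd i)) (T.zpow_mem hTe j)

theorem cores_two (h : SqCenter F 2) (hS1 : S ≠ ⊥) (hcore : F.core = ⊥)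
    (hhyp : F.hyperfocalSubgroup 2 = S) :
    ∃ R₁ R₂, IsSite F 2 R₁ ∧ IsSite F 2 R₂ ∧ R₁ ≠ R₂ ∧ siteCore F R₁ = ⊥ ∧ siteCore F R₂ = ⊥ := by
  classical
  obtain ⟨R₁, hR₁⟩ := h.exists_site hS1 hcore
  obtain ⟨R₂, hR₂, hne⟩ : ∃ R₂, IsSite F 2 R₂ ∧ R₁ ≠ R₂ := by
    by_contra hno
    push_neg at hno
    have := h.eq_bot_of_sites hcore hR₁.1.le (fun s hs => h.site_normalized hR₁ hs)
      (fun R hR => (hno R hR).le) (fun φ hφ x hx => h.site_preserved hcore hR₁ hφ hx)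
      (fun R hR α _ x _ => by
        obtain rfl := hno R hR
        exact (α x).2)
    exact not_lt_bot (this ▸ h.zcen_lt_site hR₁)
  have hsites : ∀ R, IsSite F 2 R → R = R₁ ∨ R = R₂ := fun R hR => or_iff_not_imp_left.mpr fun hR1 =>
    h.no_three (h.elemMax_of_site hcore hR₁) (h.elemMax_of_site hcore hR)
      (h.elemMax_of_site hcore hR₂) (Ne.symm hR1) hne
  set C₁ := siteCore F R₁ with hC₁def
  set C₂ := siteCore F R₂ with hC₂def
  have hC1Z : C₁ ≤ zcen S := siteCore_le_zcen R₁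
  by_cases heq : C₁ = C₂
  · refine ⟨R₁, R₂, hR₁, hR₂, hne, ?_⟩
    have hb : C₁ = ⊥ := h.eq_bot_of_sites hcore (hC1Z.trans zcen_le) (normalizes_of_le_zcen hC1Z)
      (fun R hR => hC1Z.trans (zcen_le_site hR))
      (fun φ hφ x hx => h.core_preserved hcore hR₁ hφ hx)
      (fun R hR α hα x hx => by
        rcases hsites R hR with rfl | rfl
        · exact siteCore_invariant hα hx
        · rw [heq] at hx ⊢; exact siteCore_invariant hα hx)
    exact ⟨hb, show C₂ = ⊥ from heq ▸ hb⟩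
  exfalso
  set C := C₁ ⊓ C₂
  haveI := finite_of_le (hC1Z.trans zcen_le)
  have hC2Z : C₂ ≤ zcen S := siteCore_le_zcen R₂
  haveI := finite_of_le (hC2Z.trans zcen_le)
  have hlt : C < C₁ := by
    refine lt_of_le_of_ne inf_le_left fun e => heq ?_
    refine Subgroup.eq_of_le_of_card_ge (inf_eq_left.mp e) ?_
    have h1 := h.card_zcen_core hR₁
    rw [h.card_zcen_core hR₂] at h1
    exact (Nat.eq_of_mul_eq_mul_left (by norm_num) h1).le
  obtain ⟨d₁, e₁, w₁, hep₁, hD₁⟩ := h.exists_siteData hR₁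
  obtain ⟨d₂, e₂, w₂, hep₂, hD₂⟩ := h.exists_siteData hR₂
  set N0 := C ⊔ Subgroup.zpowers (d₁ : Ω) with hN0
  set N1 := N0 ⊔ Subgroup.zpowers (e₁ : Ω) with hN1
  set N2 := N1 ⊔ Subgroup.zpowers (e₂ : Ω) with hN2
  have hCS : C ≤ S := (inf_le_left.trans hC1Z).trans zcen_le
  have hd₁S : (d₁ : Ω) ∈ S := hR₁.1.le d₁.2
  have hN0S : N0 ≤ S := sup_le hCS (Subgroup.zpowers_le.mpr hd₁S)
  have hN1S : N1 ≤ S := sup_le hN0S (Subgroup.zpowers_le.mpr (hR₁.1.le e₁.2))
  have hN2S : N2 ≤ S := sup_le hN1S (Subgroup.zpowers_le.mpr (hR₂.1.le e₂.2))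
  have hDN0 : dcom S ≤ N0 := fun x hx => by
    obtain ⟨i, rfl⟩ := h.dcom_gen hD₁.d_mem (fun e => hD₁.d_ne (Subtype.ext e)) hx
    exact Subgroup.mem_sup_right (Subgroup.zpow_mem _ (Subgroup.mem_zpowers _) i)
  have hsmall : Nat.card N2 ≤ Nat.card C * 2 * 2 * 2 := by
    haveI := finite_of_le hN2S
    haveI := finite_of_le hN1S
    haveI := finite_of_le hN0S
    haveI := finite_of_le hCS
    have hb : ∀ (A : Subgroup Ω) (hA : A ≤ S) (x : Ω) (hxS : x ∈ S),
        x ∈ Subgroup.normalizer (A : Set Ω) → x ^ 2 = 1 →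
        Nat.card ↥(A ⊔ Subgroup.zpowers x) ≤ Nat.card A * 2 := by
      intro A hA x hxS hn hx2
      have hn' : (⟨x, hxS⟩ : S) ∈ Subgroup.normalizer (A.subgroupOf S : Set S) := by
        rw [Subgroup.mem_normalizer_iff]
        intro y
        simp only [Subgroup.mem_subgroupOf, Subgroup.coe_mul, Subgroup.coe_inv]
        exact Subgroup.mem_normalizer_iff.mp hn y
      have := card_sup_zpowers_prime_le (p := 2) Nat.prime_two hn'
        (by rw [show (⟨x, hxS⟩ : S) ^ 2 = 1 from Subtype.ext hx2]; exact Subgroup.one_mem _)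
      rw [Nat.card_congr (Subgroup.subgroupOfEquivOfLe hA).toEquiv,
        ← Subgroup.card_map_of_injective S.subtype_injective, Subgroup.map_sup,
        MonoidHom.map_zpowers, Subgroup.map_subgroupOf_eq_of_le hA] at this
      exact this
    have h0 : Nat.card N0 ≤ Nat.card C * 2 := hb C hCS _ hd₁S
      (normalizes_of_le_zcen (inf_le_left.trans hC1Z) hd₁S) (h.dcom_pow hD₁.d_mem)
    have h1 : Nat.card N1 ≤ Nat.card N0 * 2 := hb N0 hN0S _ (hR₁.1.le e₁.2)
      (normalizes_of_dcom_le hN0S hDN0 (hR₁.1.le e₁.2)) (congrArg Subtype.val hep₁)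
    have h2 : Nat.card N2 ≤ Nat.card N1 * 2 := hb N1 hN1S _ (hR₂.1.le e₂.2)
      (normalizes_of_dcom_le hN1S (hDN0.trans le_sup_left) (hR₂.1.le e₂.2)) (congrArg Subtype.val hep₂)
    omega
  have hne' : N2 ≠ S := by
    intro e
    rw [e] at hsmall
    have h1 := eq_of_lt h.isP (hC1Z.trans zcen_le) hlt
    have h2 := h.card_zcen_core hR₁
    rw [← hC₁def] at h2
    rw [h.card_S] at hsmall
    haveI := finite_of_le hCS
    have hpos : 0 < Nat.card C := Nat.card_pos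
    omega
  have hDN2 : dcom S ≤ N2 := hDN0.trans (le_sup_left.trans le_sup_left)
  have hn2 : ∀ s ∈ S, ∀ x ∈ N2, s * x * s⁻¹ ∈ N2 := fun s hs x hx =>
    normalizer_conj (normalizes_of_dcom_le hN2S hDN2 hs) hx
  have hCN : C ≤ N2 := le_sup_left.trans (le_sup_left.trans le_sup_left)
  have hd2N : (d₂ : Ω) ∈ N2 := hDN2 hD₂.d_mem
  have he2N : (e₂ : Ω) ∈ N2 := Subgroup.mem_sup_right (Subgroup.mem_zpowers _)
  have he1N : (e₁ : Ω) ∈ N2 := Subgroup.mem_sup_left (Subgroup.mem_sup_right (Subgroup.mem_zpowers _))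
  have hsite : ∀ R, IsSite F 2 R → ∀ α ∈ F.autGroup R, ∀ q : R, (q : Ω)⁻¹ * (α q : R) ∈ N2 := by
    intro R hR α hα
    rcases hsites R hR with rfl | rfl
    · exact h.site_diff hcore hR₁ hR₂ hCN hD₁ (hDN2 hD₁.d_mem) he1N hα
    · exact h.site_diff hcore hR₂ hR₁ (by rw [inf_comm]; exact hCN) hD₂ hd2N he2N hα
  have htop : ∀ φ ∈ F.autGroup S, ∀ x : S, (x : Ω)⁻¹ * (φ x : S) ∈ N2 := by
    intro φ hφ
    let T : Subgroup S :=
      { carrier := {x | (x : Ω)⁻¹ * (φ x : S) ∈ N2}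
        one_mem' := by simp
        mul_mem' := fun {a b} (ha : _ ∈ N2) (hb : _ ∈ N2) => by
          show ((a * b : S) : Ω)⁻¹ * (φ (a * b) : S) ∈ N2
          have h1 := hn2 (b : Ω)⁻¹ (S.inv_mem b.2) _ ha
          rw [inv_inv] at h1
          have := N2.mul_mem h1 hb
          convert this using 1
          rw [map_mul, Subgroup.coe_mul, Subgroup.coe_mul]
          group
        inv_mem' := fun {a} (ha : _ ∈ N2) => by
          show ((a⁻¹ : S) : Ω)⁻¹ * (φ a⁻¹ : S) ∈ N2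
          have := hn2 a a.2 _ (N2.inv_mem ha)
          convert this using 1
          rw [map_inv, Subgroup.coe_inv, Subgroup.coe_inv]
          group }
    have hmem : ∀ R, IsSite F 2 R → ∀ x : S, (x : Ω) ∈ R → x ∈ T := fun R hR x hx => by
      obtain ⟨α, hα, hαe⟩ := restrict_site hR hφ fun q => h.site_preserved hcore hR hφ q.2
      have := hsite R hR α hα ⟨x, hx⟩
      rwa [hαe] at this
    intro x
    obtain ⟨-, y, hy, hyX, hgen⟩ :=
      h.inter_elemMax (h.elemMax_of_site hcore hR₁) (h.elemMax_of_site hcore hR₂) hne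
    obtain ⟨q, hq, w', ⟨b, hb⟩, e⟩ := (Cfsg.Lib.Coprime.mem_sup_of_le_normalizer
      (Subgroup.zpowers_le.mpr (h.site_normalized hR₁ (hR₂.1.le hy)))).mp (hgen x x.2)
    subst hb
    rw [show x = ⟨q, hR₁.1.le hq⟩ * ⟨y, hR₂.1.le hy⟩ ^ b from Subtype.ext (by simpa using e.symm)]
    exact T.mul_mem (hmem R₁ hR₁ _ hq) (T.zpow_mem (hmem R₂ hR₂ _ hy) b)
  have hall : ∀ (P : Subgroup Ω) (f : Ω → Ω), IsMap F P f → InnerMod S N2 P f := by
    intro P f hf
    refine alperin_radical h.isP h.sat (isMapClass_innerMod hn2) (fun g hg => ?_)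
      (fun R hRS hRn hRc hRr _ α hα => ?_) hf
    · obtain ⟨φ, hφ, e⟩ := hg.exists_aut (img_eq_of_apply hg le_rfl fun u hu => hg.mem_S hu)
      refine ⟨1, S.one_mem, fun x hx => ?_⟩
      rw [one_mul, inv_one, mul_one, ← e x hx, autFun_apply_mem φ hx]
      exact htop φ hφ ⟨x, hx⟩
    · refine ⟨1, S.one_mem, fun x hx => ?_⟩
      rw [one_mul, inv_one, mul_one, autFun_apply_mem α hx]
      exact hsite R ⟨hRS, hRn, hRc, hRr⟩ α hα ⟨x, hx⟩
  refine hne' (le_antisymm hN2S ?_)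
  conv_lhs => rw [← hhyp]
  refine (Subgroup.closure_le _).mpr ?_
  rintro _ ⟨P, α, x, hP, -, rfl⟩
  obtain ⟨s, hs, hsx⟩ := hall P _ ((isMap_autFun hP).mpr α.2)
  have h1 := hsx x x.2
  rw [autFun_apply] at h1
  have := N2.mul_mem (hDN2 (mem_dcom (hP x.2) hs)) h1
  rwa [mul_assoc (x : Ω)⁻¹, mul_inv_cancel_left] at this

theorem dihedral_two (h : SqCenter F 2) (hcore : F.core = ⊥) (hz : zcen S = dcom S)
    {R₁ R₂ : Subgroup Ω} (hR₁ : IsSite F 2 R₁) (hR₂ : IsSite F 2 R₂) (hne : R₁ ≠ R₂) :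
    Nonempty (S ≃* DihedralGroup 4) := by
  obtain ⟨hint, y, hy, hyX, hgen⟩ :=
    h.inter_elemMax (h.elemMax_of_site hcore hR₁) (h.elemMax_of_site hcore hR₂) hne
  obtain ⟨x, hx, hxZ⟩ := SetLike.exists_of_lt (h.zcen_lt_site hR₁)
  have hx2 := (h.sq_eq_one_two hcore).2 R₁ hR₁ x hx
  have hy2 := (h.sq_eq_one_two hcore).2 R₂ hR₂ y hy
  have hnc : x * y ≠ y * x := by
    intro hxy
    refine hxZ (mem_zcen.mpr ⟨hR₁.1.le hx, fun s hs => ?_⟩)
    have hle : R₁ ⊔ Subgroup.zpowers y ≤ Subgroup.centralizer {x} :=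
      sup_le (fun a ha => Subgroup.mem_centralizer_singleton_iff.mpr (h.site_comm hR₁ ha hx))
        (Subgroup.zpowers_le.mpr (Subgroup.mem_centralizer_singleton_iff.mpr hxy.symm))
    exact Subgroup.mem_centralizer_singleton_iff.mp (hle (hgen s hs))
  set xs : S := ⟨x, hR₁.1.le hx⟩
  set ys : S := ⟨y, hR₂.1.le hy⟩
  have hxx : xs * xs = 1 := Subtype.ext (by simpa [pow_two] using hx2)
  have hyy : ys * ys = 1 := Subtype.ext (by simpa [pow_two] using hy2)
  have hnc' : xs * ys ≠ ys * xs := fun e => hnc (congrArg Subtype.val e)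
  haveI : Fact (Nat.Prime 2) := ⟨Nat.prime_two⟩
  have hr4 : orderOf (xs * ys) = 2 ^ (1 + 1) := by
    refine orderOf_eq_prime_pow (fun h2 => hnc ?_) ?_
    · rw [pow_one] at h2
      exact comm_of_sq hx2 hy2 (congrArg Subtype.val h2)
    · rw [pow_succ, pow_mul]
      have : (((xs * ys) ^ (2 ^ 1) : S) : Ω) ∈ zcen S := by
        rw [pow_one, Subgroup.coe_pow]
        exact h.powZ _ (xs * ys).2
      exact Subtype.ext ((h.sq_eq_one_two hcore).1 _ this)
  refine Cfsg.Lib.Classical.Refl.nonempty_dihedral (xs * ys) xs 4 (by rw [hr4]; norm_num) hxx ?_ ?_ ?_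
  · rw [← mul_assoc xs xs ys, hxx, one_mul, mul_inv_rev, inv_eq_of_mul_eq_one_right hxx,
      inv_eq_of_mul_eq_one_right hyy]
  · rintro ⟨i, hi⟩
    apply hnc'
    replace hi : (xs * ys) ^ i = xs := hi
    have hc : Commute xs (xs * ys) := by
      have := (Commute.refl (xs * ys)).zpow_left i
      rwa [hi] at this
    have h1 : xs * (xs * ys) = xs * ys * xs := hc.eq
    rw [← mul_assoc, hxx, one_mul, mul_assoc] at h1
    calc xs * ys = xs * (xs * (ys * xs)) := by rw [← h1]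
      _ = ys * xs := by rw [← mul_assoc, hxx, one_mul]
  · rw [h.card_cube hz]; norm_num

end SqCenter

end Cfsg.Lib.Fusion
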