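import Cfsg.Agent.Fusion.AbelianIndexP
import Cfsg.Agent.Fusion.CenterIndexEnd

/-!
The centre is the derived part of order `p`, and the class is maximal.
-/

set_option autoImplicit false

namespace Cfsg.Lib.Fusion

open Cfsg Cfsg.FusionSystem
open scoped commutatorElement

variable {Ω : Type*} [Group Ω] {S : Subgroup Ω} {F : FusionSystem S} {p : ℕ}

namespace AbIndexP

variable [Finite S] [Fact p.Prime] {A : Subgroup Ω}

/-- A reflection on the centre. -/
def IsRefl (S : Subgroup Ω) (β : MulAut (zcen S)) : Prop :=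
  (∀ z : zcen S, (z : Ω) ∈ dcom S → β z = z⁻¹) ∧
    ∀ z : zcen S, ((z⁻¹ * β z : zcen S) : Ω) ∈ dcom S

theorem refl_unique (h : AbIndexP F p A) {β₁ β₂ : MulAut (zcen S)}
    (h₁ : β₁ ∈ F.autGroup (zcen S)) (h₂ : β₂ ∈ F.autGroup (zcen S)) (r₁ : IsRefl S β₁)
    (r₂ : IsRefl S β₂) (hD : ∀ z ∈ dcom S ⊓ zcen S, z ^ p = 1) : β₁ = β₂ := by
  haveI := finite_of_le (zcen_le : zcen S ≤ S)
  haveI : Finite (MulAut (zcen S)) :=
    Finite.of_injective (fun f : MulAut (zcen S) => (f : zcen S → zcen S)) DFunLike.coe_injective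
  set ρ := β₁⁻¹ * β₂ with hρ
  have hinv : ∀ z : zcen S, (z : Ω) ∈ dcom S → β₁⁻¹ z = z⁻¹ := fun z hz => by
    have := congrArg β₁.symm (r₁.1 _ (show ((z⁻¹ : zcen S) : Ω) ∈ dcom S from Subgroup.inv_mem _ hz))
    rw [MulEquiv.symm_apply_apply, inv_inv] at this
    exact this.symm
  have hρD : ∀ z : zcen S, (z : Ω) ∈ dcom S → ρ z = z := fun z hz => by
    rw [hρ, MulAut.mul_apply, r₂.1 z hz, map_inv, hinv z hz, inv_inv]
  have hρp : ρ ^ p = 1 := by
    refine MulEquiv.ext fun z => ?_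
    have hδ : ((z⁻¹ * ρ z : zcen S) : Ω) ∈ dcom S := by
      have h3 : (((β₁ z)⁻¹ * β₂ z : zcen S) : Ω) ∈ dcom S := by
        have := Subgroup.mul_mem _ (Subgroup.inv_mem _ (r₁.2 z)) (r₂.2 z)
        convert this using 1
        simp only [Subgroup.coe_mul, Subgroup.coe_inv]
        group
      have h4 := Subgroup.inv_mem _ h3
      rw [← Subgroup.coe_inv, ← hinv _ h3, map_mul, map_inv,
        show β₁⁻¹ (β₁ z) = z from β₁.symm_apply_apply z] at h4
      exact h4
    have hn : ∀ n : ℕ, (ρ ^ n) z = z * (z⁻¹ * ρ z) ^ n := fun n => by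
      induction n with
      | zero => simp
      | succ n ih =>
        rw [pow_succ', MulAut.mul_apply, ih, map_mul, map_pow, hρD _ hδ, pow_succ' (z⁻¹ * ρ z),
          ← mul_assoc z, mul_inv_cancel_left]
    rw [hn, MulAut.one_apply, show (z⁻¹ * ρ z) ^ p = 1 from Subtype.ext (by
      rw [Subgroup.coe_pow, hD _ ⟨hδ, (z⁻¹ * ρ z).2⟩, Subgroup.coe_one]), mul_one]
  have hn : ¬ p ∣ Nat.card (F.autGroup (zcen S)) := by
    have hfn := fullyNormalized_of_normalized (F := F) zcen_le (SqCenter.normalizes_of_le_zcen le_rfl)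
    obtain ⟨-, hr⟩ := (isFullyAutomized_iff h.isP).mp (fullyNormalized_props h.isP h.sat hfn).2.1
    have hb : autInducedBy S (zcen S) = ⊥ := by
      rw [eq_bot_iff]
      intro α hα
      obtain ⟨g, hg, eg⟩ := mem_autInducedBy.mp hα
      exact Subgroup.mem_bot.mpr (MulEquiv.ext fun z => Subtype.ext (by
        rw [eg, (mem_zcen.mp z.2).2 g hg, mul_inv_cancel_right]; rfl))
    rwa [hb, Subgroup.relIndex_bot_left] at hr
  have hmem : ρ ∈ F.autGroup (zcen S) := Subgroup.mul_mem _ (Subgroup.inv_mem _ h₁) h₂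
  have h1 : orderOf (⟨ρ, hmem⟩ : F.autGroup (zcen S)) = 1 :=
    Nat.eq_one_of_dvd_coprimes (((Fact.out : p.Prime).coprime_iff_not_dvd).mpr hn)
      (orderOf_dvd_of_pow_eq_one (Subtype.ext hρp)) (orderOf_dvd_natCard _)
  have h5 : ρ = 1 := congrArg Subtype.val (orderOf_eq_one_iff.mp h1)
  exact inv_mul_eq_one.mp h5

theorem exists_refl (h : AbIndexP F p A) (hp2 : p ≠ 2) {P : Subgroup Ω} (hPS : P < S)
    (hP : F.IsEssential p P) {x : Ω} (hxA : x ∉ A) (hxP : x ∈ P)
    (hab : ∀ a ∈ P, ∀ b ∈ P, a * b = b * a) (hZP : zcen S ≤ P) :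
    ∃ β ∈ F.autGroup (zcen S), IsRefl S β ∧
      ∀ z : zcen S, (z : Ω) ∈ siteCore (normalizerSystem F hP.2.1.1) P ↔ β z = z := by
  obtain ⟨hsq, hsite, hzT, hdT, -⟩ := h.exists_local hPS hP hxA hxP hab hZP
  haveI : Finite (normalizerIn S P) := finite_of_le inf_le_left
  haveI := finite_of_le (zcen_le : zcen S ≤ S)
  set T := normalizerIn S P with hT
  obtain ⟨φ, hφ, hφD, hφZ, hφC⟩ := hsq.exists_reflection hp2 hsite
  have hZT : zcen S ≤ T := hzT ▸ zcen_le
  have hm : IsMap F T (autFun φ) :=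
    ((isMap_of_isNormalizerSystem (isNormalizerSystem_normalizerSystem (F := F) hP.2.1.1)).mp
      ((isMap_autFun le_rfl).mpr hφ)).2.2.1
  have himg : img (zcen S) (autFun φ) = zcen S := by
    refine Subgroup.eq_of_le_of_card_ge (IsMap.img_le_iff.mpr fun z hz => ?_) (hm.mono hZT).card_img.ge
    rw [autFun_apply_mem φ (hZT hz)]
    have := aut_mem_zcen (S := T) (φ := φ) (x := ⟨z, hZT hz⟩) (hzT.symm ▸ hz)
    rwa [hzT] at this
  obtain ⟨β, hβ, hβe⟩ := (hm.mono hZT).exists_aut himg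
  have he : ∀ z : zcen S, ((β z : zcen S) : Ω) = ((φ ⟨z, hZT z.2⟩ : T) : Ω) := fun z => by
    rw [← autFun_apply β z, hβe _ z.2, autFun_apply_mem φ (hZT z.2)]
  refine ⟨β, hβ, ⟨fun z hz => Subtype.ext ?_, fun z => ?_⟩, fun z => ?_⟩
  · rw [he, hφD ⟨z, hZT z.2⟩ (hdT.symm ▸ (⟨hz, z.2⟩ : (z : Ω) ∈ dcom S ⊓ zcen S))]
    rfl
  · have := hφZ ⟨z, hZT z.2⟩ (hzT.symm ▸ z.2)
    rw [hdT] at this
    rw [Subgroup.coe_mul, Subgroup.coe_inv, he]
    exact this.1
  · constructor
    · intro hz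
      exact Subtype.ext (by rw [he, ((hφC ⟨z, hZT z.2⟩).mp hz).2])
    · intro e
      refine (hφC ⟨z, hZT z.2⟩).mpr ⟨hzT.symm ▸ z.2, Subtype.ext ?_⟩
      rw [← he, e]

theorem zcen_eq_derived (h : AbIndexP F p A) (hp2 : p ≠ 2) (hS1 : S ≠ ⊥) (hcore : F.core = ⊥)
    (hAe : ¬ F.IsEssential p A) :
    (∃ x ∈ S, x ∉ A ∧ F.IsEssential p (zcen S ⊔ Subgroup.zpowers x)) ∧ zcen S ≤ dcom S ∧
      Nat.card (zcen S) = p := by
  classical
  obtain ⟨P, hPS, hP, hne, hab⟩ := h.exists_abelian_site hS1 hcore hAe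
  obtain ⟨hZP, x, hxP, hxA⟩ := h.site_facts hPS hP hne
  have hx : x ∈ S := hPS.le hxP
  have hPeq : zcen S ⊔ Subgroup.zpowers x = P := by
    refine le_antisymm (sup_le hZP (Subgroup.zpowers_le.mpr hxP)) fun q hq => ?_
    obtain ⟨z, hz, i, rfl⟩ := h.abelian_gen hPS.le hxA hxP hab hq
    exact Subgroup.mul_mem_sup hz ⟨i, rfl⟩
  refine ⟨⟨x, hx, hxA, hPeq ▸ hP⟩, ?_⟩
  have hcard := h.card_diff hPS hP hxA hxP hab hZP
  have hDp : ∀ z ∈ dcom S ⊓ zcen S, z ^ p = 1 := fun z hz => by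
    haveI : Finite ↥(dcom S ⊓ zcen S) := finite_of_le (inf_le_right.trans zcen_le)
    exact congrArg Subtype.val ((hcard ▸ pow_card_eq_one' : (⟨z, hz⟩ : ↥(dcom S ⊓ zcen S)) ^ p = 1))
  haveI := finite_of_le (zcen_le : zcen S ≤ S)
  obtain ⟨β, hβ, hβr, hβC⟩ := h.exists_refl hp2 hPS hP hxA hxP hab hZP
  set C := siteCore (normalizerSystem F hP.2.1.1) P
  obtain ⟨hsq, hsite, hzT, hdT, -⟩ := h.exists_local hPS hP hxA hxP hab hZP
  have hCZ : C ≤ zcen S := hzT ▸ siteCore_le_zcen P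
  -- an automorphism of the centre preserving the derived part preserves `C`
  have hpres : ∀ γ ∈ F.autGroup (zcen S),
      (∀ z : zcen S, (z : Ω) ∈ dcom S → ((γ z : zcen S) : Ω) ∈ dcom S) →
      ∀ z : zcen S, (z : Ω) ∈ C → ((γ z : zcen S) : Ω) ∈ C := by
    intro γ hγ hγD z hz
    have hgg : ∀ u : zcen S, γ (γ⁻¹ u) = u := fun u => γ.apply_symm_apply u
    haveI : Finite (MulAut (zcen S)) :=
      Finite.of_injective (fun f : MulAut (zcen S) => (f : zcen S → zcen S)) DFunLike.coe_injective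
    have hγi : ∀ u : zcen S, (u : Ω) ∈ dcom S → ((γ⁻¹ u : zcen S) : Ω) ∈ dcom S := by
      obtain ⟨k, hk⟩ : ∃ k : ℕ, γ⁻¹ = γ ^ k := by
        obtain ⟨n, hn, hn'⟩ := (isOfFinOrder_of_finite γ).exists_pow_eq_one
        exact ⟨n - 1, inv_eq_of_mul_eq_one_left (by rw [← pow_succ, show n - 1 + 1 = n by omega, hn'])⟩
      intro u hu
      rw [hk]
      clear hk
      induction k with
      | zero => simpa using hu
      | succ k ih => rw [pow_succ', MulAut.mul_apply]; exact hγD _ ih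
    have hr : IsRefl S (γ * β * γ⁻¹) := by
      refine ⟨fun u hu => ?_, fun u => ?_⟩
      · rw [MulAut.mul_apply, MulAut.mul_apply, hβr.1 _ (hγi u hu), map_inv, hgg]
      · have := hγD _ (hβr.2 (γ⁻¹ u))
        rw [map_mul, map_inv, hgg] at this
        exact this
    have he := h.refl_unique hβ
      (Subgroup.mul_mem _ (Subgroup.mul_mem _ hγ hβ) (Subgroup.inv_mem _ hγ)) hβr hr hDp
    refine (hβC (γ z)).mpr ?_
    conv_lhs => rw [he]
    rw [MulAut.mul_apply, MulAut.mul_apply, show γ⁻¹ (γ z) = z from γ.symm_apply_apply z,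
      (hβC z).mp hz]
  have hrestrict : ∀ (R : Subgroup Ω) (hR : R ≤ S) (α : MulAut R), α ∈ F.autGroup R →
      ∀ (hZR : zcen S ≤ R), (∀ z : R, (z : Ω) ∈ zcen S → ((α z : R) : Ω) ∈ zcen S) →
      (∀ z : R, (z : Ω) ∈ zcen S → (z : Ω) ∈ dcom S → ((α z : R) : Ω) ∈ dcom S) →
      ∀ z : R, (z : Ω) ∈ C → ((α z : R) : Ω) ∈ C := by
    intro R hR α hα hZR hpz hpd z hz
    have hm := ((isMap_autFun hR).mpr hα).mono hZR
    obtain ⟨γ, hγ, hγe⟩ := hm.exists_aut (img_eq_of_apply hm le_rfl fun u hu => by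
      rw [autFun_apply_mem α (hZR hu)]; exact hpz ⟨u, hZR hu⟩ hu)
    have he : ∀ u : zcen S, ((γ u : zcen S) : Ω) = ((α ⟨u, hZR u.2⟩ : R) : Ω) := fun u => by
      rw [← autFun_apply γ u, hγe _ u.2, autFun_apply_mem α (hZR u.2)]
    have := hpres γ hγ (fun u hu => by rw [he]; exact hpd ⟨u, hZR u.2⟩ u.2 hu) ⟨z, hCZ hz⟩ hz
    rwa [he] at this
  have hbot : C = ⊥ := by
    have hn : F.IsNormal C := by
      refine isNormal_of_essential h.isP h.sat (hCZ.trans zcen_le) (SqCenter.normalizes_of_le_zcen hCZ)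
        (fun φ hφ z hz => hrestrict S le_rfl φ hφ zcen_le (fun u hu => aut_mem_zcen hu)
          (fun u _ hu => aut_mem_dcom hu) z hz) fun R hRS hR => ?_
      have hRA : R ≠ A := fun e => hAe (e ▸ hR)
      obtain ⟨hZR, y, hyR, hyA⟩ := h.site_facts hRS hR hRA
      refine ⟨hCZ.trans hZR, fun α hα z hz => ?_⟩
      by_cases habR : ∀ a ∈ R, ∀ b ∈ R, a * b = b * a
      · obtain ⟨β', hβ', hβ'r, hβ'C⟩ := h.exists_refl hp2 hRS hR hyA hyR habR hZR
        obtain ⟨-, -, hzR, -, hautR⟩ := h.exists_local hRS hR hyA hyR habR hZR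
        have heq := h.refl_unique hβ hβ' hβr hβ'r hDp
        have hsame : ∀ u : zcen S, (u : Ω) ∈ C ↔ (u : Ω) ∈ siteCore (normalizerSystem F hR.2.1.1) R :=
          fun u => by rw [hβC, hβ'C, heq]
        have hz' := (hsame ⟨z, hCZ hz⟩).mp hz
        have h2 := siteCore_invariant (F := normalizerSystem F hR.2.1.1) (h := α) (by rw [hautR]; exact hα) hz'
        exact (hsame ⟨_, hzR ▸ siteCore_le_zcen R h2⟩).mpr h2
      · have hiff := fun {u : Ω} (hu : u ∈ R) => h.center_of_nonab hRS.le hyA hyR hZR habR hu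
        haveI := finite_of_le hRS.le
        -- the derived part is characteristic in `R`
        have hDR : dcom S ⊓ zcen S ≤ (commutator R).map R.subtype := by
          have hRg : IsPGroup p R := h.isP.of_injective _ (Subgroup.inclusion_injective hRS.le)
          have hne' : commutator R ≠ ⊥ := by
            intro hb
            apply habR
            intro a ha b hb'
            have hm' : ⁅(⟨a, ha⟩ : R), ⟨b, hb'⟩⁆ ∈ commutator R :=
              Subgroup.commutator_mem_commutator (Subgroup.mem_top _) (Subgroup.mem_top _)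
            rw [hb, Subgroup.mem_bot, commutatorElement_eq_one_iff_mul_comm] at hm'
            exact congrArg Subtype.val hm'
          obtain ⟨c, hc, hcZ, hco⟩ := Cfsg.Lib.PGroups.exists_mem_center_of_normal_ne_bot hRg hne'
          have hcz : (c : Ω) ∈ zcen S := (hiff c.2).mp fun q hq =>
            congrArg Subtype.val (Subgroup.mem_center_iff.mp hcZ ⟨q, hq⟩).symm
          have hcd : (c : Ω) ∈ dcom S := by
            refine ⟨Subgroup.inclusion hRS.le c, ?_, rfl⟩
            have : (commutator R).map (Subgroup.inclusion hRS.le) ≤ commutator S := by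
              rw [commutator_def, commutator_def]
              exact (Subgroup.map_commutator _ _ _).le.trans (Subgroup.commutator_mono le_top le_top)
            exact this ⟨c, hc, rfl⟩
          haveI : Finite ↥(dcom S ⊓ zcen S) := finite_of_le (inf_le_right.trans zcen_le)
          have hgen : Subgroup.zpowers (c : Ω) = dcom S ⊓ zcen S := Subgroup.eq_of_le_of_card_ge
            (Subgroup.zpowers_le.mpr ⟨hcd, hcz⟩) (by rw [Nat.card_zpowers, Subgroup.orderOf_coe, hco, hcard])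
          rw [← hgen, Subgroup.zpowers_le]
          exact ⟨c, hc, rfl⟩
        refine hrestrict R hRS.le α hα hZR (fun u hu => (hiff (α u).2).mp fun q hq => ?_)
          (fun u hu hud => ?_) z hz
        · have e : u * α.symm ⟨q, hq⟩ = α.symm ⟨q, hq⟩ * u :=
            Subtype.ext ((hiff u.2).mpr hu _ (α.symm ⟨q, hq⟩).2)
          have := congrArg α e
          rw [map_mul, map_mul, MulEquiv.apply_symm_apply] at this
          exact congrArg Subtype.val this
        · obtain ⟨w, hw, hwe⟩ := hDR ⟨hud, hu⟩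
          have hle : commutator R ≤ (commutator R).comap α.toMonoidHom := by
            rw [commutator_def, Subgroup.commutator_le]
            intro a _ b _
            rw [Subgroup.mem_comap, map_commutatorElement]
            exact Subgroup.commutator_mem_commutator (Subgroup.mem_top _) (Subgroup.mem_top _)
          have h2 := hle hw
          rw [show u = w from Subtype.ext hwe.symm]
          refine ⟨Subgroup.inclusion hRS.le (α w), ?_, rfl⟩
          have : (commutator R).map (Subgroup.inclusion hRS.le) ≤ commutator S := by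
            rw [commutator_def, commutator_def]
            exact (Subgroup.map_commutator _ _ _).le.trans (Subgroup.commutator_mono le_top le_top)
          exact this ⟨_, h2, rfl⟩
    exact le_bot_iff.mp (hcore ▸ le_sSup (show C ∈ {Q | F.IsNormal Q} from hn))
  haveI : Finite (normalizerIn S P) := finite_of_le inf_le_left
  have hz := (hsq.small_of_bot hsite hbot).1
  rw [hzT, hdT] at hz
  exact ⟨hz.le.trans inf_le_left, by rw [hz, hcard]⟩

/-- The lower central series decreases by index at most `p`. -/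
theorem lcs_bound (h : AbIndexP F p A) {x : Ω} (hx : x ∈ S) (hxA : x ∉ A)
    (hZ : Nat.card (zcen S) = p) :
    ∀ i : ℕ, ∃ H : Subgroup Ω, H ≤ A ∧ H ≤ Subgroup.lowerCentralSeries S i ∧
      Nat.card A ≤ p ^ i * Nat.card H
  | 0 => ⟨A, le_rfl, h.le, by simp⟩
  | i + 1 => by
    obtain ⟨H, hHA, hHl, hHc⟩ := h.lcs_bound hx hxA hZ i
    haveI := finite_of_le (hHA.trans h.le)
    haveI := finite_of_le (zcen_le : zcen S ≤ S)
    have hAx : ∀ a ∈ A, x * a * x⁻¹ ∈ A := fun a ha => conj_mem_of_mem_normalizer (h.normalizes hx) ha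
    let δ : H →* Ω :=
      { toFun := fun a => (a : Ω)⁻¹ * (x * a * x⁻¹)
        map_one' := by simp
        map_mul' := fun a b => by
          have hc : Commute (b : Ω)⁻¹ ((a : Ω)⁻¹ * (x * a * x⁻¹)) :=
            h.comm _ (A.inv_mem (hHA b.2)) _ (A.mul_mem (A.inv_mem (hHA a.2)) (hAx a (hHA a.2)))
          simp only [Subgroup.coe_mul]
          calc ((a : Ω) * b)⁻¹ * (x * (a * b) * x⁻¹)
              = (b : Ω)⁻¹ * ((a : Ω)⁻¹ * (x * a * x⁻¹)) * (x * b * x⁻¹) := by group
            _ = ((a : Ω)⁻¹ * (x * a * x⁻¹)) * (b : Ω)⁻¹ * (x * b * x⁻¹) := by rw [hc.eq]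
            _ = _ := by group }
    refine ⟨δ.range, ?_, ?_, ?_⟩
    · rintro _ ⟨a, rfl⟩
      exact A.mul_mem (A.inv_mem (hHA a.2)) (hAx a (hHA a.2))
    · rintro _ ⟨a, rfl⟩
      show (a : Ω)⁻¹ * (x * a * x⁻¹) ∈ ⁅Subgroup.lowerCentralSeries S i, S⁆
      have := Subgroup.commutator_mem_commutator (Subgroup.inv_mem _ (hHl a.2)) hx
      rw [commutatorElement_def, inv_inv] at this
      simpa [mul_assoc] using this
    · have hker : Nat.card δ.ker ≤ p := by
        rw [← hZ]
        refine Nat.card_le_card_of_injective (fun a => ⟨((a : H) : Ω), ?_⟩) fun a b e => ?_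
        · refine (h.mem_zcen_iff hx hxA (hHA (a : H).2)).mpr ?_
          have := MonoidHom.mem_ker.mp a.2
          exact mul_inv_eq_iff_eq_mul.mp (inv_mul_eq_one.mp this).symm
        · exact Subtype.ext (Subtype.ext (congrArg (fun z : zcen S => (z : Ω)) e))
      have hmul := δ.ker.card_mul_index
      rw [Subgroup.index_ker] at hmul
      calc Nat.card A ≤ p ^ i * Nat.card H := hHc
        _ = p ^ i * (Nat.card δ.ker * Nat.card δ.range) := by rw [hmul]
        _ ≤ p ^ i * (p * Nat.card δ.range) := Nat.mul_le_mul_left _ (Nat.mul_le_mul_right _ hker)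
        _ = p ^ (i + 1) * Nat.card δ.range := by rw [pow_succ]; ring

theorem lcs_ne_bot (h : AbIndexP F p A) (hZ : Nat.card (zcen S) = p) {n : ℕ}
    (hn : Nat.card S = p ^ n) (hn3 : 3 ≤ n) : Subgroup.lowerCentralSeries S (n - 2) ≠ ⊥ := by
  have hp : p.Prime := Fact.out
  obtain ⟨a, b, hab⟩ := h.nonab
  obtain ⟨x, hx, hxA⟩ : ∃ x ∈ S, x ∉ A := by
    by_contra hno
    push_neg at hno
    exact hab (Subtype.ext (h.comm a (hno a a.2) b (hno b b.2)))
  obtain ⟨H, -, hHl, hHc⟩ := h.lcs_bound hx hxA hZ (n - 2)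
  intro hb
  rw [hb, le_bot_iff] at hHl
  rw [hHl, Subgroup.card_bot, mul_one] at hHc
  have hidx := h.idx
  rw [hn] at hidx
  have h1 : p ^ n ≤ p * p ^ (n - 2) := hidx.le.trans (Nat.mul_le_mul_left p hHc)
  rw [← pow_succ'] at h1
  have := (Nat.pow_le_pow_iff_right hp.one_lt).mp h1
  omega

end AbIndexP

end Cfsg.Lib.Fusion
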