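import Cfsg.Agent.Fusion.Essential
import Cfsg.Agent.Components.Embedded.Apps

/-!
The automorphisms extending to larger subgroups at an essential subgroup, and the necessity of
essential classes in generating families.
-/

set_option autoImplicit false

namespace Cfsg.Lib.Fusion.EssentialGen

open Cfsg Cfsg.FusionSystem Cfsg.Lib.Fusion

variable {Ω : Type*} [Group Ω] {S : Subgroup Ω} {F : FusionSystem S} {p : ℕ}

/-- `α` extends to a map on a larger subgroup. -/
def Ext (F : FusionSystem S) (Q : Subgroup Ω) (α : MulAut Q) : Prop :=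
  ∃ T, Q < T ∧ ∃ f, IsMap F T f ∧ ∀ x ∈ Q, f x = autFun α x

/-- The subgroup generated by extending automorphisms. -/
def extH (F : FusionSystem S) (Q : Subgroup Ω) : Subgroup (MulAut Q) :=
  Subgroup.closure {α | Ext F Q α}

theorem Ext.mem_autGroup {Q : Subgroup Ω} {α : MulAut Q} (h : Ext F Q α) : α ∈ F.autGroup Q := by
  obtain ⟨T, hT, f, hf, e⟩ := h
  exact (isMap_autFun (hT.le.trans hf.le)).mp ((hf.mono hT.le).congr fun x hx => (e x hx).symm)

theorem extH_le {Q : Subgroup Ω} : extH F Q ≤ F.autGroup Q :=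
  (Subgroup.closure_le _).mpr fun _ h => Ext.mem_autGroup h

theorem ext_of_receptive [Finite S] {Q : Subgroup Ω} (hrec : F.IsReceptive Q) {α : MulAut Q}
    (hα : α ∈ F.autGroup Q) {g : Ω} (hg : g ∈ extSub S Q (autFun α)) (hgQ : g ∉ Q) : Ext F Q α := by
  have hm : IsMap F Q (autFun α) := (isMap_autFun hrec.1).mpr hα
  obtain ⟨f, hf, hag⟩ := receptive_extend hrec hm (img_autFun α)
  exact ⟨_, lt_of_le_of_ne (le_extSub hm) fun h => hgQ (h ▸ hg), f, hf, hag⟩

theorem autInducedBy_le_extH [Finite S] [Fact p.Prime] (hS : IsPGroup p S) {Q : Subgroup Ω}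
    (hQS : Q < S) : autInducedBy S Q ≤ extH F Q := by
  intro α hα
  obtain ⟨g, hg, eg⟩ := mem_autInducedBy.mp hα
  refine Subgroup.subset_closure ⟨S, hQS, fun x => g * x * g⁻¹, isMap_conj le_rfl hg, fun x hx => ?_⟩
  rw [autFun_apply_mem α hx, eg]

/-- An essential subgroup is proper. -/
theorem lt_of_essential [Finite S] [Fact p.Prime] (hS : IsPGroup p S) (hF : F.IsSaturated p)
    {Q : Subgroup Ω} (hQ : F.IsEssential p Q) : Q < S := by
  obtain ⟨hQc, hQn, hn, E, hp, -, -⟩ := hQ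
  refine lt_of_le_of_ne hQn.1 fun he => ?_
  subst he
  obtain ⟨-, hfa, -⟩ := fullyNormalized_props hS hF hQn
  obtain ⟨R, hR⟩ := hfa.2
  haveI := hn
  have := finite_of_le hQn.1
  set π := QuotientGroup.mk' ((Inn Q).subgroupOf (F.autGroup Q))
  have hsurj : Function.Surjective π := QuotientGroup.mk'_surjective _
  set R' : Sylow p (F.autGroup Q ⧸ (Inn Q).subgroupOf (F.autGroup Q)) := R.mapSurjective hsurj
  have hbot : (R' : Subgroup (F.autGroup Q ⧸ (Inn Q).subgroupOf (F.autGroup Q))) = ⊥ := by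
    rw [Sylow.coe_mapSurjective, hR, eq_bot_iff]
    rintro _ ⟨β, hβ, rfl⟩
    obtain ⟨g, hg, eg⟩ := mem_autInducedBy.mp hβ
    refine Subgroup.mem_bot.mpr ((QuotientGroup.eq_one_iff β).mpr ⟨⟨g, hg⟩, ?_⟩)
    exact MulEquiv.ext fun x => Subtype.ext (by rw [MulAut.conj_apply]; exact (eg x).symm)
  have hd := Sylow.dvd_card_of_dvd_card R' hp
  rw [hbot, Subgroup.card_bot, Nat.dvd_one] at hd
  exact (Fact.out : p.Prime).ne_one hd

/-- A map between subgroups carrying an automorphism of a proper subgroup inside. -/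
theorem ext_of_sandwich [Finite S] [Fact p.Prime] (hS : IsPGroup p S) {P Q : Subgroup Ω}
    {T : Subgroup Ω} {k g g' : Ω → Ω} (hPT : P < T) (hk : IsMap F T k)
    (hg : IsMap F (normalizerIn S P) g) (hgi : img P g = Q)
    (hg' : IsMap F (normalizerIn S (img P k)) g') (α : MulAut Q)
    (hα : ∀ x ∈ P, autFun α (g x) = g' (k x)) : Ext F Q α := by
  have hPS : P ≤ S := hPT.le.trans hk.le
  set T' := T ⊓ Subgroup.normalizer (P : Set Ω) with hT'
  have hlt : P < T' := lt_inf_normalizer hS hPT hk.le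
  have hT'N : T' ≤ normalizerIn S P := inf_le_inf_right _ hk.le
  obtain ⟨g₁, hg₁, hg₁i, hl, -⟩ := (hg.mono hT'N).exists_inv
  have hkT' : IsMap F T' k := hk.mono inf_le_left
  have hkN : ∀ t ∈ T', k t ∈ normalizerIn S (img P k) := fun t ht =>
    hk.mem_normalizerIn hPT.le ht.1 ht.2
  have h1 : ∀ y ∈ img T' g, g₁ y ∈ T' := fun y hy => hg₁i.le (IsMap.apply_mem_img hy)
  have hmap := (hg₁.comp hkT' h1).comp hg' (fun y hy => hkN _ (h1 y hy))
  have hQlt : Q < img T' g := by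
    rw [← hgi]
    refine lt_of_le_of_ne (img_mono hlt.le g) fun he => ?_
    have hc := congrArg (fun X : Subgroup Ω => Nat.card X) he
    simp only [(hg.mono (le_normalizerIn hPS)).card_img, (hg.mono hT'N).card_img] at hc
    have := finite_of_le (hT'N.trans inf_le_left : T' ≤ S)
    exact hlt.ne (Subgroup.eq_of_le_of_card_ge hlt.le hc.ge)
  refine ⟨_, hQlt, _, hmap, fun y hy => ?_⟩
  obtain ⟨x, hx, rfl⟩ := (hg.mono (le_normalizerIn hPS)).mem_img.mp (hgi.ge hy)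
  show g' (k (g₁ (g x))) = _
  rw [hl x (hlt.le hx), hα x hx]

section Emb

variable [Finite S] [Fact p.Prime]

/-- Extending automorphisms lie in the preimage of a strongly embedded subgroup. -/
theorem extH_ne_of_essential (hS : IsPGroup p S) (hF : F.IsSaturated p) {Q : Subgroup Ω}
    (hQ : F.IsEssential p Q) : extH F Q ≠ F.autGroup Q := by
  have hQS := lt_of_essential hS hF hQ
  obtain ⟨hQc, hQn, hn, E, hE⟩ := hQ
  haveI := hn
  have := finite_of_le hQn.1
  obtain ⟨-, hfa, -⟩ := fullyNormalized_props hS hF hQn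
  set X := F.autGroup Q
  obtain ⟨R, hR⟩ : ∃ R : Sylow p X, (R : Subgroup X) = (autInducedBy S Q).subgroupOf X := hfa.2
  set π := QuotientGroup.mk' ((Inn Q).subgroupOf X) with hπ
  have hπs : Function.Surjective π := QuotientGroup.mk'_surjective _
  set R' : Sylow p (X ⧸ (Inn Q).subgroupOf X) := R.mapSurjective hπs
  obtain ⟨hEtop, hpE, -⟩ := Cfsg.Lib.Embedded.sPE_iff_norm.mp hE
  obtain ⟨g, hg⟩ := (Cfsg.Lib.Embedded.core_conj_iff R' E hEtop hpE).mp hE
  set Y := E.map (MulAut.conj g⁻¹).toMonoidHom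
  have hY : Y ≠ ⊤ := by
    intro h
    refine hEtop (top_unique fun x _ => ?_)
    obtain ⟨y, hy, hye⟩ := h.ge (Subgroup.mem_top (g⁻¹ * x * g⁻¹⁻¹))
    exact (MulAut.conj g⁻¹).injective hye ▸ hy
  have hcore : Cfsg.kGeneratedCore p 1 (R' : Subgroup (X ⧸ (Inn Q).subgroupOf X)) ≤ Y := by
    intro x hx
    exact ⟨g * x * g⁻¹, hg ⟨x, hx, rfl⟩, by simp [mul_assoc]⟩
  obtain ⟨hRY, hnorm⟩ := Cfsg.Lib.Embedded.normCond_of_core R' hE.1 hcore
  have hconj := Cfsg.Lib.Embedded.conj_of_norm hnorm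
  have hle : (extH F Q).subgroupOf X ≤ Y.comap π := by
    suffices h : extH F Q ≤ (Y.comap π).map X.subtype by
      intro a ha
      obtain ⟨b, hb, hbe⟩ := h ha
      exact Subtype.ext hbe ▸ hb
    refine (Subgroup.closure_le _).mpr fun α hα => ?_
    have hαX := Ext.mem_autGroup hα
    refine ⟨⟨α, hαX⟩, ?_, rfl⟩
    obtain ⟨T, hT, f, hf, e⟩ := hα
    set T' := T ⊓ Subgroup.normalizer (Q : Set Ω)
    obtain ⟨t, ht, htQ⟩ := SetLike.exists_of_lt (lt_inf_normalizer hS hT hf.le : Q < T')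
    have htS : t ∈ S := hf.le ht.1
    set β : MulAut Q := conjAut Q t ht.2
    have hβS : β ∈ autInducedBy S Q := conjAut_mem_autInducedBy ht.2 htS
    have hβI : β ∉ Inn Q := fun h => htQ (mem_of_inn (hQc.2 Q (isConj_refl hQn.1)) htS ht.2 h hQn.1)
    have hconjS : α * β * α⁻¹ ∈ autInducedBy S Q := by
      refine mem_autInducedBy.mpr ⟨f t, hf.mem_S ht.1, fun x => ?_⟩
      have hxq : ((α⁻¹ x : Q) : Ω) ∈ Q := (α⁻¹ x).2
      have hfx : f ((α⁻¹ x : Q) : Ω) = x := by rw [e _ hxq, autFun_apply]; simp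
      show ((α (β (α⁻¹ x)) : Q) : Ω) = _
      rw [← autFun_apply α, ← e _ (β (α⁻¹ x)).2, conjAut_apply, hf.map_conj ht.1 (hT.le hxq), hfx]
    have hmemR : ∀ γ : X, (γ : MulAut Q) ∈ autInducedBy S Q → π γ ∈ (R' : Subgroup _) := by
      intro γ hγ
      rw [Sylow.coe_mapSurjective]
      exact ⟨γ, by rw [hR]; exact hγ, rfl⟩
    set u := π ⟨β, autInducedBy_le hQn.1 hβS⟩
    have hu1 : u ≠ 1 := fun h => hβI ((QuotientGroup.eq_one_iff (N := (Inn Q).subgroupOf X) _).mp h)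
    have huR : u ∈ (R' : Subgroup _) := hmemR _ hβS
    set x := π ⟨α, hαX⟩
    have hxu : x * u * x⁻¹ ∈ (R' : Subgroup _) := by
      show π ⟨α, hαX⟩ * π ⟨β, _⟩ * (π ⟨α, hαX⟩)⁻¹ ∈ _
      rw [← map_inv, ← map_mul, ← map_mul]
      exact hmemR _ hconjS
    show x ∈ Y
    by_contra hx
    refine hconj x hx ?_
    have hmem : x * u * x⁻¹ ∈ Y ⊓ Y.map (MulAut.conj x).toMonoidHom :=
      ⟨hRY hxu, u, hRY huR, rfl⟩
    set w : ↥(Y ⊓ Y.map (MulAut.conj x).toMonoidHom) := ⟨_, hmem⟩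
    obtain ⟨k, hk⟩ := IsPGroup.iff_orderOf.mp R'.2 ⟨_, hxu⟩
    rw [Subgroup.orderOf_mk] at hk
    have hk0 : k ≠ 0 := fun h0 => by
      rw [h0, pow_zero, orderOf_eq_one_iff, mul_inv_eq_one] at hk
      exact hu1 (mul_eq_left.mp hk)
    refine (dvd_pow_self p hk0).trans ?_
    rw [← hk]
    exact (Subgroup.orderOf_coe w) ▸ orderOf_dvd_natCard w
  intro heq
  refine hY (top_unique fun x _ => ?_)
  obtain ⟨a, rfl⟩ := hπs x
  refine hle ?_
  show (a : MulAut Q) ∈ extH F Q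
  rw [heq]
  exact a.2

/-- If some automorphism is not generated by extending ones, the subgroup is essential. -/
theorem essential_of_extH_ne (hS : IsPGroup p S) (hF : F.IsSaturated p) {Q : Subgroup Ω}
    (hQS : Q < S) (hQn : F.IsFullyNormalized Q) (hne : extH F Q ≠ F.autGroup Q) :
    F.IsEssential p Q ∧ ∃ _ : ((Inn Q).subgroupOf (F.autGroup Q)).Normal,
      IsStronglyPEmbedded p (((extH F Q).subgroupOf (F.autGroup Q)).map
        (QuotientGroup.mk' ((Inn Q).subgroupOf (F.autGroup Q)))) := by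
  obtain ⟨hfc, hfa, hrec⟩ := fullyNormalized_props hS hF hQn
  have := finite_of_le hQn.1
  have hC : centralizerIn S Q ≤ Q := by
    by_contra hC
    obtain ⟨c, hc, hcQ⟩ := SetLike.not_le_iff_exists.mp hC
    exact hne (le_antisymm extH_le fun α hα => Subgroup.subset_closure
      (ext_of_receptive hrec hα (centralizerIn_le_extSub Q _ hc) hcQ))
  have hQc := centric_of_fullyCentralized hS hF hfc hC
  haveI := inn_normal_autGroup F Q
  set X := F.autGroup Q
  obtain ⟨R, hR⟩ : ∃ R : Sylow p X, (R : Subgroup X) = (autInducedBy S Q).subgroupOf X := hfa.2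
  set π := QuotientGroup.mk' ((Inn Q).subgroupOf X)
  have hπs : Function.Surjective π := QuotientGroup.mk'_surjective _
  set H := (extH F Q).subgroupOf X
  have hkerH : π.ker ≤ H := by
    rw [QuotientGroup.ker_mk']
    intro β hβ
    exact autInducedBy_le_extH hS hQS (inn_le_autInducedBy hQn.1 hβ)
  have hsPE : IsStronglyPEmbedded p (H.map π) := by
    refine ⟨?_, ?_, R.mapSurjective hπs, ?_⟩
    · obtain ⟨β, hβ, hβI⟩ := exists_noninner hS hQS hC
      have hx : π ⟨β, autInducedBy_le hQn.1 hβ⟩ ≠ 1 := fun h =>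
        hβI ((QuotientGroup.eq_one_iff (N := (Inn Q).subgroupOf X) _).mp h)
      have hmem : π ⟨β, autInducedBy_le hQn.1 hβ⟩ ∈
          ((R.mapSurjective hπs : Sylow p _) : Subgroup (X ⧸ (Inn Q).subgroupOf X)) := by
        rw [Sylow.coe_mapSurjective]
        exact ⟨_, by rw [hR]; exact hβ, rfl⟩
      exact (Cfsg.Lib.Embedded.dvd_of_ne_bot (R.mapSurjective hπs).2 fun h => hx
        (Subgroup.mem_bot.mp (h ▸ hmem))).trans (Subgroup.card_subgroup_dvd_card _)
    · intro htop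
      refine hne (le_antisymm extH_le fun α hα => ?_)
      have h1 : H = ⊤ := by
        rw [← Subgroup.comap_map_eq_self hkerH, htop, Subgroup.comap_top]
      exact (h1.ge (Subgroup.mem_top (⟨α, hα⟩ : X)) : _)
    · rw [Cfsg.Lib.Embedded.core_le_iff]
      intro K hKR hKne x hx
      obtain ⟨α, rfl⟩ := hπs x
      obtain ⟨q, hq, hq1⟩ := (Subgroup.bot_or_exists_ne_one _).resolve_left hKne
      have hxq : π α * q * (π α)⁻¹ ∈ K := (Subgroup.mem_normalizer_iff.mp hx q).mp hq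
      obtain ⟨β, hβ, rfl⟩ := hKR hq
      obtain ⟨γ, hγ, hγe⟩ := hKR hxq
      refine ⟨α, ?_, rfl⟩
      rw [hR] at hβ hγ
      have hβI : (β : MulAut Q) ∉ Inn Q := fun hI => hq1 ((QuotientGroup.eq_one_iff _).mpr hI)
      obtain ⟨g, hg, eg⟩ := mem_autInducedBy.mp hβ
      have hgn := mem_normalizer_of_mem_autInducedBy eg
      have hconj : ((α * β * α⁻¹ : X) : MulAut Q) ∈ autInducedBy S Q := by
        have h1 : π (γ⁻¹ * (α * β * α⁻¹)) = 1 := by
          rw [map_mul, map_inv, map_mul, map_mul, map_inv, ← hγe]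
          group
        have hI := inn_le_autInducedBy hQn.1 ((QuotientGroup.eq_one_iff (N := (Inn Q).subgroupOf X) _).mp h1)
        have h2 := Subgroup.mul_mem _ hγ hI
        show ((α * β * α⁻¹ : X) : MulAut Q) ∈ autInducedBy S Q
        rw [mul_inv_cancel_left] at h2
        exact h2
      obtain ⟨h, hh, eh⟩ := mem_autInducedBy.mp hconj
      refine Subgroup.subset_closure (ext_of_receptive hrec α.2 (g := g) ⟨hg, hgn, h, hh, fun x hx => ?_⟩
        fun hgQ => hβI ⟨⟨g, hgQ⟩, MulEquiv.ext fun x => Subtype.ext (eg x).symm⟩)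
      rw [show g * x * g⁻¹ = (((β : MulAut Q) ⟨x, hx⟩ : Q) : Ω) from (eg ⟨x, hx⟩).symm, autFun_apply,
        autFun_apply_mem _ hx, ← eh]
      simp
  exact ⟨⟨hQc, hQn, inferInstance, _, hsPE⟩, inferInstance, hsPE⟩

end Emb

/-- A normalising map of `P` onto `Q`. -/
def NormMap (F : FusionSystem S) (Q P : Subgroup Ω) (g : Ω → Ω) : Prop :=
  IsMap F (normalizerIn S P) g ∧ img P g = Q

/-- The allowed maps. -/
def Ok (F : FusionSystem S) (Q P : Subgroup Ω) (f : Ω → Ω) : Prop :=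
  F.IsConj Q P → ∀ g g', NormMap F Q P g → NormMap F Q (img P f) g' →
    ∀ α : MulAut Q, (∀ x ∈ P, autFun α (g x) = g' (f x)) → α ∈ extH F Q

theorem Ok.congr {Q P : Subgroup Ω} {f f' : Ω → Ω} (e : ∀ x ∈ P, f' x = f x) (h : Ok F Q P f) :
    Ok F Q P f' := by
  intro hc g g' hg hg' α hα
  rw [img_congr e] at hg'
  exact h hc g g' hg hg' α fun x hx => by rw [hα x hx, e x hx]

theorem ok_restrict [Finite S] [Fact p.Prime] (hS : IsPGroup p S) {Q P T : Subgroup Ω} {k : Ω → Ω}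
    (hPT : P < T) (hk : IsMap F T k) : Ok F Q P k := fun _ _ _ hg hg' α hα =>
  Subgroup.subset_closure (ext_of_sandwich hS hPT hk hg.1 hg.2 hg'.1 α hα)

theorem Ok.mono [Finite S] [Fact p.Prime] (hS : IsPGroup p S) {Q P T : Subgroup Ω} {f : Ω → Ω}
    (hPT : P ≤ T) (hf : IsMap F T f) (h : Ok F Q T f) : Ok F Q P f := by
  rcases hPT.eq_or_lt with rfl | hlt
  · exact h
  · exact ok_restrict hS hlt hf

theorem exists_normMap [Finite S] [Fact p.Prime] (hS : IsPGroup p S) (hF : F.IsSaturated p)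
    {Q P : Subgroup Ω} (hQ : F.IsFullyNormalized Q) (h : F.IsConj Q P) : ∃ g, NormMap F Q P g := by
  obtain ⟨-, hfa, hrec⟩ := fullyNormalized_props hS hF hQ
  obtain ⟨f₀, hf₀, hi₀⟩ := isConj_iff.mp (isConj_symm h)
  obtain ⟨χ, -, f, hf, hi, -, -⟩ := exists_map_normalizer hS hfa hrec hf₀ hi₀
  exact ⟨f, hf, hi⟩

theorem exists_alpha {Q P : Subgroup Ω} {f g g' : Ω → Ω} (hf : IsMap F P f) (hg : NormMap F Q P g)
    (hg' : NormMap F Q (img P f) g') :
    ∃ α ∈ F.autGroup Q, ∀ x ∈ P, autFun α (g x) = g' (f x) := by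
  have hgP : IsMap F P g := hg.1.mono (le_normalizerIn hf.le)
  have hg'P : IsMap F (img P f) g' := hg'.1.mono (le_normalizerIn hf.img_le)
  obtain ⟨a, ha, hai, hal, har⟩ := hgP.exists_inv
  rw [hg.2] at ha hai
  have h1 : ∀ y ∈ Q, a y ∈ P := fun y hy => hai.le (IsMap.apply_mem_img hy)
  have h2 : ∀ y ∈ Q, f (a y) ∈ img P f := fun y hy => IsMap.apply_mem_img (h1 y hy)
  have hm := (ha.comp hf h1).comp hg'P h2
  have hi : img Q (g' ∘ f ∘ a) = Q := by
    refine le_antisymm (IsMap.img_le_iff.mpr fun y hy =>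
      hg'.2.le (IsMap.apply_mem_img (h2 y hy))) fun z hz => ?_
    obtain ⟨w, hw, rfl⟩ := hg'P.mem_img.mp (hg'.2.ge hz)
    obtain ⟨x, hx, rfl⟩ := hf.mem_img.mp hw
    exact hm.mem_img.mpr ⟨g x, hg.2.le (IsMap.apply_mem_img hx), by
      show g' (f (a (g x))) = _
      rw [hal x hx]⟩
  obtain ⟨α, hα, hαe⟩ := hm.exists_aut hi
  refine ⟨α, hα, fun x hx => ?_⟩
  rw [hαe _ (hg.2.le (IsMap.apply_mem_img hx))]
  show g' (f (a (g x))) = _
  rw [hal x hx]

theorem Ok.comp [Finite S] [Fact p.Prime] (hS : IsPGroup p S) (hF : F.IsSaturated p)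
    {Q P T : Subgroup Ω} (hQ : F.IsFullyNormalized Q) {f k : Ω → Ω} (hf : IsMap F P f)
    (hk : IsMap F T k) (hfT : ∀ x ∈ P, f x ∈ T) (h : Ok F Q P f) (h' : Ok F Q T k) :
    Ok F Q P (k ∘ f) := by
  intro hc g g'' hg hg'' α hα
  have hle : img P f ≤ T := IsMap.img_le_iff.mpr hfT
  have h'' := h'.mono hS hle hk
  have hk' := hk.mono hle
  rw [img_comp hf hk'] at hg''
  have hc' : F.IsConj Q (img P f) := isConj_trans hc (isConj_iff.mpr ⟨f, hf, rfl⟩)
  obtain ⟨g', hg'⟩ := exists_normMap hS hF hQ hc'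
  obtain ⟨α1, -, e1⟩ := exists_alpha hf hg hg'
  obtain ⟨α2, -, e2⟩ := exists_alpha hk' hg' hg''
  have hm1 := h hc g g' hg hg' α1 e1
  have hm2 := h'' hc' g' g'' hg' hg'' α2 e2
  have hgP : IsMap F P g := hg.1.mono (le_normalizerIn hf.le)
  have he : α = α2 * α1 := MulEquiv.ext fun y => Subtype.ext (by
    obtain ⟨x, hx, hxy⟩ := hgP.mem_img.mp (hg.2.ge y.2)
    rw [← autFun_apply α, ← autFun_apply (α2 * α1), ← hxy, hα x hx,
      autFun_mul α2 α1 (hxy ▸ y.2), e1 x hx, e2 _ (IsMap.apply_mem_img hx)]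
    rfl)
  exact he ▸ Subgroup.mul_mem _ hm2 hm1

/-- The subsystem avoiding the class of `Q`. -/
noncomputable def omitSystem [Finite S] [Fact p.Prime] (hS : IsPGroup p S) (hF : F.IsSaturated p)
    {Q : Subgroup Ω} (hQ : F.IsFullyNormalized Q) (hQS : Q < S) : FusionSystem S where
  Hom P := {φ | φ ∈ F.Hom P ∧ Ok F Q P (toFun' φ)}
  le_of_mem h := F.le_of_mem h.1
  injective_of_mem h := F.injective_of_mem h.1
  conj_mem := by
    intro P g hP hg
    refine ⟨F.conj_mem hP hg, ?_⟩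
    have h0 : Ok F Q P (fun x => g * x * g⁻¹) := by
      intro hc
      have hlt : P < S := lt_of_le_of_ne hP fun he => hQS.ne (by
        refine Subgroup.eq_of_le_of_card_ge hQS.le ?_
        rw [← isConj_card hc, he])
      exact ok_restrict hS hlt (isMap_conj le_rfl hg) hc
    exact h0.congr fun x hx => by rw [toFun'_apply_mem _ hx]; rfl
  comp_mem := by
    intro P T φ ψ hφ hψ h
    refine ⟨F.comp_mem hφ.1 hψ.1 h, ?_⟩
    refine (hφ.2.comp hS hF hQ (isMap_of_mem hφ.1) (isMap_of_mem hψ.1) (fun x hx => ?_) hψ.2).congr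
      fun x hx => ?_
    · rw [toFun'_apply_mem φ hx]
      exact h _
    · rw [toFun'_apply_mem _ hx]
      show _ = toFun' ψ (toFun' φ x)
      rw [toFun'_apply_mem φ hx, toFun'_apply_mem ψ (h ⟨x, hx⟩)]
      rfl
  inv_mem := by
    intro P φ hφ
    obtain ⟨ψ, hψ, hl⟩ := F.inv_mem hφ.1
    refine ⟨ψ, ⟨hψ, ?_⟩, hl⟩
    have hr : φ.range = img P (toFun' φ) :=
      (isMap_of_mem hφ.1).range_eq fun x => (toFun'_apply φ x).symm
    intro hc g g' hg hg' α hα
    have hf := isMap_of_mem hφ.1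
    have hl' : ∀ x ∈ P, toFun' ψ (toFun' φ x) = x := fun x hx => by
      rw [toFun'_apply_mem φ hx, toFun'_apply_mem ψ ⟨⟨x, hx⟩, rfl⟩]
      exact hl ⟨x, hx⟩
    have hi : img φ.range (toFun' ψ) = P := by
      refine le_antisymm (IsMap.img_le_iff.mpr fun y hy => ?_) fun x hx => ?_
      · obtain ⟨⟨x, hx⟩, rfl⟩ := hy
        rw [← toFun'_apply φ, hl' x hx]
        exact hx
      · rw [← hl' x hx]
        exact IsMap.apply_mem_img (hr.ge (IsMap.apply_mem_img hx))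
    rw [hi] at hg'
    rw [hr] at hg
    have hcP : F.IsConj Q P := isConj_trans hc
      (hr ▸ isConj_symm (isConj_iff.mpr ⟨toFun' φ, hf, rfl⟩))
    obtain ⟨β, -, hβe⟩ := exists_alpha hf hg' hg
    have hβ := hφ.2 hcP g' g hg' hg β hβe
    have hgP : IsMap F P g' := hg'.1.mono (le_normalizerIn hf.le)
    have he : α * β = 1 := MulEquiv.ext fun y => Subtype.ext (by
      obtain ⟨x, hx, hxy⟩ := hgP.mem_img.mp (hg'.2.ge y.2)
      rw [← autFun_apply (α * β), ← hxy, autFun_mul α β (hxy ▸ y.2), hβe x hx,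
        hα _ (hr.ge (IsMap.apply_mem_img hx)), hl' x hx, hxy]
      rfl)
    rw [eq_inv_of_mul_eq_one_left he]
    exact Subgroup.inv_mem _ hβ

/-- An essential class cannot be omitted. -/
theorem exists_omit [Finite S] [Fact p.Prime] (hS : IsPGroup p S) (hF : F.IsSaturated p)
    {Q : Subgroup Ω} (hQ : F.IsEssential p Q) :
    ∃ E : FusionSystem S, (∀ R : Subgroup Ω, ¬ F.IsConj Q R → F.autGroup R ≤ E.autGroup R) ∧
      ¬ F ≤ E := by
  have hQS := lt_of_essential hS hF hQ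
  have hQn := hQ.2.1
  refine ⟨omitSystem hS hF hQn hQS, fun R hR α hα => ?_, fun hle => ?_⟩
  · by_cases hRS : R ≤ S
    · refine (mem_autGroup (F := omitSystem hS hF hQn hQS) hRS).mpr
        ⟨(mem_autGroup hRS).mp hα, fun hc => absurd hc hR⟩
    · rw [autGroup_eq_bot_of_not_le hRS, Subgroup.mem_bot] at hα
      exact hα ▸ Subgroup.one_mem _
  · refine extH_ne_of_essential hS hF hQ (le_antisymm extH_le fun α hα => ?_)
    have h := (hle Q ((mem_autGroup hQn.1).mp hα)).2 (isConj_refl hQn.1)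
    refine h id id ⟨isMap_id inf_le_left, img_id Q⟩ ?_ α fun x hx => ?_
    · have : img Q (toFun' (Q.subtype.comp α.toMonoidHom)) = Q := by
        rw [img_congr (f' := autFun α) fun x hx => by
          rw [toFun'_apply_mem _ hx, autFun_apply_mem α hx]; rfl]
        exact img_autFun α
      rw [this]
      exact ⟨isMap_id inf_le_left, img_id Q⟩
    · show autFun α x = toFun' (Q.subtype.comp α.toMonoidHom) x
      rw [toFun'_apply_mem _ hx, autFun_apply_mem α hx]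
      rfl

/-- The maps that are inner on the whole of `S`. -/
noncomputable def topInnerSystem (G : FusionSystem S) [Finite S] : FusionSystem S where
  Hom P := {φ | φ ∈ G.Hom P ∧ (P = S → ∃ g ∈ S, ∀ x : P, φ x = g * x * g⁻¹)}
  le_of_mem h := G.le_of_mem h.1
  injective_of_mem h := G.injective_of_mem h.1
  conj_mem := fun hP hg => ⟨G.conj_mem hP hg, fun _ => ⟨_, hg, fun _ => rfl⟩⟩
  comp_mem := by
    intro P T φ ψ hφ hψ h
    refine ⟨G.comp_mem hφ.1 hψ.1 h, fun hPS => ?_⟩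
    subst hPS
    obtain ⟨g, hg, e⟩ := hφ.2 rfl
    have hT : T = P := by
      refine le_antisymm (G.le_of_mem hψ.1).1 fun x hx => ?_
      have h1 := h ⟨g⁻¹ * x * g, P.mul_mem (P.mul_mem (P.inv_mem hg) hx) hg⟩
      rw [e] at h1
      rw [show g * (g⁻¹ * x * g) * g⁻¹ = x by group] at h1
      exact h1
    obtain ⟨k, hk, ek⟩ := hψ.2 hT
    refine ⟨k * g, P.mul_mem hk hg, fun x => ?_⟩
    show ψ _ = _
    rw [ek]
    show k * φ x * k⁻¹ = _
    rw [e]
    group
  inv_mem := by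
    intro P φ hφ
    obtain ⟨ψ, hψ, hl⟩ := G.inv_mem hφ.1
    refine ⟨ψ, ⟨hψ, fun hr => ?_⟩, hl⟩
    have hPS : P = S := by
      have hc : Nat.card φ.range = Nat.card P :=
        (Nat.card_congr (MonoidHom.ofInjective (G.injective_of_mem hφ.1)).toEquiv).symm
      rw [hr] at hc
      exact Subgroup.eq_of_le_of_card_ge (G.le_of_mem hφ.1).1 hc.le
    subst hPS
    obtain ⟨g, hg, e⟩ := hφ.2 rfl
    refine ⟨g⁻¹, P.inv_mem hg, ?_⟩
    rintro ⟨_, x, rfl⟩
    rw [hl x]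
    show (x : Ω) = g⁻¹ * φ x * g⁻¹⁻¹
    rw [e]
    group

/-- Two conjugation closed generating families meet in a generating family. -/
theorem inter_generating [Finite S] [Fact p.Prime] (hS : IsPGroup p S) (hF : F.IsSaturated p)
    {𝒬₁ 𝒬₂ : Set (Subgroup Ω)} (h₁ : ∀ R ∈ 𝒬₁, ∀ R', F.IsConj R R' → R' ∈ 𝒬₁)
    (h₂ : ∀ R ∈ 𝒬₂, ∀ R', F.IsConj R R' → R' ∈ 𝒬₂)
    (hg₁ : ∀ E : FusionSystem S, (∀ R ∈ 𝒬₁, F.autGroup R ≤ E.autGroup R) → F ≤ E)
    (hg₂ : ∀ E : FusionSystem S, (∀ R ∈ 𝒬₂, F.autGroup R ≤ E.autGroup R) → F ≤ E)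
    (E : FusionSystem S) (hE : ∀ R ∈ 𝒬₁ ∩ 𝒬₂, F.autGroup R ≤ E.autGroup R) : F ≤ E := by
  have hmem : ∀ 𝒬 : Set (Subgroup Ω), (∀ R ∈ 𝒬, ∀ R', F.IsConj R R' → R' ∈ 𝒬) →
      (∀ E : FusionSystem S, (∀ R ∈ 𝒬, F.autGroup R ≤ E.autGroup R) → F ≤ E) →
      ∀ Q, F.IsEssential p Q → Q ∈ 𝒬 := by
    intro 𝒬 hcl hgen Q hQ
    by_contra hQm
    obtain ⟨E', hE', hne⟩ := exists_omit hS hF hQ
    exact hne (hgen E' fun R hR => hE' R fun hc => hQm (hcl R hR Q (isConj_symm hc)))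
  have htopmem : ∀ 𝒬 : Set (Subgroup Ω),
      (∀ E : FusionSystem S, (∀ R ∈ 𝒬, F.autGroup R ≤ E.autGroup R) → F ≤ E) → S ∉ 𝒬 →
      ∀ f, IsMap F S f → ∃ g ∈ S, ∀ x ∈ S, f x = g * x * g⁻¹ := by
    intro 𝒬 hgen hS' f hf
    have hle : F ≤ topInnerSystem (F := F) F := by
      refine hgen _ fun R hR α hα => ?_
      by_cases hRS : R ≤ S
      · exact (mem_autGroup (F := topInnerSystem (F := F) F) hRS).mpr
          ⟨(mem_autGroup hRS).mp hα, fun he => absurd (he ▸ hR) hS'⟩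
      · rw [autGroup_eq_bot_of_not_le hRS, Subgroup.mem_bot] at hα
        exact hα ▸ Subgroup.one_mem _
    obtain ⟨φ, hφ, e⟩ := hf
    obtain ⟨g, hg, eg⟩ := (hle S hφ).2 rfl
    exact ⟨g, hg, fun x hx => (e ⟨x, hx⟩).symm.trans (eg ⟨x, hx⟩)⟩
  intro P φ hφ
  refine IsMap.mem_of_agree ?_ fun x => (toFun'_apply φ x).symm
  refine alperin_induction hS hF (isMapClass_isMap F E) (fun f hf => ?_)
    (fun Q hQS hQn hQc hIH α hα => ?_) (isMap_of_mem hφ)
  · by_cases hS12 : S ∈ 𝒬₁ ∩ 𝒬₂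
    · obtain ⟨α, hα, hαe⟩ := hf.exists_aut (by
        refine Subgroup.eq_of_le_of_card_ge hf.img_le ?_
        rw [hf.card_img])
      exact ((isMap_autFun le_rfl).mpr (hE S hS12 hα)).congr fun x hx => (hαe x hx).symm
    · obtain ⟨g, hg, e⟩ : ∃ g ∈ S, ∀ x ∈ S, f x = g * x * g⁻¹ := by
        by_cases h : S ∈ 𝒬₁
        · exact htopmem 𝒬₂ hg₂ (fun h' => hS12 ⟨h, h'⟩) f hf
        · exact htopmem 𝒬₁ hg₁ h f hf
      exact (isMap_conj le_rfl hg).congr e
  · by_contra hbad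
    have hess := essential_of_bad hS hF (isMapClass_isMap F E) hQS hQn hQc hIH hα hbad
    exact hbad ((isMap_autFun hQn.1).mpr
      (hE Q ⟨hmem 𝒬₁ h₁ hg₁ Q hess, hmem 𝒬₂ h₂ hg₂ Q hess⟩ hα))

/-- The dichotomy at a proper fully normalized subgroup. -/
theorem essential_dichotomy [Finite S] [Fact p.Prime] (hS : IsPGroup p S) (hF : F.IsSaturated p)
    {P : Subgroup Ω} (hPS : P < S) (hPn : F.IsFullyNormalized P) :
    (¬ F.IsEssential p P ∧ extH F P = F.autGroup P) ∨ (F.IsEssential p P ∧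
      ∃ _ : ((Inn P).subgroupOf (F.autGroup P)).Normal,
        IsStronglyPEmbedded p (((extH F P).subgroupOf (F.autGroup P)).map
          (QuotientGroup.mk' ((Inn P).subgroupOf (F.autGroup P))))) := by
  by_cases h : extH F P = F.autGroup P
  · exact Or.inl ⟨fun he => extH_ne_of_essential hS hF he h, h⟩
  · exact Or.inr (essential_of_extH_ne hS hF hPS hPn h)

theorem extH_eq {P : Subgroup Ω} :
    extH F P = Subgroup.closure {α : MulAut P | ∃ (Q : Subgroup Ω) (hPQ : P < Q) (φ : Q →* Ω),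
      φ ∈ F.Hom Q ∧ ∀ x : P, φ (Subgroup.inclusion hPQ.le x) = α x} := by
  unfold extH
  congr 1
  ext α
  constructor
  · rintro ⟨T, hT, f, ⟨φ, hφ, e⟩, hag⟩
    refine ⟨T, hT, φ, hφ, fun x => ?_⟩
    rw [e]
    exact (hag x x.2).trans (autFun_apply α x)
  · rintro ⟨T, hT, φ, hφ, e⟩
    refine ⟨T, hT, toFun' φ, isMap_of_mem hφ, fun x hx => ?_⟩
    rw [toFun'_apply_mem φ (hT.le hx), autFun_apply_mem α hx]
    exact e ⟨x, hx⟩

end Cfsg.Lib.Fusion.EssentialGen
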