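import Cfsg.Agent.Fusion.EssentialSylow
import Cfsg.Agent.PGroups.AutOrder

/-!
Automorphism groups with a unique Sylow `p`-subgroup: cyclic groups and two-generator groups with an
invariant subgroup of index `p`.
-/

set_option autoImplicit false

namespace Cfsg.Lib.Fusion

open Subgroup

variable {p : ℕ} [hp : Fact p.Prime]

/-- A `p`-element of the automorphism group fixes the cosets of an invariant subgroup of index
dividing `p`. -/
theorem mul_inv_mem_of_index_dvd {Q : Type*} [Group Q] [Finite Q] (N : Subgroup Q) [hN : N.Normal]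
    (hi : N.index ∣ p) (a : MulAut Q) (hinv : ∀ q ∈ N, a q ∈ N) (hpa : ∃ k : ℕ, a ^ p ^ k = 1)
    (q : Q) : a q * q⁻¹ ∈ N := by
  rcases (Nat.dvd_prime hp.out).1 hi with h | h
  · rw [Subgroup.index_eq_one.1 h]; exact mem_top _
  have hmap : N.map (a : Q ≃* Q).toMonoidHom = N := by
    refine Subgroup.eq_of_le_of_card_ge ?_ (le_of_eq
      (Nat.card_congr (N.equivMapOfInjective (a : Q ≃* Q).toMonoidHom a.injective).toEquiv))
    rintro _ ⟨x, hx, rfl⟩
    exact hinv x hx
  let f : MulAut (Q ⧸ N) := QuotientGroup.congr _ _ a hmap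
  have hf : ∀ x : Q, f (x : Q ⧸ N) = ((a x : Q) : Q ⧸ N) := fun x => rfl
  have hiter : ∀ (j : ℕ) (x : Q), (f ^ j) (x : Q ⧸ N) = (((a ^ j) x : Q) : Q ⧸ N) := by
    intro j
    induction j with
    | zero => intro x; rfl
    | succ j ih => intro x; rw [pow_succ, MulAut.mul_apply, hf, ih, pow_succ, MulAut.mul_apply]
  obtain ⟨k, hk⟩ := hpa
  have hfk : f ^ p ^ k = 1 := by
    refine MulEquiv.ext fun x => ?_
    obtain ⟨x, rfl⟩ := QuotientGroup.mk_surjective x
    rw [hiter, hk]
    rfl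
  haveI : IsCyclic (Q ⧸ N) := isCyclic_of_prime_card (p := p) (by
    rw [← Subgroup.index_eq_card, h])
  have hcard : Nat.card (MulAut (Q ⧸ N)) = p - 1 := by
    rw [IsCyclic.card_mulAut, ← Subgroup.index_eq_card, h, Nat.totient_prime hp.out]
  haveI : Finite (MulAut (Q ⧸ N)) :=
    Finite.of_injective (fun f : MulAut (Q ⧸ N) => (f : Q ⧸ N → Q ⧸ N)) DFunLike.coe_injective
  have h1 : orderOf f = 1 := by
    refine Nat.eq_one_of_dvd_coprimes (Nat.Coprime.pow_left k ?_) (orderOf_dvd_of_pow_eq_one hfk)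
      (hcard ▸ orderOf_dvd_natCard f)
    exact (Nat.Prime.coprime_iff_not_dvd hp.out).2 fun hd => by
      have := hp.out.two_le
      have := Nat.le_of_dvd (by omega) hd
      omega
  rw [← QuotientGroup.eq_one_iff, QuotientGroup.mk_mul, QuotientGroup.mk_inv, ← hf,
    orderOf_eq_one_iff.1 h1, MulAut.one_apply, mul_inv_cancel]

theorem subsingleton_sylow_of_le {G : Type*} [Group G] [Finite G] (K : Subgroup G)
    (hK : IsPGroup p K) (hall : ∀ x : G, (∃ k : ℕ, x ^ p ^ k = 1) → x ∈ K) :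
    Subsingleton (Sylow p G) := by
  refine ⟨fun R₁ R₂ => Sylow.ext ?_⟩
  have h : ∀ R : Sylow p G, (R : Subgroup G) ≤ K := fun R x hx => by
    obtain ⟨k, hk⟩ := R.2 ⟨x, hx⟩
    exact hall x ⟨k, congrArg Subtype.val hk⟩
  exact (R₁.3 hK (h R₁)).symm.trans (R₂.3 hK (h R₂))

theorem subsingleton_sylow_aut_of_cyclic {Q : Type*} [Group Q] [Finite Q] [IsCyclic Q]
    (A : Subgroup (MulAut Q)) : Subsingleton (Sylow p A) := by
  haveI : Finite (MulAut Q) :=
    Finite.of_injective (fun f : MulAut Q => (f : Q → Q)) DFunLike.coe_injective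
  haveI : IsMulCommutative (MulAut Q) := ⟨⟨fun a b => by
    obtain ⟨g, hg⟩ := IsCyclic.exists_generator (α := Q)
    obtain ⟨i, hi : g ^ i = a g⟩ := hg (a g)
    obtain ⟨j, hj : g ^ j = b g⟩ := hg (b g)
    refine MulEquiv.ext fun y => ?_
    obtain ⟨k, rfl⟩ := hg y
    simp only [MulAut.mul_apply, map_zpow, ← hi, ← hj, ← zpow_mul]
    ring_nf⟩⟩
  obtain ⟨R⟩ : Nonempty (Sylow p A) := inferInstance
  exact (Sylow.unique_of_normal R inferInstance).instSubsingleton

/-- A two-generator `p`-group with an invariant subgroup of index `p`. -/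
theorem subsingleton_sylow_aut_of_char {Q : Type*} [Group Q] [Finite Q] (hQ : IsPGroup p Q)
    (hr : (frattini Q).index ∣ p ^ 2) (M : Subgroup Q) (hM : M.index = p)
    (A : Subgroup (MulAut Q)) (hinv : ∀ a ∈ A, ∀ q ∈ M, a q ∈ M) :
    Subsingleton (Sylow p A) := by
  haveI : Finite (MulAut Q) :=
    Finite.of_injective (fun f : MulAut Q => (f : Q → Q)) DFunLike.coe_injective
  set Φ := frattini Q
  have hMn : M.Normal := by
    refine Subgroup.normal_of_index_eq_minFac_card ?_
    obtain ⟨n, hn⟩ := IsPGroup.iff_card.mp hQ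
    have hn0 : n ≠ 0 := by
      intro h0
      have := Subgroup.index_dvd_card M
      rw [hM, hn, h0, pow_zero, Nat.dvd_one] at this
      exact hp.out.ne_one this
    rw [hM, hn, Nat.pow_minFac hn0, hp.out.minFac_eq]
  have hΦM : Φ ≤ M := by
    refine frattini_le_coatom ⟨fun h => by rw [h, index_top] at hM; exact hp.out.ne_one hM.symm,
      fun L hL => ?_⟩
    rcases (Nat.dvd_prime hp.out).mp (hM ▸ index_dvd_of_le hL.le) with h | h
    · exact index_eq_one.mp h
    · refine absurd (relIndex_eq_one.mp ?_) hL.not_ge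
      have h2 := relIndex_mul_index hL.le
      rw [hM, h] at h2
      exact Nat.eq_of_mul_eq_mul_right hp.out.pos (h2.trans (one_mul p).symm)
  have hrel : Φ.relIndex M ∣ p := by
    have h2 := relIndex_mul_index hΦM
    rw [hM] at h2
    refine Nat.dvd_of_mul_dvd_mul_right hp.out.pos ?_
    rw [h2, ← pow_two]
    exact hr
  have hΦc : ∀ (a : MulAut Q), ∀ q ∈ Φ, a q ∈ Φ := fun a q hq => by
    have hc : (frattini Q).Characteristic := inferInstance
    rw [characteristic_iff_map_le] at hc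
    exact hc a ⟨q, hq, rfl⟩
  let K : Subgroup A :=
    { carrier := {a | (∀ q, (a : MulAut Q) q * q⁻¹ ∈ M) ∧ ∀ m ∈ M, (a : MulAut Q) m * m⁻¹ ∈ Φ}
      one_mem' := ⟨fun q => by simp, fun m _ => by simp⟩
      mul_mem' := by
        rintro a b ⟨ha1, ha2⟩ ⟨hb1, hb2⟩
        refine ⟨fun q => ?_, fun m hm => ?_⟩
        · have h := M.mul_mem (ha1 ((b : MulAut Q) q)) (hb1 q)
          simpa [MulAut.mul_apply, mul_assoc] using h
        · have h := Φ.mul_mem (ha2 ((b : MulAut Q) m) (hinv _ b.2 m hm)) (hb2 m hm)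
          simpa [MulAut.mul_apply, mul_assoc] using h
      inv_mem' := by
        rintro a ⟨ha1, ha2⟩
        refine ⟨fun q => ?_, fun m hm => ?_⟩
        · have h := M.inv_mem (ha1 ((a : MulAut Q)⁻¹ q))
          simpa using h
        · have h := Φ.inv_mem (ha2 ((a : MulAut Q)⁻¹ m) (hinv _ (A.inv_mem a.2) m hm))
          simpa using h }
  refine subsingleton_sylow_of_le K ?_ ?_
  · -- the `p`-th power is trivial on the Frattini quotient
    rintro ⟨a, ha1, ha2⟩
    set b : MulAut Q := (a : MulAut Q)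
    have hfix : ∀ (j : ℕ), ∀ m ∈ M, (b ^ j) m * m⁻¹ ∈ Φ := by
      intro j
      induction j with
      | zero => intro m _; simp
      | succ j ih =>
        intro m hm
        have h := Φ.mul_mem (ih (b m) (hinv _ a.2 m hm)) (ha2 m hm)
        simpa [pow_succ, MulAut.mul_apply, mul_assoc] using h
    have hiter : ∀ (q : Q) (j : ℕ), (((b ^ j) q : Q) : Q ⧸ Φ) =
        ((b q * q⁻¹ : Q) : Q ⧸ Φ) ^ j * (q : Q ⧸ Φ) := by
      intro q j
      induction j with
      | zero => simp
      | succ j ih =>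
        have e : (b ^ (j + 1)) q = ((b ^ j) (b q * q⁻¹) * (b q * q⁻¹)⁻¹) * (b q * q⁻¹) * (b ^ j) q := by
          rw [pow_succ, MulAut.mul_apply, map_mul, map_inv]
          group
        rw [e, QuotientGroup.mk_mul, QuotientGroup.mk_mul,
          (QuotientGroup.eq_one_iff _).2 (hfix j _ (ha1 q)), one_mul, ih, pow_succ', mul_assoc]
    have hbp : ∀ q, (b ^ p) q * q⁻¹ ∈ Φ := fun q => by
      rw [← QuotientGroup.eq_one_iff, QuotientGroup.mk_mul, hiter,
        Cfsg.Lib.PGroups.pow_prime_quotient_frattini hQ, one_mul, QuotientGroup.mk_inv, mul_inv_cancel]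
    obtain ⟨n, hn⟩ := IsPGroup.iff_card.mp hQ
    obtain ⟨r, -, hr'⟩ := (Nat.dvd_prime_pow hp.out).mp (hn ▸ Φ.index_dvd_card)
    let St : Subgroup (MulAut Q) :=
      { carrier := {c | ∀ x, c x * x⁻¹ ∈ Φ}
        one_mem' := fun x => by simp
        mul_mem' := fun {c d} hc hd x => by
          have h := Φ.mul_mem (hc (d x)) (hd x)
          simpa [MulAut.mul_apply, mul_assoc] using h
        inv_mem' := fun {c} hc x => by simpa using Φ.inv_mem (hc (c⁻¹ x)) }
    have hdvd := Cfsg.Lib.PGroups.card_stabilizing_dvd hn hr' (zpowers (b ^ p)) fun c hc x =>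
      (zpowers_le.mpr (show b ^ p ∈ St from hbp)) hc x
    rw [Nat.card_zpowers] at hdvd
    refine ⟨1 + r * (n - r), Subtype.ext (Subtype.ext ?_)⟩
    show b ^ p ^ (1 + r * (n - r)) = 1
    rw [pow_add, pow_one, pow_mul]
    exact orderOf_dvd_iff_pow_eq_one.1 hdvd
  · rintro a ⟨k, hk⟩
    have hk' : (a : MulAut Q) ^ p ^ k = 1 := congrArg Subtype.val hk
    refine ⟨mul_inv_mem_of_index_dvd M (hN := hMn) (hM ▸ dvd_rfl) _ (hinv _ a.2) ⟨k, hk'⟩,
      fun m hm => ?_⟩
    have hmap : M.map ((a : MulAut Q) : Q ≃* Q).toMonoidHom = M := by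
      refine Subgroup.eq_of_le_of_card_ge ?_ (le_of_eq
        (Nat.card_congr (M.equivMapOfInjective _ (a : MulAut Q).injective).toEquiv))
      rintro _ ⟨x, hx, rfl⟩
      exact hinv _ a.2 x hx
    let a' : MulAut M := ((a : MulAut Q).subgroupMap M).trans (MulEquiv.subgroupCongr hmap)
    have ha' : ∀ x : M, (a' x : Q) = (a : MulAut Q) x := fun x => rfl
    have hiter : ∀ (j : ℕ) (x : M), ((a' ^ j) x : Q) = ((a : MulAut Q) ^ j) x := by
      intro j
      induction j with
      | zero => intro x; rfl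
      | succ j ih => intro x; rw [pow_succ, MulAut.mul_apply, ih, ha', pow_succ, MulAut.mul_apply]
    have hk'' : a' ^ p ^ k = 1 := MulEquiv.ext fun x => Subtype.ext (by rw [hiter, hk']; rfl)
    exact mul_inv_mem_of_index_dvd (Φ.subgroupOf M) (hN := inferInstance) hrel a'
      (fun x hx => hΦc (a : MulAut Q) x hx) ⟨k, hk''⟩ ⟨m, hm⟩

end Cfsg.Lib.Fusion
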