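import Cfsg.Agent.Fusion.AbelianIndexP
import Cfsg.Agent.Fusion.EssentialShape
import Cfsg.Agent.Fusion.NormalCriteria
import Cfsg.Agent.Fusion.EssentialGen

/-!
The shape of the essential subgroups and of the central quotient over a nonabelian `p`-group with a
unique abelian subgroup of index `p`.
-/

set_option autoImplicit false
set_option linter.style.haveILetI false
set_option linter.unusedSectionVars false

namespace Cfsg.Lib.Fusion

open Cfsg Cfsg.FusionSystem
open scoped commutatorElement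

variable {Ω : Type*} [Group Ω] {S : Subgroup Ω} {F : FusionSystem S} {p : ℕ}

/-- A chain stabilizer realized by a normalized subgroup pulls it inside an essential subgroup. -/
theorem le_of_chain_radical [Finite S] [Fact p.Prime] (hS : IsPGroup p S) {P : Subgroup Ω}
    (hP : F.IsEssential p P) {R M : Subgroup Ω} (hRS : R ≤ S)
    (hn : S ≤ Subgroup.normalizer (R : Set Ω))
    (hMinv : ∀ α ∈ F.autGroup P, ∀ m : P, (m : Ω) ∈ M → ((α m : P) : Ω) ∈ M)
    (hR : ∀ g ∈ R, g ∈ Subgroup.normalizer (P : Set Ω) → ∀ q ∈ P,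
      q⁻¹ * (g * q * g⁻¹) ∈ M ∧ (q ∈ M → g * q * g⁻¹ = q)) : R ≤ P := by
  classical
  have hPc := hP.1
  haveI := finite_of_le hPc.1
  let K : Subgroup (MulAut P) :=
    { carrier := {α | α ∈ F.autGroup P ∧ (∀ m : P, (m : Ω) ∈ M → α m = m) ∧
        ∀ q : P, ((q⁻¹ * α q : P) : Ω) ∈ M}
      one_mem' := ⟨Subgroup.one_mem _, fun m _ => rfl, fun q => by simp⟩
      mul_mem' := by
        rintro a b ⟨ha, a1, a2⟩ ⟨hb, b1, b2⟩
        refine ⟨Subgroup.mul_mem _ ha hb, fun m hm => by rw [MulAut.mul_apply, b1 m hm, a1 m hm],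
          fun q => ?_⟩
        have e : q⁻¹ * (a * b) q = (q⁻¹ * a q) * a (q⁻¹ * b q) := by
          rw [map_mul, map_inv, MulAut.mul_apply]; group
        rw [e, Subgroup.coe_mul, a1 _ (b2 q)]
        exact M.mul_mem (a2 q) (b2 q)
      inv_mem' := by
        rintro a ⟨ha, a1, a2⟩
        refine ⟨Subgroup.inv_mem _ ha, fun m hm => ?_, fun q => ?_⟩
        · conv_lhs => rw [← a1 m hm, MulAut.inv_apply_self]
        · have h1 := a2 (a⁻¹ q)
          rw [MulAut.apply_inv_self] at h1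
          have h2 := M.inv_mem h1
          rw [← Subgroup.coe_inv, mul_inv_rev, inv_inv] at h2
          exact h2 }
  refine le_of_radical hS hRS hn hPc (radical_of_stronglyEmbedded hS hP) K ?_ (fun _ h => h.1) ?_ ?_
  · rintro γ hγ α ⟨hα, h1, h2⟩
    refine ⟨Subgroup.mul_mem _ (Subgroup.mul_mem _ hγ hα) (Subgroup.inv_mem _ hγ), fun m hm => ?_,
      fun q => ?_⟩
    · rw [MulAut.mul_apply, MulAut.mul_apply, h1 _ (hMinv _ (Subgroup.inv_mem _ hγ) m hm),
        MulAut.apply_inv_self]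
    · have e : q⁻¹ * (γ * α * γ⁻¹) q = γ ((γ⁻¹ q)⁻¹ * α (γ⁻¹ q)) := by
        rw [map_mul, map_inv, MulAut.apply_inv_self]; rfl
      rw [e]
      exact hMinv _ hγ _ (h2 (γ⁻¹ q))
  · rintro ⟨α, hα, h1, h2⟩
    obtain ⟨k, hk⟩ := IsPGroup.iff_card.mp (hS.to_le hPc.1)
    refine ⟨k, Subtype.ext (MulEquiv.ext fun q => ?_)⟩
    show (α ^ p ^ k) q = q
    have hiter : ∀ i : ℕ, (α ^ i) q = q * (q⁻¹ * α q) ^ i := by
      intro i
      induction i with
      | zero => simp
      | succ i ih =>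
        rw [pow_succ', MulAut.mul_apply, ih, map_mul, map_pow, h1 _ (h2 q), pow_succ' (q⁻¹ * α q),
          ← mul_assoc q, mul_inv_cancel_left]
    rw [hiter, ← hk, pow_card_eq_one', mul_one]
  · intro g hg hgn
    refine ⟨autInducedBy_le hPc.1 (conjAut_mem_autInducedBy hgn (hRS hg)), fun m hm => Subtype.ext ?_,
      fun q => ?_⟩
    · rw [conjAut_apply]
      exact (hR g hg hgn m m.2).2 hm
    · rw [Subgroup.coe_mul, Subgroup.coe_inv, conjAut_apply]
      exact (hR g hg hgn q q.2).1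

namespace AbIndexP

variable [Finite S] [Fact p.Prime] {A : Subgroup Ω} {x : Ω}

theorem conj_memA (h : AbIndexP F p A) {g a : Ω} (hg : g ∈ S) (ha : a ∈ A) : g * a * g⁻¹ ∈ A :=
  conj_mem_of_mem_normalizer (h.normalizes hg) ha

/-- The displacement by `x`, an endomorphism of `A`. -/
def dmap (h : AbIndexP F p A) (hx : x ∈ S) : A →* A :=
  MonoidHom.mk' (fun a => ⟨(a : Ω)⁻¹ * (x * a * x⁻¹), A.mul_mem (A.inv_mem a.2) (h.conj_memA hx a.2)⟩)
    fun a b => Subtype.ext (by
      have hc : Commute (b : Ω)⁻¹ ((a : Ω)⁻¹ * (x * a * x⁻¹)) :=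
        h.comm _ (A.inv_mem b.2) _ (A.mul_mem (A.inv_mem a.2) (h.conj_memA hx a.2))
      simp only [Subgroup.coe_mul]
      calc ((a : Ω) * b)⁻¹ * (x * (a * b) * x⁻¹)
          = (b : Ω)⁻¹ * ((a : Ω)⁻¹ * (x * a * x⁻¹)) * (x * b * x⁻¹) := by group
        _ = ((a : Ω)⁻¹ * (x * a * x⁻¹)) * (b : Ω)⁻¹ * (x * b * x⁻¹) := by rw [hc.eq]
        _ = _ := by group)

theorem dmap_coe (h : AbIndexP F p A) (hx : x ∈ S) (a : A) :
    ((h.dmap hx a : A) : Ω) = (a : Ω)⁻¹ * (x * a * x⁻¹) := rfl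

theorem ker_dmap (h : AbIndexP F p A) (hx : x ∈ S) (hxA : x ∉ A) :
    (h.dmap hx).ker = (zcen S).subgroupOf A := by
  ext a
  rw [MonoidHom.mem_ker, Subgroup.mem_subgroupOf, h.mem_zcen_iff hx hxA a.2]
  constructor
  · intro e
    have e' := congrArg Subtype.val e
    rw [dmap_coe, Subgroup.coe_one, inv_mul_eq_one] at e'
    exact (eq_mul_inv_iff_mul_eq.mp e').symm
  · intro e
    refine Subtype.ext ?_
    rw [dmap_coe, e, mul_inv_cancel_right, inv_mul_cancel, Subgroup.coe_one]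

theorem card_zA (h : AbIndexP F p A) : Nat.card ((zcen S).subgroupOf A) = Nat.card (zcen S) :=
  Nat.card_congr (Subgroup.subgroupOfEquivOfLe h.zcen_le_A).toEquiv

theorem card_comap (h : AbIndexP F p A) (hx : x ∈ S) (hxA : x ∉ A) (K : Subgroup A) :
    Nat.card (K.comap (h.dmap hx)) = Nat.card (zcen S) * Nat.card ((h.dmap hx).range ⊓ K : Subgroup A) := by
  set d := h.dmap hx
  let e : K.comap d →* A := d.comp (K.comap d).subtype
  have h1 := e.ker.card_mul_index
  rw [Subgroup.index_ker] at h1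
  have hr : e.range = d.range ⊓ K := by
    ext y
    constructor
    · rintro ⟨a, rfl⟩
      exact ⟨⟨a.1, rfl⟩, a.2⟩
    · rintro ⟨⟨a, rfl⟩, hy⟩
      exact ⟨⟨a, hy⟩, rfl⟩
  have hk : Nat.card e.ker = Nat.card d.ker := Nat.card_congr
    { toFun := fun a => ⟨a.1.1, a.2⟩
      invFun := fun a => ⟨⟨a.1, by
        rw [Subgroup.mem_comap, MonoidHom.mem_ker.mp a.2]
        exact K.one_mem⟩, a.2⟩
      left_inv := fun _ => rfl
      right_inv := fun _ => rfl }
  rw [hr, hk, h.ker_dmap hx hxA, h.card_zA] at h1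
  exact h1.symm

theorem card_A (h : AbIndexP F p A) (hx : x ∈ S) (hxA : x ∉ A) :
    Nat.card A = Nat.card (zcen S) * Nat.card (h.dmap hx).range := by
  have := h.card_comap hx hxA ⊤
  rwa [Subgroup.comap_top, Subgroup.card_top, inf_top_eq] at this

theorem card_range_inf (h : AbIndexP F p A) (hx : x ∈ S) (hxA : x ∉ A) :
    Nat.card ((h.dmap hx).range ⊓ (zcen S).subgroupOf A : Subgroup A) =
      Nat.card ↥(dcom S ⊓ zcen S) := by
  refine Nat.card_congr
    { toFun := fun y => ⟨((y : A) : Ω), ?_, y.2.2⟩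
      invFun := fun z => ⟨⟨z, h.zcen_le_A z.2.2⟩, ?_, z.2.2⟩
      left_inv := fun _ => rfl
      right_inv := fun _ => rfl }
  · obtain ⟨a, ha⟩ := y.2.1
    rw [← ha, dmap_coe]
    exact mem_dcom (h.le a.2) hx
  · obtain ⟨a, ha, e⟩ := h.exists_diff hx hxA z.2.1
    exact ⟨⟨a, ha⟩, Subtype.ext e⟩

/-- The elements of `A` moved into the centre. -/
def ctwo (h : AbIndexP F p A) (hx : x ∈ S) : Subgroup Ω :=
  (((zcen S).subgroupOf A).comap (h.dmap hx)).map A.subtype

theorem mem_ctwo (h : AbIndexP F p A) (hx : x ∈ S) {a : Ω} :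
    a ∈ h.ctwo hx ↔ a ∈ A ∧ a⁻¹ * (x * a * x⁻¹) ∈ zcen S :=
  ⟨fun ⟨b, hb, e⟩ => e ▸ ⟨b.2, hb⟩, fun ⟨ha, h1⟩ => ⟨⟨a, ha⟩, h1, rfl⟩⟩

theorem card_ctwo (h : AbIndexP F p A) (hx : x ∈ S) (hxA : x ∉ A) :
    Nat.card (h.ctwo hx) = Nat.card (zcen S) * Nat.card ↥(dcom S ⊓ zcen S) := by
  rw [ctwo, Subgroup.card_map_of_injective A.subtype_injective, h.card_comap hx hxA,
    h.card_range_inf hx hxA]

/-- All of `S` moves an element of `ctwo` by the centre. -/
theorem ctwo_disp (h : AbIndexP F p A) (hx : x ∈ S) (hxA : x ∉ A) {a : Ω} (ha : a ∈ h.ctwo hx)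
    {s : Ω} (hs : s ∈ S) : a⁻¹ * (s * a * s⁻¹) ∈ zcen S := by
  obtain ⟨haA, hz⟩ := (h.mem_ctwo hx).mp ha
  let T : Subgroup Ω :=
    { carrier := {s | s ∈ S ∧ a⁻¹ * (s * a * s⁻¹) ∈ zcen S}
      one_mem' := ⟨S.one_mem, by simp [Subgroup.one_mem]⟩
      mul_mem' := fun {u v} hu hv => ⟨S.mul_mem hu.1 hv.1, by
        have hc := (mem_zcen.mp hv.2).2 u hu.1
        have e : a⁻¹ * (u * v * a * (u * v)⁻¹) =
            (a⁻¹ * (u * a * u⁻¹)) * (u * (a⁻¹ * (v * a * v⁻¹)) * u⁻¹) := by group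
        rw [e, hc, mul_inv_cancel_right]
        exact Subgroup.mul_mem _ hu.2 hv.2⟩
      inv_mem' := fun {u} hu => ⟨S.inv_mem hu.1, by
        have hzz := Subgroup.inv_mem _ hu.2
        have hc := (mem_zcen.mp hzz).2 u⁻¹ (S.inv_mem hu.1)
        have e : a⁻¹ * (u⁻¹ * a * u⁻¹⁻¹) = u⁻¹ * (a⁻¹ * (u * a * u⁻¹))⁻¹ * u := by group
        rw [e, hc, inv_mul_cancel_right]
        exact hzz⟩ }
  obtain ⟨b, hb, i, rfl⟩ := h.sup_zpowers hx hxA hs
  have hbT : b ∈ T := ⟨h.le hb, by rw [h.comm b hb a haA, mul_inv_cancel_right, inv_mul_cancel]; exact Subgroup.one_mem _⟩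
  exact (T.mul_mem hbT (T.zpow_mem (⟨hx, hz⟩ : x ∈ T) i)).2

theorem ctwo_normalized (h : AbIndexP F p A) (hx : x ∈ S) (hxA : x ∉ A) :
    S ≤ Subgroup.normalizer (h.ctwo hx : Set Ω) := by
  haveI : Finite (h.ctwo hx) := finite_of_le ((Subgroup.map_subtype_le _).trans h.le)
  intro s hs
  refine mem_normalizer_of_maps_finite fun a ha => ?_
  have hz := h.ctwo_disp hx hxA ha hs
  have hmem : a⁻¹ * (s * a * s⁻¹) ∈ h.ctwo hx := (h.mem_ctwo hx).mpr ⟨h.zcen_le_A hz, by
    rw [(mem_zcen.mp hz).2 x hx, mul_inv_cancel_right, inv_mul_cancel]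
    exact Subgroup.one_mem _⟩
  have := (h.ctwo hx).mul_mem ha hmem
  rwa [mul_inv_cancel_left] at this

theorem z2_eq (h : AbIndexP F p A) (hx : x ∈ S) (hxA : x ∉ A) (hne : h.ctwo hx ≠ A) :
    (upperCentralSeries S 2).map S.subtype = h.ctwo hx := by
  have hmem : ∀ s : S, s ∈ upperCentralSeries S 2 ↔
      ∀ t ∈ S, (s : Ω) * t * (s : Ω)⁻¹ * t⁻¹ ∈ zcen S := by
    intro s
    show s ∈ Subgroup.upperCentralSeries S (1 + 1) ↔ _
    rw [Subgroup.mem_upperCentralSeries_succ_iff, Subgroup.upperCentralSeries_one]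
    constructor
    · intro hs t ht
      exact ⟨_, hs ⟨t, ht⟩, by simp [commutatorElement_def]⟩
    · intro hs t
      obtain ⟨z, hz, e⟩ := hs t t.2
      rwa [show ⁅s, t⁆ = z from Subtype.ext (by simpa [commutatorElement_def] using e.symm)]
  apply le_antisymm
  · rintro _ ⟨s, hs, rfl⟩
    have hs' := (hmem s).mp hs
    by_cases hsA : (s : Ω) ∈ A
    · refine (h.mem_ctwo hx).mpr ⟨hsA, ?_⟩
      have h1 := Subgroup.inv_mem _ (hs' x hx)
      have h2 := (mem_zcen.mp h1).2 (s : Ω)⁻¹ (S.inv_mem s.2)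
      have e : (s : Ω)⁻¹ * (x * s * x⁻¹) = (s : Ω)⁻¹ * ((s : Ω) * x * (s : Ω)⁻¹ * x⁻¹)⁻¹ * s := by group
      show (s : Ω)⁻¹ * (x * s * x⁻¹) ∈ zcen S
      rw [e, h2, inv_mul_cancel_right]
      exact h1
    · exfalso
      refine hne (le_antisymm (Subgroup.map_subtype_le _) fun a ha => (h.mem_ctwo hx).mpr ⟨ha, ?_⟩)
      -- `x` is a power of `s` up to `A`
      let T : Subgroup Ω :=
        { carrier := {u | u ∈ S ∧ a⁻¹ * (u * a * u⁻¹) ∈ zcen S}
          one_mem' := ⟨S.one_mem, by simp [Subgroup.one_mem]⟩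
          mul_mem' := fun {u v} hu hv => ⟨S.mul_mem hu.1 hv.1, by
            have hc := (mem_zcen.mp hv.2).2 u hu.1
            have e : a⁻¹ * (u * v * a * (u * v)⁻¹) =
                (a⁻¹ * (u * a * u⁻¹)) * (u * (a⁻¹ * (v * a * v⁻¹)) * u⁻¹) := by group
            rw [e, hc, mul_inv_cancel_right]
            exact Subgroup.mul_mem _ hu.2 hv.2⟩
          inv_mem' := fun {u} hu => ⟨S.inv_mem hu.1, by
            have hzz := Subgroup.inv_mem _ hu.2
            have hc := (mem_zcen.mp hzz).2 u⁻¹ (S.inv_mem hu.1)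
            have e : a⁻¹ * (u⁻¹ * a * u⁻¹⁻¹) = u⁻¹ * (a⁻¹ * (u * a * u⁻¹))⁻¹ * u := by group
            rw [e, hc, inv_mul_cancel_right]
            exact hzz⟩ }
      have hsT : (s : Ω) ∈ T := ⟨s.2, by
        have h1 := hs' a (h.le ha)
        have h2 := (mem_zcen.mp h1).2 a⁻¹ (S.inv_mem (h.le ha))
        have e : a⁻¹ * ((s : Ω) * a * (s : Ω)⁻¹) = a⁻¹ * ((s : Ω) * a * (s : Ω)⁻¹ * a⁻¹) * a := by group
        rw [e, h2, inv_mul_cancel_right]
        exact h1⟩
      obtain ⟨b, hb, i, e⟩ := h.sup_zpowers s.2 hsA hx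
      have hbT : b ∈ T := ⟨h.le hb, by rw [h.comm b hb a ha, mul_inv_cancel_right, inv_mul_cancel]; exact Subgroup.one_mem _⟩
      have := (T.mul_mem hbT (T.zpow_mem hsT i)).2
      rwa [← e] at this
  · intro a ha
    have haS : a ∈ S := h.le ((h.mem_ctwo hx).mp ha).1
    refine ⟨⟨a, haS⟩, (hmem ⟨a, haS⟩).mpr fun t ht => ?_, rfl⟩
    have h1 := Subgroup.inv_mem _ (h.ctwo_disp hx hxA ha ht)
    have h2 := (mem_zcen.mp h1).2 a (haS)
    have e : a * t * a⁻¹ * t⁻¹ = a * (a⁻¹ * (t * a * t⁻¹))⁻¹ * a⁻¹ := by group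
    rw [e, h2, mul_inv_cancel_right]
    exact h1

theorem card_split (h : AbIndexP F p A) {Q : Subgroup Ω} (hQ : Q ≤ S) (hxQ : x ∈ Q) (hxA : x ∉ A) :
    Nat.card Q = p * Nat.card ↥(A ⊓ Q) := by
  have hp : p.Prime := Fact.out
  haveI := finite_of_le hQ
  have hidx : A.relIndex S = p := by
    have h1 := (A.subgroupOf S).card_mul_index
    rw [Nat.card_congr (Subgroup.subgroupOfEquivOfLe h.le).toEquiv, h.idx, mul_comm p] at h1
    haveI := finite_of_le h.le
    exact Nat.eq_of_mul_eq_mul_left Nat.card_pos h1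
  have hle : A.relIndex Q ≤ p := hidx ▸ Subgroup.relIndex_le_of_le_right hQ (by rw [hidx]; exact hp.ne_zero)
  have h1 := (A.subgroupOf Q).card_mul_index
  have hinf : Nat.card (A.subgroupOf Q) = Nat.card ↥(A ⊓ Q) := Nat.card_congr
    { toFun := fun y => ⟨y.1.1, y.2, y.1.2⟩
      invFun := fun y => ⟨⟨y.1, y.2.2⟩, y.2.1⟩
      left_inv := fun _ => rfl
      right_inv := fun _ => rfl }
  rw [hinf] at h1
  have hlt : A ⊓ Q < Q := lt_of_le_of_ne inf_le_right fun e => hxA (inf_eq_right.mp e hxQ)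
  have h2 := pow_lt h.isP hQ hlt
  refine le_antisymm ?_ h2
  rw [← h1, mul_comm p]
  exact Nat.mul_le_mul_left _ hle

/-- The common data of an essential subgroup other than `A`. -/
theorem site_shape (h : AbIndexP F p A) {P : Subgroup Ω} (hPS : P < S) (hP : F.IsEssential p P)
    (hx : x ∈ S) (hxP : x ∈ P) (hxA : x ∉ A) (hZP : zcen S ≤ P) :
    Nat.card ↥(dcom S ⊓ zcen S) = p ∧ h.ctwo hx ≠ A ∧
      (P = zcen S ⊔ Subgroup.zpowers x ∨ P = h.ctwo hx ⊔ Subgroup.zpowers x) ∧
      Nat.card ↥(S ⊓ Subgroup.normalizer (P : Set Ω)) = p * Nat.card P := by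
  classical
  have hp : p.Prime := Fact.out
  haveI := finite_of_le hPS.le
  haveI := finite_of_le h.le
  haveI : Finite (zcen S) := finite_of_le zcen_le
  haveI : Finite ↥(A ⊓ P) := finite_of_le (inf_le_left.trans h.le)
  set B := A ⊓ P
  have hcP : Nat.card P = p * Nat.card B := h.card_split hPS.le hxP hxA
  set T := normalizerIn S P
  haveI : Finite T := finite_of_le inf_le_left
  have hPT : P < T := lt_normalizerIn h.isP hPS
  have hcT : Nat.card T = p * Nat.card ↥(A ⊓ T) := h.card_split inf_le_left (hPT.le hxP) hxA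
  have hgenP : ∀ q ∈ P, ∃ b ∈ B, ∃ i : ℤ, q = b * x ^ i := by
    intro q hq
    obtain ⟨a, ha, i, rfl⟩ := h.sup_zpowers hx hxA (hPS.le hq)
    exact ⟨a, ⟨ha, by simpa using P.mul_mem hq (P.zpow_mem hxP (-i))⟩, i, rfl⟩
  have hPeq : ∀ U : Subgroup Ω, U = B → P = U ⊔ Subgroup.zpowers x := by
    rintro U rfl
    refine le_antisymm (fun q hq => ?_) (sup_le inf_le_right (Subgroup.zpowers_le.mpr hxP))
    obtain ⟨b, hb, i, rfl⟩ := hgenP q hq
    exact Subgroup.mul_mem_sup hb ⟨i, rfl⟩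
  have hTd : ∀ a ∈ A ⊓ T, a⁻¹ * (x * a * x⁻¹) ∈ B := fun a ha =>
    ⟨A.mul_mem (A.inv_mem ha.1) (h.conj_memA hx ha.1), by
      have := P.mul_mem (conj_mem_of_mem_normalizer ((Subgroup.normalizer _).inv_mem ha.2.2) hxP)
        (P.inv_mem hxP)
      simpa [mul_assoc] using this⟩
  by_cases hab : ∀ a ∈ P, ∀ b ∈ P, a * b = b * a
  · have hBZ : B = zcen S := le_antisymm
      (fun b hb => (h.mem_zcen_iff hx hxA hb.1).mpr (hab x hxP b hb.2)) (le_inf h.zcen_le_A hZP)
    have hD := h.card_diff hPS hP hxA hxP hab hZP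
    have hc2 := h.card_ctwo hx hxA
    rw [hD] at hc2
    refine ⟨hD, fun e => ?_, Or.inl (hPeq _ hBZ.symm), ?_⟩
    · refine hxA ?_
      rw [← h.uniq P hPS.le hab (by rw [h.idx, ← e, hc2, hcP, hBZ]; ring)]
      exact hxP
    · show Nat.card T = _
      refine le_antisymm ?_ (pow_lt h.isP inf_le_left hPT)
      have hsub : A ⊓ T ≤ h.ctwo hx := fun a ha => (h.mem_ctwo hx).mpr ⟨ha.1, hBZ ▸ hTd a ha⟩
      haveI : Finite (h.ctwo hx) := finite_of_le ((Subgroup.map_subtype_le _).trans h.le)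
      rw [hcT, hcP, hBZ, mul_comm p (Nat.card (zcen S)), ← hc2]
      exact Nat.mul_le_mul_left _ (Subgroup.card_le_of_le hsub)
  -- a nonabelian subgroup
  have hcen := fun {z : Ω} (hz : z ∈ P) => h.center_of_nonab hPS.le hxA hxP hZP hab hz
  have hBconj : ∀ b ∈ B, x * b * x⁻¹ ∈ B := fun b hb =>
    ⟨h.conj_memA hx hb.1, P.mul_mem (P.mul_mem hxP hb.2) (P.inv_mem hxP)⟩
  have hZB : zcen S < B := lt_of_le_of_ne (le_inf h.zcen_le_A hZP) fun e => hab fun a ha b hb => by
    obtain ⟨a', ha', i, rfl⟩ := hgenP a ha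
    obtain ⟨b', hb', j, rfl⟩ := hgenP b hb
    rw [← e] at ha' hb'
    have hc : ∀ z ∈ zcen S, ∀ k : ℤ, Commute z (x ^ k) := fun z hz k =>
      (show Commute z x from ((mem_zcen.mp hz).2 x hx).symm).zpow_right k
    exact ((show Commute a' b' from ((mem_zcen.mp hb').2 a' (zcen_le ha'))).mul_right
      (hc a' ha' j)).mul_left (((hc b' hb' i).symm).mul_right ((Commute.refl x).zpow_zpow i j))
  have hBS : B ≤ S := inf_le_left.trans h.le
  have hZBc := pow_lt h.isP hBS hZB
  have hBsmall : Nat.card B = p * Nat.card (zcen S) := by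
    refine le_antisymm ?_ hZBc
    by_contra hbig
    push Not at hbig
    -- `A ∩ P` is the only abelian subgroup of index `p`
    have hinv : ∀ α ∈ F.autGroup P, ∀ m : P, (m : Ω) ∈ B → ((α m : P) : Ω) ∈ B := by
      intro α _ m hm
      set B' := ((B.subgroupOf P).map α.toMonoidHom).map P.subtype
      have hB'P : B' ≤ P := Subgroup.map_subtype_le _
      have hB'c : Nat.card B' = Nat.card B := by
        rw [Subgroup.card_map_of_injective P.subtype_injective, Subgroup.card_map_of_injective α.injective,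
          Nat.card_congr (Subgroup.subgroupOfEquivOfLe (inf_le_right : B ≤ P)).toEquiv]
      have hmB' : ((α m : P) : Ω) ∈ B' := ⟨α m, ⟨m, hm, rfl⟩, rfl⟩
      by_contra hne
      have hlt : B < B ⊔ B' := lt_of_le_of_ne le_sup_left fun e => hne (e.ge (Subgroup.mem_sup_right hmB'))
      have hle : B ⊔ B' ≤ P := sup_le inf_le_right hB'P
      have htop : B ⊔ B' = P := Subgroup.eq_of_le_of_card_ge hle
        (by rw [hcP]; exact pow_lt h.isP (hle.trans hPS.le) hlt)
      have hint : B' ⊓ B ≤ zcen S := fun z hz => by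
        refine (hcen hz.2.2).mp fun q hq => ?_
        have hB'comm : ∀ u ∈ B', z * u = u * z := by
          rintro _ ⟨u, ⟨u0, hu0, rfl⟩, rfl⟩
          obtain ⟨_, ⟨z0, hz0, rfl⟩, rfl⟩ := hz.1
          have e : z0 * u0 = u0 * z0 := Subtype.ext (h.comm _ hz0.1 _ hu0.1)
          exact congrArg Subtype.val ((map_mul α z0 u0).symm.trans ((congrArg α e).trans (map_mul α u0 z0)))
        have hsub : P ≤ Subgroup.centralizer ({z} : Set Ω) := htop ▸ sup_le
          (fun u hu => Subgroup.mem_centralizer_singleton_iff.mpr (h.comm u hu.1 z hz.2.1))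
          (fun u hu => Subgroup.mem_centralizer_singleton_iff.mpr (hB'comm u hu).symm)
        exact (Subgroup.mem_centralizer_singleton_iff.mp (hsub hq)).symm
      haveI : Finite B' := finite_of_le (hB'P.trans hPS.le)
      have h1 := (B.subgroupOf B').card_mul_index
      have hle' : B.relIndex B' ≤ B.relIndex P := Subgroup.relIndex_le_of_le_right hB'P
        Subgroup.index_ne_zero_of_finite
      have hBP : B.relIndex P = p := by
        have h2 := (B.subgroupOf P).card_mul_index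
        rw [Nat.card_congr (Subgroup.subgroupOfEquivOfLe (inf_le_right : B ≤ P)).toEquiv, hcP,
          mul_comm p] at h2
        exact Nat.eq_of_mul_eq_mul_left Nat.card_pos h2
      have hcard : Nat.card (B.subgroupOf B') ≤ Nat.card (zcen S) :=
        Nat.card_le_card_of_injective (fun y => (⟨y.1.1, hint ⟨y.1.2, y.2⟩⟩ : zcen S)) fun a b e =>
          Subtype.ext (Subtype.ext (congrArg (fun z : zcen S => (z : Ω)) e))
      have : Nat.card B ≤ p * Nat.card (zcen S) := by
        rw [← hB'c, ← h1, mul_comm p]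
        exact Nat.mul_le_mul hcard (hle'.trans_eq hBP)
      omega
    refine (EssentialGen.lt_of_essential h.isP h.sat hP).not_ge ?_
    have hAP : A ≤ P := le_of_chain_radical h.isP hP h.le (fun s hs => h.normalizes hs) hinv
      fun g hg hgn q hq => ⟨⟨?_, P.mul_mem (P.inv_mem hq) (conj_mem_of_mem_normalizer hgn hq)⟩,
        fun hqB => by rw [h.comm g hg q hqB.1, mul_inv_cancel_right]⟩
    · intro s hs
      obtain ⟨a, ha, i, rfl⟩ := h.sup_zpowers hx hxA hs
      exact P.mul_mem (hAP ha) (P.zpow_mem hxP i)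
    · have e : q⁻¹ * (g * q * g⁻¹) = (q⁻¹ * g * q) * g⁻¹ := by group
      rw [e]
      have := h.conj_memA (S.inv_mem (hPS.le hq)) hg
      rw [inv_inv] at this
      exact A.mul_mem this (A.inv_mem hg)
  -- the displacement of `A ∩ P` is central
  have hBd : ∀ b ∈ B, b⁻¹ * (x * b * x⁻¹) ∈ zcen S := by
    intro b hb
    haveI : Finite B := finite_of_le hBS
    haveI : ((zcen S).subgroupOf B).Normal := ⟨fun z hz g => by
      have : g * z * g⁻¹ = z := Subtype.ext (by
        show (g : Ω) * z * (g : Ω)⁻¹ = z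
        rw [(mem_zcen.mp (show (z : Ω) ∈ zcen S from hz)).2 g (hBS g.2), mul_inv_cancel_right])
      rwa [this]⟩
    have hidx : ((zcen S).subgroupOf B).index = p := by
      have h2 := ((zcen S).subgroupOf B).card_mul_index
      rw [Nat.card_congr (Subgroup.subgroupOfEquivOfLe hZB.le).toEquiv, hBsmall, mul_comm p] at h2
      exact Nat.eq_of_mul_eq_mul_left Nat.card_pos h2
    have hxn : x ∈ Subgroup.normalizer (B : Set Ω) := mem_normalizer_of_maps_finite hBconj
    obtain ⟨k, hk⟩ := isPGroup_autInducedBy h.isP B ⟨_, conjAut_mem_autInducedBy hxn hx⟩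
    have h3 := mul_inv_mem_of_index_dvd ((zcen S).subgroupOf B) hidx.dvd (conjAut B x hxn)
      (fun z hz => by
        show ((conjAut B x hxn z : B) : Ω) ∈ zcen S
        rw [conjAut_apply, (mem_zcen.mp (show (z : Ω) ∈ zcen S from hz)).2 x hx, mul_inv_cancel_right]
        exact hz) ⟨k, congrArg Subtype.val hk⟩ ⟨b, hb⟩
    have h4 : x * b * x⁻¹ * b⁻¹ ∈ zcen S := by
      simpa [Subgroup.mem_subgroupOf, conjAut_apply] using h3
    rw [h.comm _ (A.inv_mem hb.1) _ (h.conj_memA hx hb.1)]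
    exact h4
  have hBle : B ≤ h.ctwo hx := fun b hb => (h.mem_ctwo hx).mpr ⟨hb.1, hBd b hb⟩
  have hcle : h.ctwo hx ≤ B := by
    refine le_inf (Subgroup.map_subtype_le _) ?_
    have hc2S : h.ctwo hx ≤ S := (Subgroup.map_subtype_le _).trans h.le
    refine le_of_chain_radical (M := zcen S) h.isP hP hc2S (h.ctwo_normalized hx hxA)
      (fun α _ m hm => ?_) fun g hg _ q hq => ?_
    · refine (hcen (α m).2).mp fun q hq => ?_
      have e : m * α.symm ⟨q, hq⟩ = α.symm ⟨q, hq⟩ * m :=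
        Subtype.ext ((hcen m.2).mpr hm _ (α.symm ⟨q, hq⟩).2)
      have := congrArg α e
      rw [map_mul, map_mul, MulEquiv.apply_symm_apply] at this
      exact congrArg Subtype.val this
    · refine ⟨?_, fun hqz => by rw [(mem_zcen.mp hqz).2 g (hc2S hg), mul_inv_cancel_right]⟩
      have h1 := h.ctwo_disp hx hxA hg (S.inv_mem (hPS.le hq))
      have h2 := (mem_zcen.mp h1).2 g (hc2S hg)
      have e : q⁻¹ * (g * q * g⁻¹) = g * (g⁻¹ * (q⁻¹ * g * q⁻¹⁻¹)) * g⁻¹ := by group
      rw [e, h2, mul_inv_cancel_right]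
      exact h1
  have hB2 : h.ctwo hx = B := le_antisymm hcle hBle
  have hD : Nat.card ↥(dcom S ⊓ zcen S) = p := by
    have := h.card_ctwo hx hxA
    rw [hB2, hBsmall, mul_comm p] at this
    exact (Nat.eq_of_mul_eq_mul_left Nat.card_pos this).symm
  refine ⟨hD, fun e => ?_, Or.inr (hPeq _ hB2), ?_⟩
  · refine hPS.not_ge fun s hs => ?_
    obtain ⟨a, ha, i, rfl⟩ := h.sup_zpowers hx hxA hs
    rw [← e, hB2] at ha
    exact P.mul_mem ha.2 (P.zpow_mem hxP i)
  · show Nat.card T = _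
    refine le_antisymm ?_ (pow_lt h.isP inf_le_left hPT)
    rw [hcT, hcP]
    refine Nat.mul_le_mul_left _ ?_
    set d := h.dmap hx
    set K := B.subgroupOf A
    have hsub : Nat.card ↥(A ⊓ T) ≤ Nat.card (K.comap d) :=
      Nat.card_le_card_of_injective (fun a => (⟨⟨a, a.2.1⟩, hTd a a.2⟩ : K.comap d)) fun a b e =>
        Subtype.ext (congrArg (fun z : K.comap d => ((z : A) : Ω)) e)
    refine hsub.trans ?_
    rw [h.card_comap hx hxA, hBsmall]
    set Zs := (zcen S).subgroupOf A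
    have hKc : Nat.card K = p * Nat.card (zcen S) := by
      rw [← hBsmall]; exact Nat.card_congr (Subgroup.subgroupOfEquivOfLe inf_le_left).toEquiv
    have hrel : Zs.relIndex (d.range ⊓ K) ≤ p := by
      refine (Subgroup.relIndex_le_of_le_right inf_le_right Subgroup.index_ne_zero_of_finite).trans (le_of_eq ?_)
      have h1 := (Zs.subgroupOf K).card_mul_index
      rw [Nat.card_congr (Subgroup.subgroupOfEquivOfLe (fun z hz => hZB.le hz : Zs ≤ K)).toEquiv,
        h.card_zA, hKc, mul_comm p] at h1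
      exact Nat.eq_of_mul_eq_mul_left Nat.card_pos h1
    have h1 := (Zs.subgroupOf (d.range ⊓ K)).card_mul_index
    have h2 : Nat.card (Zs.subgroupOf (d.range ⊓ K)) ≤ p := by
      rw [← hD, ← h.card_range_inf hx hxA]
      exact Nat.card_le_card_of_injective (fun y => (⟨y.1.1, y.1.2.1, y.2⟩ : (d.range ⊓ Zs : Subgroup A)))
        fun a b e => Subtype.ext (Subtype.ext (congrArg (fun z : (d.range ⊓ Zs : Subgroup A) => (z : A)) e))
    have h3 : Nat.card (zcen S) * Nat.card (d.range ⊓ K : Subgroup A) ≤ p * (p * Nat.card (zcen S)) := by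
      rw [← h1, mul_comm (Nat.card (zcen S)), ← mul_assoc p]
      exact Nat.mul_le_mul_right _ (Nat.mul_le_mul h2 hrel)
    exact h3

/-- The central quotient has maximal class once `[S,S]` meets the centre in order `p`. -/
theorem lcs_not_le_zcen (h : AbIndexP F p A) (hx : x ∈ S) (hxA : x ∉ A)
    (hD : Nat.card ↥(dcom S ⊓ zcen S) = p) {m : ℕ} (hm : Nat.card S = p ^ m * Nat.card (zcen S))
    (hm3 : 2 ≤ m) : ¬ Subgroup.lowerCentralSeries S (m - 2) ≤ zcen S := by
  have hp : p.Prime := Fact.out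
  haveI := finite_of_le h.le
  haveI : Finite (zcen S) := finite_of_le zcen_le
  set d := h.dmap hx
  set Zs := (zcen S).subgroupOf A
  have key : ∀ i : ℕ, ∃ H : Subgroup A, (∀ a ∈ H, (a : Ω) ∈ Subgroup.lowerCentralSeries S i) ∧
      Zs.index ≤ p ^ i * Zs.relIndex H := by
    intro i
    induction i with
    | zero => exact ⟨⊤, fun a _ => h.le a.2, by rw [Subgroup.relIndex_top_right, pow_zero, one_mul]⟩
    | succ i ih =>
      obtain ⟨H, hH, hHi⟩ := ih
      refine ⟨H.map d, ?_, ?_⟩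
      · rintro _ ⟨a, ha, rfl⟩
        show ((d a : A) : Ω) ∈ ⁅Subgroup.lowerCentralSeries S i, S⁆
        rw [dmap_coe]
        have := Subgroup.commutator_mem_commutator (Subgroup.inv_mem _ (hH a ha)) hx
        rw [commutatorElement_def, inv_inv] at this
        simpa [mul_assoc] using this
      · have hrk : Nat.card (H.map d) = Zs.relIndex H := by
          have h1 := (d.comp H.subtype).ker.card_mul_index
          rw [Subgroup.index_ker, MonoidHom.range_comp, Subgroup.range_subtype] at h1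
          have h2 := (Zs.subgroupOf H).card_mul_index
          have h3 : (d.comp H.subtype).ker = Zs.subgroupOf H := by
            rw [← MonoidHom.comap_ker, h.ker_dmap hx hxA]; rfl
          rw [h3] at h1
          exact Nat.eq_of_mul_eq_mul_left Nat.card_pos (h1.trans h2.symm)
        have h2 := (Zs.subgroupOf (H.map d)).card_mul_index
        have h3 : Nat.card (Zs.subgroupOf (H.map d)) ≤ p := by
          rw [← hD, ← h.card_range_inf hx hxA]
          refine Nat.card_le_card_of_injective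
            (fun y => (⟨y.1.1, ?_, y.2⟩ : (d.range ⊓ Zs : Subgroup A))) fun a b e =>
              Subtype.ext (Subtype.ext (congrArg (fun z : (d.range ⊓ Zs : Subgroup A) => (z : A)) e))
          obtain ⟨a, -, e⟩ := y.1.2
          exact ⟨a, e⟩
        rw [hrk] at h2
        calc Zs.index ≤ p ^ i * Zs.relIndex H := hHi
          _ = p ^ i * (Nat.card (Zs.subgroupOf (H.map d)) * Zs.relIndex (H.map d)) := by rw [← h2]; rfl
          _ ≤ p ^ i * (p * Zs.relIndex (H.map d)) := Nat.mul_le_mul_left _ (Nat.mul_le_mul_right _ h3)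
          _ = p ^ (i + 1) * Zs.relIndex (H.map d) := by ring
  intro hle
  obtain ⟨H, hH, hHi⟩ := key (m - 2)
  have h1 : Zs.relIndex H = 1 := Subgroup.relIndex_eq_one.mpr fun a ha => hle (hH a ha)
  rw [h1, mul_one] at hHi
  have h2 : Zs.index = p ^ (m - 1) := by
    have h3 := Zs.card_mul_index
    rw [h.card_zA] at h3
    have h4 := h.idx
    rw [hm, ← h3, show p ^ m = p * p ^ (m - 1) by rw [← pow_succ', Nat.sub_add_cancel (by omega)],
      mul_assoc] at h4
    have := Nat.eq_of_mul_eq_mul_left hp.pos h4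
    rw [mul_comm] at this
    exact (Nat.eq_of_mul_eq_mul_left Nat.card_pos this).symm
  rw [h2, Nat.pow_le_pow_iff_right hp.one_lt] at hHi
  omega

end AbIndexP

end Cfsg.Lib.Fusion
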