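import Cfsg.Agent.Fusion.Invariant
import Cfsg.Agent.Fusion.NormalCriteria

/-!
Simplicity criteria for systems with inner automiser of `S`.
-/

set_option autoImplicit false

namespace Cfsg.Lib.Fusion

open Cfsg Cfsg.FusionSystem

variable {Ω : Type*} [Group Ω] {S : Subgroup Ω} {F : FusionSystem S} {p : ℕ}

/-- Inner automiser of `S` and no strongly closed subgroup: the system is simple. -/
theorem isSimple_of_inn [Finite S] (hF : F.IsSaturated p) (hS1 : S ≠ ⊥)
    (htop : F.autGroup S ≤ Inn ↥S)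
    (hsc : ∀ T : Subgroup Ω, F.StronglyClosed T → T = ⊥ ∨ T = S) : F.IsSimple p := by
  refine ⟨hF, hS1, fun T E hE => ?_⟩
  rcases hsc T hE.1.2.2.2.1 with hT | hT
  · exact Or.inl hT
  subst hT
  refine Or.inr ⟨rfl, ?_⟩
  have hinv := hE.1.2.2
  have hsub := hinv.1
  intro P
  refine hom_eq_iff_isMap.mpr fun f => ⟨fun h => isMap_of_le hsub h, fun h => ?_⟩
  obtain ⟨α, hα, f₀, hf₀, e⟩ := invariant_frattini hinv h
  have h1 : α ∈ E.autGroup T := by
    obtain ⟨s, hs⟩ := htop hα
    refine autInducedBy_le le_rfl (mem_autInducedBy.mpr ⟨s, s.2, fun x => ?_⟩)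
    rw [← hs]
    rfl
  exact (hf₀.comp ((isMap_autFun le_rfl).mpr h1) fun x hx => hf₀.mem_S hx).congr e

/-- `S` generated by elements of order `p`, all subgroups of order `p` conjugate: no proper
nontrivial strongly closed subgroup. -/
theorem stronglyClosed_eq_of_conjugate [Finite S] [Fact p.Prime] (hS : IsPGroup p S)
    (hgen : Subgroup.closure {x : Ω | x ∈ S ∧ orderOf x = p} = S)
    (htr : ∀ A B : Subgroup Ω, A ≤ S → B ≤ S → Nat.card A = p → Nat.card B = p → F.IsConj A B)
    (T : Subgroup Ω) (hT : F.StronglyClosed T) : T = ⊥ ∨ T = S := by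
  refine or_iff_not_imp_left.mpr fun hne => le_antisymm hT.1 ?_
  haveI := finite_of_le hT.1
  have hTp : IsPGroup p T := hS.to_le hT.1
  haveI : Nontrivial T := (Subgroup.nontrivial_iff_ne_bot T).mpr hne
  obtain ⟨n, hn, hcard⟩ := hTp.nontrivial_iff_card.mp inferInstance
  obtain ⟨z, hz⟩ := exists_prime_orderOf_dvd_card' (G := T) p (hcard ▸ dvd_pow_self p hn.ne')
  have hz' : orderOf (z : Ω) = p := by rw [Subgroup.orderOf_coe, hz]
  rw [← hgen, Subgroup.closure_le]
  rintro x ⟨hx, hxo⟩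
  obtain ⟨f, hf, hfi⟩ := isConj_iff.mp (htr _ _ (Subgroup.zpowers_le.mpr (hT.1 z.2))
    (Subgroup.zpowers_le.mpr hx) (by rw [Nat.card_zpowers, hz']) (by rw [Nat.card_zpowers, hxo]))
  obtain ⟨y, hy, rfl⟩ := hf.mem_img.mp (hfi.symm ▸ Subgroup.mem_zpowers x)
  exact stronglyClosed_apply hT hf hy (Subgroup.zpowers_le.mpr z.2 hy)

/-- If `Aut(S)` is a `p`-group, the automiser of `S` in a saturated system is inner. -/
theorem autGroup_le_inn [Finite S] [Fact p.Prime] (hS : IsPGroup p S) (hF : F.IsSaturated p)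
    (hA : IsPGroup p (MulAut S)) : F.autGroup S ≤ Inn ↥S := by
  obtain ⟨-, hindex⟩ := (isFullyAutomized_iff hS).mp
    (fullyNormalized_props hS hF ⟨le_rfl, fun U hU => by
      rw [show normalizerIn S S = S from inf_eq_left.mpr Subgroup.le_normalizer]
      exact Subgroup.card_le_of_le inf_le_left⟩).2.1
  obtain ⟨k, hk⟩ := (hA.to_subgroup (F.autGroup S)).index ((autInducedBy S S).subgroupOf (F.autGroup S))
  have hle : F.autGroup S ≤ autInducedBy S S := by
    refine Subgroup.relIndex_eq_one.mp ?_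
    change _ = p ^ k at hk
    rw [Subgroup.relIndex] at hindex ⊢
    rw [hk] at hindex ⊢
    rcases Nat.eq_zero_or_pos k with rfl | hpos
    · exact pow_zero p
    · exact absurd (dvd_pow_self p hpos.ne') hindex
  refine hle.trans fun α hα => ?_
  obtain ⟨s, hs, e⟩ := mem_autInducedBy.mp hα
  exact ⟨⟨s, hs⟩, MulEquiv.ext fun x => Subtype.ext (e x).symm⟩

end Cfsg.Lib.Fusion
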