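import Cfsg.Agent.Fusion.GTFamily
import Cfsg.Agent.Fusion.NormalCriteria
import Cfsg.Agent.Fusion.Simple

/-!
Inner systems are saturated; the inner system of a normal abelian subgroup is a normal subsystem;
simple systems on abelian groups.
-/

set_option autoImplicit false

namespace Cfsg.Lib.Fusion

open Cfsg Cfsg.FusionSystem
open scoped commutatorElement

variable {Ω : Type*} [Group Ω] {S : Subgroup Ω} {F : FusionSystem S} {p : ℕ}

theorem autGroup_inner {P : Subgroup Ω} (hP : P ≤ S) :
    (innerFusionSystem S).autGroup P = autInducedBy S P := by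
  refine le_antisymm (fun α hα => ?_) (autInducedBy_le hP)
  obtain ⟨-, g, hg, e⟩ := isMap_inner_iff.mp ((isMap_autFun hP).mpr hα)
  exact mem_autInducedBy.mpr ⟨g, hg, fun x => by rw [← autFun_apply]; exact e x x.2⟩

theorem saturated_innerFusionSystem (T : Subgroup Ω) [Finite T] [Fact p.Prime] (hT : IsPGroup p T) :
    (innerFusionSystem T).IsSaturated p := by
  intro P hP
  refine ⟨P, isConj_refl hP, ?_, ?_⟩
  · rw [isFullyAutomized_iff hT, autGroup_inner hP, Subgroup.relIndex_self]
    exact ⟨hP, fun h => (Fact.out (p := p.Prime)).ne_one (Nat.dvd_one.mp h)⟩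
  · refine receptive_of_extend hP fun R f hf _ => ?_
    obtain ⟨-, g, hg, e⟩ := isMap_inner_iff.mp hf
    exact ⟨fun x => g * x * g⁻¹, isMap_inner_iff.mpr
      ⟨(extSub_le R f).trans inf_le_left, g, hg, fun _ _ => rfl⟩, fun x hx => (e x hx).symm⟩

/-- The inner system of an abelian normal subgroup is a normal subsystem. -/
theorem inner_isNormalIn_of_abelian [Finite S] [Fact p.Prime] (hS : IsPGroup p S)
    (hF : F.IsSaturated p) {T : Subgroup Ω} (hT : F.IsNormal T)
    (hab : ∀ x ∈ T, ∀ y ∈ T, x * y = y * x) : (innerFusionSystem T).IsNormalIn F p := by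
  haveI := finite_of_le hT.1
  have hid : ∀ {P : Subgroup Ω} {f : Ω → Ω}, IsMap (innerFusionSystem T) P f → ∀ x ∈ P, f x = x := by
    intro P f hf x hx
    obtain ⟨hP, g, hg, e⟩ := isMap_inner_iff.mp hf
    rw [e x hx, hab g hg x (hP hx), mul_inv_cancel_right]
  refine ⟨⟨saturated_innerFusionSystem T (hS.of_injective _ (Subgroup.inclusion_injective hT.1)), hF,
    ?_, stronglyClosed_of_isNormal hT, ?_, ?_⟩, ?_⟩
  · intro P φ hφ
    obtain ⟨hP, g, hg, e⟩ := hφ
    exact (isMap_conj (F := F) (hP.trans hT.1) (hT.1 hg)).mem_of_agree e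
  · intro P hPT φ hφ α _
    set Q := (P.subgroupOf T).map (T.subtype.comp α.toMonoidHom)
    have hQT : Q ≤ T := by
      rintro _ ⟨t, -, rfl⟩
      exact (α t).2
    obtain ⟨χ, hχ, e⟩ : IsMap (innerFusionSystem T) Q id := isMap_id hQT
    refine ⟨χ, hχ, fun x hφx hαx => ?_⟩
    rw [e]
    have h1 := hid (isMap_of_mem hφ) x x.2
    rw [toFun'_apply φ x] at h1
    show ((α ⟨x, hPT x.2⟩ : T) : Ω) = ((α ⟨φ x, hφx⟩ : T) : Ω)
    congr 2
    exact Subtype.ext h1.symm
  · intro P hPT φ hφ
    obtain ⟨k, hk, hkf, hki⟩ := extend_of_isNormal hT (isMap_of_mem hφ)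
    obtain ⟨α, hα, hαe⟩ := (hk.mono le_sup_right).exists_aut hki
    obtain ⟨φ₀, hφ₀, e⟩ : IsMap (innerFusionSystem T) P id := isMap_id hPT
    refine ⟨α, hα, φ₀, hφ₀, fun x hx => ?_⟩
    rw [← autFun_apply α ⟨φ₀ x, hx⟩]
    show φ x = autFun α (φ₀ x)
    rw [e]
    show φ x = autFun α (x : Ω)
    rw [hαe _ (hPT x.2), hkf _ x.2, toFun'_apply]
  · intro α hα
    refine ⟨1, Subgroup.one_mem _, fun x => ?_, fun c _ => ?_⟩
    · have h1 := hid ((isMap_autFun le_rfl).mpr hα) x x.2
      rw [autFun_apply] at h1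
      rw [h1]
      rfl
    · show (c : Ω)⁻¹ * c ∈ _
      rw [inv_mul_cancel]
      exact Subgroup.one_mem _

/-- An abelian `p`-group is normal in any saturated system over it. -/
theorem isNormal_of_abelian [Finite S] [Fact p.Prime] (hS : IsPGroup p S) (hF : F.IsSaturated p)
    (hab : ∀ x ∈ S, ∀ y ∈ S, x * y = y * x) : F.IsNormal S := by
  have hsc : F.StronglyClosed S := stronglyClosed_of_apply le_rfl fun P f hf x hx _ => hf.mem_S hx
  exact isNormal_of_chain hS hF hsc 1 (fun i => if i = 0 then ⊥ else S) rfl (by simp)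
    (fun i hi => by obtain rfl : i = 0 := (by omega); simpa using hsc)
    (fun i hi => by
      obtain rfl : i = 0 := (by omega)
      simp only [zero_add, one_ne_zero, ↓reduceIte]
      exact Subgroup.commutator_le.mpr fun a ha b hb => by
        rw [Subgroup.mem_bot, commutatorElement_eq_one_iff_mul_comm]
        exact hab a ha b hb)

/-- Simple systems on abelian groups. -/
theorem isSimple_abelian_iff [Finite S] [Fact p.Prime] (hS : IsPGroup p S) (hF : F.IsSaturated p)
    (hab : ∀ x ∈ S, ∀ y ∈ S, x * y = y * x) :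
    F.IsSimple p ↔ (Nat.card S = p ∧ IsInner F) := by
  constructor
  · rintro ⟨-, hne, hsim⟩
    obtain ⟨-, hall⟩ := (hsim S _
      (inner_isNormalIn_of_abelian hS hF (isNormal_of_abelian hS hF hab) hab)).resolve_left hne
    have hinner : IsInner F := isInner_iff.mpr fun P => (hall P).symm
    refine ⟨?_, hinner⟩
    haveI : Nontrivial S := (Subgroup.nontrivial_iff_ne_bot S).mpr hne
    obtain ⟨n, hn, hcard⟩ := hS.nontrivial_iff_card.mp inferInstance
    obtain ⟨z, hz⟩ := exists_prime_orderOf_dvd_card' (G := S) p (hcard ▸ dvd_pow_self p hn.ne')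
    set T := Subgroup.zpowers (z : Ω)
    have hTS : T ≤ S := Subgroup.zpowers_le.mpr z.2
    have hTn : F.IsNormal T := isNormal_of_extendsWith hTS fun P f hf => by
      obtain ⟨g, hg, e⟩ := hinner P f hf
      have hk : IsMap F (P ⊔ T) (fun x => g * x * g⁻¹) := isMap_conj (sup_le hf.le hTS) hg
      exact ⟨_, hk, fun x hx => (e x hx).symm, img_eq_of_apply hk le_sup_right fun x hx => by
        rw [hab g hg x (hTS hx), mul_inv_cancel_right]; exact hx⟩
    have hTc : Nat.card T = p := by rw [Nat.card_zpowers, Subgroup.orderOf_coe, hz]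
    rcases hsim T _ (inner_isNormalIn_of_abelian hS hF hTn
      fun x hx y hy => hab x (hTS hx) y (hTS hy)) with h | ⟨h, -⟩
    · rw [h, Subgroup.card_bot] at hTc
      exact absurd hTc.symm (Fact.out (p := p.Prime)).ne_one
    · rw [← h, hTc]
  · rintro ⟨hcard, hinner⟩
    have hne : S ≠ ⊥ := fun h => by
      rw [h, Subgroup.card_bot] at hcard
      exact (Fact.out (p := p.Prime)).ne_one hcard.symm
    refine isSimple_of_inn hF hne (fun α hα => ?_) fun T hT => ?_
    · obtain ⟨g, hg, e⟩ := hinner S _ ((isMap_autFun le_rfl).mpr hα)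
      exact ⟨⟨g, hg⟩, MulEquiv.ext fun x => Subtype.ext (by rw [← autFun_apply α x, e x x.2]; rfl)⟩
    · haveI := finite_of_le hT.1
      have hd : Nat.card T ∣ p := hcard ▸ Subgroup.card_dvd_of_le hT.1
      rcases (Nat.dvd_prime Fact.out).mp hd with h | h
      · exact Or.inl (Subgroup.card_eq_one.mp h)
      · exact Or.inr (Subgroup.eq_of_le_of_card_ge hT.1 (by rw [h, hcard]))

end Cfsg.Lib.Fusion
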