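import Cfsg.Agent.Fusion.MetacyclicExamples
import Cfsg.Agent.Fusion.InnerSubsystem
import Cfsg.Agent.PGroups.MetacyclicChain

/-!
Supersolubility of the saturated systems over an abelian p-group.
-/

set_option autoImplicit false
set_option linter.unusedSectionVars false

namespace Cfsg.Lib.Fusion

open Cfsg Cfsg.FusionSystem Cfsg.Lib.MetaChain

variable {Ω : Type*} [Group Ω] {S : Subgroup Ω} {p : ℕ} [Fact p.Prime]

/-- Invariant chains transfer along isomorphisms. -/
theorem reach_map {X Y : Type*} [Group X] [Finite X] [Group Y] [Finite Y] (e : X ≃* Y)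
    (h : Reach (Set.univ : Set (MulAut X)) ⊤) : Reach (Set.univ : Set (MulAut Y)) ⊤ := by
  obtain ⟨m, c, h0, hl, hinv, hst⟩ := h
  refine ⟨m, fun i => (c i).map e.toMonoidHom, ?_, ?_, fun i a _ => ?_, fun i => ?_⟩
  · show (c 0).map e.toMonoidHom = ⊥
    rw [h0, Subgroup.map_bot]
  · show (c (Fin.last m)).map e.toMonoidHom = ⊤
    rw [hl, Subgroup.map_top_of_surjective _ e.surjective]
  · rintro _ ⟨x, hx, rfl⟩
    exact ⟨((e.trans a).trans e.symm) x, hinv i _ trivial x hx, e.apply_symm_apply _⟩
  · obtain ⟨hle, x, hx⟩ := hst i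
    refine ⟨Subgroup.map_mono hle, e x, ?_⟩
    show (c i.succ).map e.toMonoidHom = _
    rw [hx, Subgroup.map_sup, MonoidHom.map_zpowers]
    rfl

/-- A normal Sylow group with an invariant chain gives a supersoluble system. -/
theorem superChain_of_normal [Finite S] {F : FusionSystem S} (hN : F.IsNormal S)
    (h : Reach (Set.univ : Set (MulAut S)) ⊤) : HasSuperChain F := by
  obtain ⟨m, c, h0, hlast, hinv, hstep⟩ := h
  refine ⟨m, fun i => (c i).map S.subtype, ?_, ?_, fun i => ?_, fun i => ?_⟩
  · show (c 0).map S.subtype = ⊥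
    rw [h0, Subgroup.map_bot]
  · show (c (Fin.last m)).map S.subtype = S
    rw [hlast, ← MonoidHom.range_eq_map, Subgroup.range_subtype]
  · refine ⟨Subgroup.map_subtype_le _, fun R hR φ hφ x => ?_⟩
    obtain ⟨ψ, hψ, hag, -⟩ := hN.2 R φ hφ
    let a : S →* S := (ψ.comp (Subgroup.inclusion le_sup_right)).codRestrict S fun y => (F.le_of_mem hψ).2 _
    have ha : Function.Injective a := fun y z h =>
      Subgroup.inclusion_injective _ (F.injective_of_mem hψ (congrArg Subtype.val h))
    obtain ⟨y, hy, hyx⟩ := hR x.2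
    refine ⟨a y, hinv i (MulEquiv.ofBijective a (Finite.injective_iff_bijective.mp ha)) trivial y hy, ?_⟩
    show ψ (Subgroup.inclusion le_sup_right y) = φ x
    rw [← hag x]
    exact congrArg ψ (Subtype.ext hyx)
  · obtain ⟨hle, x, hx'⟩ := hstep i
    refine ⟨Subgroup.map_mono hle, x, x.2, ?_⟩
    show (c i.succ).map S.subtype = _
    rw [hx', Subgroup.map_sup, MonoidHom.map_zpowers]
    rfl

section Distinct

/-- The product of cyclic groups. -/
abbrev Coord (p : ℕ) {ι : Type} (a : ι → ℕ) := (i : ι) → Multiplicative (ZMod (p ^ a i))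

variable {ι : Type} [Fintype ι] (a : ι → ℕ)


/-- The terms of the characteristic chain. -/
def layer (j k : ℕ) : Subgroup (Coord p a) :=
  (powMonoidHom (p ^ j)).ker ⊔ ((powMonoidHom (p ^ (j + 1))).ker ⊓ (powMonoidHom (p ^ k)).range)

theorem layer_inv [NeZero p] (j k : ℕ) : Inv (Set.univ : Set (MulAut (Coord p a))) (layer (p := p) a j k) := by
  intro f _ x hx
  have h : layer (p := p) a j k ≤ (layer (p := p) a j k).comap f.toMonoidHom := by
    refine sup_le (fun y hy => Subgroup.mem_sup_left ?_) (fun y hy => Subgroup.mem_sup_right ?_)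
    · rw [MonoidHom.mem_ker, powMonoidHom_apply] at hy ⊢
      show (f y) ^ p ^ j = 1
      rw [← map_pow, hy, map_one]
    · obtain ⟨h1, z, rfl⟩ := Subgroup.mem_inf.mp hy
      refine Subgroup.mem_inf.mpr ⟨?_, f z, (map_pow f z _).symm⟩
      rw [MonoidHom.mem_ker, powMonoidHom_apply] at h1 ⊢
      show (f _) ^ p ^ (j + 1) = 1
      rw [← map_pow, h1, map_one]
  exact h hx

theorem coord_pow {e : ℕ} (u : Multiplicative (ZMod (p ^ e))) (d : ℕ) :
    u ^ p ^ d = 1 ↔ p ^ e ∣ u.toAdd.val * p ^ d := by
  haveI : NeZero (p ^ e) := ⟨(Nat.pow_pos (Fact.out : p.Prime).pos).ne'⟩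
  rw [← (Multiplicative.toAdd (α := ZMod (p ^ e))).injective.eq_iff, toAdd_pow, toAdd_one, nsmul_eq_mul,
    ← ZMod.natCast_eq_zero_iff, Nat.cast_mul, ZMod.natCast_zmod_val, mul_comm]

theorem layer_step (hinj : Function.Injective a) (j k : ℕ) :
    ∃ x, layer (p := p) a j k = layer (p := p) a j (k + 1) ⊔ Subgroup.zpowers x := by
  classical
  have hp : Nat.Prime p := Fact.out
  let x : (Coord p a) := fun i => if a i = j + 1 + k then Multiplicative.ofAdd ((p ^ k : ℕ) : ZMod (p ^ a i)) else 1
  have hx : x ∈ layer (p := p) a j k := by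
    refine Subgroup.mem_sup_right (Subgroup.mem_inf.mpr ⟨?_, fun i => if a i = j + 1 + k then
      Multiplicative.ofAdd (1 : ZMod (p ^ a i)) else 1, ?_⟩)
    · rw [MonoidHom.mem_ker, powMonoidHom_apply]
      funext i
      rw [Pi.pow_apply, Pi.one_apply]
      simp only [x]
      split_ifs with h
      · rw [← ofAdd_nsmul, nsmul_eq_mul, ← Nat.cast_mul, ← pow_add, ← ofAdd_zero]
        exact congrArg _ ((ZMod.natCast_eq_zero_iff _ _).mpr (pow_dvd_pow p (by omega)))
      · exact one_pow _
    · funext i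
      rw [powMonoidHom_apply, Pi.pow_apply]
      simp only [x]
      split_ifs with h
      · rw [← ofAdd_nsmul, nsmul_eq_mul, mul_one]
      · exact one_pow _
  refine ⟨x, le_antisymm ?_ (sup_le ?_ (Subgroup.zpowers_le.mpr hx))⟩
  · refine sup_le (le_sup_left.trans le_sup_left) fun z hz => ?_
    obtain ⟨h1, y, rfl⟩ := Subgroup.mem_inf.mp hz
    rw [MonoidHom.mem_ker, powMonoidHom_apply, powMonoidHom_apply, ← pow_mul, ← pow_add] at h1
    show y ^ p ^ k ∈ _
    have hval : ∀ i, j + 1 + k < a i → p ∣ (y i).toAdd.val := by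
      intro i hi
      have h2 := (coord_pow (y i) _).mp (congrFun h1 i)
      have h3 : p ^ (k + (j + 1) + 1) ∣ (y i).toAdd.val * p ^ (k + (j + 1)) :=
        (pow_dvd_pow p (by omega)).trans h2
      rw [pow_succ', mul_comm p, mul_comm (Multiplicative.toAdd (y i)).val] at h3
      exact Nat.dvd_of_mul_dvd_mul_left (Nat.pow_pos hp.pos) h3
    let z1 : (Coord p a) := fun i => if a i ≤ j + k then y i ^ p ^ k else 1
    let z2 : (Coord p a) := fun i => if j + 1 + k < a i then y i ^ p ^ k else 1
    let y2 : (Coord p a) := fun i => if j + 1 + k < a i then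
      Multiplicative.ofAdd (((y i).toAdd.val / p : ℕ) : ZMod (p ^ a i)) else 1
    have hz1 : z1 ∈ (powMonoidHom (p ^ j) : (Coord p a) →* (Coord p a)).ker := by
      rw [MonoidHom.mem_ker, powMonoidHom_apply]
      funext i
      rw [Pi.pow_apply, Pi.one_apply]
      simp only [z1]
      split_ifs with h
      · rw [← pow_mul, ← pow_add, coord_pow]
        exact (pow_dvd_pow p (by omega)).trans (dvd_mul_left _ _)
      · exact one_pow _
    have hz2 : z2 ∈ (powMonoidHom (p ^ (j + 1)) : (Coord p a) →* (Coord p a)).ker ⊓ (powMonoidHom (p ^ (k + 1)) : (Coord p a) →* (Coord p a)).range := by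
      refine Subgroup.mem_inf.mpr ⟨?_, y2, ?_⟩
      · rw [MonoidHom.mem_ker, powMonoidHom_apply]
        funext i
        rw [Pi.pow_apply, Pi.one_apply]
        simp only [z2]
        split_ifs with h
        · rw [← pow_mul, ← pow_add]
          exact congrFun h1 i
        · exact one_pow _
      · funext i
        rw [powMonoidHom_apply, Pi.pow_apply]
        simp only [z2, y2]
        split_ifs with h
        · haveI : NeZero (p ^ a i) := ⟨(Nat.pow_pos hp.pos).ne'⟩
          refine Multiplicative.toAdd.injective ?_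
          rw [toAdd_pow, toAdd_pow, toAdd_ofAdd, nsmul_eq_mul, nsmul_eq_mul, pow_succ, Nat.cast_mul, mul_assoc,
            ← Nat.cast_mul, Nat.mul_div_cancel' (hval i h), ZMod.natCast_zmod_val]
        · exact one_pow _
    have hdec : ∃ c : ℕ, y ^ p ^ k = z1 * z2 * x ^ c := by
      by_cases h : ∃ i, a i = j + 1 + k
      · obtain ⟨i₀, hi₀⟩ := h
        refine ⟨(y i₀).toAdd.val, funext fun i => ?_⟩
        haveI : NeZero (p ^ a i) := ⟨(Nat.pow_pos hp.pos).ne'⟩
        rw [Pi.mul_apply, Pi.mul_apply, Pi.pow_apply, Pi.pow_apply]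
        simp only [z1, z2, x]
        rcases Nat.lt_trichotomy (a i) (j + 1 + k) with h' | h' | h'
        · rw [if_pos (by omega), if_neg (by omega), if_neg (by omega), one_pow, mul_one, mul_one]
        · obtain rfl : i = i₀ := hinj (h'.trans hi₀.symm)
          rw [if_neg (by omega), if_neg (by omega), if_pos h', one_mul, one_mul]
          refine Multiplicative.toAdd.injective ?_
          rw [toAdd_pow, toAdd_pow, toAdd_ofAdd, nsmul_eq_mul, nsmul_eq_mul, ZMod.natCast_zmod_val, mul_comm]
        · rw [if_neg (by omega), if_pos h', if_neg (by omega), one_pow, one_mul, mul_one]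
      · push Not at h
        refine ⟨0, funext fun i => ?_⟩
        rw [pow_zero, mul_one, Pi.mul_apply, Pi.pow_apply]
        simp only [z1, z2]
        rcases Nat.lt_or_ge (j + 1 + k) (a i) with h' | h'
        · rw [if_neg (by omega), if_pos h', one_mul]
        · rw [if_pos (by have := h i; omega), if_neg (by omega), mul_one]
    obtain ⟨c, hc⟩ := hdec
    rw [hc]
    exact mul_mem (Subgroup.mem_sup_left (mul_mem (Subgroup.mem_sup_left hz1) (Subgroup.mem_sup_right hz2)))
      (pow_mem (Subgroup.mem_sup_right (Subgroup.mem_zpowers x)) c)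
  · refine sup_le le_sup_left fun z hz => Subgroup.mem_sup_right ?_
    obtain ⟨h1, y, rfl⟩ := Subgroup.mem_inf.mp hz
    refine Subgroup.mem_inf.mpr ⟨h1, y ^ p, ?_⟩
    rw [powMonoidHom_apply, powMonoidHom_apply, ← pow_mul, pow_succ']

theorem reach_top_of_distinct (hinj : Function.Injective a) :
    Reach (Set.univ : Set (MulAut (Coord p a))) ⊤ := by
  classical
  have hp : Nat.Prime p := Fact.out
  haveI : NeZero p := ⟨hp.ne_zero⟩
  set N := ∑ i, a i with hNdef
  have hN : ∀ i, a i ≤ N := fun i => Finset.single_le_sum (fun l _ => Nat.zero_le (a l)) (Finset.mem_univ i)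
  have hall : ∀ (d : ℕ) (z : (Coord p a)), N ≤ d → z ^ p ^ d = 1 := fun d z hd => funext fun i => by
    rw [Pi.pow_apply, Pi.one_apply, coord_pow]
    exact (pow_dvd_pow p ((hN i).trans hd)).trans (dvd_mul_left _ _)
  have hkerinv : ∀ j, Inv (Set.univ : Set (MulAut (Coord p a))) (powMonoidHom (p ^ j) : (Coord p a) →* (Coord p a)).ker := fun j f _ z hz => by
    rw [MonoidHom.mem_ker, powMonoidHom_apply] at hz ⊢
    rw [← map_pow, hz, map_one]
  have hker : ∀ j, Reach (Set.univ : Set (MulAut (Coord p a))) (powMonoidHom (p ^ j) : (Coord p a) →* (Coord p a)).ker := by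
    intro j
    induction j with
    | zero =>
      have h : (powMonoidHom (p ^ 0) : (Coord p a) →* (Coord p a)).ker = ⊥ := by
        ext z; simp
      rw [h]
      exact reach_bot _
    | succ j ih =>
      have h0 : layer (p := p) a j 0 = (powMonoidHom (p ^ (j + 1)) : (Coord p a) →* (Coord p a)).ker := by
        refine le_antisymm (sup_le (fun z hz => ?_) inf_le_left) fun z hz => ?_
        · rw [MonoidHom.mem_ker, powMonoidHom_apply] at hz ⊢
          rw [pow_succ, pow_mul, hz, one_pow]
        · exact Subgroup.mem_sup_right (Subgroup.mem_inf.mpr ⟨hz, z, by simp⟩)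
      rw [← h0]
      have hd : ∀ d ≤ N, Reach (Set.univ : Set (MulAut (Coord p a))) (layer (p := p) a j (N - d)) := by
        intro d
        induction d with
        | zero =>
          intro _
          have : layer (p := p) a j (N - 0) = (powMonoidHom (p ^ j) : (Coord p a) →* (Coord p a)).ker := by
            refine le_antisymm (sup_le le_rfl fun z hz => ?_) le_sup_left
            obtain ⟨-, y, rfl⟩ := Subgroup.mem_inf.mp hz
            rw [powMonoidHom_apply, hall _ y (by omega)]
            exact one_mem _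
          rw [this]
          exact ih
        | succ d ihd =>
          intro hdN
          have he : N - (d + 1) + 1 = N - d := by omega
          obtain ⟨x, hx⟩ := layer_step (p := p) a hinj j (N - (d + 1))
          rw [he] at hx
          exact reach_step (ihd (by omega)) (layer_inv a j _) (hx ▸ le_sup_left) ⟨x, hx⟩
      simpa using hd N le_rfl
  have htop : (powMonoidHom (p ^ N) : (Coord p a) →* (Coord p a)).ker = ⊤ := eq_top_iff.mpr fun z _ => hall N z le_rfl
  exact htop ▸ hker N

end Distinct

/-- A system without supersoluble chain over a group with a repeated invariant. -/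
theorem exists_bad_of_repeated [Finite S] {n : ℕ} (hn : 0 < n) (hS : IsPGroup p S) {H : Type} [CommGroup H]
    (e₀ : S ≃* (Multiplicative (ZMod (p ^ n)) × Multiplicative (ZMod (p ^ n))) × H) :
    ∃ F : FusionSystem S, F.IsSaturated p ∧ ¬ HasSuperChain F := by
  have hp : Nat.Prime p := Fact.out
  haveI : NeZero (p ^ n) := ⟨(Nat.pow_pos hp.pos).ne'⟩
  obtain ⟨c, e, N, hc, hroot, hN, hiter⟩ := exists_companion_params (p := p) hn
  set V := Multiplicative (ZMod (p ^ n)) × Multiplicative (ZMod (p ^ n))
  set X := V × H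
  haveI : Finite X := Finite.of_equiv _ e₀.toEquiv
  have hinj : Function.Injective (companion c e) := by
    intro u v h
    simp only [companion, MonoidHom.mk'_apply, Prod.mk.injEq, EmbeddingLike.apply_eq_iff_eq] at h
    have h2 := hc.mul_left_cancel h.1
    exact Prod.ext (Multiplicative.toAdd.injective (add_right_cancel (h.2.trans (by rw [h2]))))
      (Multiplicative.toAdd.injective h2)
  let gV : MulAut V := MulEquiv.ofBijective (companion c e) (Finite.injective_iff_bijective.mp hinj)
  let g : MulAut X := gV.prodCongr (MulEquiv.refl H)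
  have hgN : g ^ N = 1 := by
    ext1 u
    have h : ∀ j u, (g ^ j) u = ((companion c e)^[j] u.1, u.2) := by
      intro j
      induction j with
      | zero => intro u; rfl
      | succ j ih =>
        intro u
        rw [pow_succ, MulAut.mul_apply, ih, Function.iterate_succ_apply]
        rfl
    rw [h, hiter]
    rfl
  haveI : Finite (MulAut X) := Finite.of_injective (fun f : MulAut X => (f : X → X)) DFunLike.coe_injective
  let G := X ⋊[(Subgroup.zpowers g).subtype] (Subgroup.zpowers g)
  haveI : Finite G := Finite.of_equiv _ SemidirectProduct.equivProd.symm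
  let il : X →* G := SemidirectProduct.inl
  let ι : S →* G := il.comp e₀.toMonoidHom
  have hι : Function.Injective ι := SemidirectProduct.inl_injective.comp e₀.injective
  have hr : ι.range = il.range := by
    ext y
    exact ⟨fun ⟨s, hs⟩ => ⟨e₀ s, hs⟩, fun ⟨u, hu⟩ => ⟨e₀.symm u, by simp [ι, hu]⟩⟩
  have hidx : ι.range.index = orderOf g := by
    rw [hr, SemidirectProduct.range_inl_eq_ker_rightHom, Subgroup.index_ker,
      MonoidHom.range_eq_top.mpr SemidirectProduct.rightHom_surjective, Subgroup.card_top, Nat.card_zpowers]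
  have hnd : ¬ p ∣ ι.range.index := fun h => hN (h.trans (hidx ▸ orderOf_dvd_of_pow_eq_one hgN))
  have hrp : IsPGroup p ι.range := hS.of_surjective ι.rangeRestrict ι.rangeRestrict_surjective
  refine ⟨pullSystem ι hι, saturated_pullSystem ι hι (hrp.toSylow hnd) rfl, fun h => ?_⟩
  let π : S →* V := (MonoidHom.fst V H).comp e₀.toMonoidHom
  haveI : Nontrivial (ZMod (p ^ n)) := ZMod.nontrivial_iff.mpr (Nat.one_lt_pow hn.ne' hp.one_lt).ne'
  obtain ⟨K, K', hK, hK', hle, ⟨x, hxS, hx⟩, hno, ⟨w, hw, ⟨hwS, hw1⟩⟩⟩ :=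
    exists_first_step h (fun w => ∃ hw : w ∈ S, π ⟨w, hw⟩ ≠ 1)
      (fun ⟨hh, h1⟩ => h1 (map_one π)) (by
        obtain ⟨u, hu⟩ := exists_ne (1 : V)
        exact ⟨e₀.symm (u, 1), SetLike.coe_mem _, SetLike.coe_mem _, by simpa [π] using hu⟩)
  have hxK : x ∈ K' := hx.ge (Subgroup.mem_sup_right (Subgroup.mem_zpowers x))
  -- the image of `K'` is generated by the image of `x`
  have himg : ∀ y : S, (y : Ω) ∈ K' → π y ∈ Subgroup.zpowers (π ⟨x, hxS⟩) := by
    intro y hy
    have hle' : K.subgroupOf S ⊔ Subgroup.zpowers (⟨x, hxS⟩ : S) = K'.subgroupOf S := by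
      rw [hx, Subgroup.subgroupOf_sup hK.1 (Subgroup.zpowers_le.mpr hxS)]
      congr 1
      refine le_antisymm (Subgroup.zpowers_le.mpr (Subgroup.mem_zpowers x)) fun z hz => ?_
      obtain ⟨i, hi⟩ := hz
      exact ⟨i, Subtype.ext (by simpa using hi)⟩
    have hsub : K.subgroupOf S ⊔ Subgroup.zpowers (⟨x, hxS⟩ : S) ≤ (Subgroup.zpowers (π ⟨x, hxS⟩)).comap π := by
      refine sup_le (fun z hz => ?_) (Subgroup.zpowers_le.mpr (Subgroup.mem_zpowers _))
      have : π z = 1 := by
        by_contra h1
        exact hno z hz ⟨z.2, h1⟩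
      rw [Subgroup.mem_comap, this]
      exact one_mem _
    exact hsub (hle'.ge hy)
  have hwx := himg ⟨w, hwS⟩ hw
  have hx0 : π ⟨x, hxS⟩ ≠ 1 := fun h1 => hw1 (by rw [h1] at hwx; simpa using hwx)
  have hconj : SemidirectProduct.inr ⟨g, Subgroup.mem_zpowers g⟩ * ι ⟨x, hxS⟩ *
      (SemidirectProduct.inr ⟨g, Subgroup.mem_zpowers g⟩)⁻¹ = ι (e₀.symm (g (e₀ ⟨x, hxS⟩))) := by
    show SemidirectProduct.inr _ * SemidirectProduct.inl _ * (SemidirectProduct.inr _)⁻¹ = _
    rw [← map_inv, ← SemidirectProduct.inl_aut]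
    simp [ι, il]
  obtain ⟨k, hk⟩ := himg _ (mem_of_conj_pullSystem hK' (s := ⟨x, hxS⟩) hxK _ hconj)
  have hk' : π ⟨x, hxS⟩ ^ k = gV (π ⟨x, hxS⟩) := by
    refine hk.trans ?_
    simp [π, g]
    rfl
  refine hx0 ?_
  generalize π ⟨x, hxS⟩ = u at hk'
  obtain ⟨a, b⟩ := u
  have h1 := congrArg (fun z : V => z.1.toAdd) hk'
  have h2 := congrArg (fun z : V => z.2.toAdd) hk'
  have e1 : (((a, b) : V) ^ k).1 = a ^ k := map_zpow (MonoidHom.fst _ _) ((a, b) : V) k
  have e2 : (((a, b) : V) ^ k).2 = b ^ k := map_zpow (MonoidHom.snd _ _) ((a, b) : V) k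
  simp only [e1, e2, toAdd_zpow, zsmul_eq_mul, gV, MulEquiv.ofBijective_apply, companion,
    MonoidHom.mk'_apply, toAdd_ofAdd] at h1 h2
  have hb : b.toAdd = 0 := (hroot (k : ZMod (p ^ n))).mul_right_eq_zero.mp (by linear_combination h1 + (k : ZMod (p ^ n)) * h2)
  rw [hb, mul_zero, mul_zero, add_zero] at h2
  exact Prod.ext (Multiplicative.toAdd.injective h2.symm) (Multiplicative.toAdd.injective hb)

theorem superChain_iff_abelian [Finite S] (hS : IsPGroup p S) (hab : IsMulCommutative S) :
    (∀ F : FusionSystem S, F.IsSaturated p → HasSuperChain F) ↔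
      ¬ ∃ (n : ℕ) (H : Type) (_ : CommGroup H), 0 < n ∧
        Nonempty (S ≃* (Multiplicative (ZMod (p ^ n)) × Multiplicative (ZMod (p ^ n))) × H) := by
  classical
  constructor
  · rintro h ⟨n, H, _, hn, ⟨e⟩⟩
    obtain ⟨F, hF, hbad⟩ := exists_bad_of_repeated hn hS e
    exact hbad (h F hF)
  intro hno F hF
  haveI := hab
  letI : CommGroup S := { (inferInstance : Group S) with mul_comm := fun a b => mul_comm' a b }
  obtain ⟨ι, hfin, n, hn, ⟨e⟩⟩ := CommGroup.equiv_prod_multiplicative_zmod_of_finite S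
  haveI : ∀ i, NeZero (n i) := fun i => ⟨by have := hn i; omega⟩
  obtain ⟨k, hk⟩ := IsPGroup.iff_card.mp hS
  have hpow : ∀ i, ∃ a, n i = p ^ a := by
    intro i
    have hd : n i ∣ Nat.card S := by
      rw [Nat.card_congr e.toEquiv, Nat.card_pi]
      refine (dvd_of_eq (Nat.card_zmod (n i)).symm).trans ?_
      exact (dvd_of_eq (Nat.card_congr Multiplicative.ofAdd)).trans
        (Finset.dvd_prod_of_mem (fun l => Nat.card (Multiplicative (ZMod (n l)))) (Finset.mem_univ i))
    obtain ⟨a, -, ha⟩ := (Nat.dvd_prime_pow Fact.out).mp (hk ▸ hd)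
    exact ⟨a, ha⟩
  choose a ha using hpow
  obtain rfl : n = fun i => p ^ a i := funext ha
  have hinj : Function.Injective a := by
    intro i j hij
    by_contra hne
    refine hno ⟨a i, ((l : {l : ι // l ≠ i ∧ l ≠ j}) → Multiplicative (ZMod (p ^ a l))), inferInstance,
      Nat.pos_of_ne_zero fun h0 => by simpa [h0] using hn i, ⟨e.trans ?_⟩⟩
    let cast' : Multiplicative (ZMod (p ^ a j)) ≃* Multiplicative (ZMod (p ^ a i)) :=
      AddEquiv.toMultiplicative (ZMod.ringEquivCongr (by rw [hij])).toAddEquiv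
    exact
      { toFun := fun y => ((y i, cast' (y j)), fun l => y l)
        invFun := fun z l => if h : l = i then h.symm ▸ z.1.1 else if h' : l = j then h'.symm ▸ cast'.symm z.1.2
          else z.2 ⟨l, h, h'⟩
        left_inv := fun y => funext fun l => by
          by_cases h : l = i
          · subst h; simp
          by_cases h' : l = j
          · subst h'; simp [h]
          simp [h, h']
        right_inv := fun z => by
          refine Prod.ext (Prod.ext ?_ ?_) (funext fun l => ?_)
          · simp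
          · simp [Ne.symm hne]
          · simp [l.2.1, l.2.2]
        map_mul' := fun y z => by
          refine Prod.ext (Prod.ext rfl ?_) rfl
          exact map_mul cast' _ _ }
  exact superChain_of_normal (isNormal_of_abelian hS hF fun x hx y hy =>
      congrArg Subtype.val (mul_comm' (⟨x, hx⟩ : S) ⟨y, hy⟩))
    (reach_map e.symm (reach_top_of_distinct a hinj))

end Cfsg.Lib.Fusion
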