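import Cfsg.Agent.Fusion.SimpleGroup

/-!
Simplicity of a group fusion system from the automorphisms of `S` lying in an invariant subsystem.
-/

set_option autoImplicit false
set_option linter.unusedSectionVars false
set_option linter.style.haveILetI false

namespace Cfsg.Lib.Fusion

open Cfsg Cfsg.FusionSystem

section General

variable {Ω : Type*} [Group Ω] {S : Subgroup Ω} {F E : FusionSystem S} {p : ℕ}

/-- A map on a subgroup `P` lies in the subsystem as soon as its restriction to a centric subgroup does. -/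
theorem isMap_of_restrict_centric_le [Finite S] [Fact p.Prime] (hS : IsPGroup p S)
    (hF : F.IsSaturated p) (hEs : E.IsSaturated p) (hs : E.IsSubsystemOf F) {P : Subgroup Ω} {g : Ω → Ω}
    (hg : IsMap F P g) {R : Subgroup Ω} (hRP : R ≤ P) (hR : F.IsCentric R) (hgR : IsMap E R g) :
    IsMap E P g := by
  haveI := finite_of_le hg.le
  induction hk : Nat.card P - Nat.card R using Nat.strong_induction_on generalizing R with
  | _ k ih =>
  rcases eq_or_ne R P with hRS | hRS
  · exact hRS ▸ hgR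
  have hlt := lt_normalizerIn (hS.to_le hg.le) (lt_of_le_of_ne hRP hRS)
  set Q := normalizerIn P R
  have hQP : Q ≤ P := inf_le_left
  have hQS : Q ≤ S := hQP.trans hg.le
  haveI := finite_of_le hQS
  haveI := finite_of_le hR.1
  have hrec := receptive_of_fullyCentralized hS hEs (fullyCentralized_of_centric hs
    (centric_of_isConj hR (isConj_iff.mpr ⟨g, isMap_of_le hs hgR, rfl⟩)))
  obtain ⟨j, hj, hje⟩ := receptive_extend hrec hgR rfl
  have hQext : Q ≤ extSub S R g := fun x hx => mem_extSub.mpr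
    ⟨hQS hx, hx.2, g x, hg.mem_S hx.1, fun y hy => hg.map_conj hx.1 (hRP hy)⟩
  have hjQ := hj.mono hQext
  obtain ⟨z, hz, -, hze⟩ := rigidity hS hF (show R ≤ Q from fun x hx => ⟨hRP hx, Subgroup.le_normalizer hx⟩)
    (fun x hx q hq => conj_mem_of_mem_normalizer hx.2 hq) hR (isMap_of_le hs hjQ) (hg.mono hQP) hje
  have hzR : z ∈ R := hR.2 R (isConj_iff.mpr ⟨id, isMap_id hR.1, le_antisymm
    (IsMap.img_le_iff.mpr fun _ h => h) fun _ h => IsMap.apply_mem_img (f := id) h⟩) hz
  have hzQ : z ∈ Q := hlt.le hzR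
  have h2 : IsMap E Q g :=
    ((isMap_conj hQS hz.1).comp hjQ fun x hx =>
      Q.mul_mem (Q.mul_mem hzQ hx) (Q.inv_mem hzQ)).congr fun x hx => hze x hx
  refine ih _ ?_ hQP (centric_of_le hR hlt.le hQS) h2 rfl
  have h3 : Nat.card R < Nat.card Q := lt_of_le_of_ne (Subgroup.card_le_of_le hlt.le) fun h =>
    hlt.ne (Subgroup.eq_of_le_of_card_ge hlt.le h.ge)
  have h4 := Subgroup.card_le_of_le hQP
  omega

end General

variable {G : Type*} [Group G] [Finite G] {p : ℕ} [Fact p.Prime]

/-- Conjugation by a `p`-element normalising a fully normalized subgroup lies in an invariant subsystem. -/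
theorem isMap_pElement (S : Sylow p G) {E : FusionSystem (S : Subgroup G)}
    (hinv : E.IsInvariantIn (groupFusionSystem (S : Subgroup G))) {R : Subgroup G}
    (hRn : (groupFusionSystem (S : Subgroup G)).IsFullyNormalized R) {x : G}
    (hxn : x ∈ Subgroup.normalizer (R : Set G)) {k : ℕ} (hk : x ^ p ^ k = 1) :
    IsMap E R (fun y => x * y * x⁻¹) := by
  have hfa := (fullyNormalized_props S.2 (saturated_group S) hRn).2.1
  have h1 : conjAut R x hxn ∈ (groupFusionSystem (S : Subgroup G)).autGroup R := by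
    rw [autGroup_group hRn.1]
    exact conjAut_mem_autInducedBy hxn trivial
  have h2 : ∀ i : ℕ, ∀ y : R, (((conjAut R x hxn) ^ i) y : G) = x ^ i * y * (x ^ i)⁻¹ := by
    intro i
    induction i with
    | zero => intro y; simp
    | succ i ih =>
      intro y
      rw [pow_succ, MulAut.mul_apply, ih, conjAut_apply, pow_succ]
      group
  have h3 : (conjAut R x hxn) ^ p ^ k = 1 := by
    refine MulEquiv.ext fun y => Subtype.ext ?_
    rw [h2, hk]
    simp
  exact ((isMap_autFun hRn.1).mpr (mem_autGroup_of_isPGroup hinv hfa h1 ⟨k, h3⟩)).congr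
    fun y hy => by rw [autFun_apply_mem _ hy, conjAut_apply]

/-- The maps of an invariant subsystem on `R` are normalised by `N_G(R)`. -/
theorem isMap_conj_conj (S : Sylow p G) {E : FusionSystem (S : Subgroup G)}
    (hinv : E.IsInvariantIn (groupFusionSystem (S : Subgroup G))) {R : Subgroup G}
    (hR : R ≤ (S : Subgroup G)) {a x : G} (ha : a ∈ Subgroup.normalizer (R : Set G))
    (hx : x ∈ Subgroup.normalizer (R : Set G)) (hxE : IsMap E R (fun y => x * y * x⁻¹)) :
    IsMap E R (fun y => a * x * a⁻¹ * y * (a * x * a⁻¹)⁻¹) := by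
  have hβ : conjAut R a ha ∈ (groupFusionSystem (S : Subgroup G)).autGroup R := by
    rw [autGroup_group hR]; exact conjAut_mem_autInducedBy ha trivial
  have hγ : conjAut R x hx ∈ E.autGroup R :=
    (isMap_autFun hR).mp (hxE.congr fun y hy => by rw [autFun_apply_mem _ hy, conjAut_apply])
  refine ((isMap_autFun hR).mpr (conj_mem_autGroup_of_invariant hinv hR hβ hγ)).congr fun y hy => ?_
  have hinv' : ((conjAut R a ha)⁻¹ ⟨y, hy⟩ : G) = a⁻¹ * y * a := by
    have h := conjAut_apply ha ((conjAut R a ha)⁻¹ ⟨y, hy⟩)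
    rw [MulAut.apply_inv_self] at h
    calc (((conjAut R a ha)⁻¹ ⟨y, hy⟩ : R) : G)
        = a⁻¹ * (a * (((conjAut R a ha)⁻¹ ⟨y, hy⟩ : R) : G) * a⁻¹) * a := by group
      _ = a⁻¹ * y * a := by rw [← h]
  rw [autFun_apply_mem _ hy, MulAut.mul_apply, MulAut.mul_apply, conjAut_apply, conjAut_apply, hinv']
  group

/-- The criterion. -/
theorem isSimple_of_autS (S : Sylow p G) (hS1 : (S : Subgroup G) ≠ ⊥)
    (hsc : ∀ T : Subgroup G, (groupFusionSystem (S : Subgroup G)).StronglyClosed T →
      T = ⊥ ∨ T = (S : Subgroup G))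
    (hgen : ∀ E : FusionSystem (S : Subgroup G), E.IsSaturated p →
      E.IsInvariantIn (groupFusionSystem (S : Subgroup G)) →
      ∀ g ∈ Subgroup.normalizer ((S : Subgroup G) : Set G),
        IsMap E (S : Subgroup G) (fun x => g * x * g⁻¹)) :
    (groupFusionSystem (S : Subgroup G)).IsSimple p := by
  set F := groupFusionSystem (S : Subgroup G)
  refine ⟨saturated_group S, hS1, fun T E hE => ?_⟩
  rcases hsc T hE.1.2.2.2.1 with hT | hT
  · exact Or.inl hT
  subst hT
  refine Or.inr ⟨rfl, ?_⟩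
  have hinv := hE.1.2.2
  intro P
  refine hom_eq_iff_isMap.mpr fun f => ⟨fun h => isMap_of_le hinv.1 h, fun h => ?_⟩
  obtain ⟨α, hα, f₀, hf₀, e⟩ := invariant_frattini hinv h
  rw [show F.autGroup (S : Subgroup G) = autInducedBy ⊤ (S : Subgroup G) from autGroup_group le_rfl] at hα
  obtain ⟨g, -, hge⟩ := mem_autInducedBy.mp hα
  have hgN : g ∈ Subgroup.normalizer ((S : Subgroup G) : Set G) :=
    mem_normalizer_of_maps_finite fun x hx => by rw [← hge ⟨x, hx⟩]; exact SetLike.coe_mem _
  refine (hf₀.comp (hgen E hE.1.1 hinv g hgN) fun x hx => hf₀.mem_S hx).congr fun x hx => ?_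
  rw [e x hx, autFun_apply_mem _ (hf₀.mem_S hx)]
  exact hge ⟨f₀ x, hf₀.mem_S hx⟩

end Cfsg.Lib.Fusion
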