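import Cfsg.Agent.Fusion.Puig
import Cfsg.Agent.Fusion.CentralizerSystem

/-!
Puig's theorem on centralizer systems.
-/

set_option autoImplicit false

namespace Cfsg.Lib.Fusion

open Cfsg Cfsg.FusionSystem

variable {Ω : Type*} [Group Ω] {S : Subgroup Ω} {F : FusionSystem S} {p : ℕ}

theorem mem_sup_centralized {Q R : Subgroup Ω} (h : R ≤ centralizerIn S Q) {g : Ω}
    (hg : g ∈ Subgroup.centralizer (Q : Set Ω)) (hn : ∀ x ∈ R, g * x * g⁻¹ ∈ R) {y : Ω}
    (hy : y ∈ R ⊔ Q) : g * y * g⁻¹ ∈ R ⊔ Q := by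
  have hle : R ⊔ Q ≤ (R ⊔ Q).comap (MulAut.conj g).toMonoidHom :=
    sup_le (fun x hx => Subgroup.mem_sup_left (hn x hx)) fun x hx => by
      show g * x * g⁻¹ ∈ R ⊔ Q
      rw [← Subgroup.mem_centralizer_iff.mp hg x hx, mul_inv_cancel_right]
      exact Subgroup.mem_sup_right hx
  exact hle hy

/-- The centralizer system of a fully centralized subgroup is saturated. -/
theorem saturated_centralizer [Finite S] [Fact p.Prime] (hS : IsPGroup p S) (hF : F.IsSaturated p)
    {Q : Subgroup Ω} (hQ : F.IsFullyCentralized Q) {C : FusionSystem (centralizerIn S Q)}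
    (hC : F.IsCentralizerSystem Q C) : C.IsSaturated p := by
  intro R hR
  have hQrec := receptive_of_fullyCentralized hS hF hQ
  have hTS : (centralizerIn S Q) ≤ S := inf_le_left
  haveI : Finite (centralizerIn S Q) := finite_of_le hTS
  have hRS : R ≤ S := hR.trans hTS
  have hPS : R ⊔ Q ≤ S := sup_le hRS hQ.1
  obtain ⟨P', hPP', hP'⟩ := exists_fullyNormalized (F := F) hPS
  obtain ⟨hP'fc, hP'fa, -⟩ := fullyNormalized_props hS hF hP'
  obtain ⟨c, hc, hci⟩ := isConj_iff.mp hPP'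
  haveI := finite_of_le hP'.1
  set R₀ := img R c
  set Q₀ := img Q c
  have hR₀ : R₀ ≤ P' := hci ▸ img_mono le_sup_left c
  have hQ₀ : Q₀ ≤ P' := hci ▸ img_mono le_sup_right c
  have hP'eq : P' = R₀ ⊔ Q₀ := hci ▸ hc.img_sup
  haveI := finite_of_le (hR₀.trans hP'.1)
  -- the automorphisms of `P'` corresponding to the automiser of `R` in the centralizer system
  let K : Subgroup (MulAut P') :=
    { carrier := {β | β ∈ F.autGroup P' ∧ (∀ x ∈ R₀, autFun β x ∈ R₀ ∧ autFun β⁻¹ x ∈ R₀) ∧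
        ∀ x ∈ Q₀, autFun β x = x}
      one_mem' := ⟨Subgroup.one_mem _, fun x hx => by
          rw [inv_one, autFun_apply_mem _ (hR₀ hx)]; exact ⟨hx, hx⟩,
        fun x hx => by rw [autFun_apply_mem _ (hQ₀ hx)]; rfl⟩
      mul_mem' := fun {a b} ha hb => ⟨Subgroup.mul_mem _ ha.1 hb.1, fun x hx => by
          rw [mul_inv_rev, autFun_mul _ _ (hR₀ hx), autFun_mul _ _ (hR₀ hx)]
          exact ⟨(ha.2.1 _ (hb.2.1 x hx).1).1, (hb.2.1 _ (ha.2.1 x hx).2).2⟩,
        fun x hx => by rw [autFun_mul _ _ (hQ₀ hx), hb.2.2 x hx, ha.2.2 x hx]⟩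
      inv_mem' := fun {a} ha => ⟨Subgroup.inv_mem _ ha.1, fun x hx => by
          rw [inv_inv]; exact ⟨(ha.2.1 x hx).2, (ha.2.1 x hx).1⟩,
        fun x hx => by
          conv_lhs => rw [← ha.2.2 x hx]
          exact autFun_inv_left a (hQ₀ hx)⟩ }
  obtain ⟨W⟩ : Nonempty (Sylow p K) := inferInstance
  obtain ⟨χ, hχ, hχW⟩ := exists_conj_into_autS (K := (W : Subgroup K).map K.subtype) hP'fa
    (W.2.map _) ((Subgroup.map_subtype_le _).trans fun β hβ => hβ.1)
  have hχm := (isMap_autFun hP'.1).mpr hχ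
  set R₂ := img R₀ (autFun χ)
  set Q₂ := img Q₀ (autFun χ)
  have hR₂ : R₂ ≤ P' := IsMap.img_le_iff.mpr fun x hx => autFun_mem χ (hR₀ hx)
  have hQ₂ : Q₂ ≤ P' := IsMap.img_le_iff.mpr fun x hx => autFun_mem χ (hQ₀ hx)
  have hP'eq₂ : P' = R₂ ⊔ Q₂ := by
    have h := (hP'eq ▸ hχm : IsMap F (R₀ ⊔ Q₀) (autFun χ)).img_sup
    rw [← h, ← hP'eq]
    exact (img_autFun χ).symm
  haveI := finite_of_le (hR₂.trans hP'.1)
  haveI := finite_of_le (hQ₂.trans hP'.1)
  have hc₂ : IsMap F (R ⊔ Q) (autFun χ ∘ c) :=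
    hc.comp hχm fun x hx => hci ▸ IsMap.apply_mem_img hx
  -- back onto `Q`
  have hcQ : IsMap F Q (autFun χ ∘ c) := hc₂.mono le_sup_right
  have hQ₂img : img Q (autFun χ ∘ c) = Q₂ := img_comp (hc.mono le_sup_right) (hχm.mono hQ₀)
  obtain ⟨k, hk, hki, hkl, -⟩ := hcQ.exists_inv
  rw [hQ₂img] at hk hki
  obtain ⟨d, hd, hdk⟩ := receptive_extend hQrec hk hki
  have hcen : ∀ a ∈ centralizerIn S Q₂, a ∈ extSub S Q₂ k := centralizerIn_le_extSub Q₂ k
  have hdQ : img Q₂ d = Q := (img_congr hdk).trans hki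
  have hdC : ∀ a ∈ centralizerIn S Q₂, d a ∈ (centralizerIn S Q) := fun a ha => by
    have := hd.mem_centralizerIn (le_extSub hk) (hcen a ha) ha
    rwa [hdQ] at this
  have hRC : ∀ a ∈ R₂, a ∈ centralizerIn S Q₂ := fun a ha => by
    obtain ⟨b, hb, rfl⟩ := (hχm.mono hR₀).mem_img.mp ha
    obtain ⟨x, hx, rfl⟩ := (hc.mono le_sup_left).mem_img.mp hb
    have h1 := hc₂.mem_centralizerIn (le_sup_right : Q ≤ R ⊔ Q) (Subgroup.mem_sup_left hx) (hR hx)
    rw [hQ₂img] at h1
    exact h1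
  have hdP : IsMap F P' d := hd.mono (by
    rw [hP'eq₂]
    exact sup_le (fun a ha => hcen a (hRC a ha)) (le_extSub hk))
  set R₁ := img R₂ d
  have hR₁ : R₁ ≤ (centralizerIn S Q) := IsMap.img_le_iff.mpr fun a ha => hdC a (hRC a ha)
  haveI := finite_of_le (hR₁.trans hTS)
  have hP₁ : img P' d = R₁ ⊔ Q := by
    have h := (hP'eq₂ ▸ hdP : IsMap F (R₂ ⊔ Q₂) d).img_sup
    rw [hdQ] at h
    rw [hP'eq₂]
    exact h
  -- the composite `g` from `P'`
  have hg : IsMap F P' (d ∘ autFun χ) := hχm.comp hdP fun x hx => autFun_mem χ hx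
  have hgR : img R₀ (d ∘ autFun χ) = R₁ := img_comp (hχm.mono hR₀) (hdP.mono hR₂)
  have hgQ : ∀ x ∈ Q, d (autFun χ (c x)) = x := fun x hx => by
    rw [hdk _ (IsMap.apply_mem_img (IsMap.apply_mem_img hx))]
    exact hkl x hx
  refine ⟨R₁, ?_, ?_, ?_⟩
  · refine isConj_iff.mpr ⟨(d ∘ autFun χ) ∘ c, (isMap_of_isCentralizerSystem hC).mpr
      ⟨hR, fun x hx => ?_, (hc.mono le_sup_left).comp (hg.mono hR₀)
        (fun x hx => IsMap.apply_mem_img hx),
      (d ∘ autFun χ) ∘ c, hc.comp hg (fun x hx => hci ▸ IsMap.apply_mem_img hx), fun _ _ => rfl,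
      hgQ⟩, ?_⟩
    · exact hR₁ (hgR ▸ IsMap.apply_mem_img (IsMap.apply_mem_img hx))
    · rw [img_comp (hc.mono le_sup_left) (hg.mono hR₀)]
      exact hgR
  · rw [isFullyAutomized_iff (hS.of_injective _ (Subgroup.inclusion_injective hTS))]
    refine ⟨hR₁, ?_⟩
    have hgR₀ := hg.mono hR₀
    let r : K →* MulAut R₀ :=
      { toFun := fun β =>
          { toFun := fun x => ⟨autFun (β : MulAut P') x, (β.2.2.1 x x.2).1⟩
            invFun := fun x => ⟨autFun (β : MulAut P')⁻¹ x, (β.2.2.1 x x.2).2⟩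
            left_inv := fun x => Subtype.ext (autFun_inv_left (β : MulAut P') (hR₀ x.2))
            right_inv := fun x => Subtype.ext (autFun_inv_apply (β : MulAut P') (hR₀ x.2))
            map_mul' := fun x y => Subtype.ext (((isMap_autFun hP'.1).mpr β.2.1).map_mul
              (hR₀ x.2) (hR₀ y.2)) }
        map_one' := MulEquiv.ext fun x => Subtype.ext (autFun_apply_mem _ (hR₀ x.2))
        map_mul' := fun a b => MulEquiv.ext fun x => Subtype.ext (autFun_mul _ _ (hR₀ x.2)) }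
    let W₁ : Sylow p r.range := W.mapSurjective r.rangeRestrict_surjective
    set γ := MulAut.congr (hgR₀.equiv hgR)
    obtain ⟨gi, hgi, hgii, hgil, hgir⟩ := hg.exists_inv
    have hgimg : img P' (d ∘ autFun χ) = R₁ ⊔ Q := by
      rw [img_comp hχm (by rw [img_autFun]; exact hdP), img_autFun, hP₁]
    rw [hgimg] at hgi hgii hgir
    have hA : C.autGroup R₁ ≤ r.range.map γ.toMonoidHom := by
      intro β hβ
      obtain ⟨-, -, hm, f', hf', hag, hfi⟩ :=
        (isMap_of_isCentralizerSystem hC).mp ((isMap_autFun hR₁).mpr hβ)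
      have himg : img (R₁ ⊔ Q) f' = R₁ ⊔ Q := by
        rw [hf'.img_sup, fix_img hfi, img_congr hag, img_autFun]
      have hgm : ∀ x ∈ P', (d ∘ autFun χ) x ∈ R₁ ⊔ Q := fun x hx =>
        hgimg ▸ IsMap.apply_mem_img hx
      have hfm : ∀ y ∈ R₁ ⊔ Q, f' y ∈ R₁ ⊔ Q := fun y hy =>
        himg.le (IsMap.apply_mem_img hy)
      have hcomp : IsMap F P' (gi ∘ (f' ∘ (d ∘ autFun χ))) :=
        (hg.comp hf' hgm).comp hgi fun x hx => hfm _ (hgm x hx)
      have hcompi : img P' (gi ∘ (f' ∘ (d ∘ autFun χ))) = P' :=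
        Subgroup.eq_of_le_of_card_ge (IsMap.img_le_iff.mpr fun x hx =>
          IsMap.img_le_iff.mp hgii.le _ (hfm _ (hgm x hx))) hcomp.card_img.ge
      obtain ⟨b, hb, hbe⟩ := hcomp.exists_aut hcompi
      have hbQ : ∀ x ∈ Q₀, autFun b x = x := fun x hx => by
        obtain ⟨q, hq, rfl⟩ := (hc.mono le_sup_right).mem_img.mp hx
        rw [hbe _ (hQ₀ hx)]
        show gi (f' (d (autFun χ (c q)))) = c q
        rw [hgQ q hq, hfi q hq]
        conv_lhs => rw [← hgQ q hq]
        exact hgil _ (hQ₀ hx)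
      have hbR : ∀ x ∈ R₀, autFun b x ∈ R₀ := fun x hx => by
        rw [hbe _ (hR₀ hx)]
        have hy : (d ∘ autFun χ) x ∈ R₁ := hgR ▸ IsMap.apply_mem_img hx
        show gi (f' ((d ∘ autFun χ) x)) ∈ R₀
        rw [hag _ hy]
        have hz := hgR.ge (autFun_mem β hy)
        obtain ⟨z, hz, e⟩ := hgR₀.mem_img.mp hz
        rw [← e, hgil z (hR₀ hz)]
        exact hz
      have hbs : b ∈ K := by
        refine ⟨hb, fun x hx => ⟨hbR x hx, ?_⟩, hbQ⟩
        have hbm := ((isMap_autFun hP'.1).mpr hb).mono hR₀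
        have hi : img R₀ (autFun b) = R₀ :=
          Subgroup.eq_of_le_of_card_ge (IsMap.img_le_iff.mpr hbR) hbm.card_img.ge
        obtain ⟨z, hz, rfl⟩ := hbm.mem_img.mp (hi.symm ▸ hx)
        rwa [autFun_inv_left b (hR₀ hz)]
      refine ⟨r ⟨b, hbs⟩, ⟨_, rfl⟩, MulEquiv.ext fun y => Subtype.ext ?_⟩
      have hy₂ : (y : Ω) ∈ img R₀ (d ∘ autFun χ) := by rw [hgR]; exact y.2
      obtain ⟨x, hx, hxy⟩ := hgR₀.mem_img.mp hy₂
      show ((γ (r ⟨b, hbs⟩) y : R₁) : Ω) = β y
      rw [← autFun_apply (γ (r ⟨b, hbs⟩)) y, ← autFun_apply β y, ← hxy,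
        congr_equiv_spec hgR₀ hgR _ hx, autFun_apply_mem _ hx]
      show (d ∘ autFun χ) (autFun b x) = _
      rw [hbe x (hR₀ hx)]
      show (d ∘ autFun χ) (gi (f' ((d ∘ autFun χ) x))) = _
      rw [hgir _ (hfm _ (hgm x (hR₀ hx))), hag _ (hgR ▸ IsMap.apply_mem_img hx)]
    have hB : ((W₁ : Subgroup r.range).map r.range.subtype).map γ.toMonoidHom ≤
        autInducedBy (centralizerIn S Q) R₁ := by
      rintro _ ⟨_, ⟨_, ⟨w, hw, rfl⟩, rfl⟩, rfl⟩
      obtain ⟨a, haS, ea⟩ := mem_autInducedBy.mp (hχW w ⟨w, hw, rfl⟩)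
      have hval : ∀ x ∈ P', a * autFun χ x * a⁻¹ = autFun χ (autFun (w : MulAut P') x) := by
        intro x hx
        rw [← ea ⟨autFun χ x, autFun_mem χ hx⟩, ← autFun_apply,
          autFun_mul _ _ (autFun_mem χ hx), autFun_mul _ _ (autFun_mem _ (autFun_mem χ hx)),
          autFun_inv_left χ hx]
      have haC : a ∈ centralizerIn S Q₂ := mem_centralizerIn.mpr ⟨haS, fun y hy => by
        obtain ⟨x, hx, rfl⟩ := (hχm.mono hQ₀).mem_img.mp hy
        rw [hval x (hQ₀ hx), w.2.2.2 x hx]⟩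
      refine mem_autInducedBy.mpr ⟨d a, hdC a haC, fun y => ?_⟩
      have hy₂ : (y : Ω) ∈ img R₀ (d ∘ autFun χ) := by rw [hgR]; exact y.2
      obtain ⟨x, hx, hxy⟩ := hgR₀.mem_img.mp hy₂
      show ((γ (r w) y : R₁) : Ω) = _
      rw [← autFun_apply _ y, ← hxy, congr_equiv_spec hgR₀ hgR _ hx, autFun_apply_mem _ hx]
      show d (autFun χ (autFun (w : MulAut P') x)) = _
      rw [← hval x (hR₀ hx)]
      exact hd.map_conj (hcen a haC) (hcen _ (hRC _ (IsMap.apply_mem_img hx)))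
    intro hdvd
    have hr : (autInducedBy (centralizerIn S Q) R₁).relIndex (C.autGroup R₁) ∣
        (W₁ : Subgroup r.range).index := by
      have h1 : (((W₁ : Subgroup r.range).map r.range.subtype).map γ.toMonoidHom).relIndex
          (r.range.map γ.toMonoidHom) = (W₁ : Subgroup r.range).index := by
        rw [Subgroup.relIndex_map_map_of_injective _ _ (f := γ.toMonoidHom) γ.injective,
          Subgroup.relIndex, Subgroup.subgroupOf,
          Subgroup.comap_map_eq_self_of_injective r.range.subtype_injective]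
      rw [← h1]
      exact (Dvd.intro _ (Subgroup.relIndex_mul_relIndex _ _ _ (autInducedBy_le (F := C) hR₁) hA)).trans
        (Subgroup.relIndex_dvd_of_le_left _ hB)
    exact W₁.not_dvd_index (hdvd.trans hr)
  · -- receptive
    haveI : Finite (centralizerIn S (img P' d)) := finite_of_le inf_le_left
    have hfc : F.IsFullyCentralized (R₁ ⊔ Q) := by
      refine ⟨sup_le (hR₁.trans hTS) hQ.1, fun X hX => ?_⟩
      refine (hP'fc.2 X (isConj_trans (isConj_iff.mpr ⟨d, hdP, hP₁⟩) hX)).trans ?_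
      rw [← hP₁]
      exact card_le_of_isMap hd (fun a ha => hcen a ⟨ha.1, Subgroup.centralizer_le hQ₂ ha.2⟩)
        inf_le_left fun a ha => hd.mem_centralizerIn (hP'eq₂ ▸ sup_le
          (fun b hb => hcen b (hRC b hb)) (le_extSub hk))
          (hcen a ⟨ha.1, Subgroup.centralizer_le hQ₂ ha.2⟩) ha
    have hrec := receptive_of_fullyCentralized hS hF hfc
    refine receptive_of_extend hR₁ fun P f hf hi => ?_
    obtain ⟨hP, hv, hfF, m, hm, hmf, hmQ⟩ := (isMap_of_isCentralizerSystem hC).mp hf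
    have hmi : img (P ⊔ Q) m = R₁ ⊔ Q := by
      rw [hm.img_sup, fix_img hmQ, img_congr hmf, hi]
    obtain ⟨m', hm', he⟩ := receptive_extend hrec hm hmi
    haveI := finite_of_le (sup_le (hP.trans hTS) hQ.1)
    have hle : extSub (centralizerIn S Q) P f ≤ extSub S (P ⊔ Q) m := by
      intro g hg
      obtain ⟨hgT, hgn, a, ha, ea⟩ := hg
      refine ⟨hgT.1, mem_normalizer_of_maps_finite fun y hy => mem_sup_centralized hP hgT.2
        (fun x hx => conj_mem_of_mem_normalizer hgn hx) hy, a, ha.1, fun y hy => ?_⟩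
      induction (show y ∈ Subgroup.closure ((P : Set Ω) ∪ Q) by
          rwa [Subgroup.closure_union, Subgroup.closure_eq, Subgroup.closure_eq]) using
          Subgroup.closure_induction with
      | mem x hx =>
        rcases hx with hx | hx
        · rw [hmf _ (conj_mem_of_mem_normalizer hgn hx), hmf _ hx, ea x hx]
        · rw [← Subgroup.mem_centralizer_iff.mp hgT.2 x hx, mul_inv_cancel_right, hmQ x hx,
            ← Subgroup.mem_centralizer_iff.mp ha.2 x hx, mul_inv_cancel_right]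
      | one => simp [hm.map_one]
      | mul x z hx hz ihx ihz =>
        have hc' : ∀ w, w ∈ Subgroup.closure ((P : Set Ω) ∪ Q) → w ∈ P ⊔ Q := fun w hw => by
          rwa [Subgroup.closure_union, Subgroup.closure_eq, Subgroup.closure_eq] at hw
        have hgc : ∀ w ∈ P ⊔ Q, g * w * g⁻¹ ∈ P ⊔ Q := fun w hw => mem_sup_centralized hP hgT.2
          (fun x hx => conj_mem_of_mem_normalizer hgn hx) hw
        rw [show g * (x * z) * g⁻¹ = g * x * g⁻¹ * (g * z * g⁻¹) by group,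
          hm.map_mul (hgc _ (hc' x hx)) (hgc _ (hc' z hz)), ihx (hc' x hx), ihz (hc' z hz),
          hm.map_mul (hc' x hx) (hc' z hz)]
        group
      | inv x hx ih =>
        have hx' : x ∈ P ⊔ Q := by
          rwa [Subgroup.closure_union, Subgroup.closure_eq, Subgroup.closure_eq] at hx
        rw [show g * x⁻¹ * g⁻¹ = (g * x * g⁻¹)⁻¹ by group,
          hm.map_inv (mem_sup_centralized hP hgT.2
            (fun x hx => conj_mem_of_mem_normalizer hgn hx) hx'), ih hx', hm.map_inv hx']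
        group
    refine ⟨m', (isMap_of_isCentralizerSystem hC).mpr ⟨(extSub_le P f).trans inf_le_left,
      fun x hx => ?_, hm'.mono hle, m',
      hm'.mono (sup_le hle (le_sup_right.trans (le_extSub hm))), fun _ _ => rfl,
      fun x hx => by rw [he x (Subgroup.mem_sup_right hx), hmQ x hx]⟩,
      fun x hx => by rw [he x (Subgroup.mem_sup_left hx), hmf x hx]⟩
    have h1 := hm'.mem_centralizerIn (le_sup_right.trans (le_extSub hm)) (hle hx)
      ((extSub_le P f).trans inf_le_left hx)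
    rwa [fix_img (fun x hx => by rw [he x (Subgroup.mem_sup_right hx), hmQ x hx])] at h1

end Cfsg.Lib.Fusion
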