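import Cfsg.Agent.Fusion.NormalizerSystem

/-!
The normalizer system of a fully normalized subgroup is saturated.
-/

set_option autoImplicit false

namespace Cfsg.Lib.Fusion

open Cfsg Cfsg.FusionSystem

variable {Ω : Type*} [Group Ω] {S : Subgroup Ω} {F : FusionSystem S} {p : ℕ}

theorem autFun_inv_left {P : Subgroup Ω} (α : MulAut P) {x : Ω} (hx : x ∈ P) :
    autFun α⁻¹ (autFun α x) = x := by
  have := autFun_inv_apply α⁻¹ hx
  rwa [inv_inv] at this

theorem mem_normalizer_of_autFun {P R : Subgroup Ω} [Finite R] {g : Ω}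
    {β : MulAut P} (eg : ∀ x : P, ((β x : P) : Ω) = g * x * g⁻¹) (hRP : R ≤ P)
    (h : ∀ x ∈ R, autFun β x ∈ R) : g ∈ Subgroup.normalizer (R : Set Ω) :=
  mem_normalizer_of_maps_finite fun x hx => by
    rw [← eg ⟨x, hRP hx⟩, ← autFun_apply β ⟨x, hRP hx⟩]
    exact h x hx

/-- The automorphisms in the system of `P` stabilizing `R` and `Q`. -/
def stabAut (F : FusionSystem S) (P R Q : Subgroup Ω) [Finite P] (hR : R ≤ P) (hQ : Q ≤ P) :
    Subgroup (MulAut P) :=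
  { carrier := {β | β ∈ F.autGroup P ∧ (∀ x ∈ R, autFun β x ∈ R) ∧ ∀ x ∈ Q, autFun β x ∈ Q}
    one_mem' := ⟨Subgroup.one_mem _, fun x hx => by rwa [autFun_apply_mem _ (hR hx)],
      fun x hx => by rwa [autFun_apply_mem _ (hQ hx)]⟩
    mul_mem' := fun {a b} ha hb => ⟨Subgroup.mul_mem _ ha.1 hb.1,
      fun x hx => by rw [autFun_mul _ _ (hR hx)]; exact ha.2.1 _ (hb.2.1 x hx),
      fun x hx => by rw [autFun_mul _ _ (hQ hx)]; exact ha.2.2 _ (hb.2.2 x hx)⟩
    inv_mem' := fun {a} ha => by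
      have : a⁻¹ = a ^ (orderOf a - 1) := by
        rw [eq_comm, eq_inv_iff_mul_eq_one, ← pow_succ, Nat.sub_add_cancel (orderOf_pos a),
          pow_orderOf_eq_one]
      have hpow : ∀ n : ℕ, (∀ x ∈ R, autFun (a ^ n) x ∈ R) ∧ ∀ x ∈ Q, autFun (a ^ n) x ∈ Q := by
        intro n
        induction n with
        | zero => exact ⟨fun x hx => by rwa [pow_zero, autFun_apply_mem _ (hR hx)],
            fun x hx => by rwa [pow_zero, autFun_apply_mem _ (hQ hx)]⟩
        | succ n ih => exact ⟨fun x hx => by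
            rw [pow_succ, autFun_mul _ _ (hR hx)]; exact ih.1 _ (ha.2.1 x hx),
          fun x hx => by rw [pow_succ, autFun_mul _ _ (hQ hx)]; exact ih.2 _ (ha.2.2 x hx)⟩
      refine ⟨Subgroup.inv_mem _ ha.1, ?_⟩
      rw [this]
      exact hpow _ }

theorem mem_stabAut {P R Q : Subgroup Ω} [Finite P] {hR : R ≤ P} {hQ : Q ≤ P} {β : MulAut P} :
    β ∈ stabAut F P R Q hR hQ ↔
      β ∈ F.autGroup P ∧ (∀ x ∈ R, autFun β x ∈ R) ∧ ∀ x ∈ Q, autFun β x ∈ Q := Iff.rfl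

theorem stabAut_apply_mem_iff {P R Q : Subgroup Ω} [Finite P] {hR : R ≤ P} {hQ : Q ≤ P}
    {β : MulAut P} (hβ : β ∈ stabAut F P R Q hR hQ) {x : Ω} (hx : x ∈ P) :
    (autFun β x ∈ R ↔ x ∈ R) ∧ (autFun β x ∈ Q ↔ x ∈ Q) := by
  have hi := (stabAut F P R Q hR hQ).inv_mem hβ
  have e : autFun β⁻¹ (autFun β x) = x := autFun_inv_left β hx
  exact ⟨⟨fun h => e ▸ hi.2.1 _ h, fun h => hβ.2.1 x h⟩,
    ⟨fun h => e ▸ hi.2.2 _ h, fun h => hβ.2.2 x h⟩⟩

/-- A conjugate position in which the stabilizer's Sylow subgroup is induced by `S`. -/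
theorem exists_sylow_position [Finite S] [Fact p.Prime]
    {P P' R Q : Subgroup Ω} (hR : R ≤ P) (hQ : Q ≤ P) {c₀ : Ω → Ω}
    (hc₀ : IsMap F P c₀) (hi₀ : img P c₀ = P') (hfa : F.IsFullyAutomized p P') :
    ∃ c, IsMap F P c ∧ img P c = P' ∧ ∀ [Finite P'] (hR' : img R c ≤ P') (hQ' : img Q c ≤ P')
      (U : Subgroup (MulAut P')), IsPGroup p U → U ≤ stabAut F P' (img R c) (img Q c) hR' hQ' →
        ∃ η ∈ stabAut F P' (img R c) (img Q c) hR' hQ', ∀ u ∈ U, ∃ s ∈ S,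
          ∀ x : P', ((((η * u * η⁻¹ : MulAut P')) x : P') : Ω) = s * x * s⁻¹ := by
  have hP' : P' ≤ S := hfa.1
  have := finite_of_le hP'
  have hR₀ : img R c₀ ≤ P' := hi₀ ▸ img_mono hR c₀
  have hQ₀ : img Q c₀ ≤ P' := hi₀ ▸ img_mono hQ c₀
  set H₀ := stabAut F P' (img R c₀) (img Q c₀) hR₀ hQ₀
  obtain ⟨W⟩ : Nonempty (Sylow p H₀) := inferInstance
  obtain ⟨χ, hχ, hχW⟩ := exists_conj_into_autS (K := (W : Subgroup H₀).map H₀.subtype) hfa
    (W.2.map _) ((Subgroup.map_subtype_le _).trans fun β hβ => hβ.1)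
  have hmem : ∀ x ∈ P, c₀ x ∈ P' := fun x hx => hi₀ ▸ IsMap.apply_mem_img hx
  have hχm := (isMap_autFun hP').mpr hχ
  have hc : IsMap F P (autFun χ ∘ c₀) := hc₀.comp hχm hmem
  have himg : ∀ A ≤ P, ∀ y ∈ P', (y ∈ img A (autFun χ ∘ c₀) ↔ autFun χ⁻¹ y ∈ img A c₀) := by
    intro A hA y hy
    rw [(hc.mono hA).mem_img, (hc₀.mono hA).mem_img]
    constructor
    · rintro ⟨a, ha, rfl⟩
      exact ⟨a, ha, (autFun_inv_left χ (hmem a (hA ha))).symm⟩
    · rintro ⟨a, ha, e⟩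
      refine ⟨a, ha, ?_⟩
      show autFun χ (c₀ a) = y
      rw [e, ← autFun_mul _ _ hy, mul_inv_cancel, autFun_apply_mem _ hy]
      rfl
  refine ⟨autFun χ ∘ c₀, hc, ?_, fun {hf} hR' hQ' U hU hUle => ?_⟩
  · subst hi₀
    rw [img_comp hc₀ hχm, img_autFun]
  have htr : ∀ β : MulAut P', β ∈ stabAut F P' _ _ hR' hQ' → χ⁻¹ * β * χ ∈ H₀ := by
    intro β hβ
    refine ⟨Subgroup.mul_mem _ (Subgroup.mul_mem _ (Subgroup.inv_mem _ hχ) hβ.1) hχ,
      fun x hx => ?_, fun x hx => ?_⟩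
    · have hxP := hR₀ hx
      rw [autFun_mul _ _ hxP, autFun_mul _ _ (autFun_mem _ hxP),
        ← himg R hR _ (autFun_mem _ (autFun_mem _ hxP))]
      refine hβ.2.1 _ ((himg R hR _ (autFun_mem _ hxP)).mpr ?_)
      rwa [autFun_inv_left χ hxP]
    · have hxP := hQ₀ hx
      rw [autFun_mul _ _ hxP, autFun_mul _ _ (autFun_mem _ hxP),
        ← himg Q hQ _ (autFun_mem _ (autFun_mem _ hxP))]
      refine hβ.2.2 _ ((himg Q hQ _ (autFun_mem _ hxP)).mpr ?_)
      rwa [autFun_inv_left χ hxP]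
  let U₀ : Subgroup H₀ := (U.map (MulAut.conj χ⁻¹).toMonoidHom).subgroupOf H₀
  have hU₀ : IsPGroup p U₀ := (hU.map _).comap_subtype
  obtain ⟨V, hV⟩ := hU₀.exists_le_sylow
  obtain ⟨h, hh⟩ := MulAction.exists_smul_eq H₀ V W
  refine ⟨χ * (h : MulAut P') * χ⁻¹, ?_, fun u hu => ?_⟩
  · have hh₀ : (h : MulAut P') ∈ H₀ := h.2
    refine ⟨Subgroup.mul_mem _ (Subgroup.mul_mem _ hχ hh₀.1) (Subgroup.inv_mem _ hχ),
      fun x hx => ?_, fun x hx => ?_⟩
    · have hxP := hR' hx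
      refine (himg R hR _ (autFun_mem _ hxP)).mpr ?_
      rw [autFun_mul _ _ hxP, autFun_mul _ _ (autFun_mem _ hxP),
        autFun_inv_left χ (autFun_mem _ (autFun_mem _ hxP))]
      exact hh₀.2.1 _ ((himg R hR x hxP).mp hx)
    · have hxP := hQ' hx
      refine (himg Q hQ _ (autFun_mem _ hxP)).mpr ?_
      rw [autFun_mul _ _ hxP, autFun_mul _ _ (autFun_mem _ hxP),
        autFun_inv_left χ (autFun_mem _ (autFun_mem _ hxP))]
      exact hh₀.2.2 _ ((himg Q hQ x hxP).mp hx)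
  · let u₀ : H₀ := ⟨χ⁻¹ * u * χ, htr u (hUle hu)⟩
    have hu₀ : u₀ ∈ U₀ := ⟨u, hu, by simp [u₀]⟩
    have h1 : h * u₀ * h⁻¹ ∈ ((h • V : Sylow p H₀) : Subgroup H₀) := ⟨u₀, hV hu₀, rfl⟩
    rw [hh] at h1
    obtain ⟨s, hs, es⟩ := mem_autInducedBy.mp (hχW _ ⟨_, h1, rfl⟩)
    refine ⟨s, hs, fun x => ?_⟩
    rw [← es x]
    refine congrArg (fun b : MulAut P' => ((b x : P') : Ω)) ?_
    show χ * (h : MulAut P') * χ⁻¹ * u * (χ * (h : MulAut P') * χ⁻¹)⁻¹ =
      χ * ((h : MulAut P') * (χ⁻¹ * u * χ) * (h : MulAut P')⁻¹) * χ⁻¹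
    group

theorem card_eq_card_ker_mul_card_range {A B : Type*} [Group A] [Group B] (f : A →* B) :
    Nat.card A = Nat.card f.ker * Nat.card f.range := by
  rw [← Subgroup.index_ker, Subgroup.card_mul_index]

/-- Puig's theorem on normalizer systems. -/
theorem saturated_normalizerSystem [Finite S] [Fact p.Prime] (hS : IsPGroup p S)
    (hF : F.IsSaturated p) {Q : Subgroup Ω} (hQ : F.IsFullyNormalized Q) :
    (normalizerSystem F hQ.1).IsSaturated p := by
  intro R hR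
  have hN := isNormalizerSystem_normalizerSystem (F := F) hQ.1
  obtain ⟨-, hQfa, hQrec⟩ := fullyNormalized_props hS hF hQ
  set T := normalizerIn S Q with hTdef
  have hTS : T ≤ S := inf_le_left
  have hQT : Q ≤ T := le_normalizerIn hQ.1
  have hPS : R ⊔ Q ≤ S := sup_le (hR.trans hTS) hQ.1
  obtain ⟨P', hPP', hP'⟩ := exists_fullyNormalized (F := F) hPS
  obtain ⟨hP'fc, hP'fa, hP'rec⟩ := fullyNormalized_props hS hF hP'
  obtain ⟨c₀, hc₀, hci₀⟩ := isConj_iff.mp hPP'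
  obtain ⟨c, hc, hci, hpos⟩ := exists_sylow_position (le_sup_left : R ≤ R ⊔ Q) le_sup_right
    hc₀ hci₀ hP'fa
  have hP'fin := finite_of_le hP'.1
  set R₂ := img R c
  set Q₂ := img Q c
  have hR₂ : R₂ ≤ P' := hci ▸ img_mono le_sup_left c
  have hQ₂ : Q₂ ≤ P' := hci ▸ img_mono le_sup_right c
  have hP'eq : P' = R₂ ⊔ Q₂ := hci ▸ hc.img_sup
  have hR₂S : R₂ ≤ S := hR₂.trans hP'.1
  have hQ₂S : Q₂ ≤ S := hQ₂.trans hP'.1
  haveI := finite_of_le hR₂S
  haveI := finite_of_le hQ₂S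
  -- `Q₂` back onto `Q`
  obtain ⟨k₀, hk₀, hk₀i, -, -⟩ := (hc.mono le_sup_right : IsMap F Q c).exists_inv
  obtain ⟨χ, -, d, hd, hdi, -, hdN⟩ := exists_map_normalizer hS hQfa hQrec hk₀ hk₀i
  -- `P'` normalizes `Q₂`
  have hP'N : P' ≤ normalizerIn S Q₂ := fun y hy => by
    obtain ⟨x, hx, rfl⟩ := hc.mem_img.mp (hci.symm ▸ hy)
    have hle : R ⊔ Q ≤ Subgroup.normalizer (Q : Set Ω) :=
      sup_le (fun z hz => (hR hz).2) (fun z hz => (hQT hz).2)
    exact hc.mem_normalizerIn le_sup_right hx (hle hx)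
  set R₁ := img R₂ d
  have hR₁ : R₁ ≤ T := IsMap.img_le_iff.mpr fun x hx => hdN x (hP'N (hR₂ hx))
  haveI := finite_of_le (hR₁.trans hTS)
  have hdP : IsMap F P' d := hd.mono hP'N
  set M₂ := normalizerIn S Q₂ ⊓ Subgroup.normalizer (R₂ : Set Ω)
  have hM₂ : ∀ a ∈ M₂, d a ∈ normalizerIn T R₁ := fun a ha =>
    ⟨hdN a ha.1, (hd.mem_normalizerIn (hR₂.trans hP'N) ha.1 ha.2).2⟩
  have hM₂P : ∀ a ∈ M₂, a ∈ normalizerIn S P' := fun a ha => by
    refine ⟨ha.1.1, mem_normalizer_of_maps_finite fun y hy => ?_⟩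
    have hle : P' ≤ P'.comap (MulAut.conj a).toMonoidHom := by
      conv_lhs => rw [hP'eq]
      exact sup_le (fun z hz => hR₂ (conj_mem_of_mem_normalizer ha.2 hz))
        (fun z hz => hQ₂ (conj_mem_of_mem_normalizer ha.1.2 hz))
    exact hle hy
  -- the automorphisms of `P'` induced from both sides
  set P₁ := img P' d
  have hP₁eq : P₁ = R₁ ⊔ Q := by
    have h := (hP'eq ▸ hdP : IsMap F (R₂ ⊔ Q₂) d).img_sup
    rw [hdi] at h
    show img P' d = _
    rw [hP'eq]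
    exact h
  have hP₁S : P₁ ≤ S := hdP.img_le
  haveI := finite_of_le hP₁S
  obtain ⟨k, hk, hki, hkl, hkr⟩ := hdP.exists_inv
  have hM₁P : ∀ t ∈ normalizerIn T R₁, t ∈ normalizerIn S P₁ := fun t ht => by
    refine ⟨ht.1.1, mem_normalizer_of_maps_finite fun y hy => ?_⟩
    have hle : P₁ ≤ P₁.comap (MulAut.conj t).toMonoidHom := by
      conv_lhs => rw [hP₁eq]
      refine sup_le (fun z hz => ?_) (fun z hz => ?_)
      · show t * z * t⁻¹ ∈ P₁
        rw [hP₁eq]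
        exact Subgroup.mem_sup_left (conj_mem_of_mem_normalizer ht.2 hz)
      · show t * z * t⁻¹ ∈ P₁
        rw [hP₁eq]
        exact Subgroup.mem_sup_right (conj_mem_of_mem_normalizer ht.1.2 hz)
    exact hle hy
  let e₁ : ↥(normalizerIn T R₁) →* MulAut P' := (MulAut.congr (hk.equiv hki)).toMonoidHom.comp
    ((normalizerInHom S P₁).comp (Subgroup.inclusion hM₁P))
  let e₂ : M₂ →* MulAut P' := (normalizerInHom S P').comp (Subgroup.inclusion hM₂P)
  have he₁ : ∀ (t : ↥(normalizerIn T R₁)) (x : P'),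
      ((e₁ t x : P') : Ω) = k ((t : Ω) * d x * (t : Ω)⁻¹) := by
    intro t x
    have hdx : d x ∈ P₁ := IsMap.apply_mem_img x.2
    have h := congr_equiv_spec hk hki (normalizerInHom S P₁ (Subgroup.inclusion hM₁P t)) hdx
    rw [hkl x x.2, autFun_apply, autFun_apply_mem _ hdx] at h
    exact h
  have he₁stab : e₁.range ≤ stabAut F P' R₂ Q₂ hR₂ hQ₂ := by
    rintro _ ⟨t, rfl⟩
    refine ⟨congr_mem_autGroup hk hki (autInducedBy_le hP₁S
      (range_normalizerInHom (S := S) P₁ ▸ ⟨_, rfl⟩)), fun x hx => ?_, fun x hx => ?_⟩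
    · rw [autFun_apply_mem _ (hR₂ hx), he₁]
      have hy := conj_mem_of_mem_normalizer t.2.2 (IsMap.apply_mem_img (f := d) hx)
      obtain ⟨z, hz, e⟩ := (hdP.mono hR₂).mem_img.mp hy
      rw [← e, hkl z (hR₂ hz)]
      exact hz
    · rw [autFun_apply_mem _ (hQ₂ hx), he₁]
      have hy : (t : Ω) * d x * (t : Ω)⁻¹ ∈ img Q₂ d := by
        rw [hdi]
        refine conj_mem_of_mem_normalizer t.2.1.2 ?_
        rw [← hdi]
        exact IsMap.apply_mem_img hx
      obtain ⟨z, hz, e⟩ := (hdP.mono hQ₂).mem_img.mp hy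
      rw [← e, hkl z (hQ₂ hz)]
      exact hz
  have hT₁fin : Finite ↥(normalizerIn T R₁) := finite_of_le ((inf_le_left : _ ≤ T).trans hTS)
  have hM₂fin : Finite M₂ := finite_of_le ((inf_le_left : M₂ ≤ _).trans inf_le_left)
  have hT₁p : IsPGroup p ↥(normalizerIn T R₁) :=
    hS.of_injective _ (Subgroup.inclusion_injective ((inf_le_left : _ ≤ T).trans hTS))
  -- every `p`-subgroup of the stabilizer moves into the range of `e₂`
  have hmove : ∀ U : Subgroup (MulAut P'), IsPGroup p U → U ≤ stabAut F P' R₂ Q₂ hR₂ hQ₂ →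
      ∃ η ∈ stabAut F P' R₂ Q₂ hR₂ hQ₂, ∀ u ∈ U, η * u * η⁻¹ ∈ e₂.range := by
    intro U hU hUle
    obtain ⟨η, hη, h⟩ := hpos hR₂ hQ₂ U hU hUle
    refine ⟨η, hη, fun u hu => ?_⟩
    obtain ⟨s, hs, es⟩ := h u hu
    have hmem : η * u * η⁻¹ ∈ stabAut F P' R₂ Q₂ hR₂ hQ₂ :=
      Subgroup.mul_mem _ (Subgroup.mul_mem _ hη (hUle hu)) (Subgroup.inv_mem _ hη)
    refine ⟨⟨s, ⟨hs, mem_normalizer_of_autFun es hQ₂ hmem.2.2⟩,
      mem_normalizer_of_autFun es hR₂ hmem.2.1⟩, MulEquiv.ext fun x => Subtype.ext ?_⟩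
    rw [es x]
    rfl
  have honto : ∀ t ∈ normalizerIn T R₁, ∃ a ∈ M₂, d a = t := by
    intro t ht
    refine exists_preimage_of_card_le hd inf_le_left ((inf_le_left : _ ≤ T).trans hTS) hM₂ ?_ ht
    change Nat.card ↥(normalizerIn T R₁) ≤ Nat.card ↥M₂
    rw [card_eq_card_ker_mul_card_range e₁, card_eq_card_ker_mul_card_range e₂]
    refine Nat.mul_le_mul ?_ ?_
    · have hfin : Finite (centralizerIn S P₁) := finite_of_le inf_le_left
      have hfin' : Finite (centralizerIn S P') := finite_of_le inf_le_left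
      have h1 : Nat.card e₁.ker ≤ Nat.card (centralizerIn S P₁) :=
        Nat.card_le_card_of_injective (fun a => ⟨(a : Ω), mem_centralizerIn.mpr
          ⟨a.1.2.1.1, fun y hy => by
            obtain ⟨x, hx, rfl⟩ := hdP.mem_img.mp hy
            have h := he₁ a.1 ⟨x, hx⟩
            rw [show e₁ a.1 = 1 from a.2] at h
            have hy' : (a : Ω) * d x * (a : Ω)⁻¹ ∈ P₁ :=
              conj_mem_of_mem_normalizer (hM₁P _ a.1.2).2 hy
            have h' : d x = d (k ((a : Ω) * d x * (a : Ω)⁻¹)) := congrArg d h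
            rw [hkr _ hy'] at h'
            exact h'.symm⟩⟩)
          fun a b hab => Subtype.ext (Subtype.ext (congrArg (fun z : centralizerIn S P₁ => (z : Ω)) hab))
      have h2 : Nat.card (centralizerIn S P₁) ≤ Nat.card (centralizerIn S P') :=
        hP'fc.2 P₁ (isConj_iff.mpr ⟨d, hdP, rfl⟩)
      have h3 : Nat.card (centralizerIn S P') ≤ Nat.card e₂.ker := by
        have hin : ∀ a ∈ centralizerIn S P', a ∈ M₂ := fun a ha =>
          ⟨⟨ha.1, (Subgroup.centralizer_le_normalizer _) (Subgroup.centralizer_le hQ₂ ha.2)⟩,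
            (Subgroup.centralizer_le_normalizer _) (Subgroup.centralizer_le hR₂ ha.2)⟩
        refine Nat.card_le_card_of_injective (fun a => ⟨⟨(a : Ω), hin a a.2⟩,
          MonoidHom.mem_ker.mpr (MulEquiv.ext fun x => Subtype.ext
            ((mem_centralizerIn.mp a.2).2 x x.2))⟩) fun a b hab => Subtype.ext ?_
        exact congrArg (fun z : e₂.ker => (z.1 : Ω)) hab
      exact h1.trans (h2.trans h3)
    · obtain ⟨η, -, h⟩ := hmove e₁.range (hT₁p.of_surjective _ e₁.rangeRestrict_surjective) he₁stab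
      exact Nat.card_le_card_of_injective (fun u => (⟨η * u * η⁻¹, h u u.2⟩ : e₂.range))
        fun a b hab => Subtype.ext (mul_left_cancel (mul_right_cancel
          (congrArg (fun z : e₂.range => (z : MulAut P')) hab)))
  -- the candidate
  refine ⟨R₁, ?_, ?_, ?_⟩
  · refine isConj_iff.mpr ⟨d ∘ c, ?_, ?_⟩
    · refine (isMap_of_isNormalizerSystem hN).mpr ⟨hR,
        fun x hx => hR₁ (IsMap.apply_mem_img (IsMap.apply_mem_img hx)),
        ((hc.mono le_sup_left).comp (hdP.mono hR₂) fun x hx => IsMap.apply_mem_img hx),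
        d ∘ c, hc.comp hdP (fun x hx => hci ▸ IsMap.apply_mem_img hx), fun _ _ => rfl, ?_⟩
      rw [img_comp (hc.mono le_sup_right) (hdP.mono hQ₂)]
      exact hdi
    · exact img_comp (hc.mono le_sup_left) (hdP.mono hR₂)
  · -- fully automized
    have : Finite T := finite_of_le hTS
    rw [isFullyAutomized_iff (hS.of_injective _ (Subgroup.inclusion_injective hTS))]
    refine ⟨hR₁, ?_⟩
    let H := stabAut F P' R₂ Q₂ hR₂ hQ₂
    have hdR := hdP.mono hR₂
    obtain ⟨kR, hkR, hkRi, hkRl, hkRr⟩ := hdR.exists_inv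
    let r : H →* MulAut R₂ :=
      { toFun := fun β =>
          { toFun := fun x => ⟨autFun (β : MulAut P') x, β.2.2.1 x x.2⟩
            invFun := fun x => ⟨autFun ((β⁻¹ : H) : MulAut P') x, (β⁻¹ : H).2.2.1 x x.2⟩
            left_inv := fun x => Subtype.ext (autFun_inv_left (β : MulAut P') (hR₂ x.2))
            right_inv := fun x => Subtype.ext (by
              show autFun (β : MulAut P') (autFun ((β⁻¹ : H) : MulAut P') x) = x
              rw [← autFun_mul _ _ (hR₂ x.2), ← Subgroup.coe_mul, mul_inv_cancel,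
                autFun_apply_mem _ (hR₂ x.2)]
              rfl)
            map_mul' := fun x y => Subtype.ext (((isMap_autFun hP'.1).mpr β.2.1).map_mul
              (hR₂ x.2) (hR₂ y.2)) }
        map_one' := MulEquiv.ext fun x => Subtype.ext (autFun_apply_mem _ (hR₂ x.2))
        map_mul' := fun a b => MulEquiv.ext fun x => Subtype.ext (autFun_mul _ _ (hR₂ x.2)) }
    obtain ⟨W⟩ : Nonempty (Sylow p H) := inferInstance
    obtain ⟨η, hη, hηW⟩ := hmove ((W : Subgroup H).map H.subtype) (W.2.map _)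
      (Subgroup.map_subtype_le _)
    set γ := MulAut.congr (hdR.equiv rfl)
    let W₁ : Sylow p r.range :=
      ((⟨η, hη⟩ : H) • W).mapSurjective r.rangeRestrict_surjective
    have hA : (normalizerSystem F hQ.1).autGroup R₁ ≤ r.range.map γ.toMonoidHom := by
      intro β hβ
      obtain ⟨-, -, hm, f', hf', hag, hfi⟩ :=
        (isMap_of_isNormalizerSystem hN).mp ((isMap_autFun hR₁).mpr hβ)
      have hf'1 : IsMap F P₁ f' := hP₁eq ▸ hf'
      have hmemP : ∀ x ∈ P', f' (d x) ∈ P₁ := fun x hx => by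
        have h1 : img P₁ f' = P₁ := by
          conv_rhs => rw [hP₁eq]
          rw [hP₁eq, hf'.img_sup, hfi, img_congr hag, img_autFun]
        rw [← h1]
        exact IsMap.apply_mem_img (IsMap.apply_mem_img hx)
      have hcomp : IsMap F P' (k ∘ f' ∘ d) :=
        (hdP.comp hf'1 fun x hx => IsMap.apply_mem_img hx).comp hk hmemP
      have hcompi : img P' (k ∘ f' ∘ d) = P' := by
        refine Subgroup.eq_of_le_of_card_ge (IsMap.img_le_iff.mpr fun x hx => ?_) hcomp.card_img.ge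
        exact IsMap.img_le_iff.mp hki.le _ (hmemP x hx)
      obtain ⟨b, hb, hbe⟩ := hcomp.exists_aut hcompi
      have hbs : b ∈ H := by
        refine ⟨hb, fun x hx => ?_, fun x hx => ?_⟩
        · rw [hbe x (hR₂ hx)]
          show k (f' (d x)) ∈ R₂
          rw [hag _ (IsMap.apply_mem_img hx)]
          obtain ⟨z, hz, e⟩ := hdR.mem_img.mp (autFun_mem β (IsMap.apply_mem_img hx))
          rw [← e, hkl z (hR₂ hz)]
          exact hz
        · rw [hbe x (hQ₂ hx)]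
          show k (f' (d x)) ∈ Q₂
          have h : f' (d x) ∈ img Q₂ d := by
            rw [hdi]
            exact IsMap.img_le_iff.mp hfi.le _ (IsMap.img_le_iff.mp hdi.le x hx)
          obtain ⟨z, hz, e⟩ := (hdP.mono hQ₂).mem_img.mp h
          rw [← e, hkl z (hQ₂ hz)]
          exact hz
      refine ⟨r ⟨b, hbs⟩, ⟨_, rfl⟩, MulEquiv.ext fun y => Subtype.ext ?_⟩
      obtain ⟨x, hx, hxy⟩ := hdR.mem_img.mp y.2
      show ((γ (r ⟨b, hbs⟩) y : R₁) : Ω) = β y
      rw [← autFun_apply (γ (r ⟨b, hbs⟩)) y, ← autFun_apply β y, ← hxy,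
        congr_equiv_spec hdR rfl _ hx, autFun_apply_mem _ hx]
      show d (autFun b x) = _
      rw [hbe x (hR₂ hx)]
      show d (k (f' (d x))) = _
      rw [hkr _ (hmemP x (hR₂ hx)), hag _ (IsMap.apply_mem_img hx)]
    have hB : ((W₁ : Subgroup r.range).map r.range.subtype).map γ.toMonoidHom ≤
        autInducedBy T R₁ := by
      rintro _ ⟨_, ⟨_, ⟨_, ⟨w, hw, rfl⟩, rfl⟩, rfl⟩, rfl⟩
      obtain ⟨⟨a, ha⟩, he⟩ := hηW _ ⟨w, hw, rfl⟩
      refine mem_autInducedBy.mpr ⟨d a, (hM₂ a ha).1, fun y => ?_⟩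
      obtain ⟨x, hx, hxy⟩ := hdR.mem_img.mp y.2
      show ((γ (r ((⟨η, hη⟩ : H) * w * (⟨η, hη⟩ : H)⁻¹)) y : R₁) : Ω) = _
      rw [← autFun_apply _ y, ← hxy, congr_equiv_spec hdR rfl _ hx, autFun_apply_mem _ hx]
      show d (autFun (η * (w : MulAut P') * η⁻¹) x) = _
      rw [← show e₂ ⟨a, ha⟩ = η * (w : MulAut P') * η⁻¹ from he, autFun_apply_mem _ (hR₂ hx)]
      show d (a * x * a⁻¹) = _
      rw [hd.map_conj ha.1 (hP'N (hR₂ hx))]
    intro hdvd
    have hr : (autInducedBy T R₁).relIndex ((normalizerSystem F hQ.1).autGroup R₁) ∣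
        (W₁ : Subgroup r.range).index := by
      have hBle := hB.trans (le_refl (autInducedBy T R₁))
      have hTA := autInducedBy_le (F := normalizerSystem F hQ.1) hR₁
      have h1 : (((W₁ : Subgroup r.range).map r.range.subtype).map γ.toMonoidHom).relIndex
          (r.range.map γ.toMonoidHom) = (W₁ : Subgroup r.range).index := by
        rw [Subgroup.relIndex_map_map_of_injective _ _ (f := γ.toMonoidHom) γ.injective,
          Subgroup.relIndex, Subgroup.subgroupOf, Subgroup.comap_map_eq_self_of_injective r.range.subtype_injective]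
      rw [← h1]
      exact (Dvd.intro _ (Subgroup.relIndex_mul_relIndex _ _ _ hTA hA)).trans
        (Subgroup.relIndex_dvd_of_le_left _ hBle)
    exact W₁.not_dvd_index (hdvd.trans hr)
  · -- receptive
    refine receptive_of_extend hR₁ fun R' ψ hψ hψi => ?_
    obtain ⟨hR'T, hψT, hψF, f', hf', hag, hfi⟩ := (isMap_of_isNormalizerSystem hN).mp hψ
    have hP'T : R' ⊔ Q ≤ T := sup_le hR'T hQT
    haveI := finite_of_le (hP'T.trans hTS)
    have hf'img : img (R' ⊔ Q) f' = P₁ := by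
      rw [hf'.img_sup, hfi, img_congr hag, hψi, hP₁eq]
    have hmemP : ∀ x ∈ R' ⊔ Q, f' x ∈ P₁ := fun x hx => hf'img ▸ IsMap.apply_mem_img hx
    have hθ : IsMap F (R' ⊔ Q) (k ∘ f') := hf'.comp hk hmemP
    have hθi : img (R' ⊔ Q) (k ∘ f') = P' := by
      rw [img_comp hf' (hf'img.symm ▸ hk), hf'img, hki]
    let M' := extSub T R' ψ
    have hM'T : M' ≤ T := (extSub_le R' ψ).trans inf_le_left
    haveI := finite_of_le (hM'T.trans hTS)
    have hM'P : ∀ g ∈ M', g ∈ normalizerIn S (R' ⊔ Q) := fun g hg => by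
      refine ⟨(hM'T hg).1, mem_normalizer_of_maps_finite fun y hy => ?_⟩
      have hle : R' ⊔ Q ≤ (R' ⊔ Q).comap (MulAut.conj g).toMonoidHom := sup_le
        (fun z hz => Subgroup.mem_sup_left (conj_mem_of_mem_normalizer hg.2.1 hz))
        (fun z hz => Subgroup.mem_sup_right (conj_mem_of_mem_normalizer (hM'T hg).2 hz))
      exact hle hy
    let eθ : M' →* MulAut P' := (MulAut.congr (hθ.equiv hθi)).toMonoidHom.comp
      ((normalizerInHom S (R' ⊔ Q)).comp (Subgroup.inclusion hM'P))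
    have heθ : ∀ (g : M') (x : Ω) (hx : x ∈ R' ⊔ Q),
        autFun (eθ g) (k (f' x)) = k (f' ((g : Ω) * x * (g : Ω)⁻¹)) := fun g x hx => by
      have h := congr_equiv_spec hθ hθi (normalizerInHom S (R' ⊔ Q) (Subgroup.inclusion hM'P g)) hx
      rw [autFun_apply_mem _ hx] at h
      exact h
    -- the image acts on `R₂` as elements of `M₂`
    have hfR : ∀ x ∈ R', k (f' x) ∈ R₂ ∧ f' x ∈ R₁ := fun x hx => by
      have h : f' x ∈ R₁ := by
        rw [hag x hx, ← hψi]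
        exact IsMap.apply_mem_img hx
      obtain ⟨z, hz, e⟩ := (hdP.mono hR₂).mem_img.mp h
      rw [← e, hkl z (hR₂ hz)]
      exact ⟨hz, IsMap.apply_mem_img hz⟩
    have hfQ : ∀ x ∈ Q, k (f' x) ∈ Q₂ := fun x hx => by
      have h : f' x ∈ img Q₂ d := by
        rw [hdi]
        exact IsMap.img_le_iff.mp hfi.le x hx
      obtain ⟨z, hz, e⟩ := (hdP.mono hQ₂).mem_img.mp h
      rw [← e, hkl z (hQ₂ hz)]
      exact hz
    have hsurjR : ∀ y ∈ R₂, ∃ x ∈ R', k (f' x) = y := fun y hy => by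
      have h : d y ∈ img R' ψ := hψi.symm ▸ IsMap.apply_mem_img hy
      obtain ⟨x, hx, e⟩ := hψF.mem_img.mp h
      exact ⟨x, hx, by rw [hag x hx, e, hkl y (hR₂ hy)]⟩
    have hsurjQ : ∀ y ∈ Q₂, ∃ x ∈ Q, k (f' x) = y := fun y hy => by
      have h : d y ∈ img Q f' := by
        rw [hfi, ← hdi]
        exact IsMap.apply_mem_img hy
      obtain ⟨x, hx, e⟩ := (hf'.mono le_sup_right).mem_img.mp h
      exact ⟨x, hx, by rw [e, hkl y (hQ₂ hy)]⟩
    have hUH : eθ.range ≤ stabAut F P' R₂ Q₂ hR₂ hQ₂ := by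
      rintro _ ⟨g, rfl⟩
      refine ⟨congr_mem_autGroup hθ hθi (autInducedBy_le (hP'T.trans hTS)
        (range_normalizerInHom (S := S) (R' ⊔ Q) ▸ ⟨_, rfl⟩)), fun y hy => ?_, fun y hy => ?_⟩
      · obtain ⟨x, hx, rfl⟩ := hsurjR y hy
        rw [heθ g x (Subgroup.mem_sup_left hx)]
        exact (hfR _ (conj_mem_of_mem_normalizer g.2.2.1 hx)).1
      · obtain ⟨x, hx, rfl⟩ := hsurjQ y hy
        rw [heθ g x (Subgroup.mem_sup_right hx)]
        exact hfQ _ (conj_mem_of_mem_normalizer (hM'T g.2).2 hx)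
    have hact : ∀ g : M', ∃ b : M₂, ∀ y ∈ R₂, autFun (eθ g) y = (b : Ω) * y * (b : Ω)⁻¹ := by
      intro g
      obtain ⟨-, hgn, h, hh, eh⟩ := g.2
      have hhn : h ∈ normalizerIn T R₁ := ⟨hh, mem_normalizer_of_maps_finite fun y hy => by
        obtain ⟨x, hx, rfl⟩ := hψF.mem_img.mp (hψi.symm ▸ hy)
        rw [← eh x hx, ← hψi]
        exact IsMap.apply_mem_img (conj_mem_of_mem_normalizer hgn hx)⟩
      obtain ⟨b, hb, rfl⟩ := honto h hhn
      refine ⟨⟨b, hb⟩, fun y hy => ?_⟩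
      obtain ⟨x, hx, rfl⟩ := hsurjR y hy
      rw [heθ g x (Subgroup.mem_sup_left hx), hag _ (conj_mem_of_mem_normalizer hgn hx), eh x hx]
      have hz := (hfR x hx).1
      have hd' : d (b * k (f' x) * b⁻¹) = d b * ψ x * (d b)⁻¹ := by
        rw [hd.map_conj hb.1 (hP'N (hR₂ hz)), hkr _ (hmemP x (Subgroup.mem_sup_left hx)),
          hag x hx]
      rw [← hd']
      exact hkl _ (hR₂ (conj_mem_of_mem_normalizer hb.2 hz))
    -- the `p`-group spanned by both ranges modulo the kernel on `R₂`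
    let K : Subgroup (MulAut P') :=
      { carrier := {β | β ∈ stabAut F P' R₂ Q₂ hR₂ hQ₂ ∧ ∀ y ∈ R₂, autFun β y = y}
        one_mem' := ⟨Subgroup.one_mem _, fun y hy => autFun_apply_mem _ (hR₂ hy)⟩
        mul_mem' := fun {a b} ha hb => ⟨Subgroup.mul_mem _ ha.1 hb.1, fun y hy => by
          rw [autFun_mul _ _ (hR₂ hy), hb.2 y hy, ha.2 y hy]⟩
        inv_mem' := fun {a} ha => ⟨Subgroup.inv_mem _ ha.1, fun y hy => by
          conv_lhs => rw [← ha.2 y hy]
          exact autFun_inv_left a (hR₂ hy)⟩ }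
    let E : Subgroup (MulAut P') := K ⊔ e₂.range
    have he₂ : e₂.range ≤ stabAut F P' R₂ Q₂ hR₂ hQ₂ := by
      rintro _ ⟨a, rfl⟩
      refine ⟨autInducedBy_le hP'.1 (range_normalizerInHom (S := S) P' ▸ ⟨_, rfl⟩),
        fun y hy => ?_, fun y hy => ?_⟩
      · rw [autFun_apply_mem _ (hR₂ hy)]
        exact conj_mem_of_mem_normalizer a.2.2 hy
      · rw [autFun_apply_mem _ (hQ₂ hy)]
        exact conj_mem_of_mem_normalizer a.2.1.2 hy
    have hKn : e₂.range ≤ Subgroup.normalizer (K : Set (MulAut P')) := by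
      intro β hβ
      refine mem_normalizer_of_maps_finite fun κ hκ => ⟨Subgroup.mul_mem _
        (Subgroup.mul_mem _ (he₂ hβ) hκ.1) (Subgroup.inv_mem _ (he₂ hβ)), fun y hy => ?_⟩
      have hi := (Subgroup.inv_mem _ (he₂ hβ) : β⁻¹ ∈ stabAut F P' R₂ Q₂ hR₂ hQ₂).2.1 y hy
      rw [autFun_mul _ _ (hR₂ hy), autFun_mul _ _ (autFun_mem _ (hR₂ hy)), hκ.2 _ hi,
        ← autFun_mul _ _ (hR₂ hy), mul_inv_cancel, autFun_apply_mem _ (hR₂ hy)]
      rfl
    have hEeq : ∀ β ∈ E, ∃ κ ∈ K, ∃ b ∈ e₂.range, β = κ * b := fun β hβ => by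
      have h : β ∈ ((K ⊔ e₂.range : Subgroup (MulAut P')) : Set (MulAut P')) := hβ
      rw [Subgroup.coe_mul_of_right_le_normalizer_left K e₂.range hKn] at h
      obtain ⟨κ, hκ, b, hb, e⟩ := h
      exact ⟨κ, hκ, b, hb, e.symm⟩
    have hUE : eθ.range ≤ E := by
      rintro _ ⟨g, rfl⟩
      obtain ⟨b, hb⟩ := hact g
      have : eθ g * (e₂ b)⁻¹ ∈ K := by
        refine ⟨Subgroup.mul_mem _ (hUH ⟨g, rfl⟩) (Subgroup.inv_mem _ (he₂ ⟨b, rfl⟩)),
          fun y hy => ?_⟩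
        have hi := (Subgroup.inv_mem _ (he₂ ⟨b, rfl⟩) :
          (e₂ b)⁻¹ ∈ stabAut F P' R₂ Q₂ hR₂ hQ₂).2.1 y hy
        rw [autFun_mul _ _ (hR₂ hy), hb _ hi]
        have h1 : (b : Ω) * autFun (e₂ b)⁻¹ y * (b : Ω)⁻¹ = autFun (e₂ b) (autFun (e₂ b)⁻¹ y) := by
          rw [autFun_apply_mem (e₂ b) (hR₂ hi)]
          rfl
        rw [h1, ← autFun_mul _ _ (hR₂ hy), mul_inv_cancel, autFun_apply_mem _ (hR₂ hy)]
        rfl
      have := Subgroup.mul_mem E (Subgroup.mem_sup_left this) (Subgroup.mem_sup_right ⟨b, rfl⟩)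
      rwa [inv_mul_cancel_right] at this
    have hEH : E ≤ stabAut F P' R₂ Q₂ hR₂ hQ₂ := sup_le (fun _ hκ => hκ.1) he₂
    -- `e₂.range` is a Sylow subgroup of `E`
    have hR2max : IsMaxPIn p e₂.range E := by
      refine ⟨le_sup_right, (hS.of_injective _ (Subgroup.inclusion_injective
        ((inf_le_left : M₂ ≤ _).trans inf_le_left))).of_surjective _ e₂.rangeRestrict_surjective,
        fun V hV hVp hle => ?_⟩
      obtain ⟨η, -, h⟩ := hmove V hVp (hV.trans hEH)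
      refine (Subgroup.eq_of_le_of_card_ge hle ?_).symm
      exact Nat.card_le_card_of_injective (fun v => (⟨η * v * η⁻¹, h v v.2⟩ : e₂.range))
        fun a b hab => Subtype.ext (mul_left_cancel (mul_right_cancel
          (congrArg (fun z : e₂.range => (z : MulAut P')) hab)))
    have hMp : IsPGroup p M' := hS.of_injective _ (Subgroup.inclusion_injective (hM'T.trans hTS))
    obtain ⟨ε, hε, hεU⟩ := hR2max.exists_conj_le hUE
      (hMp.of_surjective _ eθ.rangeRestrict_surjective)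
    obtain ⟨ε', hεE, rfl⟩ : ∃ e' ∈ E, e'⁻¹ = ε := ⟨ε⁻¹, E.inv_mem hε, inv_inv ε⟩
    obtain ⟨κ, hκ, s, hs, rfl⟩ := hEeq ε' hεE
    have hκU : ∀ u ∈ eθ.range, κ⁻¹ * u * κ ∈ e₂.range := by
      intro u hu
      have h := e₂.range.mul_mem (e₂.range.mul_mem hs (hεU u hu)) (e₂.range.inv_mem hs)
      convert h using 1
      group
    have hκP : autFun κ⁻¹ ∘ (k ∘ f') = autFun κ⁻¹ ∘ (k ∘ f') := rfl
    have hg₀ : IsMap F (R' ⊔ Q) (autFun κ⁻¹ ∘ (k ∘ f')) := hθ.comp
      ((isMap_autFun hP'.1).mpr (Subgroup.inv_mem _ hκ.1.1))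
      fun x hx => hθi ▸ IsMap.apply_mem_img hx
    have hg₀i : img (R' ⊔ Q) (autFun κ⁻¹ ∘ (k ∘ f')) = P' := by
      rw [img_comp hθ (hθi.symm ▸ (isMap_autFun hP'.1).mpr (Subgroup.inv_mem _ hκ.1.1)), hθi,
        img_autFun]
    obtain ⟨G, hG, hGe⟩ := receptive_extend hP'rec hg₀ hg₀i
    have hsub : M' ≤ extSub S (R' ⊔ Q) (autFun κ⁻¹ ∘ (k ∘ f')) := by
      intro g hg
      obtain ⟨b, hb⟩ := hκU _ ⟨⟨g, hg⟩, rfl⟩
      refine ⟨(hM'P g hg).1, (hM'P g hg).2, b, b.2.1.1, fun x hx => ?_⟩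
      show autFun κ⁻¹ (k (f' (g * x * g⁻¹))) = (b : Ω) * autFun κ⁻¹ (k (f' x)) * (b : Ω)⁻¹
      have hz : k (f' x) ∈ P' := hθi ▸ IsMap.apply_mem_img hx
      rw [← heθ ⟨g, hg⟩ x hx, ← autFun_mul _ _ hz]
      have e : κ⁻¹ * eθ ⟨g, hg⟩ = e₂ b * κ⁻¹ := by rw [hb]; group
      rw [e, autFun_mul _ _ hz, autFun_apply_mem _ (autFun_mem _ hz)]
      rfl
    have hPext := le_extSub (S := S) hg₀
    have hGR : ∀ x ∈ R', G x = k (f' x) := fun x hx => by
      rw [hGe x (Subgroup.mem_sup_left hx)]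
      show autFun κ⁻¹ (k (f' x)) = _
      have hz := (hfR x hx).1
      conv_lhs => rw [← hκ.2 _ hz]
      exact autFun_inv_left κ (hR₂ hz)
    have hGQ : img Q G = Q₂ := by
      refine le_antisymm (IsMap.img_le_iff.mpr fun x hx => ?_) fun y hy => ?_
      · rw [hGe x (Subgroup.mem_sup_right hx)]
        exact (Subgroup.inv_mem _ hκ.1 : κ⁻¹ ∈ stabAut F P' R₂ Q₂ hR₂ hQ₂).2.2 _ (hfQ x hx)
      · obtain ⟨x, hx, e⟩ := hsurjQ _ (hκ.1.2.2 y hy)
        have : G x = y := by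
          rw [hGe x (Subgroup.mem_sup_right hx)]
          show autFun κ⁻¹ (k (f' x)) = y
          rw [e, autFun_inv_left κ (hQ₂ hy)]
        exact this ▸ IsMap.apply_mem_img hx
    have hGQ₂ : ∀ g ∈ M' ⊔ (R' ⊔ Q), G g ∈ normalizerIn S Q₂ := by
      intro g hg
      have hgX := sup_le hsub hPext hg
      have hle : M' ⊔ (R' ⊔ Q) ≤ Subgroup.normalizer (Q : Set Ω) :=
        sup_le (fun z hz => (hM'T hz).2) (fun z hz => (hP'T hz).2)
      have h := hG.mem_normalizerIn (le_sup_right.trans hPext) hgX (hle hg)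
      rwa [hGQ] at h
    have hGm : IsMap F (M' ⊔ Q) G := hG.mono (sup_le hsub (le_sup_right.trans hPext))
    have hcomp : IsMap F (M' ⊔ Q) (d ∘ G) := hGm.comp hd fun g hg =>
      hGQ₂ g (sup_le_sup_left le_sup_right M' hg)
    refine ⟨d ∘ G, (isMap_of_isNormalizerSystem hN).mpr ⟨hM'T, fun g hg => hdN _
      (hGQ₂ g (Subgroup.mem_sup_left hg)), hcomp.mono le_sup_left, d ∘ G, hcomp, fun _ _ => rfl,
      ?_⟩, fun x hx => ?_⟩
    · rw [img_comp (hGm.mono le_sup_right) (hGQ.symm ▸ hd.mono (hQ₂.trans hP'N)), hGQ, hdi]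
    · show d (G x) = ψ x
      rw [hGR x hx, hkr _ (hmemP x (Subgroup.mem_sup_left hx)), hag x hx]

end Cfsg.Lib.Fusion
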