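import Cfsg.Agent.Fusion.ComponentExistence
import Cfsg.Agent.Fusion.Puig
import Cfsg.Agent.Fusion.CentralizerSaturated
import Cfsg.Agent.Coprime.SolvableBasics

/-!
The dichotomy: a saturated fusion system is of characteristic `p`-type or of component type.
-/

set_option autoImplicit false
set_option linter.unusedSectionVars false
set_option linter.style.haveILetI false

namespace Cfsg.Lib.Fusion.Dicho

open Cfsg Cfsg.FusionSystem Cfsg.Lib.Fusion

universe u

/-- An automorphism of a `p`-group of order prime to `p` which fixes `W` and the centralizer of `W`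
in a normal subgroup `Q` fixes `Q`. -/
theorem fix_of_fix_centralizer {G : Type*} [Group G] [Finite G] {p : ℕ} [Fact p.Prime]
    (hG : IsPGroup p G) {W Q : Subgroup G} [hQn : Q.Normal] (β : MulAut G)
    (hβ : (orderOf β).Coprime p) (hW : ∀ w ∈ W, β w = w) (hQ : ∀ q ∈ Q, β q ∈ Q)
    (hC : ∀ q ∈ Q, (∀ w ∈ W, q * w = w * q) → β q = q) : ∀ q ∈ Q, β q = q := by
  set M := W ⊔ Q
  let Fx : Subgroup G :=
    { carrier := {y | β y = y}
      one_mem' := map_one β
      mul_mem' := fun {a b} ha hb => by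
        show β (a * b) = a * b
        rw [map_mul, show β a = a from ha, show β b = b from hb]
      inv_mem' := fun {a} ha => by
        show β a⁻¹ = a⁻¹
        rw [map_inv, show β a = a from ha] }
  set D := Fx.subgroupOf M
  suffices hD : D = ⊤ by
    intro q hq
    exact (Subgroup.subgroupOf_eq_top.mp hD) (show q ∈ M from Subgroup.mem_sup_right hq)
  haveI : Group.IsNilpotent M := (hG.to_subgroup M).isNilpotent
  by_contra hne
  have hnorm := Group.normalizerCondition_of_isNilpotent D (lt_top_iff_ne_top.mpr hne)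
  obtain ⟨y, hyN, hyD⟩ := SetLike.exists_of_lt hnorm
  refine hyD ?_
  -- `β` is trivial modulo `Q` on `M`
  have hmod : (y : G)⁻¹ * β y ∈ Q := by
    obtain ⟨w, hw, q, hq, e⟩ := Subgroup.mem_sup_of_normal_right.mp y.2
    rw [← e, map_mul, hW w hw, mul_inv_rev, mul_assoc, inv_mul_cancel_left]
    exact Q.mul_mem (Q.inv_mem hq) (hQ q hq)
  set z := (y : G)⁻¹ * β y with hz
  have hzfix : β z = z := hC z hmod fun w hw => by
    have hwD : (⟨w, Subgroup.mem_sup_left hw⟩ : M) ∈ D := hW w hw
    have h1 : β ((y : G) * w * (y : G)⁻¹) = (y : G) * w * (y : G)⁻¹ :=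
      (Subgroup.mem_normalizer_iff.mp hyN _).mp hwD
    rw [map_mul, map_mul, map_inv, hW w hw] at h1
    have hby : β (y : G) = (y : G) * z := by rw [hz, mul_inv_cancel_left]
    rw [hby] at h1
    calc z * w = (y : G)⁻¹ * ((y : G) * z * w * ((y : G) * z)⁻¹) * ((y : G) * z) := by group
      _ = w * z := by rw [h1]; group
  have hpow : ∀ i : ℕ, (β ^ i) (y : G) = y * z ^ i := by
    intro i
    induction i with
    | zero => simp
    | succ i ih =>
      rw [pow_succ', MulAut.mul_apply, ih, map_mul, map_pow, hzfix, pow_succ', ← mul_assoc]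
      simp only [hz, mul_inv_cancel_left]
  have h1 := hpow (orderOf β)
  rw [pow_orderOf_eq_one, MulAut.one_apply, left_eq_mul] at h1
  obtain ⟨k, hk⟩ := hG z
  have hz1 : z = 1 := orderOf_eq_one_iff.mp (Nat.eq_one_of_dvd_coprimes (hβ.pow_right k)
    (orderOf_dvd_of_pow_eq_one h1) (orderOf_dvd_of_pow_eq_one hk))
  show β (y : G) = (y : G)
  rw [hz, inv_mul_eq_one] at hz1
  exact hz1.symm

variable {Ω : Type u} [Group Ω] {S T : Subgroup Ω} {p : ℕ} [Fact p.Prime]

/-- A system whose maps are inner has its group normal. -/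
theorem isNormal_top_of_hyperfocal_bot [Finite S] {F : FusionSystem S} (hS : IsPGroup p S)
    (hF : F.IsSaturated p) (h : F.hyperfocalSubgroup p ≤ ⊥) : F.IsNormal S := by
  have hin := WeakEmb.inner_of_hyperfocal_bot hS hF h
  refine isNormal_of_extendsWith le_rfl fun P f hf => ?_
  obtain ⟨φ, hφ, e⟩ := hf
  rw [isInner_iff.mp hin P] at hφ
  obtain ⟨hP, g, hg, eg⟩ := hφ
  have hm : IsMap F (P ⊔ S) (fun x => g * x * g⁻¹) := isMap_conj (sup_le hP le_rfl) hg
  exact ⟨_, hm, fun x hx => (eg ⟨x, hx⟩).symm.trans (e ⟨x, hx⟩),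
    img_eq_of_apply hm le_sup_right fun x hx => S.mul_mem (S.mul_mem hg hx) (S.inv_mem hg)⟩

/-- An automorphism of order prime to `p` fixing `W` and `C_Q(W)` is trivial. -/
theorem aut_eq_one [Finite S] {K : FusionSystem S} (hS : IsPGroup p S) (hK : K.IsConstrained p)
    {W X : Subgroup Ω} [Finite X] (hX : X ≤ S) (hWX : W ≤ X) (hQX : K.core ≤ X)
    {β : MulAut X} (hβ : β ∈ K.autGroup X) (hcop : (orderOf β).Coprime p)
    (hW : ∀ w ∈ W, autFun β w = w)
    (hC : ∀ q ∈ K.core, (∀ w ∈ W, q * w = w * q) → autFun β q = q) : β = 1 := by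
  set Q := K.core
  have hQn : K.IsNormal Q := isNormal_core
  have hsc := stronglyClosed_of_isNormal hQn
  have hXp : IsPGroup p X := hS.of_injective _ (Subgroup.inclusion_injective hX)
  have hm := (isMap_autFun hX).mpr hβ
  haveI hn : (Q.subgroupOf X).Normal :=
    ⟨fun x hx g => conj_mem_of_mem_normalizer (g := (g : Ω)) (x := (x : Ω))
      (normalizes_of_stronglyClosed hsc (hX g.2)) hx⟩
  have key : ∀ q ∈ Q, autFun β q = q := fun q hq => by
    have h := fix_of_fix_centralizer hXp (W := W.subgroupOf X) (Q := Q.subgroupOf X) β hcop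
      (fun w hw => Subtype.ext (by rw [← autFun_apply]; exact hW w hw))
      (fun z hz => by
        show ((β z : X) : Ω) ∈ Q
        rw [← autFun_apply]
        exact stronglyClosed_apply hsc hm z.2 hz)
      (fun z hz hcomm => Subtype.ext (by
        rw [← autFun_apply]
        exact hC z hz fun w hw => congrArg Subtype.val (hcomm ⟨w, hWX hw⟩ hw)))
      ⟨q, hQX hq⟩ hq
    rw [autFun_apply_mem β (hQX hq), h]
  refine NFam.eq_of_autFun fun x hx => ?_
  rw [autFun_one hx]
  set z := x⁻¹ * autFun β x with hz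
  have hzX : z ∈ X := X.mul_mem (X.inv_mem hx) (autFun_mem β hx)
  have hzQ : z ∈ Q := CompEx.centralizer_le_core hK (Fusion.mem_centralizerIn.mpr
    ⟨hX hzX, fun q hq => by
      have hxq : x * q * x⁻¹ ∈ Q :=
        conj_mem_of_mem_normalizer (normalizes_of_stronglyClosed hsc (hX hx)) hq
      have h1 := hm.map_conj hx (hQX hq)
      rw [key _ hxq, key q hq] at h1
      calc z * q * z⁻¹ = x⁻¹ * (autFun β x * q * (autFun β x)⁻¹) * x := by rw [hz]; group
        _ = q := by rw [← h1]; group⟩)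
  have hpow : ∀ i : ℕ, autFun (β ^ i) x = x * z ^ i := by
    intro i
    induction i with
    | zero => rw [pow_zero, autFun_one hx, pow_zero, mul_one]
    | succ i ih =>
      rw [pow_succ', autFun_mul _ _ hx, ih, hm.map_mul hx (X.pow_mem hzX i), hm.map_pow hzX,
        key z hzQ, pow_succ', ← mul_assoc]
      simp only [hz, mul_inv_cancel_left]
  have h1 := hpow (orderOf β)
  rw [pow_orderOf_eq_one, autFun_one hx] at h1
  obtain ⟨k, hk⟩ := NormCent.exists_pow_eq_one hS (hX hzX)
  have hz1 : z ∈ (⊥ : Subgroup Ω) :=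
    NormCent.mem_of_pow_mem_coprime hk hcop (Subgroup.mem_bot.mpr (left_eq_mul.mp h1))
  rw [Subgroup.mem_bot, hz, inv_mul_eq_one] at hz1
  exact hz1.symm

/-- Centralizer systems in constrained systems are constrained. -/
theorem centralizer_constrained [Finite S] {K : FusionSystem S} (hS : IsPGroup p S)
    (hK : K.IsConstrained p) {W : Subgroup Ω} (_hW : W ≤ S) {M : FusionSystem T}
    (hT : T = centralizerIn S W) (hM : M.IsSaturated p)
    (hiff : ∀ (P : Subgroup Ω) (f : Ω → Ω), IsMap M P f ↔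
      P ≤ T ∧ (∀ x ∈ P, f x ∈ T) ∧ IsMap K P f ∧ FixExt K W P f) :
    M.IsConstrained p := by
  have hTS : T ≤ S := hT.le.trans inf_le_left
  haveI := finite_of_le hTS
  have hTp : IsPGroup p T := hS.of_injective _ (Subgroup.inclusion_injective hTS)
  set Q := K.core
  have hQn : K.IsNormal Q := isNormal_core
  set R := M.core
  have hRn : M.IsNormal R := isNormal_core
  haveI := finite_of_le hRn.1
  have hR0 : Q ⊓ T ≤ R := by
    refine CompEx.le_core (isNormal_of_extendsWith inf_le_right fun P f hf => ?_)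
    obtain ⟨hP, hfv, -, k, hk, hkf, hkW⟩ := (hiff P f).mp hf
    obtain ⟨k', hk', hk'k, hk'Q⟩ := extend_of_isNormal hQn hk
    have hk'W : ∀ w ∈ W, k' w = w := fun w hw =>
      (hk'k w (Subgroup.mem_sup_right hw)).trans (hkW w hw)
    have hk'f : ∀ x ∈ P, k' x = f x := fun x hx =>
      (hk'k x (Subgroup.mem_sup_left hx)).trans (hkf x hx)
    have hR₀ : ∀ q ∈ Q ⊓ T, k' q ∈ Q ⊓ T := fun q hq => by
      have hqQ : k' q ∈ Q := hk'Q.le (IsMap.apply_mem_img hq.1)
      refine ⟨hqQ, hT.symm ▸ Fusion.mem_centralizerIn.mpr ⟨hQn.1 hqQ, fun w hw => ?_⟩⟩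
      have h1 := hk'.map_conj (Subgroup.mem_sup_right hq.1)
        (Subgroup.mem_sup_left (Subgroup.mem_sup_right hw))
      rw [(Fusion.mem_centralizerIn.mp (hT.le hq.2)).2 w hw, hk'W w hw] at h1
      exact h1.symm
    have hPR : P ⊔ Q ⊓ T ≤ P ⊔ W ⊔ Q :=
      sup_le (le_sup_of_le_left le_sup_left) (inf_le_left.trans le_sup_right)
    have hm' := hk'.mono hPR
    have himg : img (P ⊔ Q ⊓ T) k' ≤ T := by
      rw [hm'.img_sup]
      exact sup_le (IsMap.img_le_iff.mpr fun x hx => hk'f x hx ▸ hfv x hx)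
        (IsMap.img_le_iff.mpr fun q hq => (hR₀ q hq).2)
    refine ⟨k', (hiff _ _).mpr ⟨sup_le hP inf_le_right, IsMap.img_le_iff.mp himg, hm', k',
      hk'.mono (sup_le hPR (le_sup_of_le_left le_sup_right)), fun _ _ => rfl, hk'W⟩, hk'f, ?_⟩
    exact img_eq_of_apply hm' le_sup_right hR₀
  -- the centralizer of the core has trivial hyperfocal subgroup
  have hn := NormCent.centralizerSystem_isNormalIn hTp hM hRn
  set L := centralizerSystem M hRn.1
  haveI : Finite (centralizerIn T R) := finite_of_le inf_le_left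
  have hLp : IsPGroup p (centralizerIn T R) :=
    hTp.of_injective _ (Subgroup.inclusion_injective inf_le_left)
  have hbot : L.hyperfocalSubgroup p ≤ ⊥ := hyperfocal_le_of_coprime fun P hP α hα hcop x hx => by
    haveI := finite_of_le hP
    obtain ⟨-, -, -, k₁, hk₁, hk₁f, hk₁R⟩ := (isMap_of_isCentralizerSystem
      (isCentralizerSystem_centralizerSystem hRn.1)).mp ((isMap_autFun hP).mpr hα)
    obtain ⟨-, -, -, k₂, hk₂, hk₂k, hk₂W⟩ := (hiff _ _).mp hk₁
    obtain ⟨k, hk, hkk, hkQ⟩ := extend_of_isNormal hQn hk₂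
    set X := P ⊔ R ⊔ W ⊔ Q
    have hkP : ∀ y ∈ P, k y = autFun α y := fun y hy => by
      rw [hkk y (Subgroup.mem_sup_left (Subgroup.mem_sup_left hy)),
        hk₂k y (Subgroup.mem_sup_left hy), hk₁f y hy]
    have hkR : ∀ y ∈ R, k y = y := fun y hy => by
      rw [hkk y (Subgroup.mem_sup_left (Subgroup.mem_sup_right hy)),
        hk₂k y (Subgroup.mem_sup_right hy), hk₁R y hy]
    have hkW : ∀ y ∈ W, k y = y := fun y hy => by
      rw [hkk y (Subgroup.mem_sup_right hy), hk₂W y hy]
    haveI := finite_of_le hk.le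
    have himg : img X k = X := by
      rw [hk.img_sup, (hk.mono le_sup_left).img_sup, ((hk.mono le_sup_left).mono le_sup_left).img_sup,
        hkQ, fix_img hkW, fix_img hkR, img_congr (f' := autFun α) hkP, img_autFun]
    obtain ⟨β, hβ, eβ⟩ := hk.exists_aut himg
    obtain ⟨e, he, hαe⟩ := exists_coprime_power β (β := α) hcop
    have hPX : P ≤ X := le_sup_of_le_left (le_sup_of_le_left le_sup_left)
    have hpowP : ∀ i : ℕ, ∀ y ∈ P, autFun (β ^ i) y = autFun (α ^ i) y := by
      intro i
      induction i with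
      | zero => intro y hy; rw [pow_zero, pow_zero, autFun_one hy, autFun_one (hPX hy)]
      | succ i ih =>
        intro y hy
        rw [pow_succ', pow_succ', autFun_mul _ _ (hPX hy), autFun_mul _ _ hy, ih y hy,
          eβ _ (hPX (autFun_mem _ hy)), hkP _ (autFun_mem _ hy)]
    have hfix : ∀ y ∈ X, k y = y → autFun (β ^ e) y = y := fun y hy hky => by
      induction e with
      | zero => rw [pow_zero, autFun_one hy]
      | succ i ih =>
        have hi : ∀ j : ℕ, autFun (β ^ j) y = y := by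
          intro j
          induction j with
          | zero => rw [pow_zero, autFun_one hy]
          | succ j ih => rw [pow_succ', autFun_mul _ _ hy, ih, eβ y hy, hky]
        exact hi _
    have hone : β ^ e = 1 := aut_eq_one hS hK hk.le (le_sup_of_le_left le_sup_right) le_sup_right
      (Subgroup.pow_mem _ hβ e) he
      (fun w hw => hfix w (Subgroup.mem_sup_left (Subgroup.mem_sup_right hw)) (hkW w hw))
      fun q hq hc => hfix q (Subgroup.mem_sup_right hq) (hkR q (hR0 ⟨hq, hT.symm ▸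
        Fusion.mem_centralizerIn.mpr ⟨hQn.1 hq, fun w hw => by
          rw [hc w hw, mul_inv_cancel_right]⟩⟩))
    rw [Subgroup.mem_bot, inv_mul_eq_one, ← hαe, ← hpowP e x hx, hone, autFun_one (hPX hx)]
  refine CompEx.constrained_of_centralizer_le hM hRn ?_
  exact (CompEx.le_core (isNormal_top_of_hyperfocal_bot hLp hn.1.1 hbot)).trans
    (CompEx.le_core (CompEx.isNormal_core_of_invariant hn.1.2.2 hTp hM))

/-! ### Normalizer systems -/

section Normalizer

variable [Finite S] {F : FusionSystem S}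

/-- The normalizer system of a subgroup with a central element whose centralizer is constrained. -/
theorem normalizer_constrained (hS : IsPGroup p S) (hF : F.IsSaturated p) {U X : Subgroup Ω}
    (hU : F.IsFullyNormalized U) (hXU : X ≤ U) (hNX : normalizerIn S U ≤ centralizerIn S X)
    (hK : (centralizerSystem F (hXU.trans hU.1)).IsConstrained p) :
    (normalizerSystem F hU.1).IsConstrained p := by
  have hNS : normalizerIn S U ≤ S := inf_le_left
  haveI : Finite (normalizerIn S U) := finite_of_le hNS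
  haveI : Finite (centralizerIn S X) := finite_of_le inf_le_left
  have hKp : IsPGroup p (centralizerIn S X) :=
    hS.of_injective _ (Subgroup.inclusion_injective inf_le_left)
  have hNp : IsPGroup p (normalizerIn S U) := hS.of_injective _ (Subgroup.inclusion_injective hNS)
  set N := normalizerSystem F hU.1
  have hNs : N.IsSaturated p := saturated_normalizerSystem hS hF hU
  have hNm : ∀ {P : Subgroup Ω} {f : Ω → Ω}, IsMap N P f ↔ P ≤ normalizerIn S U ∧
      (∀ x ∈ P, f x ∈ normalizerIn S U) ∧ IsMap F P f ∧ ExtendsWith F U P f :=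
    fun {P f} => isMap_of_isNormalizerSystem (isNormalizerSystem_normalizerSystem hU.1)
  have hUn : N.IsNormal U := by
    refine isNormal_of_extendsWith (le_normalizerIn hU.1) fun P f hf => ?_
    obtain ⟨hP, hfv, -, k, hk, hkf, hkU⟩ := hNm.mp hf
    refine ⟨k, hNm.mpr ⟨sup_le hP (le_normalizerIn hU.1), IsMap.img_le_iff.mp ?_, hk, k,
      hk.mono (sup_le le_rfl le_sup_right), fun _ _ => rfl, hkU⟩, hkf, hkU⟩
    rw [hk.img_sup, hkU]
    exact sup_le (IsMap.img_le_iff.mpr fun x hx => hkf x hx ▸ hfv x hx) (le_normalizerIn hU.1)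
  set W := N.core
  have hWn : N.IsNormal W := isNormal_core
  have hUW : U ≤ W := CompEx.le_core hUn
  set T := centralizerIn (normalizerIn S U) W
  have hTW : T = centralizerIn (centralizerIn S X) W := by
    refine le_antisymm (fun c hc => ?_) fun c hc => ?_
    · exact Fusion.mem_centralizerIn.mpr
        ⟨hNX hc.1, (Fusion.mem_centralizerIn.mp hc).2⟩
    · obtain ⟨hcX, hcW⟩ := Fusion.mem_centralizerIn.mp hc
      exact Fusion.mem_centralizerIn.mpr ⟨centralizerIn_le_normalizerIn U
        (Fusion.mem_centralizerIn.mpr ⟨hcX.1, fun u hu => hcW u (hUW hu)⟩), hcW⟩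
  have hMn := NormCent.centralizerSystem_isNormalIn hNp hNs hWn
  set M := centralizerSystem N hWn.1
  set K := centralizerSystem F (hXU.trans hU.1)
  have hKm : ∀ {P : Subgroup Ω} {f : Ω → Ω}, IsMap K P f ↔ P ≤ centralizerIn S X ∧
      (∀ x ∈ P, f x ∈ centralizerIn S X) ∧ IsMap F P f ∧ FixExt F X P f :=
    fun {P f} => isMap_of_isCentralizerSystem (isCentralizerSystem_centralizerSystem _)
  have hMc : M.IsConstrained p := by
    refine centralizer_constrained hKp hK (hWn.1.trans hNX) hTW hMn.1.1 fun P f => ?_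
    refine (isMap_of_isCentralizerSystem (isCentralizerSystem_centralizerSystem hWn.1)).trans
      ⟨fun ⟨hP, hv, hf, k, hk, hkf, hkW⟩ => ?_, fun ⟨hP, hv, _, k, hk, hkf, hkW⟩ => ?_⟩
    · obtain ⟨hPW, hkv, hkF, -⟩ := hNm.mp hk
      have hkK : IsMap K (P ⊔ W) k := hKm.mpr ⟨hPW.trans hNX, fun x hx => hNX (hkv x hx), hkF, k,
        hkF.mono (sup_le le_rfl ((hXU.trans hUW).trans le_sup_right)), fun _ _ => rfl,
        fun x hx => hkW x (hUW (hXU hx))⟩
      exact ⟨hP, hv, (hkK.mono le_sup_left).congr fun x hx => (hkf x hx).symm, k, hkK, hkf, hkW⟩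
    · obtain ⟨hPW, -, hkF, -⟩ := hKm.mp hk
      have hle : P ⊔ W ≤ normalizerIn S U := sup_le (hP.trans inf_le_left) hWn.1
      have hkN : IsMap N (P ⊔ W) k := by
        refine hNm.mpr ⟨hle, IsMap.img_le_iff.mp ?_, hkF, k,
          hkF.mono (sup_le le_rfl (hUW.trans le_sup_right)), fun _ _ => rfl,
          fix_img fun x hx => hkW x (hUW hx)⟩
        rw [hkF.img_sup, fix_img hkW]
        exact sup_le (IsMap.img_le_iff.mpr fun x hx => hkf x hx ▸ (hv x hx).1) hWn.1
      exact ⟨hP, hv, (hkN.mono le_sup_left).congr fun x hx => (hkf x hx).symm, k, hkN, hkf, hkW⟩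
  refine CompEx.constrained_of_centralizer_le hNs hWn ?_
  have hMW : M.core ≤ W := CompEx.le_core (CompEx.isNormal_core_of_invariant hMn.1.2.2 hNp hNs)
  haveI : Finite T := finite_of_le inf_le_left
  exact fun c hc => hMW (CompEx.centralizer_le_core hMc (Fusion.mem_centralizerIn.mpr
    ⟨hc, fun z hz => (Fusion.mem_centralizerIn.mp hc).2 z (hMW hz)⟩))

/-- Constrainedness of normalizer systems is invariant under moving along the normalizer. -/
theorem normalizer_constrained_of_map (hS : IsPGroup p S) (hF : F.IsSaturated p) {U U' : Subgroup Ω}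
    (hU : F.IsFullyNormalized U) (hU' : F.IsFullyNormalized U') {h : Ω → Ω}
    (hh : IsMap F (normalizerIn S U) h) (hhU : img U h = U')
    (hhN : img (normalizerIn S U) h = normalizerIn S U')
    (hc_con : (normalizerSystem F hU'.1).IsConstrained p) :
    (normalizerSystem F hU.1).IsConstrained p := by
  haveI : Finite (normalizerIn S U) := finite_of_le inf_le_left
  haveI : Finite (normalizerIn S U') := finite_of_le inf_le_left
  set N' := normalizerSystem F hU'.1
  set Q' := N'.core
  have hQ'n : N'.IsNormal Q' := isNormal_core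
  obtain ⟨g, hg, hgi, hgl, hgr⟩ := hh.exists_inv
  rw [hhN] at hg hgi hgr
  have hgN : ∀ y ∈ normalizerIn S U', g y ∈ normalizerIn S U := fun y hy =>
    hgi.le (IsMap.apply_mem_img hy)
  have hhN' : ∀ x ∈ normalizerIn S U, h x ∈ normalizerIn S U' := fun x hx =>
    hhN.le (IsMap.apply_mem_img hx)
  set Q := img Q' g
  have hQle : Q ≤ normalizerIn S U := IsMap.img_le_iff.mpr fun y hy => hgN y (hQ'n.1 hy)
  have hhQ : img Q h = Q' := by
    refine le_antisymm (IsMap.img_le_iff.mpr fun x hx => ?_) fun y hy => ?_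
    · obtain ⟨y, hy, rfl⟩ := (hg.mono hQ'n.1).mem_img.mp hx
      rw [hgr y (hQ'n.1 hy)]
      exact hy
    · rw [← hgr y (hQ'n.1 hy)]
      exact IsMap.apply_mem_img (IsMap.apply_mem_img hy)
  have hUle : U ≤ normalizerIn S U := le_normalizerIn hU.1
  have hNm : ∀ {P : Subgroup Ω} {f : Ω → Ω}, IsMap (normalizerSystem F hU.1) P f ↔
      P ≤ normalizerIn S U ∧ (∀ x ∈ P, f x ∈ normalizerIn S U) ∧ IsMap F P f ∧
        ExtendsWith F U P f :=
    fun {P f} => isMap_of_isNormalizerSystem (isNormalizerSystem_normalizerSystem hU.1)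
  have hN'm : ∀ {P : Subgroup Ω} {f : Ω → Ω}, IsMap N' P f ↔
      P ≤ normalizerIn S U' ∧ (∀ x ∈ P, f x ∈ normalizerIn S U') ∧ IsMap F P f ∧
        ExtendsWith F U' P f :=
    fun {P f} => isMap_of_isNormalizerSystem (isNormalizerSystem_normalizerSystem hU'.1)
  have hQn : (normalizerSystem F hU.1).IsNormal Q := by
    refine isNormal_of_extendsWith hQle fun P f hf => ?_
    obtain ⟨hP, hfv, -, k, hk, hkf, hkU⟩ := hNm.mp hf
    set P₁ := P ⊔ U
    have hP₁ : P₁ ≤ normalizerIn S U := sup_le hP hUle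
    have hk₁ : ∀ x ∈ P₁, k x ∈ normalizerIn S U := by
      refine IsMap.img_le_iff.mp ?_
      rw [hk.img_sup, hkU]
      exact sup_le (IsMap.img_le_iff.mpr fun x hx => hkf x hx ▸ hfv x hx) hUle
    set P' := img P₁ h
    have hP' : P' ≤ normalizerIn S U' := IsMap.img_le_iff.mpr fun x hx => hhN' x (hP₁ hx)
    have hgP' : ∀ y ∈ P', g y ∈ P₁ := fun y hy => by
      obtain ⟨x, hx, rfl⟩ := (hh.mono hP₁).mem_img.mp hy
      rwa [hgl x (hP₁ hx)]
    have hconj : IsMap F P' (h ∘ (k ∘ g)) :=
      ((hg.mono hP').comp hk hgP').comp hh fun y hy => hk₁ _ (hgP' y hy)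
    have hU'P : U' ≤ P' := hhU ▸ img_mono le_sup_right h
    have hN'c : IsMap N' P' (h ∘ (k ∘ g)) := by
      refine hN'm.mpr ⟨hP', fun y hy => hhN' _ (hk₁ _ (hgP' y hy)), hconj, _,
        hconj.mono (sup_le le_rfl hU'P), fun _ _ => rfl, ?_⟩
      refine img_eq_of_apply hconj hU'P fun y hy => ?_
      rw [← hhU] at hy
      obtain ⟨u, hu, rfl⟩ := (hh.mono hUle).mem_img.mp hy
      show h (k (g (h u))) ∈ U'
      rw [hgl u (hUle hu), ← hhU]
      exact IsMap.apply_mem_img (hkU.le (IsMap.apply_mem_img hu))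
    obtain ⟨k', hk', hk'f, hk'Q⟩ := extend_of_isNormal hQ'n hN'c
    obtain ⟨hP'Q, hk'v, hk'F, -⟩ := hN'm.mp hk'
    have hsrc : ∀ x ∈ P₁ ⊔ Q, h x ∈ P' ⊔ Q' := by
      refine IsMap.img_le_iff.mp ?_
      rw [(hh.mono (sup_le hP₁ hQle)).img_sup, hhQ]
    have hm : IsMap F (P₁ ⊔ Q) (g ∘ (k' ∘ h)) :=
      ((hh.mono (sup_le hP₁ hQle)).comp hk'F hsrc).comp hg fun x hx => hk'v _ (hsrc x hx)
    have hval : ∀ x ∈ P₁, g (k' (h x)) = k x := fun x hx => by
      rw [hk'f _ (IsMap.apply_mem_img hx)]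
      show g (h (k (g (h x)))) = k x
      rw [hgl x (hP₁ hx), hgl _ (hk₁ x hx)]
    refine ⟨g ∘ (k' ∘ h), hNm.mpr ⟨sup_le hP hQle, fun x hx => hgN _ (hk'v _ (hsrc x
        (sup_le_sup_right le_sup_left Q hx))), hm.mono (sup_le_sup_right le_sup_left Q),
        g ∘ (k' ∘ h), hm.mono (sup_le (sup_le_sup_right le_sup_left Q)
          (le_sup_of_le_left le_sup_right)), fun _ _ => rfl, ?_⟩,
      fun x hx => (hval x (Subgroup.mem_sup_left hx)).trans (hkf x hx), ?_⟩
    · exact (img_congr fun x hx => hval x (Subgroup.mem_sup_right hx)).trans hkU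
    · refine img_eq_of_apply hm le_sup_right fun x hx => ?_
      exact IsMap.apply_mem_img (hk'Q.le (IsMap.apply_mem_img (hhQ.le (IsMap.apply_mem_img hx))))
  refine CompEx.constrained_of_centralizer_le (saturated_normalizerSystem hS hF hU) hQn fun c hc => ?_
  obtain ⟨hcN, hcQ⟩ := Fusion.mem_centralizerIn.mp hc
  have hc' : h c ∈ Q' := CompEx.centralizer_le_core hc_con (Fusion.mem_centralizerIn.mpr
    ⟨hhN' c hcN, fun y hy => by
      have hgy : g y ∈ Q := IsMap.apply_mem_img hy
      rw [← hgr y (hQ'n.1 hy), ← hh.map_conj hcN (hQle hgy), hcQ _ hgy]⟩)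
  rw [← hgl c hcN]
  exact IsMap.apply_mem_img hc'

/-- The dichotomy. -/
theorem dichotomy (hS : IsPGroup p S) (hF : F.IsSaturated p) :
    F.IsOfCharacteristicPType p ∨ F.IsOfComponentType p := by
  by_cases hct : F.IsOfComponentType p
  · exact Or.inr hct
  refine Or.inl fun U hU0 hU E hE => ?_
  have hHom : E.Hom = (normalizerSystem F hU.1).Hom := funext fun P => by
    rw [hE P, isNormalizerSystem_normalizerSystem (F := F) hU.1 P]
  have hEeq : E = normalizerSystem F hU.1 := by
    cases E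
    congr
  subst hEeq
  set N := normalizerIn S U
  haveI : Finite N := finite_of_le inf_le_left
  have hNp : IsPGroup p N := hS.of_injective _ (Subgroup.inclusion_injective inf_le_left)
  haveI := hNp.isNilpotent
  haveI : (U.subgroupOf N).Normal :=
    ⟨fun x hx g => conj_mem_of_mem_normalizer (g := (g : Ω)) (x := (x : Ω)) g.2.2 hx⟩
  have hne : U.subgroupOf N ≠ ⊥ := by
    rw [Ne, Subgroup.subgroupOf_eq_bot]
    exact fun hd => hU0 (disjoint_self.mp (hd.mono_right (le_normalizerIn hU.1)))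
  have hZne := Cfsg.Lib.Coprime.inf_center_ne_bot (U.subgroupOf N) hne
  haveI := (Subgroup.nontrivial_iff_ne_bot _).mpr hZne
  obtain ⟨j, hj0, hj⟩ := (hNp.to_subgroup (U.subgroupOf N ⊓ Subgroup.center N)).nontrivial_iff_card.mp
    ‹_›
  obtain ⟨z, hz⟩ := exists_prime_orderOf_dvd_card' p (hj ▸ dvd_pow_self p hj0.ne')
  set x : Ω := ((z : N) : Ω)
  have hxo : orderOf x = p := by rw [← hz]; simp only [x, Subgroup.orderOf_coe]
  set X := Subgroup.zpowers x
  have hXU : X ≤ U := Subgroup.zpowers_le.mpr z.2.1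
  have hXcard : Nat.card X = p := by rw [Nat.card_zpowers, hxo]
  have hXcomm : ∀ c ∈ N, c * x * c⁻¹ = x := fun c hc => by
    have h1 : c * x = x * c := congrArg Subtype.val (Subgroup.mem_center_iff.mp z.2.2 ⟨c, hc⟩)
    rw [h1, mul_inv_cancel_right]
  have hNX : N ≤ centralizerIn S X := fun c hc => Fusion.mem_centralizerIn.mpr ⟨hc.1, fun y hy => by
    obtain ⟨i, rfl⟩ := Subgroup.mem_zpowers_iff.mp hy
    rw [← conj_zpow, hXcomm c hc]⟩
  -- move `X` to a fully normalized conjugate
  obtain ⟨X', hXX', hX'⟩ := exists_fullyNormalized (F := F) (hXU.trans hU.1)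
  obtain ⟨-, hfa, hrec⟩ := fullyNormalized_props hS hF hX'
  obtain ⟨f₀, hf₀, hi₀⟩ := isConj_iff.mp hXX'
  obtain ⟨-, -, h, hh, hhX, -, -⟩ := exists_map_normalizer hS hfa hrec hf₀ hi₀
  have hh' : IsMap F N h := hh.mono (hNX.trans (centralizerIn_le_normalizerIn X))
  set U' := img U h
  have hUN : U ≤ N := le_normalizerIn hU.1
  have hU'c : F.IsConj U U' := isConj_iff.mpr ⟨h, hh'.mono hUN, rfl⟩
  have hNN : ∀ c ∈ N, h c ∈ normalizerIn S U' := fun c hc => hh'.mem_normalizerIn hUN hc hc.2
  have hle : img N h ≤ normalizerIn S U' := IsMap.img_le_iff.mpr hNN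
  haveI : Finite (normalizerIn S U') := finite_of_le inf_le_left
  have hcardle : Nat.card (normalizerIn S U') ≤ Nat.card N := hU.2 U' hU'c
  have hhN : img N h = normalizerIn S U' :=
    Subgroup.eq_of_le_of_card_ge hle (hh'.card_img.symm ▸ hcardle)
  have hU' : F.IsFullyNormalized U' := ⟨(isConj_le hU'c).2, fun R hR =>
    (hU.2 R (isConj_trans hU'c hR)).trans ((hh'.card_img.symm.trans (by rw [hhN])).le)⟩
  refine normalizer_constrained_of_map hS hF hU hU' hh' rfl hhN
    (normalizer_constrained hS hF hU' (hhX ▸ img_mono hXU h) ?_ ?_)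
  · rw [← hhN]
    refine IsMap.img_le_iff.mpr fun c hc => Fusion.mem_centralizerIn.mpr ⟨hh'.mem_S hc, fun y hy => ?_⟩
    rw [← hhX] at hy
    obtain ⟨w, hw, rfl⟩ := (hh'.mono (hXU.trans hUN)).mem_img.mp hy
    rw [← hh'.map_conj hc (hUN (hXU hw)), (Fusion.mem_centralizerIn.mp (hNX hc)).2 w hw]
  · haveI : Finite (centralizerIn S X') :=
      finite_of_le (S := S) (P := centralizerIn S X') inf_le_left
    have hp' : IsPGroup p (centralizerIn S X') := hS.of_injective _
      (Subgroup.inclusion_injective (inf_le_left : centralizerIn S X' ≤ S))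
    refine (CompEx.isConstrained_iff hp'
      (saturated_centralizer hS hF (fullyNormalized_props hS hF hX').1
        (isCentralizerSystem_centralizerSystem hX'.1))).mpr fun ⟨V, D, hD⟩ => hct ?_
    refine ⟨X', ?_, hX', _, isCentralizerSystem_centralizerSystem hX'.1, V, D, hD⟩
    rwa [← hi₀, hf₀.card_img]

end Normalizer

end Cfsg.Lib.Fusion.Dicho
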