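import Cfsg.Agent.Fusion.ElementControl

/-!
The centre of a fusion system, and control of the centre by a functor.
-/

set_option autoImplicit false

namespace Cfsg.Lib.Fusion

open Cfsg Cfsg.FusionSystem

universe u

variable {Ω : Type u} [Group Ω] {S : Subgroup Ω} {F : FusionSystem S} {p : ℕ}

theorem isCentral_iff {Q : Subgroup Ω} :
    F.IsCentral Q ↔ Q ≤ S ∧ ∀ (P : Subgroup Ω) (f : Ω → Ω), IsMap F P f →
      ∃ k, IsMap F (P ⊔ Q) k ∧ (∀ x ∈ P, k x = f x) ∧ ∀ x ∈ Q, k x = x := by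
  constructor
  · rintro ⟨hQ, h⟩
    refine ⟨hQ, fun P f hf => ?_⟩
    obtain ⟨φ, hφ, e⟩ := hf
    obtain ⟨ψ, hψ, hag, hfix⟩ := h P φ hφ
    refine ⟨_, isMap_of_mem hψ, fun x hx => ?_, fun x hx => ?_⟩
    · rw [toFun'_apply_mem _ (Subgroup.mem_sup_left hx), ← e ⟨x, hx⟩, ← hag ⟨x, hx⟩]
      rfl
    · rw [toFun'_apply_mem _ (Subgroup.mem_sup_right hx)]
      exact hfix ⟨x, hx⟩
  · rintro ⟨hQ, h⟩
    refine ⟨hQ, fun P φ hφ => ?_⟩
    obtain ⟨k, ⟨ψ, hψ, e⟩, hag, hfix⟩ := h P _ (isMap_of_mem hφ)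
    refine ⟨ψ, hψ, fun x => ?_, fun x => ?_⟩
    · rw [e]
      exact (hag x x.2).trans (toFun'_apply φ x)
    · rw [e]
      exact hfix x x.2

theorem isCentral_bot' : F.IsCentral ⊥ :=
  isCentral_iff.mpr ⟨bot_le, fun P f hf => ⟨f, hf.mono (sup_bot_eq (a := P)).le, fun _ _ => rfl,
    fun x hx => by rw [Subgroup.mem_bot.mp hx]; exact hf.map_one⟩⟩

theorem fix_sup {P A B : Subgroup Ω} {k : Ω → Ω} (hk : IsMap F P k) (hA : A ≤ P) (hB : B ≤ P)
    (hfA : ∀ x ∈ A, k x = x) (hfB : ∀ x ∈ B, k x = x) : ∀ x ∈ A ⊔ B, k x = x := by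
  let X : Subgroup Ω :=
    { carrier := {x | x ∈ P ∧ k x = x}
      one_mem' := ⟨P.one_mem, hk.map_one⟩
      mul_mem' := fun {a b} ha hb => ⟨P.mul_mem ha.1 hb.1, by rw [hk.map_mul ha.1 hb.1, ha.2, hb.2]⟩
      inv_mem' := fun {a} ha => ⟨P.inv_mem ha.1, by rw [hk.map_inv ha.1, ha.2]⟩ }
  have h : A ⊔ B ≤ X :=
    sup_le (fun x hx => ⟨hA hx, hfA x hx⟩) (fun x hx => ⟨hB hx, hfB x hx⟩)
  exact fun x hx => (h hx).2

theorem isCentral_sup {A B : Subgroup Ω} (hA : F.IsCentral A) (hB : F.IsCentral B) :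
    F.IsCentral (A ⊔ B) := by
  rw [isCentral_iff] at hA hB ⊢
  refine ⟨sup_le hA.1 hB.1, fun P f hf => ?_⟩
  obtain ⟨k₁, hk₁, hk₁f, hk₁A⟩ := hA.2 P f hf
  obtain ⟨k, hk, hkk, hkB⟩ := hB.2 _ k₁ hk₁
  refine ⟨k, hk.mono (by rw [sup_assoc]), fun x hx => ?_, fix_sup hk
    (le_sup_of_le_left le_sup_right) le_sup_right (fun x hx => ?_) hkB⟩
  · rw [hkk x (Subgroup.mem_sup_left hx), hk₁f x hx]
  · rw [hkk x (Subgroup.mem_sup_right hx), hk₁A x hx]

theorem isCentral_center [Finite S] : F.IsCentral F.center := by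
  obtain ⟨A, hA, hmax⟩ := Set.exists_max_image {Q : Subgroup Ω | F.IsCentral Q}
    (fun Q => Nat.card Q) (finite_subgroups_le.subset fun Q hQ => hQ.1) ⟨⊥, isCentral_bot'⟩
  have e : F.center = A := by
    refine le_antisymm (sSup_le fun Q hQ => ?_) (le_sSup hA)
    have hs : F.IsCentral (A ⊔ Q) := isCentral_sup hA hQ
    haveI := finite_of_le hs.1
    exact le_sup_right.trans (Subgroup.eq_of_le_of_card_ge le_sup_left (hmax _ hs)).ge
  rw [e]
  exact hA

theorem apply_of_mem_center [Finite S] {z : Ω} (hz : z ∈ F.center) {P : Subgroup Ω} {f : Ω → Ω}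
    (hf : IsMap F P f) (hzP : z ∈ P) : f z = z := by
  obtain ⟨k, -, hkf, hkz⟩ := (isCentral_iff.mp isCentral_center).2 P f hf
  rw [← hkf z hzP, hkz z hz]

theorem mem_S_of_center [Finite S] {z : Ω} (hz : z ∈ F.center) : z ∈ S :=
  isCentral_center.1 hz

theorem comm_of_center [Finite S] {z : Ω} (hz : z ∈ F.center) : ∀ s ∈ S, s * z = z * s := by
  intro s hs
  have h : s * z * s⁻¹ = z :=
    apply_of_mem_center hz (isMap_conj le_rfl hs) (mem_S_of_center hz)
  exact mul_inv_eq_iff_eq_mul.mp h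

theorem mem_center_of_fixesElt {z : Ω} (hz : z ∈ S)
    (h : ∀ (P : Subgroup Ω) (f : Ω → Ω), IsMap F P f → FixesElt F z P f) : z ∈ F.center := by
  have hc : F.IsCentral (Subgroup.zpowers z) :=
    isCentral_iff.mpr ⟨Subgroup.zpowers_le.mpr hz, fun P f hf => by
      obtain ⟨k, hk, hkf, hkz⟩ := h P f hf
      exact ⟨k, hk, hkf, img_zpowers hk (Subgroup.mem_sup_right (Subgroup.mem_zpowers z)) hkz⟩⟩
  exact (le_sSup hc : Subgroup.zpowers z ≤ F.center) (Subgroup.mem_zpowers z)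

/-- A functor with the local condition: what is central in `N_F(W(S))` is central in `F`. -/
theorem mem_center_of_control [Finite S] [Fact p.Prime] {W : ∀ (Q : Type u) [Group Q], Subgroup Q}
    {e : ℕ}
    (hW2 : ∀ (Q R : Type u) [Group Q] [Group R] [Finite Q], IsPGroup p Q →
      ∀ φ : Q ≃* R, (W Q).map φ.toMonoidHom = W R)
    (hWZ : ∀ (Q : Type u) [Group Q] [Finite Q], IsPGroup p Q → Subgroup.center Q ≤ W Q)
    (hloc : LocalControl p W e) (hS : IsPGroup p S) (hF : F.IsSaturated p)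
    {N : FusionSystem (normalizerIn S (fnImage W S))} (hN : F.IsNormalizerSystem (fnImage W S) N)
    {y : Ω} (hy : y ∈ S) (hyc : ∀ s ∈ S, s * y = y * s) (hz : y ^ e ∈ N.center) :
    y ^ e ∈ F.center := by
  haveI : Finite (normalizerIn S (fnImage W S)) := finite_of_le inf_le_left
  refine mem_center_of_fixesElt (S.pow_mem hy e) fun P f hf =>
    control_main hW2 hWZ hloc _ S rfl hS y hy hyc _ F rfl hF ?_ P f hf
  intro g hg hgi
  have hle : fnImage W S ≤ normalizerIn S (fnImage W S) := le_normalizerIn (fnImage_le S)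
  have hgN : IsMap N (fnImage W S) g := (isMap_of_isNormalizerSystem hN).mpr ⟨hle,
    fun x hx => hle (IsMap.img_le_iff.mp hgi.le x hx), hg, g, (sup_idem (fnImage W S)).symm ▸ hg,
    fun _ _ => rfl, hgi⟩
  refine apply_of_mem_center hz hgN (mem_fnImage_of_center hWZ hS (S.pow_mem hy e) fun t ht => ?_)
  exact ((Commute.pow_right (show Commute t y from hyc t ht) e)).eq

/-- A functor with the local condition: what is central in `N_F(W(S))` is central in `F`. -/
theorem mem_center_of_control_on [Finite S] [Fact p.Prime] {W : ∀ (Q : Type u) [Group Q], Subgroup Q}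
    {e : ℕ} {Good : ∀ (L : Type u) [Group L], Prop}
    (hW2 : ∀ (Q R : Type u) [Group Q] [Group R] [Finite Q], IsPGroup p Q →
      ∀ φ : Q ≃* R, (W Q).map φ.toMonoidHom = W R)
    (hWZ : ∀ (Q : Type u) [Group Q] [Finite Q], IsPGroup p Q → Subgroup.center Q ≤ W Q)
    (hloc : LocalControlOn p W e Good) (hS : IsPGroup p S) (hF : F.IsSaturated p)
    (hgood : ModelsGood F p Good)
    {N : FusionSystem (normalizerIn S (fnImage W S))} (hN : F.IsNormalizerSystem (fnImage W S) N)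
    {y : Ω} (hy : y ∈ S) (hyc : ∀ s ∈ S, s * y = y * s) (hz : y ^ e ∈ N.center) :
    y ^ e ∈ F.center := by
  haveI : Finite (normalizerIn S (fnImage W S)) := finite_of_le inf_le_left
  refine mem_center_of_fixesElt (S.pow_mem hy e) fun P f hf =>
    control_main_on hW2 hWZ hloc _ S rfl hS y hy hyc _ F rfl hF hgood ?_ P f hf
  intro g hg hgi
  have hle : fnImage W S ≤ normalizerIn S (fnImage W S) := le_normalizerIn (fnImage_le S)
  have hgN : IsMap N (fnImage W S) g := (isMap_of_isNormalizerSystem hN).mpr ⟨hle,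
    fun x hx => hle (IsMap.img_le_iff.mp hgi.le x hx), hg, g, (sup_idem (fnImage W S)).symm ▸ hg,
    fun _ _ => rfl, hgi⟩
  refine apply_of_mem_center hz hgN (mem_fnImage_of_center hWZ hS (S.pow_mem hy e) fun t ht => ?_)
  exact ((Commute.pow_right (show Commute t y from hyc t ht) e)).eq

theorem center_le_center_normalizer [Finite S] {W : ∀ (Q : Type u) [Group Q], Subgroup Q}
    (hW2 : ∀ (Q R : Type u) [Group Q] [Group R] [Finite Q], IsPGroup p Q →
      ∀ φ : Q ≃* R, (W Q).map φ.toMonoidHom = W R)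
    (hWZ : ∀ (Q : Type u) [Group Q] [Finite Q], IsPGroup p Q → Subgroup.center Q ≤ W Q)
    (hS : IsPGroup p S)
    {N : FusionSystem (normalizerIn S (fnImage W S))} (hN : F.IsNormalizerSystem (fnImage W S) N) :
    F.center ≤ N.center := by
  intro z hz
  have hzS := mem_S_of_center hz
  have hSN : ∀ s ∈ S, s ∈ normalizerIn S (fnImage W S) := fun s hs =>
    ⟨hs, fnImage_normalized hW2 hS le_rfl hs (Subgroup.le_normalizer hs)⟩
  have hzW : z ∈ fnImage W S := mem_fnImage_of_center hWZ hS hzS (comm_of_center hz)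
  refine mem_center_of_fixesElt (hSN z hzS) fun P f hf => ?_
  obtain ⟨-, -, -, k, hk, hkf, hki⟩ := (isMap_of_isNormalizerSystem hN).mp hf
  have hkN : IsMap N (P ⊔ fnImage W S) k := (isMap_of_isNormalizerSystem hN).mpr
    ⟨fun x hx => hSN x (hk.le hx), fun x hx => hSN _ (hk.mem_S hx), hk, k,
      by rw [sup_assoc, sup_idem]; exact hk, fun _ _ => rfl, hki⟩
  exact ⟨k, hkN.mono (sup_le_sup_left (Subgroup.zpowers_le.mpr hzW) P), hkf,
    apply_of_mem_center hz hk (Subgroup.mem_sup_right hzW)⟩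

end Cfsg.Lib.Fusion
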