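import Cfsg.Agent.Fusion.Basic
import Cfsg.Prelude.Def_FusionComponents

/-!
The direct product of two fusion systems.
-/

set_option autoImplicit false

namespace Cfsg.Lib.Fusion

open Cfsg Cfsg.FusionSystem

variable {Ω₁ Ω₂ : Type*} [Group Ω₁] [Group Ω₂] {S₁ : Subgroup Ω₁} {S₂ : Subgroup Ω₂}

/-- The maps of the direct product with source `P`. -/
def prodHomSet (F₁ : FusionSystem S₁) (F₂ : FusionSystem S₂) (P : Subgroup (Ω₁ × Ω₂)) :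
    Set (P →* Ω₁ × Ω₂) :=
  {φ | P ≤ S₁.prod S₂ ∧ ∃ f₁ f₂, IsMap F₁ (P.map (MonoidHom.fst Ω₁ Ω₂)) f₁ ∧
    IsMap F₂ (P.map (MonoidHom.snd Ω₁ Ω₂)) f₂ ∧
    ∀ x : P, φ x = (f₁ (x : Ω₁ × Ω₂).1, f₂ (x : Ω₁ × Ω₂).2)}

theorem fst_mem_map {P : Subgroup (Ω₁ × Ω₂)} {x : Ω₁ × Ω₂} (hx : x ∈ P) :
    x.1 ∈ P.map (MonoidHom.fst Ω₁ Ω₂) :=
  ⟨x, hx, rfl⟩

theorem snd_mem_map {P : Subgroup (Ω₁ × Ω₂)} {x : Ω₁ × Ω₂} (hx : x ∈ P) :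
    x.2 ∈ P.map (MonoidHom.snd Ω₁ Ω₂) :=
  ⟨x, hx, rfl⟩

variable (F₁ : FusionSystem S₁) (F₂ : FusionSystem S₂)

/-- The direct product of two fusion systems. -/
def prodSystem : FusionSystem (S₁.prod S₂) where
  Hom P := prodHomSet F₁ F₂ P
  le_of_mem := by
    rintro P φ ⟨hP, f₁, f₂, h₁, h₂, e⟩
    exact ⟨hP, fun x => by
      rw [e]; exact ⟨h₁.mem_S (fst_mem_map x.2), h₂.mem_S (snd_mem_map x.2)⟩⟩
  injective_of_mem := by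
    rintro P φ ⟨hP, f₁, f₂, h₁, h₂, e⟩ a b hab
    rw [e, e, Prod.mk.injEq] at hab
    exact Subtype.ext (Prod.ext (h₁.injOn (fst_mem_map a.2) (fst_mem_map b.2) hab.1)
      (h₂.injOn (snd_mem_map a.2) (snd_mem_map b.2) hab.2))
  conj_mem := by
    intro P g hP hg
    refine ⟨hP, fun x => g.1 * x * g.1⁻¹, fun x => g.2 * x * g.2⁻¹, ?_, ?_, fun x => rfl⟩
    · exact isMap_conj (fun _ ⟨x, hx, e⟩ => e ▸ (hP hx).1) hg.1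
    · exact isMap_conj (fun _ ⟨x, hx, e⟩ => e ▸ (hP hx).2) hg.2
  comp_mem := by
    rintro P Q φ ψ ⟨hP, f₁, f₂, h₁, h₂, e⟩ ⟨-, g₁, g₂, k₁, k₂, e'⟩ h
    refine ⟨hP, g₁ ∘ f₁, g₂ ∘ f₂, h₁.comp k₁ ?_, h₂.comp k₂ ?_, fun x => ?_⟩
    · rintro _ ⟨x, hx, rfl⟩
      have := fst_mem_map (h ⟨x, hx⟩)
      rwa [e] at this
    · rintro _ ⟨x, hx, rfl⟩
      have := snd_mem_map (h ⟨x, hx⟩)
      rwa [e] at this
    · show ψ (φ.codRestrict Q h x) = _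
      rw [e']
      show (g₁ (φ x).1, g₂ (φ x).2) = _
      rw [e]
      rfl
  inv_mem := by
    rintro P φ ⟨hP, f₁, f₂, h₁, h₂, e⟩
    obtain ⟨g₁, k₁, -, l₁, -⟩ := h₁.exists_inv
    obtain ⟨g₂, k₂, -, l₂, -⟩ := h₂.exists_inv
    have m₁ : φ.range.map (MonoidHom.fst Ω₁ Ω₂) ≤ img (P.map (MonoidHom.fst Ω₁ Ω₂)) f₁ := by
      rintro _ ⟨_, ⟨x, rfl⟩, rfl⟩
      rw [e]
      exact IsMap.apply_mem_img (fst_mem_map x.2)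
    have m₂ : φ.range.map (MonoidHom.snd Ω₁ Ω₂) ≤ img (P.map (MonoidHom.snd Ω₁ Ω₂)) f₂ := by
      rintro _ ⟨_, ⟨x, rfl⟩, rfl⟩
      rw [e]
      exact IsMap.apply_mem_img (snd_mem_map x.2)
    have k₁' := k₁.mono m₁
    have k₂' := k₂.mono m₂
    refine ⟨MonoidHom.mk' (fun y : φ.range => (g₁ (y : Ω₁ × Ω₂).1, g₂ (y : Ω₁ × Ω₂).2))
        (fun a b => Prod.ext (k₁'.map_mul (fst_mem_map a.2) (fst_mem_map b.2))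
          (k₂'.map_mul (snd_mem_map a.2) (snd_mem_map b.2))),
      ⟨?_, g₁, g₂, k₁', k₂', fun _ => rfl⟩, fun x => ?_⟩
    · rintro _ ⟨x, rfl⟩
      rw [e]; exact ⟨h₁.mem_S (fst_mem_map x.2), h₂.mem_S (snd_mem_map x.2)⟩
    · show (g₁ (φ x).1, g₂ (φ x).2) = _
      rw [e]
      exact Prod.ext (l₁ _ (fst_mem_map x.2)) (l₂ _ (snd_mem_map x.2))

theorem isProductSystem_prodSystem : IsProductSystem F₁ F₂ (prodSystem F₁ F₂) := by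
  intro P φ
  constructor
  · rintro ⟨hP, f₁, f₂, ⟨φ₁, m₁, e₁⟩, ⟨φ₂, m₂, e₂⟩, e⟩
    exact ⟨hP, φ₁, m₁, φ₂, m₂, fun x a b => by rw [e, e₁ ⟨_, a⟩, e₂ ⟨_, b⟩]⟩
  · rintro ⟨hP, φ₁, m₁, φ₂, m₂, e⟩
    refine ⟨hP, toFun' φ₁, toFun' φ₂, isMap_of_mem m₁, isMap_of_mem m₂, fun x => ?_⟩
    rw [e x (fst_mem_map x.2) (snd_mem_map x.2), toFun'_apply_mem, toFun'_apply_mem]

end Cfsg.Lib.Fusion
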