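import Cfsg.Agent.Fusion.DirectProduct
import Cfsg.Agent.Fusion.Saturation

/-!
A direct product of saturated fusion systems is saturated.
-/

set_option autoImplicit false

namespace Cfsg.Lib.Fusion

open Cfsg Cfsg.FusionSystem

variable {Ω₁ Ω₂ : Type*} [Group Ω₁] [Group Ω₂] {S₁ : Subgroup Ω₁} {S₂ : Subgroup Ω₂}
  {F₁ : FusionSystem S₁} {F₂ : FusionSystem S₂} {E : FusionSystem (S₁.prod S₂)} {p : ℕ}

theorem isMap_product_iff (hE : IsProductSystem F₁ F₂ E) {P : Subgroup (Ω₁ × Ω₂)}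
    {f : Ω₁ × Ω₂ → Ω₁ × Ω₂} :
    IsMap E P f ↔ P ≤ S₁.prod S₂ ∧ ∃ f₁ f₂, IsMap F₁ (P.map (MonoidHom.fst Ω₁ Ω₂)) f₁ ∧
      IsMap F₂ (P.map (MonoidHom.snd Ω₁ Ω₂)) f₂ ∧ ∀ x ∈ P, f x = (f₁ x.1, f₂ x.2) := by
  have hEP : E.Hom P = prodHomSet F₁ F₂ P := Set.ext fun φ =>
    (hE P φ).trans (isProductSystem_prodSystem F₁ F₂ P φ).symm
  constructor
  · rintro ⟨φ, hφ, e⟩
    rw [hEP] at hφ
    obtain ⟨hP, f₁, f₂, h₁, h₂, e'⟩ := hφ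
    exact ⟨hP, f₁, f₂, h₁, h₂, fun x hx => (e ⟨x, hx⟩).symm.trans (e' ⟨x, hx⟩)⟩
  · rintro ⟨hP, f₁, f₂, h₁, h₂, e⟩
    refine ⟨MonoidHom.mk' (fun x : P => (f₁ (x : Ω₁ × Ω₂).1, f₂ (x : Ω₁ × Ω₂).2))
      (fun a b => Prod.ext (h₁.map_mul (fst_mem_map a.2) (fst_mem_map b.2))
        (h₂.map_mul (snd_mem_map a.2) (snd_mem_map b.2))), ?_, fun x => (e x x.2).symm⟩
    rw [hEP]
    exact ⟨hP, f₁, f₂, h₁, h₂, fun _ => rfl⟩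

theorem map_fst_le {P : Subgroup (Ω₁ × Ω₂)} (hP : P ≤ S₁.prod S₂) :
    P.map (MonoidHom.fst Ω₁ Ω₂) ≤ S₁ := by
  rintro _ ⟨x, hx, rfl⟩
  exact (hP hx).1

theorem map_snd_le {P : Subgroup (Ω₁ × Ω₂)} (hP : P ≤ S₁.prod S₂) :
    P.map (MonoidHom.snd Ω₁ Ω₂) ≤ S₂ := by
  rintro _ ⟨x, hx, rfl⟩
  exact (hP hx).2

theorem map_fst_img {P : Subgroup (Ω₁ × Ω₂)} {f : Ω₁ × Ω₂ → Ω₁ × Ω₂} {f₁ : Ω₁ → Ω₁}
    (hf : IsMap E P f) (h₁ : IsMap F₁ (P.map (MonoidHom.fst Ω₁ Ω₂)) f₁)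
    (e : ∀ x ∈ P, (f x).1 = f₁ x.1) :
    (img P f).map (MonoidHom.fst Ω₁ Ω₂) = img (P.map (MonoidHom.fst Ω₁ Ω₂)) f₁ := by
  refine le_antisymm ?_ (IsMap.img_le_iff.mpr ?_)
  · rintro _ ⟨y, hy, rfl⟩
    obtain ⟨x, hx, rfl⟩ := hf.mem_img.mp hy
    show (f x).1 ∈ _
    rw [e x hx]
    exact IsMap.apply_mem_img (fst_mem_map hx)
  · rintro _ ⟨x, hx, rfl⟩
    exact ⟨f x, IsMap.apply_mem_img hx, e x hx⟩

theorem map_snd_img {P : Subgroup (Ω₁ × Ω₂)} {f : Ω₁ × Ω₂ → Ω₁ × Ω₂} {f₂ : Ω₂ → Ω₂}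
    (hf : IsMap E P f) (h₂ : IsMap F₂ (P.map (MonoidHom.snd Ω₁ Ω₂)) f₂)
    (e : ∀ x ∈ P, (f x).2 = f₂ x.2) :
    (img P f).map (MonoidHom.snd Ω₁ Ω₂) = img (P.map (MonoidHom.snd Ω₁ Ω₂)) f₂ := by
  refine le_antisymm ?_ (IsMap.img_le_iff.mpr ?_)
  · rintro _ ⟨y, hy, rfl⟩
    obtain ⟨x, hx, rfl⟩ := hf.mem_img.mp hy
    show (f x).2 ∈ _
    rw [e x hx]
    exact IsMap.apply_mem_img (snd_mem_map hx)
  · rintro _ ⟨x, hx, rfl⟩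
    exact ⟨f x, IsMap.apply_mem_img hx, e x hx⟩

/-- The component automorphisms induced on `π(Q)` by a group of automorphisms of `Q`. -/
def componentAuts {Ω A' : Type*} [Group Ω] [Group A'] (π : Ω →* A') {Q : Subgroup Ω}
    (T : Subgroup (MulAut Q)) : Subgroup (MulAut (Q.map π)) where
  carrier := {β | ∃ τ ∈ T, ∀ x ∈ Q, π (autFun τ x) = autFun β (π x)}
  one_mem' := ⟨1, T.one_mem, fun x hx => by
    rw [autFun_apply_mem _ hx, autFun_apply_mem _ (Subgroup.mem_map_of_mem π hx)]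
    rfl⟩
  mul_mem' := by
    rintro β γ ⟨τ, hτ, eτ⟩ ⟨σ, hσ, eσ⟩
    refine ⟨τ * σ, T.mul_mem hτ hσ, fun x hx => ?_⟩
    rw [autFun_mul _ _ hx, eτ _ (autFun_mem σ hx), eσ x hx,
      autFun_mul _ _ (Subgroup.mem_map_of_mem π hx)]
  inv_mem' := by
    rintro β ⟨τ, hτ, eτ⟩
    refine ⟨τ⁻¹, T.inv_mem hτ, fun x hx => ?_⟩
    have hy := autFun_mem τ⁻¹ hx
    have h := eτ _ hy
    rw [autFun_inv_apply τ hx] at h
    conv_rhs => rw [h]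
    rw [← autFun_mul _ _ (Subgroup.mem_map_of_mem π hy), inv_mul_cancel,
      autFun_apply_mem _ (Subgroup.mem_map_of_mem π hy)]
    rfl

theorem componentAuts_isPGroup {Ω A' : Type*} [Group Ω] [Group A'] (π : Ω →* A') {Q : Subgroup Ω}
    {T : Subgroup (MulAut Q)} (hT : IsPGroup p T) : IsPGroup p (componentAuts π T) := by
  rintro ⟨β, τ, hτ, e⟩
  obtain ⟨k, hk⟩ := hT ⟨τ, hτ⟩
  refine ⟨k, Subtype.ext (MulEquiv.ext fun y => Subtype.ext ?_)⟩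
  obtain ⟨x, hx, hxy⟩ := y.2
  have hi : ∀ i : ℕ, π (autFun (τ ^ i) x) = autFun (β ^ i) (π x) := by
    intro i
    induction i with
    | zero =>
      rw [pow_zero, pow_zero, autFun_apply_mem _ hx, autFun_apply_mem _ (Subgroup.mem_map_of_mem π hx)]
      rfl
    | succ i ih =>
      rw [pow_succ', pow_succ', autFun_mul _ _ hx, autFun_mul _ _ (Subgroup.mem_map_of_mem π hx),
        e _ (autFun_mem _ hx), ih]
  have h := hi (p ^ k)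
  rw [show τ ^ p ^ k = 1 from congrArg Subtype.val hk, autFun_apply_mem _ hx, hxy] at h
  show (((β ^ p ^ k) y : Q.map π) : A') = y
  rw [← autFun_apply]
  exact h.symm.trans hxy

theorem receptive_product [Finite S₁] [Finite S₂] (hE : IsProductSystem F₁ F₂ E)
    {Q : Subgroup (Ω₁ × Ω₂)} (hQ : Q ≤ S₁.prod S₂)
    (h₁ : F₁.IsReceptive (Q.map (MonoidHom.fst Ω₁ Ω₂)))
    (h₂ : F₂.IsReceptive (Q.map (MonoidHom.snd Ω₁ Ω₂))) : E.IsReceptive Q := by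
  haveI : Finite (S₁.prod S₂) := Finite.of_equiv _ (Subgroup.prodEquiv S₁ S₂).toEquiv.symm
  refine receptive_of_extend hQ fun R f hf hi => ?_
  obtain ⟨hR, f₁, f₂, m₁, m₂, e⟩ := (isMap_product_iff hE).mp hf
  have hi₁ : img _ f₁ = Q.map (MonoidHom.fst Ω₁ Ω₂) :=
    (map_fst_img hf m₁ fun x hx => by rw [e x hx]).symm.trans (by rw [hi])
  have hi₂ : img _ f₂ = Q.map (MonoidHom.snd Ω₁ Ω₂) :=
    (map_snd_img hf m₂ fun x hx => by rw [e x hx]).symm.trans (by rw [hi])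
  obtain ⟨k₁, hk₁, a₁⟩ := receptive_extend h₁ m₁ hi₁
  obtain ⟨k₂, hk₂, a₂⟩ := receptive_extend h₂ m₂ hi₂
  haveI := finite_of_le (map_fst_le hR)
  haveI := finite_of_le (map_snd_le hR)
  have hext : ∀ g ∈ extSub (S₁.prod S₂) R f,
      g.1 ∈ extSub S₁ (R.map (MonoidHom.fst Ω₁ Ω₂)) f₁ ∧
      g.2 ∈ extSub S₂ (R.map (MonoidHom.snd Ω₁ Ω₂)) f₂ := by
    rintro g ⟨hg, hgn, h, hh, eh⟩
    refine ⟨⟨hg.1, mem_normalizer_of_maps_finite ?_, h.1, hh.1, ?_⟩,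
      ⟨hg.2, mem_normalizer_of_maps_finite ?_, h.2, hh.2, ?_⟩⟩
    · rintro _ ⟨x, hx, rfl⟩
      exact ⟨g * x * g⁻¹, conj_mem_of_mem_normalizer hgn hx, rfl⟩
    · rintro _ ⟨x, hx, rfl⟩
      have h1 := eh x hx
      rw [e x hx, e _ (conj_mem_of_mem_normalizer hgn hx)] at h1
      exact congrArg Prod.fst h1
    · rintro _ ⟨x, hx, rfl⟩
      exact ⟨g * x * g⁻¹, conj_mem_of_mem_normalizer hgn hx, rfl⟩
    · rintro _ ⟨x, hx, rfl⟩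
      have h1 := eh x hx
      rw [e x hx, e _ (conj_mem_of_mem_normalizer hgn hx)] at h1
      exact congrArg Prod.snd h1
  refine ⟨fun x => (k₁ x.1, k₂ x.2), (isMap_product_iff hE).mpr
    ⟨(extSub_le R f).trans inf_le_left, k₁, k₂, hk₁.mono ?_, hk₂.mono ?_, fun _ _ => rfl⟩,
    fun x hx => ?_⟩
  · rintro _ ⟨g, hg, rfl⟩
    exact (hext g hg).1
  · rintro _ ⟨g, hg, rfl⟩
    exact (hext g hg).2
  · show (k₁ x.1, k₂ x.2) = f x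
    rw [a₁ _ (fst_mem_map hx), a₂ _ (snd_mem_map hx), e x hx]

theorem saturated_product [Finite S₁] [Finite S₂] [Fact p.Prime] (hS₁ : IsPGroup p S₁)
    (hS₂ : IsPGroup p S₂) (hF₁ : F₁.IsSaturated p) (hF₂ : F₂.IsSaturated p)
    (hE : IsProductSystem F₁ F₂ E) : E.IsSaturated p := by
  haveI : Finite (S₁.prod S₂) := Finite.of_equiv _ (Subgroup.prodEquiv S₁ S₂).toEquiv.symm
  have hS : IsPGroup p (S₁.prod S₂) := by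
    intro x
    obtain ⟨a, ha⟩ := hS₁ ⟨(x : Ω₁ × Ω₂).1, x.2.1⟩
    obtain ⟨b, hb⟩ := hS₂ ⟨(x : Ω₁ × Ω₂).2, x.2.2⟩
    refine ⟨a + b, Subtype.ext (Prod.ext ?_ ?_)⟩
    · show (x : Ω₁ × Ω₂).1 ^ p ^ (a + b) = 1
      rw [pow_add, pow_mul, show (x : Ω₁ × Ω₂).1 ^ p ^ a = 1 from congrArg Subtype.val ha, one_pow]
    · show (x : Ω₁ × Ω₂).2 ^ p ^ (a + b) = 1
      rw [add_comm, pow_add, pow_mul,
        show (x : Ω₁ × Ω₂).2 ^ p ^ b = 1 from congrArg Subtype.val hb, one_pow]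
  intro P hP
  -- move both projections to fully normalized subgroups
  obtain ⟨Q₁, hQ₁c, hQ₁⟩ := exists_fullyNormalized (F := F₁) (map_fst_le hP)
  obtain ⟨Q₂, hQ₂c, hQ₂⟩ := exists_fullyNormalized (F := F₂) (map_snd_le hP)
  obtain ⟨c₁, hc₁, hc₁i⟩ := isConj_iff.mp hQ₁c
  obtain ⟨c₂, hc₂, hc₂i⟩ := isConj_iff.mp hQ₂c
  set c : Ω₁ × Ω₂ → Ω₁ × Ω₂ := fun x => (c₁ x.1, c₂ x.2)
  have hc : IsMap E P c := (isMap_product_iff hE).mpr ⟨hP, c₁, c₂, hc₁, hc₂, fun _ _ => rfl⟩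
  set Q := img P c
  have hQ : Q ≤ S₁.prod S₂ := hc.img_le
  have hQm₁ : Q.map (MonoidHom.fst Ω₁ Ω₂) = Q₁ :=
    (map_fst_img hc hc₁ fun x _ => rfl).trans hc₁i
  have hQm₂ : Q.map (MonoidHom.snd Ω₁ Ω₂) = Q₂ :=
    (map_snd_img hc hc₂ fun x _ => rfl).trans hc₂i
  subst hQm₁ hQm₂
  haveI := finite_of_le hQ
  obtain ⟨-, hfa₁, hrec₁⟩ := fullyNormalized_props hS₁ hF₁ hQ₁
  obtain ⟨-, hfa₂, hrec₂⟩ := fullyNormalized_props hS₂ hF₂ hQ₂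
  -- a Sylow subgroup of the automizer
  obtain ⟨R⟩ : Nonempty (Sylow p (E.autGroup Q)) := inferInstance
  set T := (R : Subgroup (E.autGroup Q)).map (E.autGroup Q).subtype
  have hTE : T ≤ E.autGroup Q := Subgroup.map_subtype_le _
  have hTp : IsPGroup p T := R.2.map _
  have hcomp : ∀ τ ∈ T, ∃ β₁ ∈ componentAuts (MonoidHom.fst Ω₁ Ω₂) T ⊓ F₁.autGroup _,
      ∃ β₂ ∈ componentAuts (MonoidHom.snd Ω₁ Ω₂) T ⊓ F₂.autGroup _,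
      ∀ x ∈ Q, autFun τ x = (autFun β₁ x.1, autFun β₂ x.2) := by
    intro τ hτ
    have hm := (isMap_autFun hQ).mpr (hTE hτ)
    obtain ⟨-, g₁, g₂, m₁, m₂, e⟩ := (isMap_product_iff hE).mp hm
    have hi₁ : img (Q.map (MonoidHom.fst Ω₁ Ω₂)) g₁ = Q.map (MonoidHom.fst Ω₁ Ω₂) :=
      (map_fst_img hm m₁ fun x hx => by rw [e x hx]).symm.trans (by rw [img_autFun])
    have hi₂ : img (Q.map (MonoidHom.snd Ω₁ Ω₂)) g₂ = Q.map (MonoidHom.snd Ω₁ Ω₂) :=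
      (map_snd_img hm m₂ fun x hx => by rw [e x hx]).symm.trans (by rw [img_autFun])
    obtain ⟨β₁, hb₁, be₁⟩ := m₁.exists_aut hi₁
    obtain ⟨β₂, hb₂, be₂⟩ := m₂.exists_aut hi₂
    refine ⟨β₁, ⟨⟨τ, hτ, fun x hx => ?_⟩, hb₁⟩, β₂, ⟨⟨τ, hτ, fun x hx => ?_⟩, hb₂⟩, fun x hx => ?_⟩
    · show (autFun τ x).1 = autFun β₁ x.1
      rw [e x hx, be₁ _ (fst_mem_map hx)]
    · show (autFun τ x).2 = autFun β₂ x.2
      rw [e x hx, be₂ _ (snd_mem_map hx)]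
    · rw [e x hx, be₁ _ (fst_mem_map hx), be₂ _ (snd_mem_map hx)]
  obtain ⟨χ₁, hχ₁, hK₁⟩ := exists_conj_into_autS hfa₁
    ((componentAuts_isPGroup (MonoidHom.fst Ω₁ Ω₂) hTp).to_le inf_le_left) inf_le_right
  obtain ⟨χ₂, hχ₂, hK₂⟩ := exists_conj_into_autS hfa₂
    ((componentAuts_isPGroup (MonoidHom.snd Ω₁ Ω₂) hTp).to_le inf_le_left) inf_le_right
  set d : Ω₁ × Ω₂ → Ω₁ × Ω₂ := fun x => (autFun χ₁ x.1, autFun χ₂ x.2)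
  have hd₁ := (isMap_autFun (map_fst_le hQ)).mpr hχ₁
  have hd₂ := (isMap_autFun (map_snd_le hQ)).mpr hχ₂
  have hd : IsMap E Q d := (isMap_product_iff hE).mpr ⟨hQ, _, _, hd₁, hd₂, fun _ _ => rfl⟩
  set Q' := img Q d
  have hm₁ : Q'.map (MonoidHom.fst Ω₁ Ω₂) = Q.map (MonoidHom.fst Ω₁ Ω₂) :=
    (map_fst_img hd hd₁ fun x _ => rfl).trans (img_autFun χ₁)
  have hm₂ : Q'.map (MonoidHom.snd Ω₁ Ω₂) = Q.map (MonoidHom.snd Ω₁ Ω₂) :=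
    (map_snd_img hd hd₂ fun x _ => rfl).trans (img_autFun χ₂)
  have hQ' : Q' ≤ S₁.prod S₂ := hd.img_le
  haveI := finite_of_le hQ'
  refine ⟨Q', isConj_trans (isConj_iff.mpr ⟨c, hc, rfl⟩) (isConj_iff.mpr ⟨d, hd, rfl⟩), ?_,
    receptive_product hE hQ' (hm₁.symm ▸ hrec₁) (hm₂.symm ▸ hrec₂)⟩
  -- the transported Sylow subgroup is induced by `S₁ × S₂`
  set Θ := MulAut.congr (hd.equiv (Q := Q') rfl)
  have hinto : T.map Θ.toMonoidHom ≤ autInducedBy (S₁.prod S₂) Q' := by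
    rintro _ ⟨τ, hτ, rfl⟩
    obtain ⟨β₁, hb₁, β₂, hb₂, eτ⟩ := hcomp τ hτ
    obtain ⟨s₁, hs₁, es₁⟩ := mem_autInducedBy.mp (hK₁ β₁ hb₁)
    obtain ⟨s₂, hs₂, es₂⟩ := mem_autInducedBy.mp (hK₂ β₂ hb₂)
    refine mem_autInducedBy.mpr ⟨(s₁, s₂), ⟨hs₁, hs₂⟩, fun y => ?_⟩
    obtain ⟨x, hx, hxy⟩ := hd.mem_img.mp y.2
    show ((Θ τ y : Q') : Ω₁ × Ω₂) = _
    rw [← autFun_apply (Θ τ) y, ← hxy, congr_equiv_spec hd rfl τ hx, eτ x hx]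
    have h1 : autFun χ₁ x.1 ∈ Q.map (MonoidHom.fst Ω₁ Ω₂) := autFun_mem _ (fst_mem_map hx)
    have h2 : autFun χ₂ x.2 ∈ Q.map (MonoidHom.snd Ω₁ Ω₂) := autFun_mem _ (snd_mem_map hx)
    refine Prod.ext ?_ ?_
    · show autFun χ₁ (autFun β₁ x.1) = s₁ * autFun χ₁ x.1 * s₁⁻¹
      rw [← es₁ ⟨_, h1⟩, ← autFun_apply (χ₁ * β₁ * χ₁⁻¹) ⟨_, h1⟩]
      show autFun χ₁ (autFun β₁ x.1) = autFun (χ₁ * β₁ * χ₁⁻¹) (autFun χ₁ x.1)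
      rw [← autFun_mul (χ₁ * β₁ * χ₁⁻¹) χ₁ (fst_mem_map hx), inv_mul_cancel_right,
        autFun_mul _ _ (fst_mem_map hx)]
    · show autFun χ₂ (autFun β₂ x.2) = s₂ * autFun χ₂ x.2 * s₂⁻¹
      rw [← es₂ ⟨_, h2⟩, ← autFun_apply (χ₂ * β₂ * χ₂⁻¹) ⟨_, h2⟩]
      show autFun χ₂ (autFun β₂ x.2) = autFun (χ₂ * β₂ * χ₂⁻¹) (autFun χ₂ x.2)
      rw [← autFun_mul (χ₂ * β₂ * χ₂⁻¹) χ₂ (snd_mem_map hx), inv_mul_cancel_right,
        autFun_mul _ _ (snd_mem_map hx)]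
  rw [isFullyAutomized_iff hS]
  refine ⟨hQ', fun hdvd => ?_⟩
  have h1 := hdvd.trans (Subgroup.relIndex_dvd_of_le_left (E.autGroup Q') hinto)
  rw [← map_congr_autGroup hd (Q := Q') rfl,
    Subgroup.relIndex_map_map_of_injective _ _ (f := Θ.toMonoidHom) Θ.injective, Subgroup.relIndex,
    show T.subgroupOf (E.autGroup Q) = (R : Subgroup (E.autGroup Q)) from
      Subgroup.comap_map_eq_self_of_injective (E.autGroup Q).subtype_injective _] at h1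
  exact R.not_dvd_index h1

end Cfsg.Lib.Fusion
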