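import Cfsg.Agent.Fusion.PPowerContains
import Cfsg.Agent.Fusion.SmallElements
import Cfsg.Agent.Fusion.CharAut

/-!
Saturated subsystems of `p`-power index are determined by their Sylow subgroups.
-/

set_option autoImplicit false
set_option linter.unusedSectionVars false
set_option linter.style.haveILetI false

namespace Cfsg.Lib.Fusion.PPower

open Cfsg Cfsg.FusionSystem Cfsg.Lib.Fusion

universe u

variable {Ω : Type u} [Group Ω] {S T : Subgroup Ω} {F : FusionSystem S} {E D : FusionSystem T}
  {p : ℕ}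

theorem coprime_mem_autGroup {P : Subgroup Ω} (hidx : E.HasPPowerIndexIn F p) (hP : P ≤ T)
    {β : MulAut P} (hβ : β ∈ F.autGroup P) (hcop : (orderOf β).Coprime p) :
    β ∈ E.autGroup P :=
  hidx.2.2 P hP ⟨⟨β, hβ⟩,
    Subgroup.subset_closure (by rw [Set.mem_ofPred_eq, Subgroup.orderOf_mk]; exact hcop), rfl⟩

theorem autGroup_le_of_sub (hs : E.IsSubsystemOf F) {P : Subgroup Ω} (hPT : P ≤ T) (hT : T ≤ S) :
    E.autGroup P ≤ F.autGroup P := fun γ hγ => (isMap_autFun (hPT.trans hT)).mp
      (CharSub.isMap_of_sub hs ((isMap_autFun hPT).mpr hγ))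

variable [Finite S] [Fact p.Prime]

/-- An automizer at a fully normalized subgroup is generated by the induced automorphisms and the
elements of order prime to `p`. -/
theorem autGroup_le_of (hS : IsPGroup p S) (hT : T ≤ S) (hE : E.IsSaturated p) {Q : Subgroup Ω}
    (hQn : E.IsFullyNormalized Q) {K : Subgroup (MulAut Q)} (hind : autInducedBy T Q ≤ K)
    (hcop : ∀ β ∈ E.autGroup Q, (orderOf β).Coprime p → β ∈ K) : E.autGroup Q ≤ K := by
  haveI := finite_of_le hT
  haveI := finite_of_le hQn.1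
  haveI : Finite (MulAut Q) := Finite.of_injective
    (fun f : MulAut Q => (f : Q → Q)) DFunLike.coe_injective
  obtain ⟨-, R, hR⟩ := (fullyNormalized_props
    (hS.of_injective _ (Subgroup.inclusion_injective hT)) hE hQn).2.1
  obtain ⟨k, hk⟩ := Cfsg.Lib.Transfer.exists_index_pResidual (p := p) (G := E.autGroup Q)
  have htop : (R : Subgroup (E.autGroup Q)) ⊔ pResidual p (E.autGroup Q) = ⊤ :=
    (sup_comm _ _).trans (Cfsg.Lib.Transfer.sup_sylow_eq_top hk R)
  have hle : (⊤ : Subgroup (E.autGroup Q)) ≤ K.subgroupOf (E.autGroup Q) := by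
    rw [← htop, hR]
    refine sup_le (fun x hx => hind hx) ((Subgroup.closure_le _).mpr fun x hx => hcop x x.2 ?_)
    rw [Subgroup.orderOf_coe]
    exact hx
  exact fun α hα => hle (Subgroup.mem_top (⟨α, hα⟩ : E.autGroup Q))

/-- At fully normalized subgroups the automizers lie in any subsystem of `p`-power index. -/
theorem autGroup_le_of_index (hS : IsPGroup p S) (hT : T ≤ S) (hE : E.IsSaturated p)
    (hs : E.IsSubsystemOf F) (hidx : D.HasPPowerIndexIn F p) {Q : Subgroup Ω}
    (hQn : E.IsFullyNormalized Q) : E.autGroup Q ≤ D.autGroup Q :=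
  autGroup_le_of hS hT hE hQn (autInducedBy_le hQn.1) fun _ hβ hcop =>
    coprime_mem_autGroup hidx hQn.1 (autGroup_le_of_sub hs hQn.1 hT hβ) hcop

/-- A saturated subsystem lies in every subsystem of `p`-power index on the same subgroup. -/
theorem le_of_index (hS : IsPGroup p S) (hT : T ≤ S) (hE : E.IsSaturated p)
    (hs : E.IsSubsystemOf F) (hidx : D.HasPPowerIndexIn F p) : E.IsSubsystemOf D := by
  haveI := finite_of_le hT
  have hTp : IsPGroup p T := hS.of_injective _ (Subgroup.inclusion_injective hT)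
  have hTn : E.IsFullyNormalized T := ⟨le_rfl, fun Q hQ => by
    obtain ⟨f, hf, rfl⟩ := isConj_iff.mp hQ
    rw [Subgroup.eq_of_le_of_card_ge hf.img_le hf.card_img.ge]⟩
  intro P φ hφ
  refine IsMap.mem_toFun' (alperin_radical hTp hE (isMapClass_isMap E D) (fun f hf => ?_)
    (fun Q _ hQn _ _ _ α hα =>
      (isMap_autFun hQn.1).mpr (autGroup_le_of_index hS hT hE hs hidx hQn hα)) (isMap_of_mem hφ))
  obtain ⟨α, hα, e⟩ := hf.exists_aut (Subgroup.eq_of_le_of_card_ge hf.img_le hf.card_img.ge)
  exact ((isMap_autFun le_rfl).mpr (autGroup_le_of_index hS hT hE hs hidx hTn hα)).congr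
    fun x hx => (e x hx).symm

/-- Uniqueness. -/
theorem unique (hS : IsPGroup p S) (hT : T ≤ S) (hE : E.IsSaturated p)
    (hEi : E.HasPPowerIndexIn F p) (hD : D.IsSaturated p) (hDi : D.HasPPowerIndexIn F p) : E = D :=
  fusionSystem_ext fun P => Set.Subset.antisymm (le_of_index hS hT hE hEi.1 hDi P)
    (le_of_index hS hT hD hDi.1 hEi P)

end Cfsg.Lib.Fusion.PPower
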