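import Cfsg.Agent.Fusion.PrimeSub

/-!
The smallest saturated subsystem of index prime to `p`.
-/

set_option autoImplicit false
set_option linter.unusedSectionVars false

namespace Cfsg.Lib.Fusion.PrimeIndex

open Cfsg Cfsg.FusionSystem Cfsg.Lib.Fusion

universe u

variable {Ω : Type u} [Group Ω] {S : Subgroup Ω} {F : FusionSystem S} {p : ℕ}

/-- The automorphisms of `S` forced by the generated maps on centric subgroups. -/
def forcedAut (F : FusionSystem S) (p : ℕ) : Subgroup (MulAut S) :=
  Subgroup.closure {δ | δ ∈ F.autGroup S ∧ ∃ R ∈ centrics F, ∃ g, IsMap F R g ∧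
    Gen F p (centrics F) R g ∧ ∀ x ∈ R, autFun δ x = g x}

theorem forcedAut_le : forcedAut F p ≤ F.autGroup S :=
  (Subgroup.closure_le _).mpr fun _ h => h.1

theorem forced_forcedAut : Forced F p (centrics F) (forcedAut F p) :=
  fun _ hδ R hR g hg hG e => Subgroup.subset_closure ⟨hδ, R, hR, g, hg, hG, e⟩

/-- The residual. -/
def residual [Finite S] (F : FusionSystem S) (p : ℕ) : FusionSystem S :=
  sub (F := F) (p := p) (ℋ := centrics F) (H := forcedAut F p) forcedAut_le siteFam_centrics

theorem residual_spec [Finite S] [Fact p.Prime] (hS : IsPGroup p S) (hF : F.IsSaturated p) :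
    F.IsPPrimeResidual p (residual F p) := by
  refine ⟨sub_saturated _ _ hS hF forced_forcedAut, (sub_main _ _ hS hF).1, fun D hD hDF => ?_⟩
  obtain ⟨hs, hidx⟩ := hDF
  have hcls : IsGenClass F p (centrics F) (IsMap D) := ⟨isMapClass_isMap F D, fun Q hQ α hα =>
    (isMap_autFun hQ.1).mpr (hidx Q hQ.1 hα)⟩
  have hle : forcedAut F p ≤ D.autGroup S := by
    refine (Subgroup.closure_le _).mpr ?_
    rintro δ ⟨hδ, R, hR, g, -, hG, e⟩
    exact (isMap_autFun le_rfl).mp (isMap_of_restrict_centric hS hF hD hs (isMap_top hδ) hR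
      ((hG _ hcls).congr e))
  intro P φ hφ
  obtain ⟨-, δ, hδ, f₀, hf₀, hG, he⟩ :=
    (isMap_sub_iff forcedAut_le siteFam_centrics).mp (isMap_of_mem hφ)
  exact IsMap.mem_toFun' (((hG _ hcls).comp ((isMap_autFun le_rfl).mpr (hle hδ))
    fun x hx => hf₀.mem_S hx).congr he)

end Cfsg.Lib.Fusion.PrimeIndex
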