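import Cfsg.Agent.Fusion.WeaklyNormalResidual

/-!
The residual of index prime to `p` lies in every weakly normal subsystem on the same group.
-/

set_option autoImplicit false
set_option linter.unusedSectionVars false
set_option linter.style.haveILetI false

namespace Cfsg.Lib.Fusion.WeaklyNormal

open Cfsg Cfsg.FusionSystem Cfsg.Lib.Fusion

universe u

variable {Ω : Type u} [Group Ω] {S T : Subgroup Ω} {F : FusionSystem S} {E D : FusionSystem T}
  {p : ℕ} [Finite S] [Fact p.Prime]

/-- An automorphism of order prime to `p` is in an invariant subsystem if a restriction to a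
centric subgroup is. -/
theorem mem_of_restrict (hS : IsPGroup p S) (hD : D.IsWeaklyNormalIn F p) {δ : MulAut T}
    (hδ : δ ∈ F.autGroup T) (hcop : (orderOf δ).Coprime p) :
    ∀ {R : Subgroup Ω}, D.IsCentric R → IsMap D R (autFun δ) → δ ∈ D.autGroup T := by
  obtain ⟨hDs, hF, hinv⟩ := hD
  have hsc : F.StronglyClosed T := hinv.2.1
  have hTS : T ≤ S := hsc.1
  haveI := finite_of_le hTS
  have hTp : IsPGroup p T := hS.of_injective _ (Subgroup.inclusion_injective hTS)
  obtain ⟨m, hm⟩ := IsPGroup.iff_card.mp hTp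
  intro R hRc
  induction hk : Nat.card T - Nat.card R using Nat.strong_induction_on generalizing R with
  | _ k ih =>
  intro hR
  rcases eq_or_ne R T with rfl | hne
  · exact (isMap_autFun le_rfl).mp hR
  have hlt := lt_inf_normalizer hS (lt_of_le_of_ne hRc.1 hne) hTS
  set N := T ⊓ Subgroup.normalizer (R : Set Ω)
  have hNT : N ≤ T := inf_le_left
  haveI := finite_of_le (hNT.trans hTS)
  haveI := finite_of_le (hRc.1.trans hTS)
  have hδm : IsMap F T (autFun δ) := (isMap_autFun hTS).mpr hδ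
  have hrec := receptive_of_fullyCentralized hTp hDs (fullyCentralized_of_centric
    (fun _ => Set.Subset.rfl) (centric_of_isConj hRc (isConj_iff.mpr ⟨_, hR, rfl⟩)))
  obtain ⟨g', hg', hge⟩ := receptive_extend hrec hR rfl
  have hext : N ≤ extSub T R (autFun δ) := fun t ht => mem_extSub.mpr
    ⟨ht.1, ht.2, autFun δ t, autFun_mem δ ht.1, fun y hy => hδm.map_conj ht.1 (hRc.1 hy)⟩
  have hgN := hg'.mono hext
  have hgF : IsMap F N g' := isMap_of_sub hinv.1 hgN
  -- `d`, the difference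
  have hδi : IsMap F T (autFun δ⁻¹) := (isMap_autFun hTS).mpr (Subgroup.inv_mem _ hδ)
  have hdm : IsMap F N (autFun δ⁻¹ ∘ g') := hgF.comp hδi fun x hx => hgN.mem_S hx
  have hdR : ∀ r ∈ R, autFun δ⁻¹ (g' r) = r := fun r hr => by
    rw [hge r hr, autFun_inv_apply' δ (hRc.1 hr)]
  have hdz : ∀ t ∈ N, t⁻¹ * autFun δ⁻¹ (g' t) ∈ R := fun t ht => by
    refine hRc.2 R (isConj_refl hRc.1) (Fusion.mem_centralizerIn.mpr
      ⟨T.mul_mem (T.inv_mem ht.1) (autFun_mem _ (hgN.mem_S ht)), fun r hr => ?_⟩)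
    have hr' := conj_mem_of_mem_normalizer ht.2 hr
    have h1 : autFun δ⁻¹ (g' (t * r * t⁻¹)) =
        autFun δ⁻¹ (g' t) * autFun δ⁻¹ (g' r) * (autFun δ⁻¹ (g' t))⁻¹ :=
      hdm.map_conj ht (hlt.le hr)
    rw [hdR r hr, hdR _ hr'] at h1
    calc t⁻¹ * autFun δ⁻¹ (g' t) * r * (t⁻¹ * autFun δ⁻¹ (g' t))⁻¹
        = t⁻¹ * (autFun δ⁻¹ (g' t) * r * (autFun δ⁻¹ (g' t))⁻¹) * t := by group
      _ = r := by rw [← h1]; group
  have hdN : ∀ t ∈ N, (autFun δ⁻¹ ∘ g') t ∈ N := fun t ht => by
    show autFun δ⁻¹ (g' t) ∈ N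
    rw [show autFun δ⁻¹ (g' t) = t * (t⁻¹ * autFun δ⁻¹ (g' t)) by group]
    exact N.mul_mem ht (hlt.le (hdz t ht))
  obtain ⟨d, hd, ed⟩ := hdm.exists_aut (img_eq_of_apply hdm le_rfl hdN)
  have hg'e : ∀ x ∈ N, g' x = autFun δ (autFun d x) := fun x hx => by
    rw [ed x hx]
    exact (autFun_inv_apply δ (hgN.mem_S hx)).symm
  -- all powers
  have hpow : ∀ i : ℕ, IsMap D N (fun x => autFun (δ ^ i) (autFun (d ^ i) x)) := by
    intro i
    induction i with
    | zero =>
      refine (isMap_id hNT).congr fun x hx => ?_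
      rw [pow_zero, pow_zero, autFun_one hx, autFun_one (hNT hx)]
      rfl
    | succ i ih =>
      have h2 := invariant_transportT hinv hTS hgN (Subgroup.pow_mem _ hδ i)
      refine (ih.comp h2 fun x hx =>
        IsMap.apply_mem_img (autFun_mem (d ^ i) hx)).congr fun x hx => ?_
      show autFun (δ ^ (i + 1)) (autFun (d ^ (i + 1)) x) =
        autFun (δ ^ i) (g' (autFun (δ ^ i)⁻¹ (autFun (δ ^ i) (autFun (d ^ i) x))))
      rw [autFun_inv_apply' _ (hNT (autFun_mem _ hx)), hg'e _ (autFun_mem _ hx), pow_succ,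
        pow_succ' d, autFun_mul _ _ hx,
        autFun_mul _ _ (hNT (autFun_mem d (autFun_mem (d ^ i) hx)))]
  have hdo : d ^ orderOf δ ∈ D.autGroup N := by
    refine (isMap_autFun hNT).mp ((hpow (orderOf δ)).congr fun x hx => ?_)
    rw [pow_orderOf_eq_one, autFun_one (hNT (autFun_mem _ hx))]
  have hdp : d ^ p ^ m = 1 := by
    rw [← hm]
    refine chain_pow_eq_one d (R : Set Ω) (fun x hx => Subtype.ext ?_) (fun x => ?_)
      fun x => Subtype.ext ?_
    · rw [← autFun_apply, ed x x.2]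
      exact hdR _ hx
    · show (x : Ω)⁻¹ * ((d x : N) : Ω) ∈ R
      rw [← autFun_apply, ed x x.2]
      exact hdz _ x.2
    · have := congrArg Subtype.val (pow_card_eq_one' (x := (⟨x, hNT x.2⟩ : T)))
      simpa only [Subgroup.coe_pow, Subgroup.coe_one] using this
  have hdD : d ∈ D.autGroup N := by
    haveI : Finite (MulAut N) := Finite.of_injective (fun f : MulAut N => (f : N → N))
      DFunLike.coe_injective
    obtain ⟨j, hj⟩ := exists_pow_eq_self_of_coprime (show (orderOf δ).Coprime (orderOf d) from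
      Nat.Coprime.coprime_dvd_right (orderOf_dvd_of_pow_eq_one hdp) (hcop.pow_right m))
    rw [← hj]
    exact Subgroup.pow_mem _ hdo j
  refine ih (Nat.card T - Nat.card N) ?_ (centric_of_le hRc hlt.le hNT) rfl ?_
  · have h3 : Nat.card R < Nat.card N := lt_of_le_of_ne (Subgroup.card_le_of_le hlt.le) fun h =>
      hlt.ne (Subgroup.eq_of_le_of_card_ge hlt.le h.ge)
    have h4 := Subgroup.card_le_of_le hNT
    omega
  · refine (((isMap_autFun hNT).mpr (Subgroup.inv_mem _ hdD)).comp hgN fun x hx =>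
      autFun_mem _ hx).congr fun x hx => ?_
    show autFun δ x = g' (autFun d⁻¹ x)
    rw [hg'e _ (autFun_mem _ hx), autFun_inv_apply d hx]

/-- The residual of index prime to `p` lies in every weakly normal subsystem on `T`. -/
theorem residual_le (hS : IsPGroup p S) (hE : E.IsWeaklyNormalIn F p) {R₀ : FusionSystem T}
    (hR₀ : E.IsPPrimeResidual p R₀) (hD : D.IsWeaklyNormalIn F p) : R₀.IsSubsystemOf D := by
  obtain ⟨hEs, hF, hinvE⟩ := hE
  obtain ⟨hDs, -, hinv⟩ := hD
  have hsc : F.StronglyClosed T := hinv.2.1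
  have hTS : T ≤ S := hsc.1
  haveI := finite_of_le hTS
  have hTp : IsPGroup p T := hS.of_injective _ (Subgroup.inclusion_injective hTS)
  obtain rfl := PPower.residual_unique hR₀ (PrimeIndex.residual_spec hTp hEs)
  have hop : ∀ (Q : Subgroup Ω), E.IsCentric Q → ∀ u ∈ E.autGroup Q,
      (∃ k : ℕ, orderOf u = p ^ k) → u ∈ D.autGroup Q := by
    intro Q hQc u hu hk
    have hQS : Q ≤ S := hQc.1.trans hTS
    obtain ⟨Q', hQQ', hQ'⟩ := exists_fullyNormalized (F := F) hQS
    obtain ⟨f, hf, hi⟩ := isConj_iff.mp hQQ'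
    obtain ⟨-, hfa, hrec⟩ := fullyNormalized_props hS hF hQ'
    have hQ'T : Q' ≤ T := hi ▸ IsMap.img_le_iff.mpr fun x hx =>
      stronglyClosed_apply hsc hf hx (hQc.1 hx)
    haveI := finite_of_le hQS
    haveI := finite_of_le hQ'.1
    have hQ'E : E.IsFullyNormalized Q' := by
      refine ⟨hQ'T, fun R hR => ?_⟩
      obtain ⟨r, hr, hri⟩ := isConj_iff.mp (isConj_symm hR)
      obtain ⟨-, -, h, hh, -, -, hhN⟩ :=
        exists_map_normalizer hS hfa hrec (isMap_of_sub hinvE.1 hr) hri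
      refine card_le_of_isMap hh (fun x hx => ⟨hTS hx.1, hx.2⟩) (inf_le_left.trans hTS) fun x hx =>
        ⟨stronglyClosed_apply hsc hh ⟨hTS hx.1, hx.2⟩ hx.1, (hhN x ⟨hTS hx.1, hx.2⟩).2⟩
    set u' : MulAut Q' := MulAut.congr (hf.equiv hi) u
    have hu' : u' ∈ E.autGroup Q' := by
      have h1 := strongInv_of_invariant hinvE Q Q le_rfl hQc.1 (autFun u)
        ((isMap_autFun hQc.1).mpr hu) (fun x hx => autFun_mem u hx) f hf (autFun u') fun x hx =>
          congr_equiv_spec hf hi u hx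
      rw [hi] at h1
      exact (isMap_autFun hQ'T).mp h1
    obtain ⟨k₀, hk₀⟩ := hk
    have hu'p : IsPGroup p (Subgroup.zpowers u') := by
      refine IsPGroup.of_card (n := k₀) ?_
      rw [Nat.card_zpowers]
      exact (orderOf_injective (MulAut.congr (hf.equiv hi)).toMonoidHom
        (MulAut.congr (hf.equiv hi)).injective u).trans hk₀
    obtain ⟨w, hw, hwu⟩ := exists_conj_into_autS
      (fullyNormalized_props hTp hEs hQ'E).2.1 hu'p (Subgroup.zpowers_le.mpr hu')
    have h1 : w * u' * w⁻¹ ∈ D.autGroup Q' :=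
      autInducedBy_le hQ'T (hwu u' (Subgroup.mem_zpowers u'))
    have hwi : IsMap F Q' (autFun w⁻¹) :=
      isMap_of_sub hinvE.1 ((isMap_autFun hQ'T).mpr (Subgroup.inv_mem _ hw))
    have h2 : IsMap D Q' (autFun u') := by
      have := strongInv_of_invariant hinv Q' Q' le_rfl hQ'T (autFun (w * u' * w⁻¹))
        ((isMap_autFun hQ'T).mpr h1) (fun x hx => autFun_mem _ hx) (autFun w⁻¹) hwi (autFun u')
        fun x hx => by
          rw [← autFun_mul _ _ hx, ← autFun_mul _ _ hx]
          congr 1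
          group
      rwa [img_autFun] at this
    obtain ⟨k, hk, -, hkl, -⟩ := hf.exists_inv
    rw [hi] at hk
    have h3 := strongInv_of_invariant hinv Q' Q' le_rfl hQ'T (autFun u') h2
      (fun x hx => autFun_mem u' hx) k hk (autFun u) fun x hx => by
        obtain ⟨y, hy, rfl⟩ := hf.mem_img.mp (hi.symm ▸ hx)
        rw [hkl y hy, congr_equiv_spec hf hi u hy, hkl _ (autFun_mem u hy)]
    have hki : img Q' k = Q := by
      refine le_antisymm (IsMap.img_le_iff.mpr fun x hx => ?_) fun y hy => ?_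
      · obtain ⟨y, hy, rfl⟩ := hf.mem_img.mp (hi.symm ▸ hx)
        rwa [hkl y hy]
      · rw [← hkl y hy]
        exact IsMap.apply_mem_img (hi ▸ IsMap.apply_mem_img hy)
    rw [hki] at h3
    exact (isMap_autFun hQc.1).mp h3
  have hgen : PrimeIndex.IsGenClass E p (PrimeIndex.centrics E) (IsMap D) := by
    refine ⟨isMapClass_isMap E D, fun Q hQ α hα => (isMap_autFun hQ.1).mpr ?_⟩
    exact (PrimeIndex.opGen_le_iff (K := D.autGroup Q) fun u hu hk => hop Q hQ u hu hk) hα
  haveI : Finite (MulAut T) := Finite.of_injective (fun f : MulAut T => (f : T → T))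
    DFunLike.coe_injective
  have hforced : PrimeIndex.forcedAut E p ≤ D.autGroup T := by
    refine (Subgroup.closure_le _).mpr ?_
    rintro δ ⟨hδ, R, hR, g, hg, hG, e⟩
    obtain ⟨a, b, ha, hb, hab, hak, hbcop⟩ := Cfsg.Lib.Transfer.exists_pPart p δ
    have haE := (Subgroup.zpowers_le.mpr hδ) ha
    have hbE := (Subgroup.zpowers_le.mpr hδ) hb
    have hbF : b ∈ F.autGroup T :=
      (isMap_autFun hTS).mp (isMap_of_sub hinvE.1 ((isMap_autFun le_rfl).mpr hbE))
    have haD := hop T (CharSub.centric_top hinvE) a haE hak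
    have hRc : D.IsCentric R := ⟨hR.1, fun U hU => by
      obtain ⟨f, hf, rfl⟩ := isConj_iff.mp hU
      exact (CharSub.centricT_img hinvE hR (isMap_of_sub hinv.1 hf)).2 _
        (isConj_refl (isConj_le hU).2)⟩
    have hδD : IsMap D R (autFun δ) := (hG _ hgen).congr e
    have hbD : IsMap D R (autFun b) := by
      refine (hδD.comp ((isMap_autFun le_rfl).mpr (Subgroup.inv_mem _ haD))
        fun x hx => hδD.mem_S hx).congr fun x hx => ?_
      show autFun b x = autFun a⁻¹ (autFun δ x)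
      rw [← autFun_mul _ _ (hR.1 hx), ← hab, inv_mul_cancel_left]
    exact hab ▸ Subgroup.mul_mem _ haD (mem_of_restrict hS ⟨hDs, hF, hinv⟩ hbF hbcop hRc hbD)
  intro P φ hφ
  obtain ⟨-, δ, hδ, f₀, hf₀, hG, he⟩ := (PrimeIndex.isMap_sub_iff PrimeIndex.forcedAut_le
    PrimeIndex.siteFam_centrics).mp (isMap_of_mem hφ)
  exact IsMap.mem_toFun' (((hG _ hgen).comp ((isMap_autFun le_rfl).mpr (hforced hδ))
    fun x hx => hf₀.mem_S hx).congr he)

end Cfsg.Lib.Fusion.WeaklyNormal
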