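import Cfsg.Agent.Fusion.ComponentImage

/-!
A layer is invariant under the automorphisms of the system.
-/

set_option autoImplicit false

namespace Cfsg.Lib.Fusion

open Cfsg Cfsg.FusionSystem

variable {Ω : Type*} [Group Ω] {S : Subgroup Ω} {F : FusionSystem S} {p : ℕ}

theorem qmap_aut (α : MulAut S) {x : Ω} (hx : x ∈ S) :
    qmap (S.subtype.comp α.toMonoidHom) x = autFun α x := by
  rw [qmap_apply hx, autFun_apply_mem α hx]
  rfl

theorem qmap_aut_inv (α : MulAut S) {x : Ω} (hx : x ∈ S) :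
    qmap (S.subtype.comp α.toMonoidHom) (qmap (S.subtype.comp α⁻¹.toMonoidHom) x) = x := by
  rw [qmap_aut α⁻¹ hx, qmap_aut α (autFun_mem _ hx)]
  exact autFun_inv_apply α hx

theorem isMap_of_morphism {α : MulAut S}
    (hα : F.IsMorphism F (S.subtype.comp α.toMonoidHom)) {P : Subgroup Ω} {f : Ω → Ω}
    (hf : IsMap F P f) : IsMap F (img P (autFun α)) (autFun α ∘ f ∘ autFun α⁻¹) := by
  obtain ⟨φ, hφ, e⟩ := hf
  have hm : IsMap F P f := ⟨φ, hφ, e⟩
  obtain ⟨φ', hφ', hP, hφS, hP', hind⟩ := hα.2 P φ hφ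
  have hle : img P (autFun α) ≤ imageAlong (S.subtype.comp α.toMonoidHom) P :=
    IsMap.img_le_iff.mpr fun x hx => by
      rw [autFun_apply_mem α (hP hx)]
      exact ⟨⟨x, hP hx⟩, hx, rfl⟩
  refine ((isMap_of_mem hφ').mono hle).congr fun y hy => ?_
  obtain ⟨⟨x, hxS⟩, (hx : x ∈ P), rfl⟩ := hle hy
  show autFun α (f (autFun α⁻¹ ((α ⟨x, hxS⟩ : S) : Ω))) = _
  rw [← autFun_apply α ⟨x, hxS⟩, autFun_inv_apply' α hxS, ← e ⟨x, hx⟩,
    autFun_apply_mem α (hφS ⟨x, hx⟩)]
  exact (hind ⟨x, hx⟩).symm.trans (toFun'_apply_mem φ' (hP' ⟨x, hx⟩)).symm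

/-- The image of a layer under an automorphism of the system contains every component. -/
theorem layer_le_image [Finite S] [Fact p.Prime] (hS : IsPGroup p S) (hF : F.IsSaturated p)
    {α : MulAut S} (hα : F.IsMorphism F (S.subtype.comp α.toMonoidHom))
    (hα' : F.IsMorphism F (S.subtype.comp α⁻¹.toMonoidHom)) {T : Subgroup Ω}
    {E : FusionSystem T} (hE : E.IsLayerOf F p) :
    T ≤ imageOf (S.subtype.comp α.toMonoidHom) T ∧
      ∀ (P : Subgroup Ω) (f' : Ω → Ω), IsMap E P f' →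
        ∃ f, IsMap E (preimageAlong (S.subtype.comp α.toMonoidHom) P) f ∧
          ∀ x ∈ preimageAlong (S.subtype.comp α.toMonoidHom) P,
            f' (qmap (S.subtype.comp α.toMonoidHom) x) =
              qmap (S.subtype.comp α.toMonoidHom) (f x) := by
  have hq : IsQuot F (S.subtype.comp α.toMonoidHom) F :=
    isQuot_aut (fun P f hf => isMap_of_morphism hα hf) (fun P f hf => by
      have := isMap_of_morphism hα' hf
      rwa [inv_inv] at this)
  have hq' : IsQuot F (S.subtype.comp α⁻¹.toMonoidHom) F :=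
    isQuot_aut (fun P f hf => isMap_of_morphism hα' hf) (fun P f hf => by
      have := isMap_of_morphism hα hf
      rw [inv_inv]
      exact this)
  have hθ : Function.Injective (S.subtype.comp α.toMonoidHom) :=
    S.subtype_injective.comp α.injective
  have hθ' : Function.Injective (S.subtype.comp α⁻¹.toMonoidHom) :=
    S.subtype_injective.comp α⁻¹.injective
  obtain ⟨E', hE', key⟩ := exists_isNormalIn_image hθ hq hS hF hE.1
  have hcomp : ∀ (U : Subgroup Ω) (C : FusionSystem U), C.IsComponentIn F p →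
      C.IsSubsystemOf E' := by
    intro U C hC P φ hφ
    have hUS := subnormal_le hC.1
    have := finite_of_le hUS
    let θU : U →* Ω := (S.subtype.comp α⁻¹.toMonoidHom).comp (Subgroup.inclusion hUS)
    have hθU : Function.Injective θU := hθ'.comp (Subgroup.inclusion_injective hUS)
    have hqU : ∀ x ∈ U, qmap θU x = qmap (S.subtype.comp α⁻¹.toMonoidHom) x := fun x hx => by
      rw [qmap_apply hx, qmap_apply (hUS hx)]
      rfl
    have hfac := isFactorSystem_factorSystem (F := C) (kerClosed_of_injective C hθU)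
      (K := ⊥) bot_le fun s => by
        rw [Subgroup.mem_bot, map_eq_one_iff _ hθU]
        exact ⟨fun h => congrArg Subtype.val h, fun h => Subtype.ext h⟩
    have hquot := isQuot_factorSystem (F := C) (kerClosed_of_injective C hθU)
    have hC₀ := hE.2.1 _ _ ⟨subnormal_transport hC.1 Fact.out inferInstance hS hF _ hθ' hq' θU hqU
        hquot, quasisimple_transport (hS.of_injective _ (Subgroup.inclusion_injective hUS)) hθU hfac
        hC.2⟩
    have hf := isMap_of_mem hφ
    have hP : preimageAlong θU (imageOf θU P) = P := preimageAlong_imageOf hθU hf.le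
    have hf' : IsMap C (preimageAlong θU (imageOf θU P)) (toFun' φ) := hP.symm ▸ hf
    have hg := isMap_of_sub hC₀ (hquot.isMap_pushMap (imageOf_le_range P) hf')
    have hsub : preimageAlong (S.subtype.comp α.toMonoidHom) P ≤ imageOf θU P := by
      intro x hx
      obtain ⟨hxS, hxP⟩ := mem_preimageAlong.mp hx
      rw [qmap_aut α hxS] at hxP
      have h1 : qmap θU (autFun α x) = x := by
        rw [hqU _ (hf.le hxP), qmap_aut α⁻¹ (autFun_mem α hxS), autFun_inv_apply' α hxS]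
      rw [← h1]
      exact qmap_mem_imageOf hxP (hf.le hxP)
    have hPT : P ≤ imageOf (S.subtype.comp α.toMonoidHom) T := by
      intro y hy
      have hyS := hUS (hf.le hy)
      have h1 : qmap θU y ∈ T := hg.le (qmap_mem_imageOf hy (hf.le hy))
      rw [hqU y (hf.le hy)] at h1
      have h2 := qmap_mem_imageOf (θ := S.subtype.comp α.toMonoidHom) h1 (hE.1.1.2.2.2.1.1 h1)
      rwa [qmap_aut_inv α hyS] at h2
    refine IsMap.mem_toFun' ((key P _).mpr ⟨hPT, _, hg.mono hsub, fun x hx => ?_⟩)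
    obtain ⟨hxS, hxP⟩ := mem_preimageAlong.mp hx
    rw [qmap_aut α hxS] at hxP ⊢
    have h1 : qmap θU (autFun α x) = x := by
      rw [hqU _ (hf.le hxP), qmap_aut α⁻¹ (autFun_mem α hxS), autFun_inv_apply' α hxS]
    have h2 := hquot.pushMap_apply hf' (hP.symm ▸ hxP)
    rw [h1] at h2
    rw [h2, hqU _ (hf.mem_S hxP), qmap_aut_inv α (hUS (hf.mem_S hxP))]
  have hle := hE.2.2 _ E' hE' hcomp
  refine ⟨fun x hx => ?_, fun P f' hf' => ((key P f').mp (isMap_of_sub hle hf')).2⟩
  exact (isMap_of_sub hle (isMap_id (F := E) (le_refl T))).mem_S hx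

/-- Layers are characteristic. -/
theorem layer_invariant [Finite S] [Fact p.Prime] (hS : IsPGroup p S) (hF : F.IsSaturated p)
    {α : MulAut S} (hα : F.IsMorphism F (S.subtype.comp α.toMonoidHom))
    (hα' : F.IsMorphism F (S.subtype.comp α⁻¹.toMonoidHom)) {T : Subgroup Ω}
    {E : FusionSystem T} (hE : E.IsLayerOf F p) :
    imageAlong (S.subtype.comp α.toMonoidHom) T = T ∧
      ∀ (P : Subgroup Ω) (φ : P →* Ω), φ ∈ E.Hom P →
        ∀ φ' : imageAlong (S.subtype.comp α.toMonoidHom) P →* Ω,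
          InducedAlong (S.subtype.comp α.toMonoidHom) φ φ' →
            φ' ∈ E.Hom (imageAlong (S.subtype.comp α.toMonoidHom) P) := by
  have hTS : T ≤ S := hE.1.1.2.2.2.1.1
  have hθ : Function.Injective (S.subtype.comp α.toMonoidHom) :=
    S.subtype_injective.comp α.injective
  obtain ⟨h1, -⟩ := layer_le_image hS hF hα hα' hE
  obtain ⟨-, h2⟩ := layer_le_image hS hF (α := α⁻¹) hα' (by rw [inv_inv]; exact hα) hE
  have := finite_of_le hTS
  have hcard : Nat.card (imageOf (S.subtype.comp α.toMonoidHom) T) = Nat.card T := by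
    rw [imageOf, Subgroup.card_map_of_injective hθ]
    exact Nat.card_congr (Subgroup.subgroupOfEquivOfLe hTS).toEquiv
  have hTeq : imageOf (S.subtype.comp α.toMonoidHom) T = T := by
    have : Finite (imageOf (S.subtype.comp α.toMonoidHom) T) :=
      Nat.finite_of_card_ne_zero (by rw [hcard]; exact Nat.card_pos.ne')
    exact (Subgroup.eq_of_le_of_card_ge h1 hcard.le).symm
  refine ⟨hTeq, fun P φ hφ φ' hind => ?_⟩
  obtain ⟨hP, hφS, hP', hindu⟩ := hind
  obtain ⟨g, hg, hge⟩ := h2 P _ (isMap_of_mem hφ)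
  have hle : imageAlong (S.subtype.comp α.toMonoidHom) P ≤
      preimageAlong (S.subtype.comp α⁻¹.toMonoidHom) P := by
    rintro _ ⟨x, hx, rfl⟩
    refine mem_preimageAlong.mpr ⟨(α x).2, ?_⟩
    show qmap _ ((α x : S) : Ω) ∈ P
    rw [qmap_aut α⁻¹ (α x).2, ← autFun_apply α x, autFun_inv_apply' α x.2]
    exact hx
  refine IsMap.mem_toFun' ((hg.mono hle).congr fun y hy => ?_)
  have hgy := hg.mem_S (hle hy)
  have h3 := hge y (hle hy)
  obtain ⟨⟨x, hxS⟩, (hx : x ∈ P), rfl⟩ := hy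
  have hxy : qmap (S.subtype.comp α⁻¹.toMonoidHom) ((α ⟨x, hxS⟩ : S) : Ω) = x := by
    rw [qmap_aut α⁻¹ (α ⟨x, hxS⟩).2, ← autFun_apply α ⟨x, hxS⟩, autFun_inv_apply' α hxS]
  change g ((α ⟨x, hxS⟩ : S) : Ω) ∈ T at hgy
  change toFun' φ (qmap _ ((α ⟨x, hxS⟩ : S) : Ω)) = qmap _ (g ((α ⟨x, hxS⟩ : S) : Ω)) at h3
  rw [hxy, toFun'_apply_mem φ hx, qmap_aut α⁻¹ (hTS hgy)] at h3
  have h4 : autFun α (φ ⟨x, hx⟩) = g ((α ⟨x, hxS⟩ : S) : Ω) := by
    rw [h3]
    exact autFun_inv_apply α (hTS hgy)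
  show toFun' φ' ((α ⟨x, hxS⟩ : S) : Ω) = g ((α ⟨x, hxS⟩ : S) : Ω)
  rw [← h4, autFun_apply_mem α (hφS ⟨x, hx⟩)]
  exact (toFun'_apply_mem φ' (hP' ⟨x, hx⟩)).trans (hindu ⟨x, hx⟩)

end Cfsg.Lib.Fusion
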