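import Cfsg.Agent.Fusion.SystemIso
import Cfsg.Agent.Fusion.FactorHyperfocal
import Cfsg.Agent.Fusion.CenterControl

/-!
Images of subnormal subsystems and of components under maps of the system.
-/

set_option autoImplicit false

namespace Cfsg.Lib.Fusion

open Cfsg Cfsg.FusionSystem

section Quot

variable {Ω : Type*} [Group Ω] {S : Subgroup Ω} {F : FusionSystem S}
  {Ω' : Type*} [Group Ω'] {θ : S →* Ω'} {S' : Subgroup Ω'} {E : FusionSystem S'}

theorem kerClosed_of_injective (F : FusionSystem S) (hθ : Function.Injective θ) :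
    KerClosed F θ := by
  intro P f hf x hx h
  rw [qmap_injOn hθ (hf.le hx) S.one_mem (h.trans qmap_one.symm), hf.map_one, qmap_one]

theorem qmap_subtype {x : Ω} (hx : x ∈ S) : qmap S.subtype x = x := qmap_apply hx

theorem preimageAlong_subtype {P : Subgroup Ω} (hP : P ≤ S) : preimageAlong S.subtype P = P := by
  ext x
  rw [mem_preimageAlong]
  exact ⟨fun h => qmap_subtype h.1 ▸ h.2, fun h => ⟨hP h, (qmap_subtype (hP h)).symm ▸ h⟩⟩

theorem isQuot_subtype (F : FusionSystem S) : IsQuot F S.subtype F := by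
  refine ⟨S.range_subtype, kerClosed_of_injective F S.subtype_injective, fun P f => ⟨?_, ?_⟩⟩
  · intro hf
    refine ⟨hf.le, f, (preimageAlong_subtype hf.le).symm ▸ hf, fun x hx => ?_⟩
    rw [preimageAlong_subtype hf.le] at hx
    rw [qmap_subtype (hf.le hx), qmap_subtype (hf.mem_S hx)]
  · rintro ⟨hP, g, hg, e⟩
    rw [preimageAlong_subtype hP] at hg e
    refine hg.congr fun x hx => ?_
    have h := e x hx
    rwa [qmap_subtype (hP hx), qmap_subtype (hg.mem_S hx)] at h

/-- Two quotient systems along the same map are subnormal in each other: they are equal. -/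
theorem quot_unique_subnormal {S₁ S₂ : Subgroup Ω'} {E₁ : FusionSystem S₁} {E₂ : FusionSystem S₂}
    (h₁ : IsQuot F θ E₁) (h₂ : IsQuot F θ E₂) (p : ℕ) : E₁.IsSubnormalIn E₂ p := by
  obtain rfl : S₁ = S₂ := h₁.range.symm.trans h₂.range
  have h : E₁ = E₂ := fusionSystem_ext fun P => hom_eq_iff_isMap.mpr fun f => by
    rw [h₁.iff, h₂.iff]
  rw [h]
  exact IsSubnormalIn.refl E₂ p

theorem quot_mem_range (hq : IsQuot F θ E) {x : Ω} (hx : x ∈ S) : qmap θ x ∈ S' :=
  hq.range.le ⟨⟨x, hx⟩, (qmap_apply hx).symm⟩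

/-- A quotient map through which another one factors gives a quotient between the targets. -/
theorem IsQuot.descend {Ω'' : Type*} [Group Ω''] {S'' : Subgroup Ω''} {D : FusionSystem S''}
    {χ : S →* Ω''} (h₁ : IsQuot F θ E) (h₂ : IsQuot F χ D) {ψ : S' →* Ω''}
    (hψ : Function.Injective ψ) (e : ∀ x ∈ S, qmap ψ (qmap θ x) = qmap χ x) :
    IsQuot E ψ D := by
  have hsurj : ∀ y ∈ S', ∃ x ∈ S, qmap θ x = y := fun y hy => by
    obtain ⟨s, rfl⟩ := h₁.range.ge hy
    exact ⟨s, s.2, qmap_apply s.2⟩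
  have hpre : ∀ P : Subgroup Ω'',
      preimageAlong χ P = preimageAlong θ (preimageAlong ψ P) := fun P => by
    ext x
    simp only [mem_preimageAlong]
    exact ⟨fun h => ⟨h.1, quot_mem_range h₁ h.1, (e x h.1).symm ▸ h.2⟩,
      fun h => ⟨h.1, e x h.1 ▸ h.2.2⟩⟩
  refine ⟨le_antisymm ?_ ?_, kerClosed_of_injective E hψ, fun P f' => ⟨?_, ?_⟩⟩
  · rintro _ ⟨y, rfl⟩
    obtain ⟨x, hx, hxy⟩ := hsurj y y.2
    rw [← qmap_apply y.2, ← hxy, e x hx]
    exact quot_mem_range h₂ hx
  · rw [← h₂.range]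
    rintro _ ⟨x, rfl⟩
    rw [← qmap_apply x.2, ← e x x.2]
    exact ⟨⟨_, quot_mem_range h₁ x.2⟩, (qmap_apply (quot_mem_range h₁ x.2)).symm⟩
  · intro hf'
    obtain ⟨hP, f, hf, he⟩ := (h₂.iff P f').mp hf'
    rw [hpre P] at hf he
    refine ⟨hP, pushMap θ f, h₁.isMap_pushMap (preimageAlong_le P) hf, fun y hy => ?_⟩
    obtain ⟨x, hx, rfl⟩ := exists_preimage (θ := θ) (h₁.range.symm ▸ preimageAlong_le P) hy
    rw [h₁.pushMap_apply hf hx, e x (hf.le hx), he x hx, e _ (hf.mem_S hx)]
  · rintro ⟨hP, g, hg, he⟩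
    obtain ⟨f, hf, hfe⟩ := h₁.exists_lift hg
    refine (h₂.iff P f').mpr ⟨hP, f, (hpre P).symm ▸ hf, fun x hx => ?_⟩
    rw [hpre P] at hx
    rw [← e x (hf.le hx), he _ (mem_preimageAlong.mp hx).2, hfe x hx, e _ (hf.mem_S hx)]

/-- An isomorphism of systems followed by a quotient map is a quotient map. -/
theorem IsQuot.comp_injective {Ω'' : Type*} [Group Ω''] {S'' : Subgroup Ω''} {D : FusionSystem S''}
    {χ : S →* Ω''} {ψ : S' →* Ω''} (hθ : Function.Injective θ) (h₁ : IsQuot F θ E)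
    (h₂ : IsQuot E ψ D) (e : ∀ x ∈ S, qmap ψ (qmap θ x) = qmap χ x) :
    IsQuot F χ D := by
  have hsurj : ∀ y ∈ S', ∃ x ∈ S, qmap θ x = y := fun y hy => by
    obtain ⟨s, rfl⟩ := h₁.range.ge hy
    exact ⟨s, s.2, qmap_apply s.2⟩
  have hpre : ∀ P : Subgroup Ω'',
      preimageAlong χ P = preimageAlong θ (preimageAlong ψ P) := fun P => by
    ext x
    simp only [mem_preimageAlong]
    exact ⟨fun h => ⟨h.1, quot_mem_range h₁ h.1, (e x h.1).symm ▸ h.2⟩,
      fun h => ⟨h.1, e x h.1 ▸ h.2.2⟩⟩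
  refine ⟨le_antisymm ?_ ?_, ?_, fun P f' => ⟨?_, ?_⟩⟩
  · rintro _ ⟨x, rfl⟩
    rw [← qmap_apply x.2, ← e x x.2]
    exact quot_mem_range h₂ (quot_mem_range h₁ x.2)
  · rw [← h₂.range]
    rintro _ ⟨y, rfl⟩
    obtain ⟨x, hx, hxy⟩ := hsurj y y.2
    rw [← qmap_apply y.2, ← hxy, e x hx]
    exact ⟨⟨x, hx⟩, (qmap_apply hx).symm⟩
  · intro P f hf x hx h
    have hpP := preimageAlong_imageOf hθ hf.le
    have hm : IsMap F (preimageAlong θ (imageOf θ P)) f := hpP.symm ▸ hf
    have hg := h₁.isMap_pushMap ((imageOf_le_range P).trans h₁.range.le) hm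
    rw [← e x (hf.le hx)] at h
    have h' := h₂.closed _ _ hg _ (qmap_mem_imageOf hx (hf.le hx)) h
    rw [h₁.pushMap_apply hm (hpP.symm ▸ hx), e _ (hf.mem_S hx)] at h'
    exact h'
  · intro hf'
    obtain ⟨hP, g, hg, he⟩ := (h₂.iff P f').mp hf'
    obtain ⟨f, hf, hfe⟩ := h₁.exists_lift hg
    refine ⟨hP, f, (hpre P).symm ▸ hf, fun x hx => ?_⟩
    rw [hpre P] at hx
    rw [← e x (hf.le hx), he _ (mem_preimageAlong.mp hx).2, hfe x hx, e _ (hf.mem_S hx)]
  · rintro ⟨hP, f, hf, he⟩
    rw [hpre P] at hf he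
    refine (h₂.iff P f').mpr
      ⟨hP, pushMap θ f, h₁.isMap_pushMap (preimageAlong_le P) hf, fun y hy => ?_⟩
    obtain ⟨x, hx, rfl⟩ := exists_preimage (θ := θ) (h₁.range.symm ▸ preimageAlong_le P) hy
    rw [h₁.pushMap_apply hf hx, e x (hf.le hx), he x hx, e _ (hf.mem_S hx)]

/-- An isomorphism of systems has an inverse. -/
theorem IsQuot.exists_inverse (hθ : Function.Injective θ) (hq : IsQuot F θ E) :
    ∃ ψ : S' →* Ω, Function.Injective ψ ∧ (∀ x ∈ S, qmap ψ (qmap θ x) = x) ∧ IsQuot E ψ F := by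
  let e := (MulEquiv.subgroupCongr hq.range.symm).trans (MonoidHom.ofInjective hθ).symm
  have he : ∀ x ∈ S, qmap (S.subtype.comp e.toMonoidHom) (qmap θ x) = x := fun x hx => by
    rw [qmap_apply (quot_mem_range hq hx)]
    refine congrArg Subtype.val (show e _ = (⟨x, hx⟩ : S) from ?_)
    rw [MulEquiv.trans_apply, MulEquiv.symm_apply_eq]
    exact Subtype.ext (qmap_apply hx)
  have hinj : Function.Injective (S.subtype.comp e.toMonoidHom) :=
    S.subtype_injective.comp e.injective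
  exact ⟨_, hinj, he, hq.descend (isQuot_subtype F) hinj fun x hx =>
    (he x hx).trans (qmap_subtype hx).symm⟩

/-- An isomorphism carries the centre into the centre. -/
theorem qmap_mem_center [Finite S] (hθ : Function.Injective θ) (hq : IsQuot F θ E) {x : Ω}
    (hx : x ∈ F.center) : qmap θ x ∈ E.center := by
  have hZ := (isCentral_center (F := F))
  have hc : E.IsCentral (imageOf θ F.center) := by
    refine isCentral_iff.mpr ⟨(imageOf_le_range _).trans hq.range.le, fun P f' hf' => ?_⟩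
    obtain ⟨f, hf, hfe⟩ := hq.exists_lift hf'
    obtain ⟨k, hk, hkf, hkz⟩ := (isCentral_iff.mp hZ).2 _ f hf
    have hp : preimageAlong θ (P ⊔ imageOf θ F.center) = preimageAlong θ P ⊔ F.center := by
      rw [preimageAlong_sup (hq.range.symm ▸ hf'.le) (imageOf_le_range _),
        preimageAlong_imageOf hθ hZ.1]
    rw [← hp] at hk
    refine ⟨pushMap θ k,
      hq.isMap_pushMap (sup_le hf'.le ((imageOf_le_range _).trans hq.range.le)) hk,
      fun y hy => ?_, fun y hy => ?_⟩
    · obtain ⟨u, hu, rfl⟩ := exists_preimage (hq.range.symm ▸ hf'.le) hy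
      rw [hq.pushMap_apply hk (hp.symm ▸ Subgroup.mem_sup_left hu), hkf u hu, hfe u hu]
    · obtain ⟨u, hu, rfl⟩ := exists_preimage (imageOf_le_range _) hy
      rw [preimageAlong_imageOf hθ hZ.1] at hu
      rw [hq.pushMap_apply hk (hp.symm ▸ Subgroup.mem_sup_right hu), hkz u hu]
  exact (le_sSup hc : imageOf θ F.center ≤ E.center) (qmap_mem_imageOf hx (hZ.1 hx))

end Quot

section Transport

variable {Ω : Type*} [Group Ω]

theorem subnormal_le {T S : Subgroup Ω} {C : FusionSystem T} {F : FusionSystem S} {p : ℕ}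
    (h : C.IsSubnormalIn F p) : T ≤ S := by
  induction h with
  | refl => exact le_rfl
  | step _ hD ih => exact ih.trans hD.1.2.2.2.1.1

/-- An isomorphism carries subnormal subsystems to subnormal subsystems. -/
theorem subnormal_transport {Ω' : Type*} [Group Ω'] {T U : Subgroup Ω} {A : FusionSystem T}
    {B : FusionSystem U} {p : ℕ} (h : A.IsSubnormalIn B p) :
    p.Prime → Finite U → IsPGroup p U → B.IsSaturated p → ∀ (θ : U →* Ω'), Function.Injective θ →
      ∀ {U' : Subgroup Ω'} {B' : FusionSystem U'}, IsQuot B θ B' →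
      ∀ (θT : T →* Ω'), (∀ x ∈ T, qmap θT x = qmap θ x) →
      ∀ {T' : Subgroup Ω'} {A' : FusionSystem T'}, IsQuot A θT A' → A'.IsSubnormalIn B' p := by
  induction h with
  | @refl B p =>
    intro hp hfin hU hB θ hθ U' B' hq θT he T' A' hqA
    obtain rfl : θT = θ := MonoidHom.ext fun x => by
      have := he x x.2
      rwa [qmap_apply x.2, qmap_apply x.2] at this
    exact quot_unique_subnormal hqA hq p
  | @step V U A D B p hA hD ih =>
    intro hp hfin hU hB θ hθ U' B' hq θT he T' A' hqA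
    have : Fact p.Prime := ⟨hp⟩
    have hVU : V ≤ U := hD.1.2.2.2.1.1
    obtain ⟨D', hD', key⟩ := exists_isNormalIn_image hθ hq hU (hq.saturated hU hB) hD
    let θV : V →* Ω' := θ.comp (Subgroup.inclusion hVU)
    have hθV : Function.Injective θV := hθ.comp (Subgroup.inclusion_injective hVU)
    have hqV : ∀ x ∈ V, qmap θV x = qmap θ x := fun x hx => by
      rw [qmap_apply hx, qmap_apply (hVU hx)]
      rfl
    have hrange : θV.range = imageOf θ V := by
      refine le_antisymm ?_ ?_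
      · rintro _ ⟨t, rfl⟩
        exact ⟨Subgroup.inclusion hVU t, t.2, rfl⟩
      · rintro _ ⟨t, ht, rfl⟩
        exact ⟨⟨t, ht⟩, rfl⟩
    have hquot : IsQuot D θV D' := by
      refine ⟨hrange, kerClosed_of_injective D hθV, fun P f' => ?_⟩
      rw [key]
      refine and_congr_right fun hP => exists_congr fun f => ?_
      have hpre : preimageAlong θV P = preimageAlong θ P := by
        ext x
        rw [mem_preimageAlong, mem_preimageAlong]
        refine ⟨fun h => ⟨hVU h.1, hqV x h.1 ▸ h.2⟩, fun h => ?_⟩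
        have hx : x ∈ V := preimageAlong_imageOf hθ hVU ▸ mem_preimageAlong.mpr ⟨h.1, hP h.2⟩
        exact ⟨hx, (hqV x hx).symm ▸ h.2⟩
      rw [hpre]
      refine and_congr_right fun hf => forall₂_congr fun x hx => ?_
      rw [hqV x (hf.le hx), hqV _ (hf.mem_S hx)]
    have := hfin
    have hTV := subnormal_le hA
    exact .step (ih hp (finite_of_le hVU) (hU.of_injective _ (Subgroup.inclusion_injective hVU))
      hD.1.1 θV hθV hquot θT (fun x hx => by rw [he x hx, hqV x (hTV hx)]) hqA) hD'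

/-- An automorphism of the carrier that preserves the maps is an automorphism of the system. -/
theorem isQuot_aut {U : Subgroup Ω} {D : FusionSystem U} {α : MulAut U}
    (h₁ : ∀ (P : Subgroup Ω) (f : Ω → Ω), IsMap D P f →
      IsMap D (img P (autFun α)) (autFun α ∘ f ∘ autFun α⁻¹))
    (h₂ : ∀ (P : Subgroup Ω) (f : Ω → Ω), IsMap D P f →
      IsMap D (img P (autFun α⁻¹)) (autFun α⁻¹ ∘ f ∘ autFun α)) :
    IsQuot D (U.subtype.comp α.toMonoidHom) D := by
  have hval : ∀ x ∈ U, qmap (U.subtype.comp α.toMonoidHom) x = autFun α x := fun x hx => by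
    rw [qmap_apply hx, autFun_apply_mem α hx]
    rfl
  have hpre : ∀ P : Subgroup Ω, P ≤ U →
      preimageAlong (U.subtype.comp α.toMonoidHom) P = img P (autFun α⁻¹) := by
    intro P hP
    refine le_antisymm (fun x hx => ?_) (IsMap.img_le_iff.mpr fun y hy => ?_)
    · obtain ⟨hxU, hxP⟩ := mem_preimageAlong.mp hx
      rw [hval x hxU] at hxP
      rw [← autFun_inv_apply' α hxU]
      exact IsMap.apply_mem_img hxP
    · refine mem_preimageAlong.mpr ⟨autFun_mem _ (hP hy), ?_⟩
      rwa [hval _ (autFun_mem _ (hP hy)), autFun_inv_apply α (hP hy)]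
  refine ⟨?_, kerClosed_of_injective D (U.subtype_injective.comp α.injective),
    fun P f' => ⟨?_, ?_⟩⟩
  · refine le_antisymm ?_ fun y hy => ?_
    · rintro _ ⟨x, rfl⟩
      exact (α x).2
    · exact ⟨α.symm ⟨y, hy⟩, congrArg Subtype.val (α.apply_symm_apply _)⟩
  · intro hf'
    refine ⟨hf'.le, _, (hpre P hf'.le).symm ▸ h₂ P f' hf', fun x hx => ?_⟩
    have hxU := preimageAlong_le P hx
    have hax : autFun α x ∈ P := hval x hxU ▸ (mem_preimageAlong.mp hx).2
    rw [hval x hxU]
    show f' (autFun α x) = qmap _ (autFun α⁻¹ (f' (autFun α x)))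
    rw [hval _ (autFun_mem _ (hf'.mem_S hax)), autFun_inv_apply α (hf'.mem_S hax)]
  · rintro ⟨hP, f, hf, he⟩
    rw [hpre P hP] at hf he
    have hle : P ≤ img (img P (autFun α⁻¹)) (autFun α) := fun y hy => by
      have hy' : autFun α (autFun α⁻¹ y) = y := autFun_inv_apply α (hP hy)
      rw [← hy']
      exact IsMap.apply_mem_img (IsMap.apply_mem_img hy)
    refine ((h₁ _ f hf).mono hle).congr fun y hy => ?_
    have hy' : autFun α (autFun α⁻¹ y) = y := autFun_inv_apply α (hP hy)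
    have h := he _ (IsMap.apply_mem_img (f := autFun α⁻¹) hy)
    rw [hval _ (autFun_mem _ (hP hy)), hy',
      hval _ (hf.mem_S (IsMap.apply_mem_img (f := autFun α⁻¹) hy))] at h
    exact h

theorem isMap_conj_aut {S : Subgroup Ω} {F : FusionSystem S} {α : MulAut S}
    (hα : α ∈ F.autGroup S) {P : Subgroup Ω} {f : Ω → Ω} (hf : IsMap F P f) :
    IsMap F (img P (autFun α)) (autFun α ∘ f ∘ autFun α⁻¹) := by
  have ha := (isMap_autFun le_rfl).mpr hα
  have hi := ((isMap_autFun (F := F) le_rfl).mpr (Subgroup.inv_mem _ hα)).mono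
    (IsMap.img_le_iff.mpr fun x hx => autFun_mem α (hf.le hx) : img P (autFun α) ≤ S)
  have hfa : ∀ y ∈ img P (autFun α), autFun α⁻¹ y ∈ P := fun y hy => by
    obtain ⟨x, hx, rfl⟩ := (ha.mono hf.le).mem_img.mp hy
    rwa [autFun_inv_apply' α (hf.le hx)]
  exact (hi.comp hf hfa).comp ha fun y hy => hf.mem_S (hfa y hy)

/-- The image of a subnormal subsystem under a map of the system is subnormal. -/
theorem subnormal_map {T S : Subgroup Ω} {C : FusionSystem T} {F : FusionSystem S} {p : ℕ}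
    (h : C.IsSubnormalIn F p) :
    p.Prime → Finite S → IsPGroup p S → F.IsSaturated p → ∀ γ : T →* Ω, γ ∈ F.Hom T →
      ∀ {T' : Subgroup Ω} {E : FusionSystem T'}, IsQuot C γ E → E.IsSubnormalIn F p := by
  induction h with
  | @refl F p =>
    intro hp hfin hS hF γ hγ T' E hq
    have := hfin
    have hm := isMap_of_mem hγ
    have hi : img T (toFun' γ) = T := Subgroup.eq_of_le_of_card_ge hm.img_le hm.card_img.ge
    obtain ⟨α, hα, hαe⟩ := hm.exists_aut hi
    have hγe : T.subtype.comp α.toMonoidHom = γ := MonoidHom.ext fun x => by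
      rw [← toFun'_apply γ x, ← hαe x x.2, autFun_apply]
      rfl
    have hFF : IsQuot F γ F := hγe ▸ isQuot_aut (fun P f => isMap_conj_aut hα) (fun P f hf => by
      have := isMap_conj_aut (Subgroup.inv_mem _ hα) hf
      rwa [inv_inv] at this)
    exact quot_unique_subnormal hq hFF p
  | @step V S C D F p hC hD ih =>
    intro hp hfin hS hF γ hγ T' E hq
    have : Fact p.Prime := ⟨hp⟩
    have hinv := hD.1.2.2
    have hVS : V ≤ S := hinv.2.1.1
    have hTV := subnormal_le hC
    have := hfin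
    have := finite_of_le hVS
    have := finite_of_le (hTV.trans hVS)
    have hVp : IsPGroup p V := hS.of_injective _ (Subgroup.inclusion_injective hVS)
    obtain ⟨α, hα, f₀, ⟨φ₀, hφ₀, e₀⟩, hfe⟩ := invariant_frattiniT hinv hTV (isMap_of_mem hγ)
    have hinj₀ := D.injective_of_mem hφ₀
    obtain ⟨R, E₀, hq₀⟩ : ∃ (R : Subgroup Ω) (E₀ : FusionSystem R), IsQuot C φ₀ E₀ :=
      ⟨_, _, isQuot_factorSystem (kerClosed_of_injective C hinj₀)⟩
    have hsub₀ := ih hp (finite_of_le hVS) hVp hD.1.1 φ₀ hφ₀ hq₀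
    have hRV := subnormal_le hsub₀
    have hDD : IsQuot D (V.subtype.comp α.toMonoidHom) D :=
      isQuot_aut (fun P f hf => invariant_transportT hinv hVS hf hα) (fun P f hf => by
        have := invariant_transportT hinv hVS hf (Subgroup.inv_mem _ hα)
        rwa [inv_inv] at this)
    set θα := V.subtype.comp α.toMonoidHom
    have hθα : Function.Injective θα := V.subtype_injective.comp α.injective
    let θR : R →* Ω := θα.comp (Subgroup.inclusion hRV)
    have hθR : Function.Injective θR := hθα.comp (Subgroup.inclusion_injective hRV)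
    have hqR : ∀ x ∈ R, qmap θR x = qmap θα x := fun x hx => by
      rw [qmap_apply hx, qmap_apply (hRV hx)]
      rfl
    have hER : IsQuot E₀ θR E := hq₀.descend hq hθR fun x hx => by
      have hfV : φ₀ ⟨x, hx⟩ ∈ V := (D.le_of_mem hφ₀).2 _
      have h0 : qmap φ₀ x = φ₀ ⟨x, hx⟩ := qmap_apply hx
      rw [hqR _ (quot_mem_range hq₀ hx), h0, qmap_apply hfV, qmap_apply hx,
        ← toFun'_apply_mem γ hx, hfe x hx, ← e₀ ⟨x, hx⟩, autFun_apply_mem α hfV]
      rfl
    exact .step (subnormal_transport hsub₀ hp (finite_of_le hVS) hVp hD.1.1 θα hθα hDD θR hqR hER)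
      hD

/-- Quasisimplicity transports along isomorphisms. -/
theorem quasisimple_transport {Ω' : Type*} [Group Ω'] {T : Subgroup Ω} {C : FusionSystem T} {p : ℕ}
    [Finite T] [Fact p.Prime] (hT : IsPGroup p T) {γ : T →* Ω'} (hγ : Function.Injective γ)
    {E : FusionSystem γ.range} (hE : C.IsFactorSystem ⊥ γ E) (hC : C.Quasisimple p) :
    E.Quasisimple p := by
  obtain ⟨hsat, hhyp, hsimp⟩ := hC
  have hbot : C.StronglyClosed ⊥ := by
    refine ⟨bot_le, fun R hR φ hφ x => ?_⟩
    have hx : x = 1 := Subtype.ext (Subgroup.mem_bot.mp (hR x.2))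
    rw [hx, map_one]
    exact one_mem _
  have hq := isQuot_of_isFactorSystem hbot hE
  refine ⟨hq.saturated hT hsat, ?_, fun E₁ hE₁ => ?_⟩
  · rw [hyperfocal_factor hT hsat hbot hE, hhyp, Subgroup.subgroupOf_self,
      ← MonoidHom.range_eq_map]
  obtain ⟨δ, hδ, hδγ, hqinv⟩ := hq.exists_inverse hγ
  have : Finite γ.range := Finite.of_surjective γ.rangeRestrict γ.rangeRestrict_surjective
  have hrp : IsPGroup p γ.range := hT.of_surjective γ.rangeRestrict γ.rangeRestrict_surjective
  have hZ : ∀ x ∈ T, (qmap γ x ∈ E.center ↔ x ∈ C.center) := fun x hx =>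
    ⟨fun h => hδγ x hx ▸ qmap_mem_center hδ hqinv h, fun h => qmap_mem_center hγ hq h⟩
  set π := QuotientGroup.mk' ((C.center).subgroupOf T) with hπ
  have hkerπ : ∀ s : T, π s = 1 ↔ (s : Ω) ∈ C.center := fun s =>
    (QuotientGroup.eq_one_iff s).trans Subgroup.mem_subgroupOf
  have hπr : π.range = ⊤ := MonoidHom.range_eq_top.mpr (QuotientGroup.mk'_surjective _)
  have hscC : C.StronglyClosed C.center := ⟨isCentral_center.1, fun R hR φ hφ x => by
      rw [← toFun'_apply φ x, apply_of_mem_center (hR x.2) (isMap_of_mem hφ) x.2]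
      exact hR x.2⟩
  have hscE : E.StronglyClosed E.center := ⟨isCentral_center.1, fun R hR φ hφ x => by
      rw [← toFun'_apply φ x, apply_of_mem_center (hR x.2) (isMap_of_mem hφ) x.2]
      exact hR x.2⟩
  obtain ⟨C₁, hC₁⟩ : ∃ C₁ : FusionSystem (⊤ : Subgroup (T ⧸ (C.center).subgroupOf T)),
      C.IsFactorSystem C.center π C₁ :=
    hπr ▸ ⟨_, isFactorSystem_factorSystem (kerClosed_of_stronglyClosed hscC hkerπ)
      isCentral_center.1 hkerπ⟩
  have hC₁s := hsimp C₁ hC₁
  have hq₁ := isQuot_of_isFactorSystem hscC hC₁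
  have hq₂ := isQuot_of_isFactorSystem hscE hE₁
  set π' := QuotientGroup.mk' ((E.center).subgroupOf γ.range) with hπ'
  let χ := π'.comp γ.rangeRestrict
  have hχ : ∀ x : T, χ x = 1 ↔ (x : Ω) ∈ C.center := fun x => by
    refine ((QuotientGroup.eq_one_iff _).trans Subgroup.mem_subgroupOf).trans ?_
    rw [show ((γ.rangeRestrict x : γ.range) : Ω') = qmap γ x from (qmap_apply x.2).symm]
    exact hZ x x.2
  have hqχ : IsQuot C χ E₁ := hq.comp_injective hγ hq₂ fun x hx => by
    rw [qmap_apply hx, qmap_apply hx, qmap_apply (show γ ⟨x, hx⟩ ∈ γ.range from ⟨_, rfl⟩)]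
    rfl
  let ψ₀ : T ⧸ (C.center).subgroupOf T →* γ.range ⧸ (E.center).subgroupOf γ.range :=
    QuotientGroup.lift _ χ fun x hx => (hχ x).mpr (Subgroup.mem_subgroupOf.mp hx)
  let ψ := ψ₀.comp (⊤ : Subgroup (T ⧸ (C.center).subgroupOf T)).subtype
  have hψ₀ : Function.Injective ψ₀ := by
    rw [injective_iff_map_eq_one]
    intro a ha
    induction a using QuotientGroup.induction_on with
    | H x => exact (hkerπ x).mpr ((hχ x).mp ha)
  have hψ : Function.Injective ψ := hψ₀.comp (Subgroup.subtype_injective _)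
  have hqψ : IsQuot C₁ ψ E₁ := hq₁.descend hqχ hψ fun x hx => by
    rw [qmap_apply (θ := π) hx, qmap_apply (θ := χ) hx, qmap_apply (θ := ψ) (Subgroup.mem_top _)]
    rfl
  have : Finite (⊤ : Subgroup (T ⧸ (C.center).subgroupOf T)) := inferInstance
  obtain ⟨μ, hμ, -, hqμ⟩ := hqψ.exists_inverse hψ
  refine ⟨hqψ.saturated ((hT.to_quotient _).to_subgroup ⊤) hC₁s.1, ?_, fun N EN hN =>
    normal_trivial_of_simple hμ hqμ ((hrp.to_quotient _).to_subgroup ⊤) hC₁s hN⟩
  intro htriv
  refine hC₁s.2.1 ((Subgroup.eq_bot_iff_forall _).mpr fun a ha => hψ₀ ?_)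
  rw [map_one]
  exact Subgroup.mem_bot.mp (htriv ▸ Subgroup.mem_top (ψ₀ a))

end Transport

end Cfsg.Lib.Fusion
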