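import Cfsg.Agent.Fusion.NormalCriteria
import Cfsg.Agent.Fusion.Criterion.Site
import Cfsg.Agent.Fusion.Rigidity

/-!
Constrained systems: saturated subsystems on strongly closed subgroups are constrained.
-/

set_option autoImplicit false
set_option linter.unusedSectionVars false
set_option linter.style.haveILetI false

namespace Cfsg.Lib.Fusion.ConsClosed

open Cfsg Cfsg.FusionSystem Cfsg.Lib.Fusion

universe u

variable {Ω : Type u} [Group Ω] {S T : Subgroup Ω} {F : FusionSystem S} {E : FusionSystem T}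
  {p : ℕ} [Finite S] [Fact p.Prime]

theorem centric_core (hF : F.IsConstrained p) : F.IsCentric F.core := by
  obtain ⟨-, Q, hQn, hQc⟩ := hF
  exact centric_of_le hQc (le_sSup hQn) isNormal_core.1

/-- The automorphisms stabilizing a subgroup that act on it within `O_p` form a `p`-group. -/
theorem isPGroup_preimage (hS : IsPGroup p S) {R Q : Subgroup Ω} [Finite R] (hQR : Q ≤ R)
    (hR : R ≤ S) (hQ : F.IsCentric Q) (hn : R ≤ Subgroup.normalizer (Q : Set Ω))
    {β : stabAut F R Q Q hQR hQR} (h : Criterion.resHom F hQR β ∈ Criterion.opAut F p Q) :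
    ∃ k : ℕ, (β : MulAut R) ^ p ^ k = 1 := by
  haveI := finite_of_le hQ.1
  obtain ⟨i, hi⟩ := Criterion.isPGroup_opAut hQ.1 ⟨_, h⟩
  have hi' : Criterion.resHom F hQR (β ^ p ^ i) = 1 := by
    rw [map_pow]; simpa using congrArg Subtype.val hi
  set γ := β ^ p ^ i
  have hfix : ∀ x ∈ Q, autFun (γ : MulAut R) x = x := fun x hx => by
    rw [← Criterion.autFun_resHom γ hx, hi', autFun_one hx]
  have hm := (isMap_autFun hR).mpr γ.2.1
  have hγ : (γ : MulAut R) ∈ Small.chainAut F R Q hQR := ⟨γ.2.1, hfix, fun r hr =>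
    hQ.2 Q (isConj_refl hQ.1) (mem_centralizerIn.mpr
      ⟨S.mul_mem (hm.mem_S hr) (S.inv_mem (hR hr)), fun z hz => by
        have hz' : r⁻¹ * z * r ∈ Q := by
          simpa using conj_mem_of_mem_normalizer (Subgroup.inv_mem _ (hn hr)) hz
        have h1 := hm.map_conj hr (hQR hz')
        rw [show r * (r⁻¹ * z * r) * r⁻¹ = z by group, hfix z hz, hfix _ hz'] at h1
        calc autFun (γ : MulAut R) r * r⁻¹ * z * (autFun (γ : MulAut R) r * r⁻¹)⁻¹
            = autFun (γ : MulAut R) r * (r⁻¹ * z * r) * (autFun (γ : MulAut R) r)⁻¹ := by group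
          _ = z := h1.symm⟩)⟩
  obtain ⟨j, hj⟩ := Small.isPGroup_chainAut hS hQR hR ⟨_, hγ⟩
  refine ⟨i + j, ?_⟩
  have h2 : (γ : MulAut R) ^ p ^ j = 1 := by simpa using congrArg Subtype.val hj
  rw [pow_add, pow_mul]
  simpa [γ] using h2

/-- In a constrained system the elements acting on the core within `O_p` lie in the core. -/
theorem radN_core_le (hS : IsPGroup p S) (hF : F.IsConstrained p) :
    Criterion.radN F p F.core ≤ F.core := by
  obtain ⟨hsat, -⟩ := id hF
  set Q := F.core
  have hQn : F.IsNormal Q := isNormal_core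
  have hQc : F.IsCentric Q := centric_core hF
  have hnQ : S ≤ Subgroup.normalizer (Q : Set Ω) :=
    normalizes_of_stronglyClosed (stronglyClosed_of_isNormal hQn)
  have hLS : Criterion.radN F p Q ≤ S := (Criterion.radN_le Q).trans inf_le_left
  refine le_sSup (isNormal_of_le_radical hS hsat (stronglyClosed_of_apply hLS fun P f hf x hx hxL => ?_)
    fun R hRn hRc hRr => ?_)
  · obtain ⟨k, hk, hkf, hki⟩ := extend_of_isNormal hQn hf
    rw [← hkf x hx]
    exact Criterion.map_mem_radN hk le_sup_right hki (Subgroup.mem_sup_left hx) hxL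
  have hQR : Q ≤ R := le_radical_of_isNormal hS hQn hRc hRr
  haveI := finite_of_le hRc.1
  haveI := finite_of_le hQc.1
  have hstab : ∀ α ∈ F.autGroup R, α ∈ stabAut F R Q Q hQR hQR := fun α hα => by
    have hm := (isMap_autFun hRc.1).mpr hα
    have hsc : ∀ x ∈ Q, autFun α x ∈ Q := fun x hx =>
      stronglyClosed_apply (stronglyClosed_of_isNormal hQn) hm (hQR hx) hx
    exact ⟨hα, hsc, hsc⟩
  set K := ((Criterion.opAut F p Q).comap (Criterion.resHom F hQR)).map
    (stabAut F R Q Q hQR hQR).subtype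
  refine le_of_radical hS hLS (fun s hs => mem_normalizer_radN_core hQc hnQ hs) hRc hRr K
    ?_ ?_ ?_ fun g hg hgn => ?_
  · rintro α hα _ ⟨b, hb, rfl⟩
    refine ⟨⟨α, hstab α hα⟩ * b * ⟨α, hstab α hα⟩⁻¹, ?_, rfl⟩
    show Criterion.resHom F hQR _ ∈ Criterion.opAut F p Q
    rw [map_mul, map_mul, map_inv]
    exact Criterion.opAut_normal hQc.1 (Criterion.resHom_mem hRc.1 _) hb
  · rintro _ ⟨b, -, rfl⟩
    exact b.2.1
  · rintro ⟨_, ⟨b, hb, rfl⟩⟩
    obtain ⟨k, hk⟩ := isPGroup_preimage hS hQR hRc.1 hQc (hRc.1.trans hnQ) hb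
    exact ⟨k, Subtype.ext hk⟩
  · have hgS := hLS hg
    have hα := hstab _ (autInducedBy_le hRc.1 (conjAut_mem_autInducedBy hgn hgS))
    refine ⟨⟨_, hα⟩, ?_, rfl⟩
    obtain ⟨hg', hop⟩ := Criterion.mem_radN.mp hg
    show Criterion.resHom F hQR _ ∈ Criterion.opAut F p Q
    rw [show Criterion.resHom F hQR ⟨_, hα⟩ = normalizerInHom S Q ⟨g, hg'⟩ from
      MulEquiv.ext fun x => Subtype.ext (by
        rw [← autFun_apply, Criterion.autFun_resHom _ x.2, autFun_apply_mem _ (hQR x.2),
          conjAut_apply, normalizerInHom_apply])]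
    exact hop
where
  mem_normalizer_radN_core {Q : Subgroup Ω} (hQc : F.IsCentric Q)
      (hnQ : S ≤ Subgroup.normalizer (Q : Set Ω)) {s : Ω} (hs : s ∈ S) :
      s ∈ Subgroup.normalizer ((Criterion.radN F p Q : Subgroup Ω) : Set Ω) :=
    Criterion.normalizer_radN hQc.1 ⟨hs, hnQ hs⟩

/-- Saturated subsystems on strongly closed subgroups of constrained systems are constrained. -/
theorem isConstrained_of_stronglyClosed (hS : IsPGroup p S) (hF : F.IsConstrained p)
    (hEs : E.IsSaturated p) (hs : E.IsSubsystemOf F) (hT : F.StronglyClosed T) :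
    E.IsConstrained p := by
  set Q := F.core
  have hQn : F.IsNormal Q := isNormal_core
  have hQsc := stronglyClosed_of_isNormal hQn
  have hQc : F.IsCentric Q := centric_core hF
  haveI := finite_of_le hT.1
  haveI := finite_of_le hQc.1
  have hTp : IsPGroup p T := hS.of_injective _ (Subgroup.inclusion_injective hT.1)
  have hle : ∀ {P : Subgroup Ω} {f : Ω → Ω}, IsMap E P f → IsMap F P f := fun ⟨φ, hφ, e⟩ =>
    ⟨φ, hs _ hφ, e⟩
  set Z := Q ⊓ T
  have hZT : Z ≤ T := inf_le_right
  have hEZ : E.StronglyClosed Z := stronglyClosed_of_apply hZT fun P f hf x hx hxZ =>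
    ⟨stronglyClosed_apply hQsc (hle hf) hx hxZ.1, stronglyClosed_apply hT (hle hf) hx hxZ.2⟩
  have hnT := normalizes_of_stronglyClosed hEZ
  refine ⟨hEs, Z, isNormal_of_le_radical hTp hEs hEZ fun R hRn hRc hRr => ?_, hZT, fun U hU => ?_⟩
  · haveI := finite_of_le hRc.1
    refine le_of_radical hTp hZT hnT hRc hRr (autInducedBy Z R) ?_
      ((autInducedBy_mono hZT).trans (autInducedBy_le hRc.1))
      ((isPGroup_autInducedBy hTp R).of_injective _
        (Subgroup.inclusion_injective (autInducedBy_mono hZT)))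
      fun g hg hgn => conjAut_mem_autInducedBy hgn hg
    intro α hα β hβ
    obtain ⟨g, hg, eg⟩ := mem_autInducedBy.mp hβ
    have hgn : g ∈ Subgroup.normalizer (R : Set Ω) := mem_normalizer_of_mem_autInducedBy eg
    have hαF := hle ((isMap_autFun hRc.1).mpr hα)
    obtain ⟨k, hk, hkf, hki⟩ := extend_of_isNormal hQn hαF
    refine mem_autInducedBy.mpr ⟨k g, ⟨IsMap.img_le_iff.mp hki.le g hg.1,
      stronglyClosed_apply hT hk (Subgroup.mem_sup_right hg.1) hg.2⟩, fun x => ?_⟩
    rw [← autFun_apply (α * β * α⁻¹) x, autFun_mul _ _ x.2, autFun_mul _ _ (autFun_mem _ x.2),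
      autFun_apply_mem β (autFun_mem _ x.2), eg]
    have hy : autFun α⁻¹ (x : Ω) ∈ R := autFun_mem _ x.2
    have hgy : g * autFun α⁻¹ (x : Ω) * g⁻¹ ∈ R := conj_mem_of_mem_normalizer hgn hy
    rw [← hkf _ hgy, hk.map_conj (Subgroup.mem_sup_right hg.1) (Subgroup.mem_sup_left hy), hkf _ hy,
      autFun_inv_apply α x.2]
  · obtain ⟨f, hf, rfl⟩ := isConj_iff.mp hU
    rw [img_eq_of_apply hf le_rfl fun x hx => stronglyClosed_apply hEZ hf hx hx]
    intro x hx
    obtain ⟨hxT, hxc⟩ := mem_centralizerIn.mp hx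
    refine ⟨radN_core_le hS hF ?_, hxT⟩
    have hxS := hT.1 hxT
    have hxn : x ∈ Subgroup.normalizer (Q : Set Ω) := normalizes_of_stronglyClosed hQsc hxS
    refine Criterion.mem_radN.mpr ⟨⟨hxS, hxn⟩, Criterion.le_opAut
      (K := Small.chainAut F Q Z inf_le_left) (fun _ h => h.1)
      (Small.isPGroup_chainAut hS inf_le_left hQc.1) (fun α hα β hβ => ?_) ?_⟩
    · have hst : ∀ z ∈ Z, autFun α z ∈ Z := fun z hz => ⟨autFun_mem _ hz.1,
        stronglyClosed_apply hT ((isMap_autFun hQc.1).mpr hα) hz.1 hz.2⟩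
      exact Small.conj_chainAut inf_le_left hQc.1 ⟨hα, hst, hst⟩ hβ
    · refine ⟨autInducedBy_le hQc.1 (range_normalizerInHom (S := S) Q ▸ ⟨_, rfl⟩), fun z hz => ?_,
        fun r hr => ?_⟩
      · rw [autFun_apply_mem _ hz.1, normalizerInHom_apply]
        exact hxc z hz
      · rw [autFun_apply_mem _ hr, normalizerInHom_apply]
        refine ⟨Q.mul_mem (conj_mem_of_mem_normalizer hxn hr) (Q.inv_mem hr), ?_⟩
        show x * r * x⁻¹ * r⁻¹ ∈ T
        rw [show x * r * x⁻¹ * r⁻¹ = x * (r * x⁻¹ * r⁻¹) by group]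
        exact T.mul_mem hxT (conj_mem_of_mem_normalizer
          (normalizes_of_stronglyClosed hT (hQc.1 hr)) (T.inv_mem hxT))

/-- Subnormal subsystems of constrained systems are constrained. -/
theorem isConstrained_of_subnormal (hS : IsPGroup p S) (hF : F.IsConstrained p)
    (h : E.IsSubnormalIn F p) : E.IsConstrained p := by
  suffices ∀ {T : Subgroup Ω} (E : FusionSystem T) {S : Subgroup Ω} (F : FusionSystem S) (q : ℕ),
      E.IsSubnormalIn F q → Fact q.Prime → Finite S → IsPGroup q S → F.IsConstrained q →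
        E.IsConstrained q from
    this E F p h inferInstance inferInstance hS hF
  intro T E S F q h
  induction h with
  | refl => exact fun _ _ _ hc => hc
  | step _ hn ih =>
    intro hq hfin hp hc
    obtain ⟨⟨hs, -, hinv⟩, -⟩ := hn
    haveI := hq
    haveI := hfin
    exact ih hq (finite_of_le hinv.2.1.1) (hp.of_injective _ (Subgroup.inclusion_injective hinv.2.1.1))
      (isConstrained_of_stronglyClosed hp hc hs hinv.1 hinv.2.1)

end Cfsg.Lib.Fusion.ConsClosed
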