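import Cfsg.Agent.Fusion.Tate
import Cfsg.Agent.Fusion.FactorHyperfocal
import Cfsg.Agent.Fusion.NormalCriteria
import Cfsg.Agent.Fusion.Sites
import Cfsg.Agent.Fusion.CharAut
import Cfsg.Agent.S5083

/-!
Weakly embedded subgroups of a given order: a nilpotency criterion for saturated fusion systems.
-/

set_option autoImplicit false
set_option linter.style.haveILetI false

namespace Cfsg.Lib.Fusion.WeakEmb

open Cfsg Cfsg.FusionSystem
open scoped commutatorElement

universe u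

variable {Ω : Type u} [Group Ω] {S : Subgroup Ω} {F : FusionSystem S} {p : ℕ}

theorem closed_inf {A B : Subgroup Ω} (hA : F.StronglyClosed A) (hB : F.StronglyClosed B) :
    F.StronglyClosed (A ⊓ B) :=
  stronglyClosed_of_apply (inf_le_left.trans hA.1) fun _ _ hf _ hx hxR =>
    ⟨stronglyClosed_apply hA hf hx hxR.1, stronglyClosed_apply hB hf hx hxR.2⟩

theorem closed_bot : F.StronglyClosed (⊥ : Subgroup Ω) :=
  stronglyClosed_of_apply bot_le fun _ _ hf x _ hxR => by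
    rw [Subgroup.mem_bot] at hxR ⊢
    rw [hxR, hf.map_one]

theorem closed_top : F.StronglyClosed S :=
  stronglyClosed_of_apply le_rfl fun _ _ hf _ hx _ => hf.mem_S hx

theorem closed_sup [Finite S] [Fact p.Prime] (hS : IsPGroup p S) (hF : F.IsSaturated p)
    {A B : Subgroup Ω} (hA : F.StronglyClosed A) (hB : F.StronglyClosed B) :
    F.StronglyClosed (A ⊔ B) :=
  stronglyClosed_sup hS hF hA hB.1 fun _ _ hg _ _ hu huB =>
    Subgroup.mem_sup_right (stronglyClosed_apply hB hg hu huB)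

theorem mem_sup_closed [Finite S] {Q P : Subgroup Ω} (hQ : Q ≤ S) (hP : F.StronglyClosed P)
    {z : Ω} (hz : z ∈ Q ⊔ P) : ∃ q ∈ Q, ∃ y ∈ P, q * y = z := by
  rw [← SetLike.mem_coe, Subgroup.coe_mul_of_left_le_normalizer_right _ _
    (hQ.trans (normalizes_of_stronglyClosed hP))] at hz
  exact hz

/-- Disjoint product counting. -/
theorem card_le_of_inf_bot [Finite S] {X Y : Subgroup Ω} (hd : X ⊓ Y = ⊥)
    {Q : Subgroup Ω} (hQ : Q ≤ S) (hYc : F.StronglyClosed Y) (h : X ≤ Q ⊔ Y) :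
    Nat.card X ≤ Nat.card Q := by
  haveI := finite_of_le hQ
  choose q hq y hy he using fun x : X => mem_sup_closed hQ hYc (h x.2)
  refine Nat.card_le_card_of_injective (fun x : X => (⟨q x, hq x⟩ : Q)) fun a b hab => ?_
  have hqe : q a = q b := congrArg Subtype.val hab
  have hm : (a : Ω)⁻¹ * b ∈ X ⊓ Y := by
    refine ⟨X.mul_mem (X.inv_mem a.2) b.2, ?_⟩
    rw [← he a, ← he b, hqe, mul_inv_rev, mul_assoc, inv_mul_cancel_left]
    exact Y.mul_mem (Y.inv_mem (hy a)) (hy b)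
  rw [hd, Subgroup.mem_bot, inv_mul_eq_one] at hm
  exact Subtype.ext hm

/-- The hypothesis on the subgroups of order `c`. -/
def Weakly (F : FusionSystem S) (c : ℕ) : Prop :=
  ∀ Q : Subgroup Ω, Q ≤ S → Nat.card Q = c →
    ∃ P : Subgroup Ω, F.StronglyClosed P ∧ F.StronglyClosed (Q ⊔ P) ∧ F.StronglyClosed (Q ⊓ P)

/-- Maps defined above strongly closed subgroups of order `c` are inner. -/
def InnerAbove (F : FusionSystem S) (c : ℕ) : Prop :=
  ∀ H : Subgroup Ω, F.StronglyClosed H → Nat.card H = c → ∀ (P : Subgroup Ω) (f : Ω → Ω),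
    IsMap F P f → H ≤ P → ∃ s ∈ S, ∀ x ∈ P, f x = s * x * s⁻¹

/-- A subgroup of order `p ^ d` between two given subgroups. -/
theorem exists_between [Fact p.Prime] (hS : IsPGroup p S) [Finite S] {V W : Subgroup Ω} (hVW : V ≤ W)
    (hWS : W ≤ S) {d : ℕ} (hV : Nat.card V ≤ p ^ d) (hW : p ^ d ≤ Nat.card W) :
    ∃ Q : Subgroup Ω, V ≤ Q ∧ Q ≤ W ∧ Nat.card Q = p ^ d := by
  haveI := finite_of_le hWS
  haveI := finite_of_le (hVW.trans hWS)
  obtain ⟨m, hm⟩ := IsPGroup.iff_card.mp (hS.to_le hWS)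
  obtain ⟨k, hk⟩ := IsPGroup.iff_card.mp (hS.to_le (hVW.trans hWS))
  have hp : 1 < p := (Fact.out : p.Prime).one_lt
  obtain ⟨K, hK, hle⟩ := Sylow.exists_subgroup_card_pow_prime_le (G := W) p
    (hm ▸ pow_dvd_pow p ((Nat.pow_le_pow_iff_right hp).mp (hm ▸ hW))) (V.subgroupOf W)
    ((Nat.card_congr (Subgroup.subgroupOfEquivOfLe hVW).toEquiv).trans hk)
    ((Nat.pow_le_pow_iff_right hp).mp (hk ▸ hV))
  refine ⟨K.map W.subtype, fun x hx => ⟨⟨x, hVW hx⟩, hle hx, rfl⟩, Subgroup.map_subtype_le _, ?_⟩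
  rw [← hK, Nat.card_congr (K.equivMapOfInjective W.subtype W.subtype_injective).toEquiv]

/-- Strongly closed subgroups of order `p ^ d` exist below every larger strongly closed one. -/
theorem exists_closed [Finite S] [Fact p.Prime] (hS : IsPGroup p S) (hF : F.IsSaturated p) {d : ℕ}
    (hw : Weakly F (p ^ d)) (n : ℕ) : ∀ W : Subgroup Ω, F.StronglyClosed W → Nat.card W = n →
      p ^ d ≤ n → ∃ H ≤ W, F.StronglyClosed H ∧ Nat.card H = p ^ d := by
  induction n using Nat.strong_induction_on with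
  | _ n ih =>
  intro W hW hn hle
  rcases eq_or_lt_of_le hle with h | h
  · exact ⟨W, le_rfl, hW, hn.trans h.symm⟩
  haveI := finite_of_le hW.1
  have hfin : {V : Subgroup Ω | F.StronglyClosed V ∧ V < W}.Finite :=
    (finite_subgroups_le (S := S)).subset fun V hV => hV.1.1
  have hne : {V : Subgroup Ω | F.StronglyClosed V ∧ V < W}.Nonempty := by
    refine ⟨⊥, closed_bot, bot_lt_iff_ne_bot.mpr fun e => ?_⟩
    rw [e, Subgroup.card_bot] at hn
    have := Nat.one_le_pow d p (Fact.out : p.Prime).pos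
    omega
  obtain ⟨V, ⟨hV, hVW⟩, hmax⟩ := hfin.exists_maximalFor (fun V : Subgroup Ω => Nat.card V) _ hne
  haveI := finite_of_le hV.1
  have hVc : Nat.card V < Nat.card W := lt_of_le_of_ne (Subgroup.card_le_of_le hVW.le) fun e =>
    hVW.ne (Subgroup.eq_of_le_of_card_ge hVW.le e.ge)
  rcases le_or_gt (p ^ d) (Nat.card V) with hge | hlt
  · obtain ⟨H, hH, h1⟩ := ih _ (hn ▸ hVc) V hV rfl hge
    exact ⟨H, hH.trans hVW.le, h1⟩
  obtain ⟨Q, hVQ, hQW, hQc⟩ := exists_between hS hVW.le hW.1 hlt.le (hn ▸ hle)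
  haveI := finite_of_le (hQW.trans hW.1)
  obtain ⟨P, hP, hQP, hQiP⟩ := hw Q (hQW.trans hW.1) hQc
  have hbetween : ∀ X : Subgroup Ω, F.StronglyClosed X → V ≤ X → X ≤ W → X = V ∨ X = W := by
    intro X hX hVX hXW
    by_contra hcon
    rw [not_or] at hcon
    haveI := finite_of_le hX.1
    have h1 := hmax (j := X) ⟨hX, lt_of_le_of_ne hXW hcon.2⟩ (Subgroup.card_le_of_le hVX)
    exact hcon.1 (Subgroup.eq_of_le_of_card_ge hVX h1).symm
  have hQW' : Q ≠ W := fun e => by rw [e, hn] at hQc; omega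
  have hA : Q ⊓ P ≤ V := by
    rcases hbetween (V ⊔ Q ⊓ P) (closed_sup hS hF hV hQiP) le_sup_left
      (sup_le hVW.le (inf_le_left.trans hQW)) with e | e
    · exact le_sup_right.trans e.le
    · exact absurd (le_antisymm hQW (e ▸ sup_le hVQ inf_le_left)) hQW'
  rcases hbetween (V ⊔ P ⊓ W) (closed_sup hS hF hV (closed_inf hP hW)) le_sup_left
      (sup_le hVW.le inf_le_right) with e | e
  · have hPW : P ⊓ W ≤ V := le_sup_right.trans e.le
    have hQeq : (Q ⊔ P) ⊓ W = Q := by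
      refine le_antisymm ?_ (le_inf le_sup_left hQW)
      rintro z ⟨hz, hzW⟩
      obtain ⟨q, hq, y, hy, rfl⟩ := mem_sup_closed (hQW.trans hW.1) hP hz
      refine Q.mul_mem hq (hVQ (hPW ⟨hy, ?_⟩))
      simpa using W.mul_mem (W.inv_mem (hQW hq)) hzW
    have hQ : F.StronglyClosed Q := hQeq ▸ closed_inf hQP hW
    rcases hbetween Q hQ hVQ hQW with e' | e'
    · rw [e'] at hQc; omega
    · exact absurd e' hQW'
  · have hQV : Q ≤ V := fun q hq => by
      have hq' : q ∈ (P ⊓ W) ⊔ V := by rw [sup_comm, e]; exact hQW hq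
      obtain ⟨y, hy, v, hv, rfl⟩ := mem_sup_closed (inf_le_right.trans hW.1) hV hq'
      refine V.mul_mem (hA ⟨?_, hy.1⟩) hv
      simpa using Q.mul_mem hq (Q.inv_mem (hVQ hv))
    have := Subgroup.card_le_of_le hQV
    omega

/-- A strongly closed abelian subgroup of order `c` makes the system inner. -/
theorem inner_of_abelian [Finite S] [Fact p.Prime] (hS : IsPGroup p S) (hF : F.IsSaturated p)
    {c : ℕ} (ha : InnerAbove F c) {H : Subgroup Ω} (hH : F.StronglyClosed H) (hc : Nat.card H = c)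
    (hab : ∀ x ∈ H, ∀ y ∈ H, x * y = y * x) : IsInner F := by
  have hn : F.IsNormal H := isNormal_of_chain hS hF hH 1 (fun i => if i = 0 then ⊥ else H) rfl
    (by simp) (fun i hi => by obtain rfl : i = 0 := (by omega); simpa using hH)
    (fun i hi => by
      obtain rfl : i = 0 := (by omega)
      simp only [zero_add, one_ne_zero, ↓reduceIte]
      exact Subgroup.commutator_le.mpr fun a ha b hb => by
        rw [Subgroup.mem_bot, commutatorElement_eq_one_iff_mul_comm]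
        exact hab a ha b hb)
  intro P f hf
  obtain ⟨k, hk, hkf, -⟩ := extend_of_isNormal hn hf
  obtain ⟨s, hs, e⟩ := ha H hH hc _ k hk le_sup_right
  exact ⟨s, hs, fun x hx => (hkf x hx).symm.trans (e x (Subgroup.mem_sup_left hx))⟩

/-- Maps are conjugations modulo `U`. -/
def InnerMod (F : FusionSystem S) (U : Subgroup Ω) : Prop :=
  ∀ (P : Subgroup Ω) (f : Ω → Ω), IsMap F P f → ∃ s ∈ S, ∀ x ∈ P, (s * x * s⁻¹)⁻¹ * f x ∈ U

theorem hyperfocal_le_of_innerMod [Finite S] [Fact p.Prime] (hS : IsPGroup p S) {U : Subgroup Ω}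
    (hU : S ≤ Subgroup.normalizer (U : Set Ω)) (hm : InnerMod F U) :
    F.hyperfocalSubgroup p ≤ U := by
  refine hyperfocal_le_of_coprime fun P hP β hβ hcop x hx => ?_
  obtain ⟨s, hs, es⟩ := hm P (autFun β) ((isMap_autFun hP).mpr hβ)
  have hpow : ∃ i : ℕ, s ^ p ^ i = 1 := let ⟨i, hi⟩ := hS ⟨s, hs⟩; ⟨i, congrArg Subtype.val hi⟩
  obtain ⟨k', hk1, hk2⟩ := coprime_conj_trick hcop hpow
  have hiter : ∀ i : ℕ, ∀ x ∈ P, (s ^ i * x * (s ^ i)⁻¹)⁻¹ * autFun (β ^ i) x ∈ U := by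
    intro i
    induction i with
    | zero => intro x hx; rw [pow_zero, pow_zero, autFun_apply_mem _ hx]; simp
    | succ i ih =>
      intro x hx
      have h2 := ih _ (autFun_mem β hx)
      rw [← autFun_mul _ _ hx, ← pow_succ] at h2
      have h3 := conj_mem_of_mem_normalizer (hU (S.pow_mem hs i)) (es x hx)
      have h4 := U.mul_mem h3 h2
      convert h4 using 1
      rw [pow_succ]
      group
  have h5 := hiter k' x hx
  rw [hk1, hk2] at h5
  simpa using h5

theorem inner_of_hyperfocal_bot [Finite S] [Fact p.Prime] (hS : IsPGroup p S) (hF : F.IsSaturated p)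
    (h : F.hyperfocalSubgroup p ≤ ⊥) : IsInner F := by
  refine isInner_iff.mpr fun P => ?_
  rw [← Cfsg.Agent.S5083.result p hS F hF]
  intro Q hQ
  haveI := finite_of_le hQ
  intro β
  obtain ⟨bp, bq, hbp, hbq, he, ⟨i, hi⟩, hcop⟩ := Cfsg.Lib.Transfer.exists_pPart p (β : MulAut Q)
  have hbq' : bq ∈ F.autGroup Q := (Subgroup.zpowers_le.mpr β.2) hbq
  have hb1 : bq = 1 := by
    refine eq_one_of_autFun fun x hx => ?_
    have h1 := h (mem_hyperfocalSubgroup hQ (α := ⟨bq, hbq'⟩)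
      (Cfsg.Lib.Transfer.mem_pResidual_of_coprime (by rwa [← Subgroup.orderOf_coe])) hx)
    rw [Subgroup.mem_bot, inv_mul_eq_one] at h1
    exact h1.symm
  refine ⟨i, Subtype.ext ?_⟩
  rw [Subgroup.coe_pow, ← he, hb1, mul_one, Subgroup.coe_one, ← hi]
  exact pow_orderOf_eq_one bp

/-- The factor system inherits the hypotheses. -/
theorem innerMod_of_factor [Finite S] [Fact p.Prime] (hS : IsPGroup p S) (hF : F.IsSaturated p)
    {d : ℕ} (hw : Weakly F (p ^ d)) (ha : InnerAbove F (p ^ d)) {U : Subgroup Ω}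
    (hU : F.StronglyClosed U) {k : ℕ} (hk : Nat.card U = p ^ k) (hkd : k ≤ d)
    (ih : ∀ {Ω' : Type u} [Group Ω'] (S' : Subgroup Ω') [Finite S'],
      Nat.card S' * Nat.card U = Nat.card S → IsPGroup p S' → ∀ E : FusionSystem S', E.IsSaturated p →
        Weakly E (p ^ (d - k)) → InnerAbove E (p ^ (d - k)) → IsInner E) : InnerMod F U := by
  have hUS := hU.1
  haveI hUn : (U.subgroupOf S).Normal :=
    Subgroup.normal_subgroupOf_of_le_normalizer (normalizes_of_stronglyClosed hU)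
  set θ := QuotientGroup.mk' (U.subgroupOf S) with hθ
  have hker : ∀ s : S, θ s = 1 ↔ (s : Ω) ∈ U := fun s => by
    rw [hθ, QuotientGroup.mk'_apply, QuotientGroup.eq_one_iff, Subgroup.mem_subgroupOf]
  have hclosed := kerClosed_of_stronglyClosed hU hker
  have hquot := isQuot_factorSystem (θ := θ) hclosed
  set E := factorSystem F θ hclosed
  haveI : Finite θ.range := Finite.of_surjective θ.rangeRestrict θ.rangeRestrict_surjective
  have htop : θ.range = ⊤ := MonoidHom.range_eq_top.mpr (QuotientGroup.mk'_surjective _)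
  have hcard : Nat.card θ.range * Nat.card U = Nat.card S := by
    rw [htop, Subgroup.card_top, Subgroup.card_eq_card_quotient_mul_card_subgroup (U.subgroupOf S),
      Nat.card_congr (Subgroup.subgroupOfEquivOfLe hUS).toEquiv]
  have hUle : ∀ P' : Subgroup (S ⧸ U.subgroupOf S), U ≤ preimageAlong θ P' := fun P' u hu =>
    mem_preimageAlong.mpr ⟨hUS hu, by
      rw [qmap_apply (hUS hu), (hker ⟨u, hUS hu⟩).mpr hu]; exact P'.one_mem⟩
  have himg : ∀ X : Subgroup Ω, ∀ y ∈ imageAlong θ X, ∃ x ∈ X, x ∈ S ∧ qmap θ x = y := by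
    rintro X _ ⟨s, hs, rfl⟩
    exact ⟨s, hs, s.2, qmap_apply s.2⟩
  have hmemimg : ∀ X : Subgroup Ω, ∀ x ∈ X, x ∈ S → qmap θ x ∈ imageAlong θ X :=
    fun X x hx hxS => ⟨⟨x, hxS⟩, hx, (qmap_apply hxS).symm⟩
  have hclimg : ∀ X : Subgroup Ω, F.StronglyClosed X → E.StronglyClosed (imageAlong θ X) := by
    intro X hX
    refine stronglyClosed_of_apply (Subgroup.map_le_range _ _) fun P' f' hf' y hy hyX => ?_
    obtain ⟨x, hxX, hxS, rfl⟩ := himg X y hyX
    obtain ⟨g, hg, hge⟩ := hquot.exists_lift hf'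
    have hx : x ∈ preimageAlong θ P' := mem_preimageAlong.mpr ⟨hxS, hy⟩
    rw [hge x hx]
    exact hmemimg X _ (stronglyClosed_apply hX hg hx hxX) (hg.mem_S hx)
  have hcardpre : ∀ Q' : Subgroup (S ⧸ U.subgroupOf S),
      Nat.card (preimageAlong θ Q') = Nat.card Q' * Nat.card U := by
    intro Q'
    unfold FusionSystem.preimageAlong
    rw [← Nat.card_congr ((Q'.comap θ).equivMapOfInjective S.subtype S.subtype_injective).toEquiv,
      ← Nat.card_congr (Subgroup.subgroupOfEquivOfLe hUS).toEquiv]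
    let π : Q'.comap θ →* Q' := θ.subgroupComap Q'
    have hπ : Function.Surjective π := fun y => by
      obtain ⟨x, hx⟩ := QuotientGroup.mk'_surjective (U.subgroupOf S) (y : S ⧸ U.subgroupOf S)
      exact ⟨⟨x, show θ x ∈ Q' from hx ▸ y.2⟩, Subtype.ext hx⟩
    rw [Subgroup.card_eq_card_quotient_mul_card_subgroup π.ker,
      Nat.card_congr (QuotientGroup.quotientKerEquivOfSurjective π hπ).toEquiv]
    congr 1
    refine Nat.card_congr ⟨fun x => ⟨x.1.1, (hker _).mp (congrArg Subtype.val x.2)⟩,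
      fun x => ⟨⟨x.1, show θ x.1 ∈ Q' from ((hker x.1).mpr x.2).symm ▸ Q'.one_mem⟩,
        Subtype.ext ((hker x.1).mpr x.2)⟩, fun _ => rfl, fun _ => rfl⟩
  have hdk : p ^ (d - k) * p ^ k = p ^ d := by rw [← pow_add, Nat.sub_add_cancel hkd]
  have hlift : ∀ (P : Subgroup Ω) (f : Ω → Ω), IsMap F P f →
      ∃ (P' : Subgroup (S ⧸ U.subgroupOf S)) (f' : S ⧸ U.subgroupOf S → S ⧸ U.subgroupOf S),
        IsMap E P' f' ∧ ∀ x ∈ P, qmap θ x ∈ P' ∧ f' (qmap θ x) = qmap θ (f x) := by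
    intro P f hf
    obtain ⟨g, hg, hgx⟩ := liftsMod hS hF hU hf
    set P' := imageAlong θ P
    have hpre : preimageAlong θ P' = P ⊔ U := preimage_imageAlong hUS hf.le hker
    have hg' : IsMap F (preimageAlong θ P') g := hpre ▸ hg
    refine ⟨P', pushMap θ g, hquot.isMap_pushMap (Subgroup.map_le_range _ _) hg', fun x hx => ?_⟩
    have hxS := hf.le hx
    refine ⟨hmemimg P x hx hxS, ?_⟩
    have hx' : x ∈ P ⊔ U := Subgroup.mem_sup_left hx
    rw [hquot.pushMap_apply hg' (hpre.symm ▸ hx')]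
    have hfS := hf.mem_S hx
    have h1 : qmap θ ((f x)⁻¹ * g x) = 1 := by
      rw [qmap_apply (hUS (hgx x hx))]
      exact (hker _).mpr (hgx x hx)
    rw [qmap_mul (S.inv_mem hfS) (hg.mem_S hx'), qmap_inv hfS, inv_mul_eq_one] at h1
    exact h1.symm
  have hwE : Weakly E (p ^ (d - k)) := by
    intro Q' hQ' hQc
    set Q := preimageAlong θ Q'
    obtain ⟨P, hP, hQP, hQiP⟩ := hw Q (preimageAlong_le _) (by rw [hcardpre, hQc, hk, hdk])
    refine ⟨imageAlong θ P, hclimg P hP, ?_, ?_⟩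
    · have e : Q' ⊔ imageAlong θ P = imageAlong θ (Q ⊔ P) := by
        refine le_antisymm (sup_le (fun y hy => ?_) ?_) ?_
        · obtain ⟨x, hx, rfl⟩ := exists_preimage hQ' hy
          exact hmemimg _ _ (Subgroup.mem_sup_left hx) (preimageAlong_le _ hx)
        · exact Subgroup.map_mono fun x hx => Subgroup.mem_sup_right hx
        · intro y hy
          obtain ⟨z, hz, hzS, rfl⟩ := himg _ y hy
          obtain ⟨q, hq, r, hr, rfl⟩ := mem_sup_closed (preimageAlong_le _) hP hz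
          rw [qmap_mul (preimageAlong_le _ hq) (hP.1 hr)]
          exact Subgroup.mul_mem _ (Subgroup.mem_sup_left (mem_preimageAlong.mp hq).2)
            (Subgroup.mem_sup_right (hmemimg P r hr (hP.1 hr)))
      exact e ▸ hclimg _ hQP
    · have e : Q' ⊓ imageAlong θ P = imageAlong θ (Q ⊓ P) := by
        refine le_antisymm ?_ ?_
        · rintro y ⟨hyQ, hyP⟩
          obtain ⟨x, hx, hxS, rfl⟩ := himg P y hyP
          exact hmemimg _ x ⟨mem_preimageAlong.mpr ⟨hxS, hyQ⟩, hx⟩ hxS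
        · intro y hy
          obtain ⟨x, hx, hxS, rfl⟩ := himg _ y hy
          exact ⟨(mem_preimageAlong.mp hx.1).2, hmemimg P x hx.2 hxS⟩
      exact e ▸ hclimg _ hQiP
  have haE : InnerAbove E (p ^ (d - k)) := by
    intro H' hH' hHc P' f' hf' hHP
    set H := preimageAlong θ H'
    have hH : F.StronglyClosed H := by
      refine stronglyClosed_of_apply (preimageAlong_le _) fun P f hf x hx hxH => ?_
      obtain ⟨P₁, f₁, hf₁, he₁⟩ := hlift P f hf
      obtain ⟨hxP, hxe⟩ := he₁ x hx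
      refine mem_preimageAlong.mpr ⟨hf.mem_S hx, ?_⟩
      rw [← hxe]
      exact stronglyClosed_apply hH' hf₁ hxP (mem_preimageAlong.mp hxH).2
    obtain ⟨g, hg, hge⟩ := hquot.exists_lift hf'
    obtain ⟨s, hs, es⟩ := ha H hH (by rw [hcardpre, hHc, hk, hdk]) _ g hg fun x hx =>
      mem_preimageAlong.mpr ⟨preimageAlong_le _ hx, hHP (mem_preimageAlong.mp hx).2⟩
    refine ⟨θ ⟨s, hs⟩, ⟨_, rfl⟩, fun y hy => ?_⟩
    obtain ⟨x, hx, rfl⟩ := exists_preimage hf'.le hy
    rw [hge x hx, es x hx, qmap_conj hs (preimageAlong_le _ hx), qmap_apply hs]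
  have hEi := ih θ.range hcard (hS.of_surjective _ θ.rangeRestrict_surjective) E
    (hquot.saturated hS hF) hwE haE
  intro P f hf
  obtain ⟨P', f', hf', he'⟩ := hlift P f hf
  obtain ⟨t, ⟨s, rfl⟩, e⟩ := hEi _ _ hf'
  refine ⟨s, s.2, fun x hx => ?_⟩
  obtain ⟨hxP, hxe⟩ := he' x hx
  rw [e _ hxP, ← qmap_apply (θ := θ) s.2, ← qmap_conj s.2 (hf.le hx)] at hxe
  have hS1 : (s : Ω) * x * (s : Ω)⁻¹ ∈ S := S.mul_mem (S.mul_mem s.2 (hf.le hx)) (S.inv_mem s.2)
  have h2 : ((⟨_, S.mul_mem (S.inv_mem hS1) (hf.mem_S hx)⟩ : S) : Ω) ∈ U := by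
    rw [← hker, ← qmap_apply (θ := θ), qmap_mul (S.inv_mem hS1) (hf.mem_S hx), qmap_inv hS1, hxe,
      inv_mul_cancel]
  exact h2

/-- The case in which a small strongly closed subgroup exists. -/
theorem inner_of_small [Finite S] [Fact p.Prime] (hS : IsPGroup p S) (hF : F.IsSaturated p) {d : ℕ}
    (hw : Weakly F (p ^ d)) (ha : InnerAbove F (p ^ d)) (hdS : p ^ d < Nat.card S) {U : Subgroup Ω}
    (hU : F.StronglyClosed U) (hUne : U ≠ ⊥) (hUlt : Nat.card U < p ^ d)
    (hmin : ∀ V : Subgroup Ω, F.StronglyClosed V → V ≠ ⊥ → Nat.card U ≤ Nat.card V)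
    (hmod : ∀ V : Subgroup Ω, F.StronglyClosed V → V ≠ ⊥ → Nat.card V < p ^ d → InnerMod F V) :
    IsInner F := by
  classical
  have hp : p.Prime := Fact.out
  refine inner_of_hyperfocal_bot hS hF ?_
  have hUn := normalizes_of_stronglyClosed hU
  haveI := finite_of_le hU.1
  have hUm := hmod U hU hUne hUlt
  have hhU : F.hyperfocalSubgroup p ≤ U := hyperfocal_le_of_innerMod hS hUn hUm
  haveI : Nontrivial U := (Subgroup.nontrivial_iff_ne_bot U).mpr hUne
  obtain ⟨k, hk0, hk⟩ := (hS.to_le hU.1).nontrivial_iff_card.mp inferInstance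
  have hd2 : p < p ^ d := lt_of_le_of_lt (hk ▸ Nat.le_self_pow hk0.ne' p) hUlt
  -- central subgroups of order `p` inside normal subgroups
  have hcen : ∀ X : Subgroup Ω, X ≤ S → S ≤ Subgroup.normalizer (X : Set Ω) → X ≠ ⊥ →
      ∃ z ∈ X, orderOf z = p ∧ ∀ s ∈ S, s * z = z * s := by
    intro X hX hn hne
    haveI := finite_of_le hX
    haveI : (X.subgroupOf S).Normal := Subgroup.normal_subgroupOf_of_le_normalizer hn
    have hne' : X.subgroupOf S ≠ ⊥ := fun h => hne (by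
      rw [← Subgroup.map_subgroupOf_eq_of_le hX, h, Subgroup.map_bot])
    obtain ⟨z, hzX, hzc, hzp⟩ := Cfsg.Lib.PGroups.exists_mem_center_of_normal_ne_bot hS hne'
    exact ⟨(z : Ω), hzX, (Subgroup.orderOf_coe z).trans hzp,
      fun s hs => congrArg Subtype.val (Subgroup.mem_center_iff.mp hzc ⟨s, hs⟩)⟩
  have hzcl : ∀ X : Subgroup Ω, U ≤ X → X ≤ S → S ≤ Subgroup.normalizer (X : Set Ω) →
      F.StronglyClosed X := by
    intro X hUX hXS hXn
    refine stronglyClosed_of_apply hXS fun P f hf x hx hxX => ?_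
    obtain ⟨s, hs, es⟩ := hUm P f hf
    have := X.mul_mem (conj_mem_of_mem_normalizer (hXn hs) hxX) (hUX (es x hx))
    rwa [mul_inv_cancel_left] at this
  -- every nontrivial strongly closed subgroup contains `U`
  rcases Classical.em (∀ X : Subgroup Ω, F.StronglyClosed X → X ≠ ⊥ → U ≤ X) with huniq | hcon
  swap
  · obtain ⟨X, hX, hXne, hXU⟩ : ∃ X, F.StronglyClosed X ∧ X ≠ ⊥ ∧ ¬ U ≤ X := by
      simpa [not_forall] using hcon
    have hUX : U ⊓ X = ⊥ := by
      by_contra hne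
      refine hXU (inf_eq_left.mp (Subgroup.eq_of_le_of_card_ge inf_le_left ?_))
      exact hmin _ (closed_inf hU hX) hne
    obtain ⟨z, hzX, hzp, hzc⟩ := hcen X hX.1 (normalizes_of_stronglyClosed hX) hXne
    set Z := Subgroup.zpowers z
    have hZX : Z ≤ X := Subgroup.zpowers_le.mpr hzX
    have hZS : Z ≤ S := hZX.trans hX.1
    have hUZn : S ≤ Subgroup.normalizer ((U ⊔ Z : Subgroup Ω) : Set Ω) := fun s hs => by
      haveI := finite_of_le (sup_le hU.1 hZS)
      refine mem_normalizer_of_maps_finite fun x hx => ?_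
      have hle : (U ⊔ Z) ≤ (U ⊔ Z).comap (MulAut.conj s).toMonoidHom := by
        refine sup_le (fun u hu => ?_) (Subgroup.zpowers_le.mpr ?_)
        · exact Subgroup.mem_sup_left (conj_mem_of_mem_normalizer (hUn hs) hu)
        · show s * z * s⁻¹ ∈ U ⊔ Z
          rw [hzc s hs, mul_inv_cancel_right]
          exact Subgroup.mem_sup_right (Subgroup.mem_zpowers z)
      exact hle hx
    have hUZ := hzcl _ le_sup_left (sup_le hU.1 hZS) hUZn
    have hZe : (U ⊔ Z) ⊓ X = Z := by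
      refine le_antisymm ?_ (le_inf le_sup_right hZX)
      rintro w ⟨hw, hwX⟩
      rw [sup_comm] at hw
      obtain ⟨c, hc, u, hu, rfl⟩ := mem_sup_closed hZS hU hw
      have : u ∈ U ⊓ X := ⟨hu, by simpa using X.mul_mem (X.inv_mem (hZX hc)) hwX⟩
      rw [hUX, Subgroup.mem_bot] at this
      rw [this, mul_one]
      exact hc
    have hZc : F.StronglyClosed Z := hZe ▸ closed_inf hUZ hX
    have hZcard : Nat.card Z = p := (Nat.card_zpowers z).trans hzp
    have hZne : Z ≠ ⊥ := fun h => by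
      rw [h, Subgroup.card_bot] at hZcard
      exact hp.ne_one hZcard.symm
    refine (le_inf hhU (hyperfocal_le_of_innerMod hS (normalizes_of_stronglyClosed hZc)
      (hmod Z hZc hZne (hZcard ▸ hd2)))).trans ?_
    exact (inf_le_inf_left U hZX).trans hUX.le
  rcases eq_or_ne k 1 with rfl | hk1
  · -- `U` of order `p`
    rw [pow_one] at hk
    obtain ⟨H, -, hH, hHc⟩ := exists_closed hS hF hw _ S closed_top rfl hdS.le
    have hHne : H ≠ ⊥ := fun h => by
      rw [h, Subgroup.card_bot] at hHc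
      have := hp.one_lt
      omega
    obtain ⟨z, hzU, hzp, hzc⟩ := hcen U hU.1 hUn hUne
    have hUz : U = Subgroup.zpowers z :=
      (Subgroup.eq_of_le_of_card_ge (Subgroup.zpowers_le.mpr hzU)
        (by rw [Nat.card_zpowers, hzp, hk])).symm
    have hUab : ∀ u ∈ U, ∀ s ∈ S, s * u = u * s := fun u hu s hs => by
      rw [hUz] at hu
      obtain ⟨i, rfl⟩ := hu
      exact Commute.zpow_right (hzc s hs) i
    have hUnorm : F.IsNormal U := isNormal_of_chain hS hF hU 1 (fun i => if i = 0 then ⊥ else U) rfl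
      (by simp) (fun i hi => by obtain rfl : i = 0 := (by omega); simpa using hU)
      (fun i hi => by
        obtain rfl : i = 0 := (by omega)
        simp only [zero_add, one_ne_zero, ↓reduceIte]
        exact Subgroup.commutator_le.mpr fun a ha b hb => by
          rw [Subgroup.mem_bot, commutatorElement_eq_one_iff_mul_comm]
          exact hUab b hb a (hU.1 ha))
    obtain ⟨-, -, hrec⟩ := fullyNormalized_props hS hF (fullyNormalized_of_isNormal hUnorm)
    have hfix : ∀ (P : Subgroup Ω) (f : Ω → Ω), IsMap F P f → ∀ u ∈ P, u ∈ U → f u = u := by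
      intro P f hf u hu huU
      obtain ⟨g, hg, hgf, hgi⟩ := extend_of_isNormal hUnorm hf
      have hgU := hg.mono (le_sup_right : U ≤ P ⊔ U)
      obtain ⟨j, hj, hje⟩ := receptive_extend hrec hgU hgi
      have hSj : S ≤ extSub S U g := fun s hs => centralizerIn_le_extSub U g
        (mem_centralizerIn.mpr ⟨hs, fun v hv => by rw [hUab v hv s hs, mul_inv_cancel_right]⟩)
      obtain ⟨s, hs, es⟩ := ha H hH hHc S j (hj.mono hSj) hH.1
      rw [← hgf u hu, ← hje u huU, es u (hU.1 huU), hUab u huU s hs, mul_inv_cancel_right]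
    refine hyperfocal_le_of_coprime fun P hP β hβ hcop x hx => ?_
    have hv : x⁻¹ * autFun β x ∈ U := hhU (mem_hyperfocalSubgroup hP (α := ⟨β, hβ⟩)
      (Cfsg.Lib.Transfer.mem_pResidual_of_coprime (by rwa [← Subgroup.orderOf_coe])) hx)
    set v := x⁻¹ * autFun β x
    have hvP : v ∈ P := P.mul_mem (P.inv_mem hx) (autFun_mem β hx)
    have hm := (isMap_autFun hP).mpr hβ
    have hiter : ∀ i : ℕ, autFun (β ^ i) x = x * v ^ i := by
      intro i
      induction i with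
      | zero => rw [pow_zero, autFun_apply_mem _ hx]; simp
      | succ i ih =>
        rw [pow_succ', autFun_mul _ _ hx, ih, hm.map_mul hx (P.pow_mem hvP i),
          hfix P _ hm _ (P.pow_mem hvP i) (U.pow_mem hv i), pow_succ', ← mul_assoc,
          ← mul_inv_cancel_left x (autFun β x)]
    have h2 := hiter (orderOf β)
    rw [pow_orderOf_eq_one, autFun_apply_mem _ hx] at h2
    have h3 : v ^ orderOf β = 1 := by simpa using h2
    obtain ⟨i, hi⟩ := hS ⟨v, hU.1 hv⟩
    rw [Subgroup.mem_bot]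
    exact orderOf_eq_one_iff.mp (Nat.eq_one_of_dvd_coprimes (hcop.pow_right i)
      (orderOf_dvd_of_pow_eq_one h3) (orderOf_dvd_of_pow_eq_one (congrArg Subtype.val hi)))
  -- all subgroups of order `p ^ d` contain `U`
  have hout : ∀ Q : Subgroup Ω, Q ≤ S → Nat.card Q = p ^ d → ¬ U ≤ Q → U ⊓ Q = ⊥ := by
    intro Q hQS hQc hUQ
    obtain ⟨P, hP, hQP, hQiP⟩ := hw Q hQS hQc
    have hA : Q ⊓ P = ⊥ := by
      by_contra hne
      exact hUQ ((huniq _ hQiP hne).trans inf_le_left)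
    have hPne : P ≠ ⊥ := by
      rintro rfl
      rw [sup_bot_eq] at hQP
      refine hUQ (huniq _ hQP fun h => ?_)
      exact hUQ (h ▸ (by rw [h, Subgroup.card_bot] at hQc; have := hp.one_lt; omega))
    have hUP := huniq P hP hPne
    exact le_bot_iff.mp (((inf_comm U Q).le.trans (inf_le_inf_left Q hUP)).trans hA.le)
  have hcont : ∀ Q : Subgroup Ω, Q ≤ S → Nat.card Q = p ^ d → U ≤ Q := by
    intro Q hQS hQc
    by_contra hUQ
    have hUQb := hout Q hQS hQc hUQ
    obtain ⟨z, hzU, hzp, hzc⟩ := hcen U hU.1 hUn hUne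
    set Z := Subgroup.zpowers z
    have hZU : Z ≤ U := Subgroup.zpowers_le.mpr hzU
    have hd1 : 1 ≤ d := by
      rcases Nat.eq_zero_or_pos d with rfl | h
      · simp at hUlt
        have := Nat.card_pos (α := U)
        omega
      · exact h
    haveI := finite_of_le hQS
    obtain ⟨Q₁, -, hQ₁, hQ₁c⟩ := exists_between hS (bot_le : (⊥ : Subgroup Ω) ≤ Q) hQS (d := d - 1)
      (by rw [Subgroup.card_bot]; exact Nat.one_le_pow _ _ hp.pos)
      (hQc ▸ Nat.pow_le_pow_right hp.pos (Nat.sub_le d 1))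
    have hd : Q₁ ⊓ Z = ⊥ := le_bot_iff.mp ((inf_le_inf hQ₁ hZU).trans ((inf_comm Q U).le.trans hUQb.le))
    have hZS : Z ≤ S := hZU.trans hU.1
    have hcQ : Q₁ ≤ Subgroup.centralizer (Z : Set Ω) := fun q hq =>
      Subgroup.mem_centralizer_iff.mpr fun w hw => by
        obtain ⟨i, rfl⟩ := hw
        exact (Commute.zpow_right (hzc q (hQS (hQ₁ hq))) i).symm.eq
    have hsplit : ∀ w ∈ Q₁ ⊔ Z, ∃ q ∈ Q₁, ∃ c ∈ Z, q * c = w := fun w hw => by
      rw [← SetLike.mem_coe, Subgroup.coe_mul_of_left_le_normalizer_right _ _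
        (hcQ.trans (Subgroup.centralizer_le_normalizer _))] at hw
      exact hw
    have hcard : Nat.card (Q₁ ⊔ Z : Subgroup Ω) = p ^ d := by
      have hbij : Function.Bijective (fun w : Q₁ × Z =>
          (⟨(w.1 : Ω) * w.2, Subgroup.mul_mem _ (Subgroup.mem_sup_left w.1.2)
            (Subgroup.mem_sup_right w.2.2)⟩ : (Q₁ ⊔ Z : Subgroup Ω))) := by
        refine ⟨fun a b hab => Subgroup.mul_injective_of_disjoint (disjoint_iff.mpr hd)
          (congrArg Subtype.val hab), fun w => ?_⟩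
        obtain ⟨q, hq, c, hc, e⟩ := hsplit w w.2
        exact ⟨(⟨q, hq⟩, ⟨c, hc⟩), Subtype.ext e⟩
      rw [← Nat.card_congr (Equiv.ofBijective _ hbij), Nat.card_prod, hQ₁c,
        show Nat.card Z = p from (Nat.card_zpowers z).trans hzp, ← pow_succ, Nat.sub_add_cancel hd1]
    by_cases hU' : U ≤ Q₁ ⊔ Z
    · refine hk1 ((Nat.pow_eq_self_iff hp.one_lt).mp ?_)
      rw [← hk, ← hzp, ← Nat.card_zpowers]
      congr 2
      refine le_antisymm (fun u hu => ?_) hZU
      obtain ⟨q, hq, c, hc, rfl⟩ := hsplit u (hU' hu)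
      have : q ∈ U ⊓ Q := ⟨by simpa using U.mul_mem hu (U.inv_mem (hZU hc)), hQ₁ hq⟩
      rw [hUQb, Subgroup.mem_bot] at this
      rw [this, one_mul]
      exact hc
    · have h1 := hout _ (sup_le (hQ₁.trans hQS) hZS) hcard hU'
      have h2 : z ∈ U ⊓ (Q₁ ⊔ Z) := ⟨hzU, Subgroup.mem_sup_right (Subgroup.mem_zpowers z)⟩
      rw [h1, Subgroup.mem_bot] at h2
      rw [h2, orderOf_one] at hzp
      exact hp.ne_one hzp.symm
  refine hyperfocal_le_of_le_sup_frattini hS hF bot_le (fun s _ x hx => ?_) bot_le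
    ((hhU.trans ?_).trans le_sup_right)
  · rw [Subgroup.mem_bot] at hx ⊢
    simp [hx]
  intro u hu
  refine ⟨⟨u, hU.1 hu⟩, ?_, rfl⟩
  show (⟨u, hU.1 hu⟩ : S) ∈ Order.radical (Subgroup S)
  simp only [Order.radical, Subgroup.mem_iInf]
  intro M hM
  obtain ⟨n, hn⟩ := IsPGroup.iff_card.mp hS
  obtain ⟨m, hm⟩ := IsPGroup.iff_card.mp (hS.to_subgroup M)
  have hdn : d < n := (Nat.pow_lt_pow_iff_right hp.one_lt).mp (hn ▸ hdS)
  have hMc : p ^ d ≤ Nat.card M := by
    by_contra hlt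
    rw [not_le, hm, Nat.pow_lt_pow_iff_right hp.one_lt] at hlt
    obtain ⟨K, hK, hMK⟩ := Sylow.exists_subgroup_card_pow_prime_le (G := S) p (m := d)
      (hn ▸ pow_dvd_pow p hdn.le) M hm hlt.le
    rcases eq_or_lt_of_le hMK with e | e
    · rw [← e, hm] at hK
      exact hlt.ne (Nat.pow_right_injective hp.two_le hK)
    · rw [hM.2 K e, Subgroup.card_top, hn] at hK
      exact hdn.ne (Nat.pow_right_injective hp.two_le hK).symm
  obtain ⟨Q, -, hQM, hQc⟩ := exists_between hS (bot_le : (⊥ : Subgroup Ω) ≤ M.map S.subtype)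
    (Subgroup.map_subtype_le M) (by rw [Subgroup.card_bot]; exact Nat.one_le_pow _ _ hp.pos)
    (hMc.trans (Nat.card_congr (M.equivMapOfInjective S.subtype S.subtype_injective).toEquiv).le)
  obtain ⟨w, hw, e⟩ := hQM (hcont Q (hQM.trans (Subgroup.map_subtype_le M)) hQc hu)
  exact (Subtype.ext e : w = ⟨u, hU.1 hu⟩) ▸ hw

set_option maxHeartbeats 1000000 in
/-- The case in which no small strongly closed subgroup exists. -/
theorem inner_of_no_small [Finite S] [Fact p.Prime] (hS : IsPGroup p S) (hF : F.IsSaturated p)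
    {d : ℕ} (hd : 1 ≤ d) (hw : Weakly F (p ^ d)) (ha : InnerAbove F (p ^ d))
    (hdS : p ^ d < Nat.card S)
    (hbig : ∀ V : Subgroup Ω, F.StronglyClosed V → V ≠ ⊥ → p ^ d ≤ Nat.card V) : IsInner F := by
  have hp : p.Prime := Fact.out
  by_contra hne
  have hnab : ∀ H : Subgroup Ω, F.StronglyClosed H → Nat.card H = p ^ d →
      ¬ ∀ x ∈ H, ∀ y ∈ H, x * y = y * x := fun H hH hc hab => hne (inner_of_abelian hS hF ha hH hc hab)
  have hd2 : 2 ≤ d := by
    by_contra h
    obtain rfl : d = 1 := by omega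
    obtain ⟨H, -, hH, hHc⟩ := exists_closed hS hF hw _ S closed_top rfl hdS.le
    haveI : IsCyclic H := isCyclic_of_prime_card (p := p) (by simpa using hHc)
    obtain ⟨g, hg⟩ := IsCyclic.exists_generator (α := H)
    exact hnab H hH hHc fun x hx y hy => by
      obtain ⟨i, hi⟩ := hg ⟨x, hx⟩
      obtain ⟨j, hj⟩ := hg ⟨y, hy⟩
      exact congrArg Subtype.val (show (⟨x, hx⟩ : H) * ⟨y, hy⟩ = ⟨y, hy⟩ * ⟨x, hx⟩ by
        rw [← hi, ← hj]; exact (Commute.refl g).zpow_zpow i j)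
  have hp1 : 1 < p ^ (d - 1) := Nat.one_lt_pow (by omega) hp.one_lt
  -- a subgroup of order `p ^ d` meeting a minimal strongly closed subgroup
  have hpart : ∀ U : Subgroup Ω, F.StronglyClosed U → Nat.card U = p ^ d → ∀ Q : Subgroup Ω,
      Q ≤ S → Nat.card Q = p ^ d → Q ≠ U → Q ⊓ U ≠ ⊥ →
      ∀ P : Subgroup Ω, F.StronglyClosed P → F.StronglyClosed (Q ⊔ P) → F.StronglyClosed (Q ⊓ P) →
        P ⊓ U = ⊥ ∧ U ≤ Q ⊔ P ∧ P ≠ ⊥ := by
    intro U hU hUc Q hQS hQc hQU hQUne P hP hQP hQiP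
    haveI := finite_of_le hQS
    haveI := finite_of_le hU.1
    have hfull : ∀ X : Subgroup Ω, F.StronglyClosed X → X ⊓ U ≠ ⊥ → U ≤ X := fun X hX h => by
      refine inf_eq_right.mp (Subgroup.eq_of_le_of_card_ge inf_le_right ?_)
      exact hUc ▸ hbig _ (closed_inf hX hU) h
    have hQnc : ¬ F.StronglyClosed Q := fun h =>
      hQU (Subgroup.eq_of_le_of_card_ge (hfull Q h hQUne) (by rw [hUc, hQc])).symm
    have hA : Q ⊓ P = ⊥ := by
      by_contra h
      have e := Subgroup.eq_of_le_of_card_ge (inf_le_left : Q ⊓ P ≤ Q) (hQc ▸ hbig _ hQiP h)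
      exact hQnc (e ▸ hQiP)
    have hPU : P ⊓ U = ⊥ := by
      by_contra h
      exact hQUne (le_bot_iff.mp ((inf_le_inf_left Q (hfull P hP h)).trans hA.le))
    refine ⟨hPU, hfull _ hQP fun h => hQUne (le_bot_iff.mp ((inf_le_inf_right U le_sup_left).trans h.le)),
      fun h => hQnc ?_⟩
    rwa [h, sup_bot_eq] at hQP
  obtain ⟨U, -, hU, hUc⟩ := exists_closed hS hF hw _ S closed_top rfl hdS.le
  haveI := finite_of_le hU.1
  obtain ⟨n, hn⟩ := IsPGroup.iff_card.mp hS
  obtain ⟨R, hUR, hRS, hRc⟩ := exists_between hS hU.1 le_rfl (d := d + 1)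
    (hUc ▸ Nat.pow_le_pow_right hp.pos (Nat.le_succ d))
    (hn ▸ Nat.pow_le_pow_right hp.pos ((Nat.pow_lt_pow_iff_right hp.one_lt).mp (hn ▸ hdS)))
  haveI := finite_of_le hRS
  -- another subgroup of order `p ^ d` in `R`
  obtain ⟨Q, hQR, hQc, hQU⟩ : ∃ Q ≤ R, Nat.card Q = p ^ d ∧ Q ≠ U := by
    by_contra hcon
    obtain ⟨r, hrR, hrU⟩ := SetLike.exists_of_lt (lt_of_le_of_ne hUR fun e => by
      rw [← e, hUc] at hRc
      exact Nat.ne_of_lt (Nat.pow_lt_pow_right hp.one_lt (Nat.lt_succ_self d)) hRc)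
    set C := Subgroup.zpowers r
    have hCR : C ≤ R := Subgroup.zpowers_le.mpr hrR
    haveI := finite_of_le (hCR.trans hRS)
    by_cases hc : Nat.card C ≤ p ^ d
    · obtain ⟨Q, hCQ, hQR, hQc⟩ := exists_between hS hCR hRS hc
        (hRc ▸ Nat.pow_le_pow_right hp.pos (Nat.le_succ d))
      exact hcon ⟨Q, hQR, hQc, fun e => hrU (e ▸ hCQ (Subgroup.mem_zpowers r))⟩
    · have hCR' : C = R := by
        refine Subgroup.eq_of_le_of_card_ge hCR ?_
        obtain ⟨m, hm⟩ := IsPGroup.iff_card.mp (hS.to_le (hCR.trans hRS))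
        rw [not_le, hm, Nat.pow_lt_pow_iff_right hp.one_lt] at hc
        rw [hm, hRc]
        exact Nat.pow_le_pow_right hp.pos hc
      refine hnab U hU hUc fun x hx y hy => ?_
      obtain ⟨i, rfl⟩ := (hUR.trans hCR'.ge) hx
      obtain ⟨j, rfl⟩ := (hUR.trans hCR'.ge) hy
      exact (Commute.refl r).zpow_zpow i j
  have hQS := hQR.trans hRS
  haveI := finite_of_le hQS
  have hQUne : Q ⊓ U ≠ ⊥ := fun h => by
    have hinj : Function.Injective (fun w : Q × U =>
        (⟨(w.1 : Ω) * w.2, R.mul_mem (hQR w.1.2) (hUR w.2.2)⟩ : R)) := fun a b hab =>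
      Subgroup.mul_injective_of_disjoint (disjoint_iff.mpr h) (congrArg Subtype.val hab)
    have h2 := Nat.card_le_card_of_injective _ hinj
    rw [Nat.card_prod, hQc, hUc, hRc, ← pow_add, Nat.pow_le_pow_iff_right hp.one_lt] at h2
    omega
  obtain ⟨P, hP, hQP, hQiP⟩ := hw Q hQS hQc
  obtain ⟨hPU, -, hPne⟩ := hpart U hU hUc Q hQS hQc hQU hQUne P hP hQP hQiP
  haveI := finite_of_le hP.1
  obtain ⟨U₃, hU₃P, hU₃, hU₃c⟩ := exists_closed hS hF hw _ P hP rfl (hbig P hP hPne)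
  haveI := finite_of_le hU₃.1
  have hd3 : U ⊓ U₃ = ⊥ := le_bot_iff.mp ((inf_le_inf_left U hU₃P).trans ((inf_comm U P).le.trans hPU.le))
  have hcomm : ∀ A B : Subgroup Ω, F.StronglyClosed A → F.StronglyClosed B → A ⊓ B = ⊥ →
      ∀ a ∈ A, ∀ b ∈ B, a * b = b * a := fun A B hA hB hAB a ha b hb => by
    have h1 : ⁅a, b⁆ ∈ A ⊓ B := by
      rw [commutatorElement_def]
      refine ⟨?_, B.mul_mem (conj_mem_of_mem_normalizer (normalizes_of_stronglyClosed hB (hA.1 ha)) hb)
        (B.inv_mem hb)⟩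
      rw [show a * b * a⁻¹ * b⁻¹ = a * (b * a⁻¹ * b⁻¹) by group]
      exact A.mul_mem ha (conj_mem_of_mem_normalizer (normalizes_of_stronglyClosed hA (hB.1 hb))
        (A.inv_mem ha))
    rw [hAB, Subgroup.mem_bot] at h1
    exact commutatorElement_eq_one_iff_mul_comm.mp h1
  have hc13 := hcomm U U₃ hU hU₃ hd3
  obtain ⟨U₀, -, hU₀, hU₀c⟩ := exists_between hS (bot_le : (⊥ : Subgroup Ω) ≤ U) hU.1 (d := d - 1)
    (by rw [Subgroup.card_bot]; exact hp1.le)
    (hUc ▸ Nat.pow_le_pow_right hp.pos (Nat.sub_le d 1))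
  obtain ⟨C, -, hC, hCc⟩ := exists_between hS (bot_le : (⊥ : Subgroup Ω) ≤ U₃) hU₃.1 (d := 1)
    (by rw [Subgroup.card_bot, pow_one]; exact hp.one_lt.le)
    (hU₃c ▸ Nat.pow_le_pow_right hp.pos hd)
  set Q' := U₀ ⊔ C
  have hQ'S : Q' ≤ S := sup_le (hU₀.trans hU.1) (hC.trans hU₃.1)
  haveI := finite_of_le hQ'S
  haveI := finite_of_le (hU₀.trans hU.1)
  haveI := finite_of_le (hC.trans hU₃.1)
  have hd0C : U₀ ⊓ C = ⊥ := le_bot_iff.mp ((inf_le_inf hU₀ hC).trans hd3.le)
  have hcn : U₀ ≤ Subgroup.normalizer (C : Set Ω) := le_trans (fun u hu =>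
    Subgroup.mem_centralizer_iff.mpr fun c hc => (hc13 u (hU₀ hu) c (hC hc)).symm)
    (Subgroup.centralizer_le_normalizer _)
  have hQ'c : Nat.card Q' = p ^ d := by
    have hbij : Function.Bijective (fun w : U₀ × C =>
        (⟨(w.1 : Ω) * w.2, Subgroup.mul_mem _ (Subgroup.mem_sup_left w.1.2)
          (Subgroup.mem_sup_right w.2.2)⟩ : Q')) := by
      refine ⟨fun a b hab => Subgroup.mul_injective_of_disjoint (disjoint_iff.mpr hd0C)
        (congrArg Subtype.val hab), fun w => ?_⟩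
      have hw' : (w : Ω) ∈ ((U₀ ⊔ C : Subgroup Ω) : Set Ω) := w.2
      rw [Subgroup.coe_mul_of_left_le_normalizer_right _ _ hcn] at hw'
      obtain ⟨q, hq, c, hc, e⟩ := hw'
      exact ⟨(⟨q, hq⟩, ⟨c, hc⟩), Subtype.ext e⟩
    rw [← Nat.card_congr (Equiv.ofBijective _ hbij), Nat.card_prod, hU₀c, hCc, pow_one, ← pow_succ,
      Nat.sub_add_cancel hd]
  have hU₀ne : U₀ ≠ ⊥ := fun h => by rw [h, Subgroup.card_bot] at hU₀c; omega
  have hCne : C ≠ ⊥ := fun h => by
    rw [h, Subgroup.card_bot, pow_one] at hCc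
    exact hp.ne_one hCc.symm
  obtain ⟨P', hP', hQP', hQiP'⟩ := hw Q' hQ'S hQ'c
  haveI := finite_of_le hP'.1
  obtain ⟨hP'U, hUle, -⟩ := hpart U hU hUc Q' hQ'S hQ'c
    (fun e => hCne (le_bot_iff.mp ((le_inf (le_sup_right.trans e.le) hC).trans hd3.le)))
    (fun h => hU₀ne (le_bot_iff.mp ((le_inf le_sup_left hU₀).trans h.le))) P' hP' hQP' hQiP'
  obtain ⟨hP'U₃, hU₃le, -⟩ := hpart U₃ hU₃ hU₃c Q' hQ'S hQ'c
    (fun e => hU₀ne (le_bot_iff.mp ((le_inf hU₀ (le_sup_left.trans e.le)).trans hd3.le)))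
    (fun h => hCne (le_bot_iff.mp ((le_inf le_sup_right hC).trans h.le))) P' hP' hQP' hQiP'
  set UU := U ⊔ U₃
  haveI := finite_of_le (sup_le hU.1 hU₃.1 : UU ≤ S)
  have hUUc : Nat.card UU = p ^ d * p ^ d := by
    have hbij : Function.Bijective (fun w : U × U₃ =>
        (⟨(w.1 : Ω) * w.2, Subgroup.mul_mem _ (Subgroup.mem_sup_left w.1.2)
          (Subgroup.mem_sup_right w.2.2)⟩ : UU)) := by
      refine ⟨fun a b hab => Subgroup.mul_injective_of_disjoint (disjoint_iff.mpr hd3)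
        (congrArg Subtype.val hab), fun w => ?_⟩
      obtain ⟨q, hq, c, hc, e⟩ := mem_sup_closed hU.1 hU₃ w.2
      exact ⟨(⟨q, hq⟩, ⟨c, hc⟩), Subtype.ext e⟩
    rw [← Nat.card_congr (Equiv.ofBijective _ hbij), Nat.card_prod, hUc, hU₃c]
  set W := UU ⊓ P'
  have hWne : W ≠ ⊥ := fun h => by
    have h1 := card_le_of_inf_bot h hQ'S hP' (sup_le hUle hU₃le)
    rw [hUUc, hQ'c, ← pow_add, Nat.pow_le_pow_iff_right hp.one_lt] at h1
    omega
  have hW : F.StronglyClosed W := closed_inf (closed_sup hS hF hU hU₃) hP'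
  haveI := finite_of_le hW.1
  have hWab : ∀ x ∈ W, ∀ y ∈ W, x * y = y * x := by
    intro x hx y hy
    obtain ⟨u, hu, v, hv, rfl⟩ := mem_sup_closed hU.1 hU₃ hy.1
    exact (Commute.mul_right (hcomm P' U hP' hU hP'U x hx.2 u hu)
      (hcomm P' U₃ hP' hU₃ hP'U₃ x hx.2 v hv)).eq
  refine hnab W hW (le_antisymm ?_ (hbig W hW hWne)) hWab
  have hinj : Function.Injective (fun w : W × U =>
      (⟨(w.1 : Ω) * w.2, Subgroup.mul_mem _ w.1.2.1 (Subgroup.mem_sup_left w.2.2)⟩ : UU)) :=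
    fun a b hab => Subgroup.mul_injective_of_disjoint
      (disjoint_iff.mpr (le_bot_iff.mp ((inf_le_inf_right U inf_le_right).trans hP'U.le)))
      (congrArg Subtype.val hab)
  have h2 := Nat.card_le_card_of_injective _ hinj
  rw [Nat.card_prod, hUc, hUUc] at h2
  exact Nat.le_of_mul_le_mul_right h2 (pow_pos hp.pos d)

/-- The criterion. -/
theorem inner_aux [Fact p.Prime] (n : ℕ) :
    ∀ {Ω : Type u} [Group Ω] (S : Subgroup Ω) [Finite S], Nat.card S = n → IsPGroup p S →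
      ∀ F : FusionSystem S, F.IsSaturated p → ∀ d, 1 ≤ d → p ^ d < n →
        Weakly F (p ^ d) → InnerAbove F (p ^ d) → IsInner F := by
  induction n using Nat.strong_induction_on with
  | _ n ih =>
  intro Ω _ S _ hn hS F hF d hd hdn hw ha
  have hp : p.Prime := Fact.out
  have hmod : ∀ V : Subgroup Ω, F.StronglyClosed V → V ≠ ⊥ → Nat.card V < p ^ d → InnerMod F V := by
    intro V hV hVne hVlt
    haveI := finite_of_le hV.1
    haveI : Nontrivial V := (Subgroup.nontrivial_iff_ne_bot V).mpr hVne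
    obtain ⟨k, hk0, hk⟩ := (hS.to_le hV.1).nontrivial_iff_card.mp inferInstance
    have hkd : k < d := (Nat.pow_lt_pow_iff_right hp.one_lt).mp (hk ▸ hVlt)
    refine innerMod_of_factor hS hF hw ha hV hk hkd.le
      fun {Ω'} _ S' _ hc hS' E hE hwE haE => ?_
    have hk2 : 2 ≤ Nat.card V := hk ▸ hp.two_le.trans (Nat.le_self_pow hk0.ne' p)
    have hlt : Nat.card S' < n := by
      have := Nat.card_pos (α := S')
      rw [← hn, ← hc]
      nlinarith
    refine ih _ hlt S' rfl hS' E hE (d - k) (by omega) ?_ hwE haE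
    have h1 : p ^ (d - k) * p ^ k < Nat.card S' * p ^ k := by
      rw [← pow_add, Nat.sub_add_cancel hkd.le, ← hk, hc, hn]
      exact hdn
    exact Nat.lt_of_mul_lt_mul_right h1
  by_cases hsmall : ∃ V : Subgroup Ω, F.StronglyClosed V ∧ V ≠ ⊥ ∧ Nat.card V < p ^ d
  · obtain ⟨V₀, hV₀, hV₀ne, hV₀lt⟩ := hsmall
    have hfin : {V : Subgroup Ω | F.StronglyClosed V ∧ V ≠ ⊥}.Finite :=
      (finite_subgroups_le (S := S)).subset fun V hV => hV.1.1
    obtain ⟨U, ⟨hU, hUne⟩, hmin⟩ := hfin.exists_minimalFor (fun V : Subgroup Ω => Nat.card V) _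
      ⟨V₀, hV₀, hV₀ne⟩
    have hmin' : ∀ V : Subgroup Ω, F.StronglyClosed V → V ≠ ⊥ → Nat.card U ≤ Nat.card V :=
      fun V hV hne => (le_total (Nat.card U) (Nat.card V)).elim id fun h => hmin (j := V) ⟨hV, hne⟩ h
    exact inner_of_small hS hF hw ha (hn ▸ hdn) hU hUne ((hmin' V₀ hV₀ hV₀ne).trans_lt hV₀lt) hmin'
      hmod
  · refine inner_of_no_small hS hF hd hw ha (hn ▸ hdn) fun V hV hne => ?_
    by_contra hlt
    exact hsmall ⟨V, hV, hne, not_le.mp hlt⟩

end Cfsg.Lib.Fusion.WeakEmb
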