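import Cfsg.Agent.Fusion.NormalFamily.Lift
import Cfsg.Agent.Fusion.PrimeResidual
import Cfsg.Agent.Fusion.WeaklyNormalLeast
import Cfsg.Agent.Fusion.ConstrainedClosed
import Cfsg.Agent.Fusion.TerminatingSeries
import Cfsg.Agent.Fusion.WeaklyEmbedded
import Cfsg.Agent.Fusion.ComponentImage
import Cfsg.Agent.Fusion.PPowerDegree.System
import Cfsg.Agent.Fusion.NormalCentralizer.CoreLayer
import Cfsg.Agent.S5148

/-!
A saturated fusion system is constrained exactly when it has no component.
-/

set_option autoImplicit false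
set_option linter.unusedSectionVars false
set_option linter.style.haveILetI false

namespace Cfsg.Lib.Fusion.CompEx

open Cfsg Cfsg.FusionSystem Cfsg.Lib.Fusion
open scoped commutatorElement

universe u

variable {Ω : Type u} [Group Ω] {S T : Subgroup Ω} {F : FusionSystem S} {E : FusionSystem T}
  {p : ℕ} [Fact p.Prime]

theorem le_core {Q : Subgroup Ω} (h : F.IsNormal Q) : Q ≤ F.core :=
  le_sSup (show Q ∈ {Q | F.IsNormal Q} from h)

/-! ### The core of an invariant subsystem -/

section Core

variable [Finite S] (hE : E.IsInvariantIn F)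
include hE

/-- Automorphisms of the strongly closed subgroup preserve the core of the subsystem. -/
theorem autFun_mem_core {α : MulAut T} (hα : α ∈ F.autGroup T) {x : Ω} (hx : x ∈ E.core) :
    autFun α x ∈ E.core := by
  have hTS : T ≤ S := hE.2.1.1
  haveI := finite_of_le hTS
  set Q := E.core
  have hQn : E.IsNormal Q := isNormal_core
  have hQT : Q ≤ T := hQn.1
  have hα' : α⁻¹ ∈ F.autGroup T := Subgroup.inv_mem _ hα
  have hmα := (isMap_autFun (F := F) hTS).mpr hα
  have hQ' : E.IsNormal (img Q (autFun α)) := by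
    have hQ'T : img Q (autFun α) ≤ T := IsMap.img_le_iff.mpr fun y hy => autFun_mem α (hQT hy)
    refine isNormal_of_extendsWith hQ'T fun P f hf => ?_
    have hm := invariant_transportT hE hTS hf hα'
    rw [inv_inv] at hm
    obtain ⟨k, hk, hkf, hki⟩ := extend_of_isNormal hQn hm
    set P₀ := img P (autFun α⁻¹)
    have hP₀ : P₀ ≤ T := IsMap.img_le_iff.mpr fun y hy => autFun_mem _ (hf.le hy)
    have h2 := invariant_transportT hE hTS hk hα
    have hle : P ⊔ img Q (autFun α) ≤ img (P₀ ⊔ Q) (autFun α) := by
      refine sup_le (fun y hy => ?_) (img_mono le_sup_right _)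
      rw [← autFun_inv_apply α (hf.le hy)]
      exact IsMap.apply_mem_img (Subgroup.mem_sup_left (IsMap.apply_mem_img hy))
    refine ⟨_, h2.mono hle, fun y hy => ?_, ?_⟩
    · show autFun α (k (autFun α⁻¹ y)) = f y
      rw [hkf _ (IsMap.apply_mem_img hy)]
      show autFun α (autFun α⁻¹ (f (autFun α (autFun α⁻¹ y)))) = f y
      rw [autFun_inv_apply α (hf.le hy), autFun_inv_apply α (hf.mem_S hy)]
    · refine img_eq_of_apply (h2.mono hle) le_sup_right fun z hz => ?_
      obtain ⟨q, hq, rfl⟩ := (hmα.mono hQT).mem_img.mp hz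
      show autFun α (k (autFun α⁻¹ (autFun α q))) ∈ _
      rw [autFun_inv_apply' α (hQT hq)]
      exact IsMap.apply_mem_img (hki.le (IsMap.apply_mem_img hq))
  exact le_core hQ' (IsMap.apply_mem_img hx)

/-- Characteristic subgroups of the core of an invariant subsystem are strongly closed. -/
theorem stronglyClosed_char {U : Subgroup Ω} (hUQ : U ≤ E.core)
    (hU : (U.subgroupOf E.core).Characteristic) : F.StronglyClosed U := by
  have hTS : T ≤ S := hE.2.1.1
  haveI := finite_of_le hTS
  have hQn : E.IsNormal E.core := isNormal_core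
  have hUT : U ≤ T := hUQ.trans hQn.1
  haveI := finite_of_le hQn.1
  have hUn : E.IsNormal U := isNormal_of_characteristic hQn hUQ hU
  refine stronglyClosed_of_apply (hUT.trans hTS) fun P f hf x hx hxU => ?_
  obtain ⟨α, hα, f₀, hf₀, e⟩ := invariant_frattiniT hE (P := P ⊓ T) inf_le_right (hf.mono inf_le_left)
  rw [e x ⟨hx, hUT hxU⟩]
  have hy : f₀ x ∈ U :=
    stronglyClosed_apply (stronglyClosed_of_isNormal hUn) hf₀ ⟨hx, hUT hxU⟩ hxU
  have hmQ : IsMap F E.core (autFun α) := ((isMap_autFun hTS).mpr hα).mono hQn.1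
  obtain ⟨β, -, eβ⟩ := hmQ.exists_aut
    (img_eq_of_apply hmQ le_rfl fun z hz => autFun_mem_core hE hα hz)
  rw [← eβ _ (hUQ hy), autFun_apply_mem _ (hUQ hy)]
  exact (Subgroup.characteristic_iff_map_eq.mp hU β).le ⟨⟨_, hUQ hy⟩, hy, rfl⟩

/-- The core of an invariant subsystem is normal. -/
theorem isNormal_core_of_invariant (hS : IsPGroup p S) (hF : F.IsSaturated p) :
    F.IsNormal E.core := by
  have hTS : T ≤ S := hE.2.1.1
  haveI := finite_of_le hTS
  have hQn : E.IsNormal E.core := isNormal_core
  haveI := finite_of_le hQn.1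
  haveI := (hS.of_injective _
    (Subgroup.inclusion_injective (hQn.1.trans hTS))).isNilpotent
  obtain ⟨n, hn⟩ := Group.IsNilpotent.nilpotent E.core
  have hsc : ∀ i, F.StronglyClosed ((Subgroup.upperCentralSeries E.core i).map E.core.subtype) :=
    fun i => by
      refine stronglyClosed_char hE (Subgroup.map_subtype_le _) ?_
      rw [Subgroup.subgroupOf, Subgroup.comap_map_eq_self_of_injective E.core.subtype_injective]
      infer_instance
  have htop : (Subgroup.upperCentralSeries E.core n).map E.core.subtype = E.core := by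
    rw [hn, ← MonoidHom.range_eq_map, Subgroup.range_subtype]
  refine isNormal_of_chain hS hF (htop ▸ hsc n) n
    (fun i => (Subgroup.upperCentralSeries E.core i).map E.core.subtype) (by simp) htop.ge
    (fun i _ => hsc (i + 1)) fun i _ => ?_
  rw [Subgroup.commutator_le]
  rintro _ ⟨x, hx, rfl⟩ q hq
  exact ⟨⁅x, ⟨q, hq⟩⁆, Subgroup.mem_upperCentralSeries_succ_iff.mp hx ⟨q, hq⟩,
    map_commutatorElement E.core.subtype x ⟨q, hq⟩⟩

end Core

/-! ### Constrained systems -/

/-- A normal subgroup containing its centralizer makes the system constrained. -/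
theorem constrained_of_centralizer_le (hF : F.IsSaturated p) {Q : Subgroup Ω} (hQ : F.IsNormal Q)
    (hc : centralizerIn S Q ≤ Q) : F.IsConstrained p := by
  refine ⟨hF, Q, hQ, hQ.1, fun R hR => ?_⟩
  obtain ⟨f, hf, rfl⟩ := isConj_iff.mp hR
  obtain ⟨k, -, hkf, hki⟩ := extend_of_isNormal hQ hf
  have e : img Q f = Q := (img_congr fun x hx => (hkf x hx).symm).trans hki
  rw [e]
  exact hc

theorem centralizer_le_core [Finite T] (h : E.IsConstrained p) :
    centralizerIn T E.core ≤ E.core :=
  (ConsClosed.centric_core h).2 _ (isConj_refl isNormal_core.1)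

/-- A system with hyperfocal subgroup in the centre is constrained. -/
theorem constrained_of_hyperfocal_le_center [Finite S] (hS : IsPGroup p S) (hF : F.IsSaturated p)
    (h : F.hyperfocalSubgroup p ≤ F.center) : F.IsConstrained p := by
  have hbot : F.hyperfocalSubgroup p ≤ ⊥ := hyperfocal_le_of_coprime fun P hP α hα hcop x hx => by
    set z := x⁻¹ * autFun α x with hz
    have hzP : z ∈ P := P.mul_mem (P.inv_mem hx) (autFun_mem α hx)
    have hzc : z ∈ F.center := h (mem_hyperfocalSubgroup hP (α := ⟨α, hα⟩)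
      (Cfsg.Lib.Transfer.mem_pResidual_of_coprime (by rwa [← Subgroup.orderOf_coe])) hx)
    have hm := (isMap_autFun hP).mpr hα
    have hfix := apply_of_mem_center hzc hm hzP
    have hpow : ∀ i : ℕ, autFun (α ^ i) x = x * z ^ i := by
      intro i
      induction i with
      | zero => rw [pow_zero, autFun_one hx, pow_zero, mul_one]
      | succ i ih =>
        rw [pow_succ', autFun_mul _ _ hx, ih, hm.map_mul hx (P.pow_mem hzP i), hm.map_pow hzP,
          hfix, pow_succ', ← mul_assoc]
        simp only [hz, mul_inv_cancel_left]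
    have h1 := hpow (orderOf α)
    rw [pow_orderOf_eq_one, autFun_one hx] at h1
    obtain ⟨k, hk⟩ := NormCent.exists_pow_eq_one hS (hP hzP)
    exact NormCent.mem_of_pow_mem_coprime hk hcop
      (Subgroup.mem_bot.mpr (mul_left_cancel (by rw [mul_one]; exact h1.symm)))
  have hin := WeakEmb.inner_of_hyperfocal_bot hS hF hbot
  refine constrained_of_centralizer_le hF (Q := S) (isNormal_of_extendsWith le_rfl fun P f hf => ?_)
    inf_le_left
  obtain ⟨φ, hφ, e⟩ := hf
  rw [isInner_iff.mp hin P] at hφ
  obtain ⟨hP, g, hg, eg⟩ := hφ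
  have hm : IsMap F (P ⊔ S) (fun x => g * x * g⁻¹) := isMap_conj (sup_le hP le_rfl) hg
  exact ⟨_, hm, fun x hx => (eg ⟨x, hx⟩).symm.trans (e ⟨x, hx⟩),
    img_eq_of_apply hm le_sup_right fun x hx => S.mul_mem (S.mul_mem hg hx) (S.inv_mem hg)⟩

/-! ### The existence of a component -/

/-- The system contains every weakly normal subsystem on the same group only if it equals it. -/
theorem le_of_free (hfree : ∀ D : FusionSystem S, D.IsWeaklyNormalIn F p → F.IsSubsystemOf D)
    {D : FusionSystem T} (hD : D.IsWeaklyNormalIn F p) (e : T = S) {P : Subgroup Ω} {f : Ω → Ω}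
    (hf : IsMap F P f) : IsMap D P f := by
  subst e
  exact CharSub.isMap_of_sub (hfree D hD) hf

/-- The factor system by the centre is simple when nothing smaller is not constrained. -/
theorem quasisimple_of_minimal [Finite S] (hS : IsPGroup p S) (hF : F.IsSaturated p)
    (hnc : ¬ F.IsConstrained p)
    (hfree : ∀ D : FusionSystem S, D.IsWeaklyNormalIn F p → F.IsSubsystemOf D)
    (hsmall : ∀ (U : Subgroup Ω) (D : FusionSystem U), D.IsNormalIn F p → U ≠ S →
      D.IsConstrained p) : F.Quasisimple p := by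
  have hcore : F.IsNormal F.core := isNormal_core
  -- the core is central
  have hCS : centralizerIn S F.core = S := by
    by_contra hne
    haveI : Finite (centralizerIn S F.core) := finite_of_le inf_le_left
    have hn := NormCent.centralizerSystem_isNormalIn hS hF hcore
    have hc := hsmall _ _ hn hne
    set C := centralizerSystem F hcore.1
    have hCR : C.core ≤ F.core := le_core (isNormal_core_of_invariant hn.1.2.2 hS hF)
    refine hnc (constrained_of_centralizer_le hF hcore fun c hc' => hCR (centralizer_le_core hc ?_))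
    exact Fusion.mem_centralizerIn.mpr ⟨hc', fun x hx => by
      exact (Fusion.mem_centralizerIn.mp hc').2 x (hCR hx)⟩
  have hRZ : F.core ≤ F.center := by
    refine le_sSup (isCentral_iff.mpr ⟨hcore.1, fun P f hf => ?_⟩)
    have hn := NormCent.centralizerSystem_isNormalIn hS hF hcore
    obtain ⟨-, -, -, k, hk, hkf, hki⟩ := (isMap_of_isCentralizerSystem
      (isCentralizerSystem_centralizerSystem hcore.1)).mp (le_of_free hfree hn.1 hCS hf)
    exact ⟨k, hk, hkf, hki⟩
  have hsub : ∀ (U : Subgroup Ω) (D : FusionSystem U), D.IsNormalIn F p → D.IsConstrained p →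
      U ≤ F.center := fun U D hn hc => by
    haveI : Finite U := finite_of_le hn.1.2.2.2.1.1
    have hQ : D.core ≤ F.center :=
      (le_core (isNormal_core_of_invariant hn.1.2.2 hS hF)).trans hRZ
    intro x hx
    refine hQ (centralizer_le_core hc (Fusion.mem_centralizerIn.mpr ⟨hx, fun z hz => ?_⟩))
    rw [(Subgroup.mem_centralizer_iff.mp (center_le_centralizer F (hQ hz)) x
      (hn.1.2.2.2.1.1 hx)), mul_inv_cancel_right]
  -- the hyperfocal subgroup
  have hperf : F.hyperfocalSubgroup p = S := by
    by_contra hne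
    have hH : F.hyperfocalSubgroup p ≤ S := hyperfocalSubgroup_le F p
    obtain ⟨D, hDs, hDi⟩ := PDeg.exists_system _ rfl hS hF hH le_rfl
    have hn := PPower.normal_of_index hS hF hH
      (fun s hs x hx => conj_mem_hyperfocalSubgroup hs hx) hDs hDi
    exact hnc (constrained_of_hyperfocal_le_center hS hF (hsub _ D hn (hsmall _ D hn hne)))
  refine ⟨hF, hperf, fun E hE => ?_⟩
  set Z := F.center
  have hcen : F.IsCentral Z := isCentral_center
  have hZsc : F.StronglyClosed Z := stronglyClosed_of_apply hcen.1 fun P f hf x hx hxZ => by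
    rw [apply_of_mem_center hxZ hf hx]
    exact hxZ
  set θ := QuotientGroup.mk' (Z.subgroupOf S)
  have hker : ∀ s : S, θ s = 1 ↔ (s : Ω) ∈ Z := fun s =>
    (QuotientGroup.eq_one_iff s).trans Subgroup.mem_subgroupOf
  have hq := isQuot_of_isFactorSystem hZsc hE
  refine ⟨hq.saturated hS hF, fun htop => hnc (constrained_of_hyperfocal_le_center hS hF ?_),
    fun T' D hD => ?_⟩
  · intro x hx
    have hxS := hyperfocalSubgroup_le F p hx
    exact (hker ⟨x, hxS⟩).mp (Subgroup.mem_bot.mp (htop ▸ Subgroup.mem_top _))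
  · have h : NLift.Ctx F Z θ E D p := ⟨hS, hF, hcen, hker, hq, hD⟩
    by_contra hcon
    push Not at hcon
    obtain ⟨hT'ne, hcon⟩ := hcon
    obtain ⟨A, hA, hdown⟩ := h.exists_lift_normal
    set U := preimageAlong θ T'
    haveI : Finite U := finite_of_le (preimageAlong_le _)
    by_cases hUS : U = S
    · have hT'top : T' = ⊤ := by
        refine le_antisymm le_top fun y _ => ?_
        rw [← h.im_pre h.hT']
        obtain ⟨s, rfl⟩ := QuotientGroup.mk'_surjective (Z.subgroupOf S) y
        exact ⟨s, hUS.ge s.2, rfl⟩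
      obtain ⟨P, hP⟩ := hcon hT'top
      refine hP (Set.Subset.antisymm (hD.1.2.2.1 P) fun φ hφ => ?_)
      have hf := isMap_of_mem hφ
      obtain ⟨f, hff, hfe⟩ := hq.exists_lift hf
      obtain ⟨g, hg, eg⟩ := hdown _ f (le_of_free hfree hA hUS hff)
      rw [h.im_pre hf.le] at hg
      refine IsMap.mem_toFun' (hg.congr fun y hy => ?_)
      obtain ⟨x, hx, rfl⟩ := exists_preimage (hq.range.symm ▸ hf.le) hy
      rw [eg x hx, hfe x hx]
    · have hTp : IsPGroup p U :=
        hS.of_injective _ (Subgroup.inclusion_injective (preimageAlong_le (θ := θ) T'))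
      have hn := WeaklyNormal.residual_normal hS hA (PrimeIndex.residual_spec hTp hA.1)
      have hUZ := hsub _ _ hn (hsmall _ _ hn hUS)
      refine hT'ne (le_bot_iff.mp ?_)
      rw [← h.im_pre h.hT']
      rintro _ ⟨s, hs, rfl⟩
      exact Subgroup.mem_bot.mpr ((hker s).mpr (hUZ hs))

theorem exists_component_aux : ∀ (n : ℕ) {S : Subgroup Ω} (F : FusionSystem S), Nat.card S = n →
    Finite S → IsPGroup p S → F.IsSaturated p → ¬ F.IsConstrained p →
      ∃ (T : Subgroup Ω) (C : FusionSystem T), C.IsComponentIn F p := by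
  intro n
  induction n using Nat.strong_induction_on with
  | _ n ih =>
  intro S F hn hfin hS hF hnc
  haveI := hfin
  have hself := isWeaklyNormalIn_self hF
  have hR₀ := PrimeIndex.residual_spec hS hF
  set R₀ := PrimeIndex.residual F p
  have hR₀n : R₀.IsNormalIn F p := WeaklyNormal.residual_normal hS hself hR₀
  have hnc₀ : ¬ R₀.IsConstrained p := fun hc => hnc (constrained_of_centralizer_le hF
    (isNormal_core_of_invariant hR₀n.1.2.2 hS hF) (centralizer_le_core hc))
  have hR₁ := PrimeIndex.residual_spec hS hR₀.1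
  have hR₁F := WeaklyNormal.residual_normal hS hR₀n.1 hR₁
  have hfree : ∀ D : FusionSystem S, D.IsWeaklyNormalIn R₀ p → R₀.IsSubsystemOf D := fun D hD P =>
    (WeaklyNormal.residual_le hS hself hR₀ hR₁F.1 P).trans
      (WeaklyNormal.residual_le hS (isWeaklyNormalIn_self hR₀.1) hR₁ hD P)
  by_contra hno
  apply hno
  refine ⟨S, R₀, .step (.refl R₀ p) hR₀n, quasisimple_of_minimal hS hR₀.1 hnc₀ hfree
    fun U D hn' hne => ?_⟩
  by_contra hnc'
  have hUS : U ≤ S := hn'.1.2.2.2.1.1
  haveI := finite_of_le hUS
  have hlt : Nat.card U < n := hn ▸ lt_of_le_of_ne (Subgroup.card_le_of_le hUS)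
    fun e => hne (Subgroup.eq_of_le_of_card_ge hUS e.ge)
  obtain ⟨V, C, hC, hq⟩ := ih _ hlt D rfl inferInstance
    (hS.of_injective _ (Subgroup.inclusion_injective hUS)) hn'.1.1 hnc'
  refine hno ⟨V, C, ?_, hq⟩
  exact .step (.step hC hn') hR₀n

/-- Constrained systems are exactly those without components. -/
theorem isConstrained_iff [Finite S] (hS : IsPGroup p S) (hF : F.IsSaturated p) :
    F.IsConstrained p ↔ ¬ ∃ (T : Subgroup Ω) (C : FusionSystem T), C.IsComponentIn F p := by
  refine ⟨fun hc ⟨U, C, hC, hq⟩ => ?_, fun hno => ?_⟩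
  · have hUS := subnormal_le hC
    haveI := finite_of_le hUS
    have hUp : IsPGroup p U := hS.of_injective _ (Subgroup.inclusion_injective hUS)
    have hC' := ConsClosed.isConstrained_of_subnormal hS hc hC
    have hQZ : C.core ≤ C.center := NormCent.le_center_of_quasisimple hUp hq isNormal_core
    have hU : U ≤ Subgroup.centralizer (U : Set Ω) := fun x hx => center_le_centralizer C (hQZ
      (centralizer_le_core hC' (Fusion.mem_centralizerIn.mpr ⟨hx, fun z hz => by
        rw [(Subgroup.mem_centralizer_iff.mp (center_le_centralizer C (hQZ hz)) x hx),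
          mul_inv_cancel_right]⟩)))
    exact Cfsg.Agent.S5148.result p hUp C hq ⟨⟨fun a b => Subtype.ext
      (Subgroup.mem_centralizer_iff.mp (hU b.2) a a.2)⟩⟩
  · by_contra hnc
    exact hno (exists_component_aux _ F rfl inferInstance hS hF hnc)

end Cfsg.Lib.Fusion.CompEx
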