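import Mathlib
import Cfsg.Prelude.Def_FusionSystem

/-!
Maps of a fusion system as functions `Ω → Ω` on a subgroup (only the values on the subgroup matter).
-/

set_option autoImplicit false

namespace Cfsg.Lib.Fusion

open Cfsg Cfsg.FusionSystem

variable {Ω : Type*} [Group Ω] {S : Subgroup Ω} {F : FusionSystem S}

/-- `f` restricted to `P` is a map of `F`. -/
def IsMap (F : FusionSystem S) (P : Subgroup Ω) (f : Ω → Ω) : Prop :=
  ∃ φ ∈ F.Hom P, ∀ x : P, φ x = f x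

/-- The subgroup generated by the image of `P` under `f`. -/
def img (P : Subgroup Ω) (f : Ω → Ω) : Subgroup Ω := Subgroup.closure (f '' (P : Set Ω))

open Classical in
/-- A total function extending a homomorphism defined on a subgroup. -/
noncomputable def toFun' {P : Subgroup Ω} (φ : P →* Ω) : Ω → Ω :=
  fun x => if h : x ∈ P then φ ⟨x, h⟩ else 1

theorem toFun'_apply {P : Subgroup Ω} (φ : P →* Ω) (x : P) : toFun' φ (x : Ω) = φ x := by
  simp [toFun', x.2]

theorem toFun'_apply_mem {P : Subgroup Ω} (φ : P →* Ω) {x : Ω} (hx : x ∈ P) :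
    toFun' φ x = φ ⟨x, hx⟩ := by
  simp [toFun', hx]

theorem isMap_of_mem {P : Subgroup Ω} {φ : P →* Ω} (h : φ ∈ F.Hom P) : IsMap F P (toFun' φ) :=
  ⟨φ, h, fun x => (toFun'_apply φ x).symm⟩

theorem isMap_conj {P : Subgroup Ω} {g : Ω} (hP : P ≤ S) (hg : g ∈ S) :
    IsMap F P (fun x => g * x * g⁻¹) :=
  ⟨conjHom P g, F.conj_mem hP hg, fun _ => rfl⟩

theorem isMap_id {P : Subgroup Ω} (hP : P ≤ S) : IsMap F P id :=
  ⟨conjHom P 1, F.conj_mem hP S.one_mem, fun x => by simp [conjHom]⟩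

namespace IsMap

variable {P Q : Subgroup Ω} {f f' g : Ω → Ω}

theorem le (h : IsMap F P f) : P ≤ S := by
  obtain ⟨φ, hφ, -⟩ := h
  exact (F.le_of_mem hφ).1

theorem mem_S (h : IsMap F P f) {x : Ω} (hx : x ∈ P) : f x ∈ S := by
  obtain ⟨φ, hφ, e⟩ := h
  have h1 := (F.le_of_mem hφ).2 ⟨x, hx⟩
  rwa [e] at h1

theorem mem_of_agree (h : IsMap F P f) {φ' : P →* Ω} (e : ∀ x : P, φ' x = f x) : φ' ∈ F.Hom P := by
  obtain ⟨φ, hφ, e'⟩ := h
  have : φ' = φ := MonoidHom.ext fun x => (e x).trans (e' x).symm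
  exact this ▸ hφ

theorem mem_toFun' {φ : P →* Ω} (h : IsMap F P (toFun' φ)) : φ ∈ F.Hom P :=
  h.mem_of_agree fun x => (toFun'_apply φ x).symm

theorem injOn (h : IsMap F P f) : Set.InjOn f P := by
  obtain ⟨φ, hφ, e⟩ := h
  intro x hx y hy hxy
  have : φ ⟨x, hx⟩ = φ ⟨y, hy⟩ := by rw [e, e]; exact hxy
  simpa using F.injective_of_mem hφ this

theorem map_mul (h : IsMap F P f) {x y : Ω} (hx : x ∈ P) (hy : y ∈ P) : f (x * y) = f x * f y := by
  obtain ⟨φ, -, e⟩ := h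
  have := _root_.map_mul φ ⟨x, hx⟩ ⟨y, hy⟩
  rwa [e, e, e] at this

theorem map_one (h : IsMap F P f) : f 1 = 1 := by
  obtain ⟨φ, -, e⟩ := h
  have := _root_.map_one φ
  rwa [e] at this

theorem map_inv (h : IsMap F P f) {x : Ω} (hx : x ∈ P) : f x⁻¹ = (f x)⁻¹ := by
  obtain ⟨φ, -, e⟩ := h
  have := _root_.map_inv φ ⟨x, hx⟩
  rwa [e, e] at this

theorem map_conj (h : IsMap F P f) {x y : Ω} (hx : x ∈ P) (hy : y ∈ P) :
    f (x * y * x⁻¹) = f x * f y * (f x)⁻¹ := by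
  rw [h.map_mul (P.mul_mem hx hy) (P.inv_mem hx), h.map_mul hx hy, h.map_inv hx]

theorem map_pow (h : IsMap F P f) {x : Ω} (hx : x ∈ P) (n : ℕ) : f (x ^ n) = f x ^ n := by
  obtain ⟨φ, -, e⟩ := h
  have := _root_.map_pow φ ⟨x, hx⟩ n
  rwa [e, e] at this

theorem congr (h : IsMap F P f) (e : ∀ x ∈ P, f' x = f x) : IsMap F P f' := by
  obtain ⟨φ, hφ, e'⟩ := h
  exact ⟨φ, hφ, fun x => (e' x).trans (e x x.2).symm⟩

theorem coe_img (h : IsMap F P f) : (img P f : Set Ω) = f '' (P : Set Ω) := by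
  obtain ⟨φ, -, e⟩ := h
  have himg : f '' (P : Set Ω) = (φ.range : Set Ω) := by
    ext y
    constructor
    · rintro ⟨x, hx, rfl⟩
      exact ⟨⟨x, hx⟩, e _⟩
    · rintro ⟨x, rfl⟩
      exact ⟨x, x.2, (e x).symm⟩
  rw [img, himg, Subgroup.closure_eq]

theorem mem_img (h : IsMap F P f) {y : Ω} : y ∈ img P f ↔ ∃ x ∈ P, f x = y := by
  rw [← SetLike.mem_coe, h.coe_img]
  rfl

theorem apply_mem_img {x : Ω} (hx : x ∈ P) : f x ∈ img P f :=
  Subgroup.subset_closure ⟨x, hx, rfl⟩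

theorem img_le_iff {R : Subgroup Ω} : img P f ≤ R ↔ ∀ x ∈ P, f x ∈ R := by
  rw [img, Subgroup.closure_le]
  exact Set.image_subset_iff

theorem img_le (h : IsMap F P f) : img P f ≤ S := img_le_iff.mpr fun _ hx => h.mem_S hx

theorem range_eq (h : IsMap F P f) {φ : P →* Ω} (e : ∀ x : P, φ x = f x) : φ.range = img P f := by
  ext y
  rw [h.mem_img]
  constructor
  · rintro ⟨x, rfl⟩
    exact ⟨x, x.2, (e x).symm⟩
  · rintro ⟨x, hx, rfl⟩
    exact ⟨⟨x, hx⟩, e _⟩

theorem card_img (h : IsMap F P f) : Nat.card (img P f) = Nat.card P := by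
  have := h.coe_img
  calc Nat.card (img P f) = Nat.card ↥((img P f : Subgroup Ω) : Set Ω) := rfl
    _ = Nat.card ↥(f '' (P : Set Ω)) := by rw [this]
    _ = Nat.card ↥(P : Set Ω) := Nat.card_image_of_injOn h.injOn
    _ = Nat.card P := rfl

theorem comp (h : IsMap F P f) (h' : IsMap F Q g) (hPQ : ∀ x ∈ P, f x ∈ Q) :
    IsMap F P (g ∘ f) := by
  obtain ⟨φ, hφ, e⟩ := h
  obtain ⟨ψ, hψ, e'⟩ := h'
  have hc : ∀ x : P, φ x ∈ Q := fun x => by rw [e]; exact hPQ x x.2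
  refine ⟨_, F.comp_mem hφ hψ hc, fun x => ?_⟩
  show ψ (φ.codRestrict Q hc x) = g (f x)
  rw [e']
  exact congrArg g (e x)

theorem mono (h : IsMap F P f) {R : Subgroup Ω} (hR : R ≤ P) : IsMap F R f :=
  ((isMap_id (hR.trans h.le)).comp h fun _ hx => hR hx).congr fun _ _ => rfl

theorem exists_inv (h : IsMap F P f) :
    ∃ g, IsMap F (img P f) g ∧ img (img P f) g = P ∧ (∀ x ∈ P, g (f x) = x) ∧
      ∀ y ∈ img P f, f (g y) = y := by
  obtain ⟨φ, hφ, e⟩ := h
  have hf : IsMap F P f := ⟨φ, hφ, e⟩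
  obtain ⟨ψ, hψ, hinv⟩ := F.inv_mem hφ
  have hr := hf.range_eq e
  have hm : IsMap F (img P f) (toFun' ψ) := hr ▸ isMap_of_mem hψ
  have h1 : ∀ x ∈ P, toFun' ψ (f x) = x := by
    intro x hx
    rw [← e ⟨x, hx⟩, toFun'_apply_mem ψ ⟨⟨x, hx⟩, rfl⟩]
    exact hinv ⟨x, hx⟩
  refine ⟨toFun' ψ, hm, ?_, h1, ?_⟩
  · ext y
    rw [hm.mem_img]
    constructor
    · rintro ⟨z, hz, rfl⟩
      obtain ⟨x, hx, rfl⟩ := hf.mem_img.mp hz
      rwa [h1 x hx]
    · intro hy
      exact ⟨f y, apply_mem_img hy, h1 y hy⟩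
  · intro y hy
    obtain ⟨x, hx, rfl⟩ := hf.mem_img.mp hy
    rw [h1 x hx]

end IsMap

theorem img_comp {P : Subgroup Ω} {f g : Ω → Ω} (hf : IsMap F P f)
    (hg : IsMap F (img P f) g) : img P (g ∘ f) = img (img P f) g := by
  apply SetLike.coe_injective
  rw [(hf.comp hg fun x hx => IsMap.apply_mem_img hx).coe_img, hg.coe_img, hf.coe_img,
    Set.image_comp]

theorem img_congr {P : Subgroup Ω} {f f' : Ω → Ω} (e : ∀ x ∈ P, f x = f' x) :
    img P f = img P f' := by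
  rw [img, img, Set.image_congr e]

theorem img_id (P : Subgroup Ω) : img P id = P := by
  rw [img, Set.image_id, Subgroup.closure_eq]

theorem img_mono {P Q : Subgroup Ω} (h : P ≤ Q) (f : Ω → Ω) : img P f ≤ img Q f :=
  Subgroup.closure_mono (Set.image_mono h)

theorem img_conj (P : Subgroup Ω) (g : Ω) :
    img P (fun x => g * x * g⁻¹) = P.map (MulAut.conj g).toMonoidHom := by
  rw [img]
  conv_rhs => rw [← Subgroup.closure_eq P, MonoidHom.map_closure]
  rfl

theorem isConj_iff {P Q : Subgroup Ω} : F.IsConj P Q ↔ ∃ f, IsMap F P f ∧ img P f = Q := by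
  constructor
  · rintro ⟨φ, hφ, rfl⟩
    exact ⟨toFun' φ, isMap_of_mem hφ,
      ((isMap_of_mem hφ).range_eq fun x => (toFun'_apply φ x).symm).symm⟩
  · rintro ⟨f, hf, rfl⟩
    obtain ⟨φ, hφ, e⟩ := hf
    exact ⟨φ, hφ, IsMap.range_eq ⟨φ, hφ, e⟩ e⟩

theorem isConj_refl {P : Subgroup Ω} (hP : P ≤ S) : F.IsConj P P :=
  isConj_iff.mpr ⟨id, isMap_id hP, img_id P⟩

theorem isConj_symm {P Q : Subgroup Ω} (h : F.IsConj P Q) : F.IsConj Q P := by
  obtain ⟨f, hf, rfl⟩ := isConj_iff.mp h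
  obtain ⟨g, hg, hi, -, -⟩ := hf.exists_inv
  exact isConj_iff.mpr ⟨g, hg, hi⟩

theorem isConj_trans {P Q R : Subgroup Ω} (h : F.IsConj P Q) (h' : F.IsConj Q R) :
    F.IsConj P R := by
  obtain ⟨f, hf, rfl⟩ := isConj_iff.mp h
  obtain ⟨g, hg, rfl⟩ := isConj_iff.mp h'
  exact isConj_iff.mpr ⟨g ∘ f, hf.comp hg fun x hx => IsMap.apply_mem_img hx, img_comp hf hg⟩

theorem isConj_le {P Q : Subgroup Ω} (h : F.IsConj P Q) : P ≤ S ∧ Q ≤ S := by
  obtain ⟨f, hf, rfl⟩ := isConj_iff.mp h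
  exact ⟨hf.le, hf.img_le⟩

theorem isConj_card {P Q : Subgroup Ω} (h : F.IsConj P Q) : Nat.card Q = Nat.card P := by
  obtain ⟨f, hf, rfl⟩ := isConj_iff.mp h
  exact hf.card_img

/-- Extensionality for fusion systems in terms of `IsMap`. -/
theorem le_iff_isMap {E : FusionSystem S} :
    F ≤ E ↔ ∀ (P : Subgroup Ω) (f : Ω → Ω), IsMap F P f → IsMap E P f := by
  constructor
  · rintro h P f ⟨φ, hφ, e⟩
    exact ⟨φ, h P hφ, e⟩
  · intro h P φ hφ
    exact (h P _ (isMap_of_mem hφ)).mem_toFun'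

theorem hom_eq_iff_isMap {T : Subgroup Ω} {E : FusionSystem T} {P : Subgroup Ω} :
    E.Hom P = F.Hom P ↔ ∀ f : Ω → Ω, IsMap E P f ↔ IsMap F P f := by
  constructor
  · intro h f
    simp only [IsMap, h]
  · intro h
    ext φ
    exact ⟨fun hφ => ((h _).mp (isMap_of_mem hφ)).mem_toFun',
      fun hφ => ((h _).mpr (isMap_of_mem hφ)).mem_toFun'⟩

theorem fusionSystem_ext {E : FusionSystem S} (h : ∀ P : Subgroup Ω, E.Hom P = F.Hom P) :
    E = F := by
  cases E; cases F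
  simp only [FusionSystem.mk.injEq]
  exact funext h

/-! ### The automizer -/

theorem mem_autSet_mul {P : Subgroup Ω} {α β : MulAut P}
    (hα : P.subtype.comp α.toMonoidHom ∈ F.Hom P) (hβ : P.subtype.comp β.toMonoidHom ∈ F.Hom P) :
    P.subtype.comp (α * β).toMonoidHom ∈ F.Hom P := by
  have h := F.comp_mem hβ hα (fun x => (β x).2)
  exact h

/-- For `P ≤ S` the set defining `autGroup` is already a subgroup. -/
def autSub (F : FusionSystem S) (P : Subgroup Ω) (hP : P ≤ S) : Subgroup (MulAut P) where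
  carrier := {α | P.subtype.comp α.toMonoidHom ∈ F.Hom P}
  mul_mem' := mem_autSet_mul
  one_mem' := (isMap_id (F := F) hP).mem_of_agree fun _ => rfl
  inv_mem' := by
    intro α hα
    have hm := isMap_of_mem hα
    obtain ⟨g, hg, -, hl, -⟩ := hm.exists_inv
    have hP' : P ≤ img P (toFun' (P.subtype.comp α.toMonoidHom)) := by
      intro x hx
      refine hm.mem_img.mpr ⟨(α⁻¹ ⟨x, hx⟩ : P), SetLike.coe_mem _, ?_⟩
      rw [toFun'_apply]
      show ((α (α⁻¹ ⟨x, hx⟩) : P) : Ω) = x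
      simp
    refine (hg.mono hP').mem_of_agree fun x => ?_
    have := hl (α⁻¹ x : P) (SetLike.coe_mem _)
    rw [toFun'_apply] at this
    show ((α⁻¹ x : P) : Ω) = g x
    rw [← this]
    show g ((α (α⁻¹ x) : P) : Ω) = g x
    simp

theorem autGroup_eq {P : Subgroup Ω} (hP : P ≤ S) : F.autGroup P = autSub F P hP := by
  show Subgroup.closure ((autSub F P hP : Subgroup (MulAut P)) : Set (MulAut P)) = _
  exact Subgroup.closure_eq _

theorem mem_autGroup {P : Subgroup Ω} (hP : P ≤ S) {α : MulAut P} :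
    α ∈ F.autGroup P ↔ P.subtype.comp α.toMonoidHom ∈ F.Hom P := by
  rw [autGroup_eq hP]; rfl

theorem autGroup_eq_bot_of_not_le {P : Subgroup Ω} (hP : ¬ P ≤ S) : F.autGroup P = ⊥ := by
  have : {α : MulAut P | P.subtype.comp α.toMonoidHom ∈ F.Hom P} = ∅ :=
    Set.eq_empty_of_forall_notMem fun α h => hP (F.le_of_mem h).1
  rw [FusionSystem.autGroup, this, Subgroup.closure_empty]

open Classical in
/-- An automorphism of `P` as a function on the ambient group. -/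
noncomputable def autFun {P : Subgroup Ω} (α : MulAut P) : Ω → Ω :=
  fun x => if h : x ∈ P then (α ⟨x, h⟩ : P) else 1

theorem autFun_apply {P : Subgroup Ω} (α : MulAut P) (x : P) : autFun α (x : Ω) = (α x : P) := by
  simp [autFun, x.2]

theorem autFun_apply_mem {P : Subgroup Ω} (α : MulAut P) {x : Ω} (hx : x ∈ P) :
    autFun α x = (α ⟨x, hx⟩ : P) := by
  simp [autFun, hx]

theorem autFun_mem {P : Subgroup Ω} (α : MulAut P) {x : Ω} (hx : x ∈ P) : autFun α x ∈ P := by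
  rw [autFun_apply_mem α hx]; exact SetLike.coe_mem _

theorem autFun_mul {P : Subgroup Ω} (α β : MulAut P) {x : Ω} (hx : x ∈ P) :
    autFun (α * β) x = autFun α (autFun β x) := by
  rw [autFun_apply_mem β hx, autFun_apply, autFun_apply_mem _ hx]; rfl

theorem autFun_inv_apply {P : Subgroup Ω} (α : MulAut P) {x : Ω} (hx : x ∈ P) :
    autFun α (autFun α⁻¹ x) = x := by
  rw [autFun_apply_mem α⁻¹ hx, autFun_apply]
  simp

theorem isMap_autFun {P : Subgroup Ω} (hP : P ≤ S) {α : MulAut P} :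
    IsMap F P (autFun α) ↔ α ∈ F.autGroup P := by
  rw [mem_autGroup hP]
  exact ⟨fun h => h.mem_of_agree fun x => (autFun_apply α x).symm,
    fun h => ⟨_, h, fun x => (autFun_apply α x).symm⟩⟩

theorem img_autFun {P : Subgroup Ω} (α : MulAut P) : img P (autFun α) = P := by
  refine le_antisymm (IsMap.img_le_iff.mpr fun x hx => autFun_mem α hx) fun x hx => ?_
  rw [← autFun_inv_apply α hx]
  exact IsMap.apply_mem_img (autFun_mem α⁻¹ hx)

/-- A map of `F` from `P` onto `P` is given by an element of the automizer. -/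
theorem IsMap.exists_aut {P : Subgroup Ω} {f : Ω → Ω} (h : IsMap F P f) (hi : img P f = P) :
    ∃ α ∈ F.autGroup P, ∀ x ∈ P, autFun α x = f x := by
  obtain ⟨φ, hφ, e⟩ := h
  have hf : IsMap F P f := ⟨φ, hφ, e⟩
  have hr : φ.range = P := (hf.range_eq e).trans hi
  let α : MulAut P :=
    (MonoidHom.ofInjective (F.injective_of_mem hφ)).trans (MulEquiv.subgroupCongr hr)
  have hα : ∀ x ∈ P, autFun α x = f x := fun x hx => by
    rw [autFun_apply_mem α hx]
    exact e ⟨x, hx⟩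
  exact ⟨α, (isMap_autFun hf.le).mp (hf.congr hα), hα⟩

end Cfsg.Lib.Fusion
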