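import Cfsg.Agent.Fusion.CenterControl
import Cfsg.Agent.Fusion.Constrained
import Cfsg.Agent.Fusion.NormalCriteria

/-!
The norm map over the automizer of a normal subgroup splits the centre of the system off the centre of the Sylow group.
-/

set_option autoImplicit false

namespace Cfsg.Lib.Fusion

open Cfsg Cfsg.FusionSystem

universe u

variable {Ω : Type u} [Group Ω] {S : Subgroup Ω} {F : FusionSystem S} {p : ℕ}

/-- The centre of the system has a complement in `Z(S)` when some normal subgroup contains `Z(S)`. -/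
theorem center_complement [Finite S] [Fact p.Prime] (hS : IsPGroup p S) (hF : F.IsSaturated p)
    {V : Subgroup Ω} (hV : F.IsNormal V) (hZV : S ⊓ Subgroup.centralizer (S : Set Ω) ≤ V) :
    ∃ K : Subgroup Ω, K ≤ S ⊓ Subgroup.centralizer (S : Set Ω) ∧ F.center ⊓ K = ⊥ ∧
      F.center ⊔ K = S ⊓ Subgroup.centralizer (S : Set Ω) := by
  classical
  set Z := S ⊓ Subgroup.centralizer (S : Set Ω) with hZ
  have hVS : V ≤ S := hV.1
  haveI : Finite V := finite_of_le hVS
  haveI : Finite (MulAut V) :=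
    Finite.of_injective (fun e : MulAut V => ((e : V ≃* V) : V → V)) DFunLike.coe_injective
  obtain ⟨-, hfa, -⟩ := fullyNormalized_props hS hF (fullyNormalized_of_isNormal hV)
  obtain ⟨R, hR⟩ := hfa.2
  let X := F.autGroup V
  let T : Subgroup X := (autInducedBy S V).subgroupOf X
  haveI : Fintype (X ⧸ T) := Fintype.ofFinite _
  set m := T.index with hm
  have hmp : ¬ p ∣ m := by
    intro h
    refine R.not_dvd_index ?_
    rw [hR]
    exact h
  let j : Z →* V := Subgroup.inclusion hZV
  have hjT : ∀ (t : X), t ∈ T → ∀ a : Z, (t : MulAut V) (j a) = j a := by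
    intro t ht a
    obtain ⟨g, hg, hge⟩ := mem_autInducedBy.mp (Subgroup.mem_subgroupOf.mp ht)
    refine Subtype.ext ?_
    rw [hge]
    exact mul_inv_eq_iff_eq_mul.mpr (Subgroup.mem_centralizer_iff.mp a.2.2 g hg)
  have hjc : ∀ (γ : MulAut V) (a : Z), γ (j a) ∈ Subgroup.center V := by
    intro γ a
    rw [Subgroup.mem_center_iff]
    intro w
    obtain ⟨w, rfl⟩ := γ.surjective w
    rw [← map_mul, ← map_mul]
    congr 1
    exact Subtype.ext (Subgroup.mem_centralizer_iff.mp a.2.2 w (hVS w.2))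
  letI : CommGroup (Subgroup.center V) :=
    { (inferInstance : Group (Subgroup.center V)) with
      mul_comm := fun a b => Subtype.ext (Subgroup.mem_center_iff.mp b.2 a) }
  let c : X ⧸ T → Z →* Subgroup.center V := fun q =>
    MonoidHom.mk' (fun a => ⟨(q.out : MulAut V) (j a), hjc _ a⟩) fun a b => Subtype.ext (by
      show (q.out : MulAut V) (j (a * b)) = _
      rw [map_mul, map_mul]
      rfl)
  let ψ : Z →* Subgroup.center V :=
    MonoidHom.mk' (fun a => ∏ q, c q a) fun a b => by simp [Finset.prod_mul_distrib]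
  have hψv : ∀ (a : Z), ((ψ a : V) : V) = (ψ a : V) := fun a => rfl
  -- the norm is fixed by the automizer
  have hfix : ∀ (γ : X) (a : Z), (γ : MulAut V) ((ψ a : Subgroup.center V) : V) = (ψ a : Subgroup.center V) := by
    intro γ a
    let r : Subgroup.center V →* Subgroup.center V := MonoidHom.mk'
      (fun v => ⟨(γ : MulAut V) v, Subgroup.mem_center_iff.mpr fun w => by
        obtain ⟨w, rfl⟩ := (γ : MulAut V).surjective w
        rw [← map_mul, ← map_mul, Subgroup.mem_center_iff.mp v.2 w]⟩)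
      fun v w => Subtype.ext (map_mul (γ : MulAut V) _ _)
    show ((r (ψ a) : Subgroup.center V) : V) = _
    congr 1
    show r (∏ q, c q a) = ∏ q, c q a
    rw [map_prod]
    refine Fintype.prod_equiv (MulAction.toPerm γ) _ _ fun q => ?_
    refine Subtype.ext ?_
    show (γ : MulAut V) ((q.out : MulAut V) (j a)) = ((γ • q).out : MulAut V) (j a)
    obtain ⟨t, ht⟩ : ∃ t : T, (γ • q).out = γ * q.out * (t : X) := by
      obtain ⟨t, ht⟩ := QuotientGroup.mk_out_eq_mul T (γ * q.out)
      refine ⟨t, ?_⟩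
      rw [← ht]
      congr 1
      conv_lhs => rw [← QuotientGroup.out_eq' q]
      rfl
    rw [ht]
    show _ = (γ : MulAut V) ((q.out : MulAut V) ((t : MulAut V) (j a)))
    rw [hjT (t : X) t.2 a]
  have hcenS : F.center ≤ Z := fun z hz => ⟨mem_S_of_center hz,
    Subgroup.mem_centralizer_iff.mpr fun s hs => comm_of_center hz s hs⟩
  -- values of the norm are central in the system
  have hval : ∀ a : Z, (((ψ a : Subgroup.center V) : V) : Ω) ∈ F.center := by
    intro a
    refine mem_center_of_fixesElt (hVS (SetLike.coe_mem _)) fun P f hf => ?_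
    obtain ⟨k, hk, hkf, hki⟩ := extend_of_isNormal hV hf
    obtain ⟨γ, hγ, hγk⟩ := (hk.mono le_sup_right).exists_aut hki
    refine ⟨k, hk.mono (sup_le_sup_left (Subgroup.zpowers_le.mpr (SetLike.coe_mem _)) P), hkf, ?_⟩
    rw [← hγk _ (SetLike.coe_mem _), autFun_apply_mem _ (SetLike.coe_mem _)]
    exact congrArg Subtype.val (hfix ⟨γ, hγ⟩ a)
  -- on the centre of the system the norm is a power
  have hpow : ∀ a : Z, (a : Ω) ∈ F.center → (((ψ a : Subgroup.center V) : V) : Ω) = (a : Ω) ^ m := by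
    intro a ha
    have hca : ∀ q, c q a = ⟨j a, Subgroup.mem_center_iff.mpr fun w =>
        Subtype.ext (Subgroup.mem_centralizer_iff.mp a.2.2 w (hVS w.2))⟩ := fun q => by
      refine Subtype.ext (Subtype.ext ?_)
      show (((q.out : MulAut V) (j a) : V) : Ω) = _
      have hm : IsMap F V (autFun (q.out : MulAut V)) := (isMap_autFun hVS).mpr q.out.2
      have := apply_of_mem_center ha hm (hZV a.2)
      rwa [autFun_apply_mem _ (hZV a.2)] at this
    show (((∏ q, c q a : Subgroup.center V) : V) : Ω) = _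
    rw [Finset.prod_congr rfl fun q _ => hca q, Finset.prod_const, Finset.card_univ]
    rw [show Fintype.card (X ⧸ T) = m from (Nat.card_eq_fintype_card).symm]
    rfl
  refine ⟨ψ.ker.map Z.subtype, Subgroup.map_subtype_le _, ?_, le_antisymm
    (sup_le hcenS (Subgroup.map_subtype_le _)) fun a ha => ?_⟩
  · rw [Subgroup.eq_bot_iff_forall]
    rintro z ⟨hz, w, hw, rfl⟩
    have h1 : (w : Ω) ^ m = 1 := by
      rw [← hpow w hz, MonoidHom.mem_ker.mp hw]
      rfl
    obtain ⟨k, hk⟩ := hS ⟨w, w.2.1⟩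
    have hk' : (w : Ω) ^ p ^ k = 1 := congrArg Subtype.val hk
    exact orderOf_eq_one_iff.mp (Nat.eq_one_of_dvd_coprimes
      ((((Fact.out : p.Prime).coprime_iff_not_dvd).mpr hmp).pow_left k)
      (orderOf_dvd_of_pow_eq_one hk') (orderOf_dvd_of_pow_eq_one h1))
  · set v := ψ ⟨a, ha⟩
    have hvS : ((v : V) : Ω) ∈ S := hVS (SetLike.coe_mem _)
    obtain ⟨k, hk⟩ := hS ⟨_, hvS⟩
    have hk' : ((v : V) : Ω) ^ p ^ k = 1 := congrArg Subtype.val hk
    have hcop : m.Coprime (orderOf ((v : V) : Ω)) :=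
      ((((Fact.out : p.Prime).coprime_iff_not_dvd).mpr hmp).symm.pow_right k).coprime_dvd_right
        (orderOf_dvd_of_pow_eq_one hk')
    obtain ⟨u, hu⟩ : ∃ u : ℕ, (((v : V) : Ω) ^ u) ^ m = ((v : V) : Ω) := by
      obtain ⟨u, hu⟩ := exists_pow_eq_self_of_coprime hcop
      exact ⟨u, by rwa [← pow_mul, mul_comm, pow_mul]⟩
    set w := ((v : V) : Ω) ^ u with hw
    have hwc : w ∈ F.center := F.center.pow_mem (hval _) u
    have hK : a * w⁻¹ ∈ ψ.ker.map Z.subtype := by
      refine ⟨⟨a, ha⟩ * ⟨w, hcenS hwc⟩⁻¹, ?_, rfl⟩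
      rw [SetLike.mem_coe, MonoidHom.mem_ker, map_mul, map_inv]
      refine mul_inv_eq_one.mpr (Subtype.ext (Subtype.ext ?_))
      rw [hpow ⟨w, hcenS hwc⟩ hwc]
      exact hu.symm
    have := Subgroup.mul_mem _ (Subgroup.mem_sup_right (S := F.center) hK) (Subgroup.mem_sup_left hwc)
    simpa using this

end Cfsg.Lib.Fusion
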