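import Cfsg.Agent.Fusion.CenterIndex
import Cfsg.Agent.Fusion.Hyperfocal

/-!
Saturated systems without normal subgroups when the centre has index `p ^ 2`.
-/

set_option autoImplicit false

namespace Cfsg.Lib.Fusion

open Cfsg Cfsg.FusionSystem
open scoped commutatorElement

variable {Ω : Type*} [Group Ω] {S : Subgroup Ω} {F : FusionSystem S} {p : ℕ}

theorem siteCore_invariant {Q : Subgroup Ω} {h : MulAut Q} (hh : h ∈ F.autGroup Q) {x : Q}
    (hx : (x : Ω) ∈ siteCore F Q) : ((h x : Q) : Ω) ∈ siteCore F Q :=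
  mem_siteCore.mpr fun k hk => mem_siteCore.mp hx (k * h) (Subgroup.mul_mem _ hk hh)

theorem aut_mem_zcen {φ : MulAut S} {x : S} (hx : (x : Ω) ∈ zcen S) : ((φ x : S) : Ω) ∈ zcen S := by
  refine mem_zcen.mpr ⟨(φ x).2, fun s hs => ?_⟩
  have h1 : φ.symm ⟨s, hs⟩ * x = x * φ.symm ⟨s, hs⟩ := Subtype.ext ((mem_zcen.mp hx).2 _ (φ.symm _).2)
  have := congrArg φ h1
  rw [map_mul, map_mul, MulEquiv.apply_symm_apply] at this
  exact congrArg Subtype.val this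

theorem aut_mem_dcom {φ : MulAut S} {x : S} (hx : (x : Ω) ∈ dcom S) : ((φ x : S) : Ω) ∈ dcom S := by
  obtain ⟨y, hy, e⟩ := hx
  rw [show x = y from Subtype.ext e.symm]
  have hle : commutator S ≤ (commutator S).comap φ.toMonoidHom := by
    rw [commutator_def, Subgroup.commutator_le]
    intro a _ b _
    rw [Subgroup.mem_comap, map_commutatorElement]
    exact Subgroup.commutator_mem_commutator (Subgroup.mem_top _) (Subgroup.mem_top _)
  exact ⟨φ y, hle hy, rfl⟩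

/-- Coordinates at a site. -/
structure SiteData (F : FusionSystem S) (Q : Subgroup Ω) (d e : Q) (w : MulAut Q) : Prop where
  d_mem : (d : Ω) ∈ dcom S
  d_ne : d ≠ 1
  e_not : (e : Ω) ∉ zcen S
  decomp : ∀ q : Q, ∃ c : Q, (c : Ω) ∈ siteCore F Q ∧ ∃ i j : ℤ, q = c * d ^ i * e ^ j
  disj : ∀ i : ℤ, (d : Ω) ^ i ∈ siteCore F Q → d ^ i = 1
  w_mem : w ∈ F.autGroup Q
  w_d : w d = e⁻¹
  w_e : w e = d
  w_fix : ∀ x : Q, (x : Ω) ∈ siteCore F Q → w x = x
  factor : ∀ h ∈ F.autGroup Q, ∃ k ∈ F.autGroup Q, (∀ x : Q, (x : Ω) ∈ siteCore F Q → k x = x) ∧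
    k⁻¹ * h ∈ Subgroup.normalizer (autInducedBy S Q : Set (MulAut Q)) ∧
      k d ∈ Subgroup.closure ({d, e} : Set Q)

namespace SqCenter

variable [Finite S] [Fact p.Prime] {Q : Subgroup Ω}

theorem exists_siteData (h : SqCenter F p) (hQ : IsSite F p Q) :
    ∃ (d e : Q) (w : MulAut Q), e ^ p = 1 ∧ SiteData F Q d e w := by
  have hp : p.Prime := Fact.out
  haveI := finite_of_le hQ.1.le
  letI : CommGroup Q := { (inferInstance : Group Q) with
    mul_comm := fun a b => Subtype.ext (h.site_comm hQ a.2 b.2) }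
  obtain ⟨g, hg, hgN⟩ := h.exists_moves hQ
  have hgi := Subgroup.inv_mem _ hg
  obtain ⟨d0, hd0, hed0⟩ : ∃ d0 : Q, (d0 : Ω) ∈ dcom S ∧ ((g d0 : Q) : Ω) ∉ zcen S := by
    by_contra hno; push_neg at hno; exact hgN (h.normalizes_autS hQ hg hno)
  obtain ⟨d1, hd1, hd1'⟩ : ∃ d1 : Q, (d1 : Ω) ∈ dcom S ∧ ((g⁻¹ d1 : Q) : Ω) ∉ zcen S := by
    by_contra hno; push_neg at hno
    exact hgN (by simpa using Subgroup.inv_mem _ (h.normalizes_autS hQ hgi hno))
  obtain ⟨a, ha, hane⟩ := h.autS_ne_bot hQ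
  have haF := autInducedBy_le (F := F) hQ.1.le ha
  set e := g d0 with he
  have hgen : ∀ x y : Q, (x : Ω) ∈ dcom S → x ≠ 1 → (y : Ω) ∈ dcom S → ∃ i : ℤ, x ^ i = y :=
    fun x y hx hx1 hy => by
      obtain ⟨i, hi⟩ := h.dcom_gen hx (fun e => hx1 (Subtype.ext e)) hy
      exact ⟨i, Subtype.ext (by rw [Subgroup.coe_zpow]; exact hi)⟩
  have hd01 : d0 ≠ 1 := fun h1 => hed0 (by rw [he, h1, map_one]; exact (zcen S).one_mem)
  have hep : e ^ p = 1 := by
    rw [he, ← map_pow, show d0 ^ p = 1 from Subtype.ext (by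
      rw [Subgroup.coe_pow, h.dcom_pow hd0, Subgroup.coe_one]), map_one]
  set d := e⁻¹ * a e with hd
  have hdD : (d : Ω) ∈ dcom S := h.autS_diff hQ ha e
  have hd1ne : d ≠ 1 := fun h1 => hane e hed0 (inv_mul_eq_one.mp h1).symm
  have hdp : d ^ p = 1 := Subtype.ext (by rw [Subgroup.coe_pow, h.dcom_pow hdD, Subgroup.coe_one])
  set u := g⁻¹ d with hu
  have huZ : (u : Ω) ∉ zcen S := by
    intro h1
    obtain ⟨i, hi⟩ := hgen d d1 hdD hd1ne hd1
    refine hd1' ?_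
    rw [← hi, map_zpow, Subgroup.coe_zpow]
    exact Subgroup.zpow_mem _ h1 i
  have had : a d = d := h.autS_fix ha (h.dZ hdD)
  have hae : a e = e * d := (mul_inv_cancel_left e _).symm
  have hgg : ∀ q : Q, g (g⁻¹ q) = q := fun q => g.apply_symm_apply q
  have hgg' : ∀ q : Q, g⁻¹ (g q) = q := fun q => g.symm_apply_apply q
  set b := g * a * g⁻¹ with hb
  have hbF : b ∈ F.autGroup Q := Subgroup.mul_mem _ (Subgroup.mul_mem _ hg haF) hgi
  have hbe : b e = e := by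
    simp only [hb, MulAut.mul_apply, he, hgg']
    rw [h.autS_fix ha (h.dZ hd0)]
  set ε := d⁻¹ * b d with hε
  obtain ⟨i0, hi0⟩ := hgen d0 _ hd0 hd01 (h.autS_diff hQ ha u)
  have hεe : ε = e ^ i0 := by
    rw [he, ← map_zpow, hi0, map_mul, map_inv, hu, hgg]
    simp only [hε, hb, MulAut.mul_apply]
  have hεne : ε ≠ 1 := by
    intro h1
    apply hane u huZ
    have h2 : d⁻¹ * b d = 1 := h1
    simp only [hb, MulAut.mul_apply] at h2
    have h3 := congrArg g.symm (inv_mul_eq_one.mp h2)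
    rw [MulEquiv.symm_apply_apply] at h3
    exact h3.symm
  have hordE : orderOf e = p := orderOf_eq_prime hep fun h1 => hed0 (by rw [h1]; exact (zcen S).one_mem)
  have hεgen : Subgroup.zpowers ε = Subgroup.zpowers e := Subgroup.eq_of_le_of_card_ge
    (Subgroup.zpowers_le.mpr ⟨i0, hεe.symm⟩) (by
      rw [Nat.card_zpowers, Nat.card_zpowers, hordE, orderOf_eq_prime (by
        rw [hεe, ← zpow_natCast (e ^ i0), ← zpow_mul, mul_comm, zpow_mul, zpow_natCast, hep, one_zpow]) hεne])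
  obtain ⟨m, hm⟩ : ∃ m : ℕ, ε ^ m = e⁻¹ :=
    Submonoid.mem_powers_iff _ _ |>.mp (mem_powers_iff_mem_zpowers.mpr
      (hεgen ▸ Subgroup.inv_mem _ (Subgroup.mem_zpowers e)))
  have hbε : b ε = ε := by rw [hεe, map_zpow, hbe]
  have hbn : ∀ n : ℕ, (b ^ n) d = d * ε ^ n ∧ (b ^ n) e = e := fun n => by
    induction n with
    | zero => simp
    | succ n ih =>
      refine ⟨?_, by rw [pow_succ', MulAut.mul_apply, ih.2, hbe]⟩
      rw [pow_succ', MulAut.mul_apply, ih.1, map_mul, map_pow, hbε, pow_succ' ε,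
        show b d = d * ε from (mul_inv_cancel_left d _).symm, mul_assoc]
  have han : ∀ n : ℕ, (a ^ n) e = e * d ^ n ∧ (a ^ n) d = d := fun n => by
    induction n with
    | zero => simp
    | succ n ih =>
      refine ⟨?_, by rw [pow_succ', MulAut.mul_apply, ih.2, had]⟩
      rw [pow_succ', MulAut.mul_apply, ih.1, map_mul, map_pow, had, hae, pow_succ' d, mul_assoc]
  set w := a * b ^ m * a with hw
  have hwF : w ∈ F.autGroup Q :=
    Subgroup.mul_mem _ (Subgroup.mul_mem _ haF (Subgroup.pow_mem _ hbF m)) haF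
  have hwd : w d = e⁻¹ := by
    simp only [hw, MulAut.mul_apply, had, (hbn m).1, hm, map_mul, map_inv, hae]
    simp [mul_comm, mul_left_comm]
  have hwe : w e = d := by
    simp only [hw, MulAut.mul_apply, hae, map_mul, (hbn m).1, (hbn m).2, hm, map_inv, had]
    simp [mul_comm, mul_left_comm]
  have hbfix : ∀ x : Q, ((g⁻¹ x : Q) : Ω) ∈ zcen S → b x = x := fun x hx => by
    simp only [hb, MulAut.mul_apply, h.autS_fix ha hx, hgg]
  have hwfix : ∀ x : Q, (x : Ω) ∈ zcen S → ((g⁻¹ x : Q) : Ω) ∈ zcen S → w x = x := fun x hx hx' => by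
    have hbm : ∀ n : ℕ, (b ^ n) x = x := fun n => by
      induction n with
      | zero => simp
      | succ n ih => rw [pow_succ', MulAut.mul_apply, ih, hbfix x hx']
    simp only [hw, MulAut.mul_apply, h.autS_fix ha hx, hbm]
  have hafix : ∀ (n : ℕ) (x : Q), (x : Ω) ∈ zcen S → (a ^ n) x = x := fun n x hx =>
    h.autS_fix (Subgroup.pow_mem _ ha n) hx
  -- for every automorphism a vector sent into the centre
  have hfind : ∀ f ∈ F.autGroup Q, ∃ k ∈ F.autGroup Q,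
      (∀ x : Q, (x : Ω) ∈ zcen S → ((g⁻¹ x : Q) : Ω) ∈ zcen S → k x = x) ∧
      f * k ∈ Subgroup.normalizer (autInducedBy S Q : Set (MulAut Q)) ∧
      k d ∈ Subgroup.closure ({d, e} : Set Q) := by
    intro f hf
    have hfin : ∀ k ∈ F.autGroup Q, ((f (k d) : Q) : Ω) ∈ zcen S →
        f * k ∈ Subgroup.normalizer (autInducedBy S Q : Set (MulAut Q)) := fun k hk hkd => by
      refine h.normalizes_autS hQ (Subgroup.mul_mem _ hf hk) fun x hx => ?_
      obtain ⟨i, rfl⟩ := hgen d x hdD hd1ne hx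
      rw [map_zpow, MulAut.mul_apply, Subgroup.coe_zpow]
      exact Subgroup.zpow_mem _ hkd i
    by_cases hfd : ((f d : Q) : Ω) ∈ zcen S
    · exact ⟨1, Subgroup.one_mem _, fun _ _ _ => rfl, hfin 1 (Subgroup.one_mem _) hfd,
        Subgroup.subset_closure (by simp)⟩
    · obtain ⟨z, hz, i, hi⟩ := h.site_gen hQ (f d).2 hfd (f e).2
      obtain ⟨n, hn⟩ : ∃ n : ℕ, d ^ n = d ^ (-i) := Submonoid.mem_powers_iff _ _ |>.mp
        (mem_powers_iff_mem_zpowers.mpr (Subgroup.zpow_mem _ (Subgroup.mem_zpowers d) (-i)))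
      have hk : (a ^ n * w) d = (e * d ^ (-i))⁻¹ := by
        rw [MulAut.mul_apply, hwd, map_inv, (han n).1, hn]
      refine ⟨a ^ n * w, Subgroup.mul_mem _ (Subgroup.pow_mem _ haF n) hwF,
        fun x hx hx' => by rw [MulAut.mul_apply, hwfix x hx hx', hafix n x hx],
        hfin _ (Subgroup.mul_mem _ (Subgroup.pow_mem _ haF n) hwF) ?_, ?_⟩
      · rw [hk, map_inv, map_mul, map_zpow, Subgroup.coe_inv, Subgroup.coe_mul, Subgroup.coe_zpow]
        refine Subgroup.inv_mem _ ?_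
        rw [hi, mul_assoc, ← zpow_add, add_neg_cancel, zpow_zero, mul_one]
        exact hz
      · rw [hk]
        exact Subgroup.inv_mem _ (Subgroup.mul_mem _ (Subgroup.subset_closure (by simp))
          (Subgroup.zpow_mem _ (Subgroup.subset_closure (by simp)) _))
  have hcore : ∀ x : Q, (x : Ω) ∈ siteCore F Q ↔
      ((x : Ω) ∈ zcen S ∧ ((g⁻¹ x : Q) : Ω) ∈ zcen S) := by
    refine fun x => ⟨fun hx => ⟨siteCore_le_zcen Q hx, mem_siteCore.mp hx _ hgi⟩,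
      fun ⟨hx, hx'⟩ => mem_siteCore.mpr fun f hf => ?_⟩
    obtain ⟨k, -, hkfix, hkN, -⟩ := hfind f hf
    have := (h.normalizer_preserves hQ hkN).1 x hx
    rwa [MulAut.mul_apply, hkfix x hx hx'] at this
  refine ⟨d, e, w, hep, ⟨hdD, hd1ne, hed0, fun q => ?_, fun i hi => ?_, hwF, hwd, hwe,
    fun x hx => hwfix x ((hcore x).mp hx).1 ((hcore x).mp hx).2, fun f hf => ?_⟩⟩
  · obtain ⟨z, hz, j, hj⟩ := h.site_gen hQ e.2 hed0 q.2
    set zq : Q := ⟨z, zcen_le_site hQ hz⟩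
    obtain ⟨z', hz', i, hi⟩ := h.site_gen hQ u.2 huZ (g⁻¹ zq).2
    set zq' : Q := ⟨z', zcen_le_site hQ hz'⟩
    have hi' : g⁻¹ zq = zq' * u ^ i := Subtype.ext (by simpa using hi)
    refine ⟨zq * d ^ (-i), (hcore _).mpr ⟨?_, ?_⟩, i, j, ?_⟩
    · rw [Subgroup.coe_mul, Subgroup.coe_zpow]
      exact Subgroup.mul_mem _ hz (Subgroup.zpow_mem _ (h.dZ hdD) _)
    · rw [map_mul, map_zpow, hi', ← hu, mul_assoc, ← zpow_add, add_neg_cancel, zpow_zero, mul_one]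
      exact hz'
    · rw [mul_assoc (zq : Q) (d ^ (-i)), ← zpow_add, neg_add_cancel, zpow_zero, mul_one]
      exact Subtype.ext (by simpa using hj)
  · by_contra hne
    apply huZ
    obtain ⟨n, hn⟩ := hgen (d ^ i) d (by rw [Subgroup.coe_zpow]; exact Subgroup.zpow_mem _ hdD i) hne hdD
    rw [hu, ← hn, map_zpow, Subgroup.coe_zpow]
    refine Subgroup.zpow_mem _ ((hcore _).mp ?_).2 n
    rw [Subgroup.coe_zpow]; exact hi
  · obtain ⟨k, hk, hkfix, hkN, hkV⟩ := hfind f⁻¹ (Subgroup.inv_mem _ hf)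
    refine ⟨k, hk, fun x hx => hkfix x ((hcore x).mp hx).1 ((hcore x).mp hx).2, ?_, hkV⟩
    simpa using Subgroup.inv_mem _ hkN

/-- Automorphisms normalizing `Aut_S(Q)` extend to `S`. -/
theorem extend_normalizer (h : SqCenter F p) (hQ : IsSite F p Q) {n : MulAut Q}
    (hn : n ∈ F.autGroup Q) (hnN : n ∈ Subgroup.normalizer (autInducedBy S Q : Set (MulAut Q))) :
    ∃ φ ∈ F.autGroup S, ∀ q : Q, ((φ ⟨q, hQ.1.le q.2⟩ : S) : Ω) = (n q : Q) := by
  have hrec := (fullyNormalized_props h.isP h.sat hQ.2.1).2.2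
  have hm := (isMap_autFun hQ.1.le).mpr hn
  obtain ⟨f, hf, hag⟩ := receptive_extend hrec hm (img_autFun n)
  have hext : S ≤ extSub S Q (autFun n) := fun s hs => by
    have hsn := h.site_normalized hQ hs
    obtain ⟨s', hs', es⟩ := mem_autInducedBy.mp
      ((Subgroup.mem_normalizer_iff.mp hnN _).mp (conjAut_mem_autInducedBy hsn hs))
    refine mem_extSub.mpr ⟨hs, hsn, s', hs', fun x hx => ?_⟩
    rw [autFun_apply_mem n hx, ← es, MulAut.mul_apply, MulAut.mul_apply,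
      show n⁻¹ (n ⟨x, hx⟩) = ⟨x, hx⟩ from n.symm_apply_apply _,
      show s * x * s⁻¹ = ((conjAut Q s hsn ⟨x, hx⟩ : Q) : Ω) from (conjAut_apply hsn ⟨x, hx⟩).symm,
      autFun_apply]
  have hfS := hf.mono hext
  obtain ⟨φ, hφ, hφe⟩ := hfS.exists_aut (img_eq_of_apply hfS le_rfl fun u hu => hfS.mem_S hu)
  exact ⟨φ, hφ, fun q => by
    rw [← autFun_apply φ, hφe _ (hQ.1.le q.2), hag _ q.2, autFun_apply]⟩

/-- The restriction to a site of an automorphism of `S` preserving it. -/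
theorem restrict_site (hQ : IsSite F p Q) {φ : MulAut S} (hφ : φ ∈ F.autGroup S)
    (hpres : ∀ q : Q, ((φ ⟨q, hQ.1.le q.2⟩ : S) : Ω) ∈ Q) :
    ∃ α ∈ F.autGroup Q, ∀ q : Q, ((α q : Q) : Ω) = (φ ⟨q, hQ.1.le q.2⟩ : S) := by
  have hm := ((isMap_autFun le_rfl).mpr hφ).mono hQ.1.le
  obtain ⟨α, hα, e⟩ := hm.exists_aut (img_eq_of_apply hm le_rfl fun x hx => by
    rw [autFun_apply_mem φ (hQ.1.le hx)]
    exact hpres ⟨x, hx⟩)
  exact ⟨α, hα, fun q => by rw [← autFun_apply α q, e _ q.2, autFun_apply_mem φ (hQ.1.le q.2)]⟩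

theorem pow_autS_index (h : SqCenter F p) :
    ∃ n : ℕ, ¬ p ∣ n ∧ ∀ φ ∈ F.autGroup S, ∃ s ∈ S, ∀ x : S, (((φ ^ n) x : S) : Ω) = s * x * s⁻¹ := by
  obtain ⟨-, hn⟩ := (isFullyAutomized_iff h.isP).mp (fullyNormalized_props h.isP h.sat
    (fullyNormalized_of_normalized (F := F) le_rfl Subgroup.le_normalizer)).2.1
  haveI : ((autInducedBy S S).subgroupOf (F.autGroup S)).Normal := ⟨fun x hx g => by
    obtain ⟨s, hs, es⟩ := mem_autInducedBy.mp (Subgroup.mem_subgroupOf.mp hx)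
    refine Subgroup.mem_subgroupOf.mpr (mem_autInducedBy.mpr
      ⟨((g : MulAut S) ⟨s, hs⟩ : S), ((g : MulAut S) ⟨s, hs⟩).2, fun y => ?_⟩)
    have : (x : MulAut S) ((g : MulAut S).symm y) = ⟨s, hs⟩ * (g : MulAut S).symm y * ⟨s, hs⟩⁻¹ :=
      Subtype.ext (es _)
    rw [Subgroup.coe_mul, Subgroup.coe_mul, Subgroup.coe_inv, MulAut.mul_apply, MulAut.mul_apply,
      show ((g : MulAut S))⁻¹ y = (g : MulAut S).symm y from rfl, this, map_mul, map_mul, map_inv,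
      MulEquiv.apply_symm_apply]
    rfl⟩
  refine ⟨_, hn, fun φ hφ => ?_⟩
  have := Subgroup.pow_index_mem ((autInducedBy S S).subgroupOf (F.autGroup S)) ⟨φ, hφ⟩
  exact mem_autInducedBy.mp (Subgroup.mem_subgroupOf.mp this)

/-- Two automorphisms agreeing on the derived subgroup and trivial on the centre modulo it agree
on the centre. -/
theorem agree_on_zcen (h : SqCenter F p) {φ₁ φ₂ : MulAut S} (h₁ : φ₁ ∈ F.autGroup S)
    (h₂ : φ₂ ∈ F.autGroup S) (hD : ∀ x : S, (x : Ω) ∈ dcom S → φ₁ x = φ₂ x)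
    (hZ₁ : ∀ x : S, (x : Ω) ∈ zcen S → ((x⁻¹ * φ₁ x : S) : Ω) ∈ dcom S)
    (hZ₂ : ∀ x : S, (x : Ω) ∈ zcen S → ((x⁻¹ * φ₂ x : S) : Ω) ∈ dcom S) :
    ∀ x : S, (x : Ω) ∈ zcen S → φ₁ x = φ₂ x := by
  intro x hx
  set ρ := φ₁⁻¹ * φ₂ with hρ
  have hρD : ∀ y : S, (y : Ω) ∈ dcom S → ρ y = y := fun y hy => by
    rw [hρ, MulAut.mul_apply, ← hD y hy]
    exact φ₁.symm_apply_apply y
  have hδ : ((x⁻¹ * ρ x : S) : Ω) ∈ dcom S := by
    have h3 : (((φ₁ x)⁻¹ * φ₂ x : S) : Ω) ∈ dcom S := by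
      have := Subgroup.mul_mem _ (Subgroup.inv_mem _ (hZ₁ x hx)) (hZ₂ x hx)
      convert this using 1
      simp only [Subgroup.coe_mul, Subgroup.coe_inv]
      group
    have := aut_mem_dcom (φ := φ₁⁻¹) h3
    rwa [map_mul, map_inv, show φ₁⁻¹ (φ₁ x) = x from φ₁.symm_apply_apply x] at this
  have hn : ∀ n : ℕ, (ρ ^ n) x = x * (x⁻¹ * ρ x) ^ n := fun n => by
    induction n with
    | zero => simp
    | succ n ih =>
      rw [pow_succ', MulAut.mul_apply, ih, map_mul, map_pow, hρD _ hδ, pow_succ' (x⁻¹ * ρ x),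
        ← mul_assoc x, mul_inv_cancel_left]
  obtain ⟨n, hpn, hin⟩ := h.pow_autS_index
  obtain ⟨s, hs, es⟩ := hin ρ (Subgroup.mul_mem _ (Subgroup.inv_mem _ h₁) h₂)
  have hfix : (ρ ^ n) x = x := Subtype.ext (by
    rw [es, (mem_zcen.mp hx).2 s hs, mul_inv_cancel_right])
  rw [hn] at hfix
  have h1 : (x⁻¹ * ρ x) ^ n = 1 := mul_eq_left.mp hfix
  have h2 : (x⁻¹ * ρ x) ^ p = 1 := Subtype.ext (by
    rw [Subgroup.coe_pow, h.dcom_pow hδ, Subgroup.coe_one])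
  have h3 : x⁻¹ * ρ x = 1 := orderOf_eq_one_iff.mp (Nat.eq_one_of_dvd_coprimes
    (((Fact.out : p.Prime).coprime_iff_not_dvd).mpr hpn) (orderOf_dvd_of_pow_eq_one h2)
    (orderOf_dvd_of_pow_eq_one h1))
  have h4 : ρ x = x := (inv_mul_eq_one.mp h3).symm
  rw [hρ, MulAut.mul_apply] at h4
  have := congrArg φ₁ h4
  rwa [show φ₁ (φ₁⁻¹ (φ₂ x)) = φ₂ x from φ₁.apply_symm_apply _, eq_comm] at this

/-- A subgroup preserved at `S` and at all sites, and contained in them, is normal. -/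
theorem isNormal_of_sites (h : SqCenter F p) {U : Subgroup Ω} (hUS : U ≤ S)
    (hUn : S ≤ Subgroup.normalizer (U : Set Ω)) (hUQ : ∀ Q, IsSite F p Q → U ≤ Q)
    (hS' : ∀ φ ∈ F.autGroup S, ∀ x : S, (x : Ω) ∈ U → ((φ x : S) : Ω) ∈ U)
    (hQ' : ∀ Q, IsSite F p Q → ∀ α ∈ F.autGroup Q, ∀ x : Q, (x : Ω) ∈ U → ((α x : Q) : Ω) ∈ U) :
    F.IsNormal U := by
  refine isNormal_of_extendsWith hUS fun P f hf => alperin_radical h.isP h.sat
    (isMapClass_extendsWith hUS (conj_map_eq hUS hUn)) (fun g hg => ?_)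
    (fun Q hQS hQn hQc hQr _ α hα => ?_) hf
  · refine ⟨g, by rwa [sup_eq_left.mpr hUS], fun _ _ => rfl, img_eq_of_apply hg hUS fun x hx => ?_⟩
    obtain ⟨φ, hφ, e⟩ := hg.exists_aut (img_eq_of_apply hg le_rfl fun u hu => hg.mem_S hu)
    rw [← e x (hUS hx), autFun_apply_mem φ (hUS hx)]
    exact hS' φ hφ _ hx
  · have hQ : IsSite F p Q := ⟨hQS, hQn, hQc, hQr⟩
    have hm := (isMap_autFun hQS.le).mpr hα
    refine ⟨autFun α, by rwa [sup_eq_left.mpr (hUQ Q hQ)], fun _ _ => rfl,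
      img_eq_of_apply hm (hUQ Q hQ) fun x hx => ?_⟩
    rw [autFun_apply_mem α (hUQ Q hQ hx)]
    exact hQ' Q hQ α hα _ hx

theorem eq_bot_of_sites (h : SqCenter F p) (hcore : F.core = ⊥) {U : Subgroup Ω} (hUS : U ≤ S)
    (hUn : S ≤ Subgroup.normalizer (U : Set Ω)) (hUQ : ∀ Q, IsSite F p Q → U ≤ Q)
    (hS' : ∀ φ ∈ F.autGroup S, ∀ x : S, (x : Ω) ∈ U → ((φ x : S) : Ω) ∈ U)
    (hQ' : ∀ Q, IsSite F p Q → ∀ α ∈ F.autGroup Q, ∀ x : Q, (x : Ω) ∈ U → ((α x : Q) : Ω) ∈ U) :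
    U = ⊥ :=
  le_bot_iff.mp (hcore ▸ le_sSup (show U ∈ {Q | F.IsNormal Q} from
    h.isNormal_of_sites hUS hUn hUQ hS' hQ'))

theorem normalizes_of_le_zcen {U : Subgroup Ω} (hU : U ≤ zcen S) :
    S ≤ Subgroup.normalizer (U : Set Ω) := fun s hs => by
  haveI := finite_of_le (hU.trans zcen_le)
  exact mem_normalizer_of_maps_finite fun x hx => by
    rw [(mem_zcen.mp (hU hx)).2 s hs, mul_inv_cancel_right]; exact hx

theorem exists_site (h : SqCenter F p) (hS1 : S ≠ ⊥) (hcore : F.core = ⊥) :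
    ∃ Q, IsSite F p Q := by
  by_contra hno
  push_neg at hno
  refine hS1 (h.eq_bot_of_sites hcore le_rfl Subgroup.le_normalizer
    (fun Q hQ => absurd hQ (hno Q)) (fun φ _ x _ => (φ x).2) (fun Q hQ => absurd hQ (hno Q)))

theorem zcen_decomp (h : SqCenter F p) (hQ : IsSite F p Q) {d e : Q} {w : MulAut Q}
    (hD : SiteData F Q d e w) (hep : e ^ p = 1) {q : Q} (hq : (q : Ω) ∈ zcen S) :
    ∃ c : Q, (c : Ω) ∈ siteCore F Q ∧ ∃ i : ℤ, q = c * d ^ i := by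
  haveI := finite_of_le hQ.1.le
  obtain ⟨c, hc, i, j, rfl⟩ := hD.decomp q
  refine ⟨c, hc, i, ?_⟩
  suffices e ^ j = 1 by rw [this, mul_one]
  by_contra hne
  apply hD.e_not
  have hej : ((e ^ j : Q) : Ω) ∈ zcen S := by
    have := Subgroup.mul_mem _ (Subgroup.inv_mem _ (Subgroup.mul_mem _ (siteCore_le_zcen Q hc)
      (Subgroup.zpow_mem _ (h.dZ hD.d_mem) i))) hq
    simpa [mul_assoc] using this
  have hgen : Subgroup.zpowers (e ^ j) = Subgroup.zpowers e := by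
    refine Subgroup.eq_of_le_of_card_ge (Subgroup.zpowers_le.mpr ⟨j, rfl⟩) ?_
    rw [Nat.card_zpowers, Nat.card_zpowers, orderOf_eq_prime hep fun h1 => hD.e_not (by
      rw [h1]; exact (zcen S).one_mem), orderOf_eq_prime (by
        rw [← zpow_natCast (e ^ j), ← zpow_mul, mul_comm, zpow_mul, zpow_natCast, hep, one_zpow]) hne]
  obtain ⟨n, hn⟩ := hgen.ge (Subgroup.mem_zpowers e)
  rw [← hn, Subgroup.coe_zpow]
  exact Subgroup.zpow_mem _ hej n

/-- For odd `p` an automorphism of `S` attached to a site. -/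
theorem exists_reflection (h : SqCenter F p) (hp2 : p ≠ 2) (hQ : IsSite F p Q) :
    ∃ φ ∈ F.autGroup S, (∀ x : S, (x : Ω) ∈ dcom S → φ x = x⁻¹) ∧
      (∀ x : S, (x : Ω) ∈ zcen S → ((x⁻¹ * φ x : S) : Ω) ∈ dcom S) ∧
      ∀ x : S, (x : Ω) ∈ siteCore F Q ↔ ((x : Ω) ∈ zcen S ∧ φ x = x) := by
  obtain ⟨d, e, w, hep, hD⟩ := h.exists_siteData hQ
  have hτd : (w * w) d = d⁻¹ := by rw [MulAut.mul_apply, hD.w_d, map_inv, hD.w_e]
  have hτF := Subgroup.mul_mem _ hD.w_mem hD.w_mem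
  have hgenD : ∀ x : Q, (x : Ω) ∈ dcom S → ∃ i : ℤ, d ^ i = x := fun x hx => by
    obtain ⟨i, hi⟩ := h.dcom_gen hD.d_mem (fun e => hD.d_ne (Subtype.ext e)) hx
    exact ⟨i, Subtype.ext (by rw [Subgroup.coe_zpow]; exact hi)⟩
  have hτD : ∀ x : Q, (x : Ω) ∈ dcom S → (w * w) x = x⁻¹ := fun x hx => by
    obtain ⟨i, rfl⟩ := hgenD x hx
    rw [map_zpow, hτd, inv_zpow]
  obtain ⟨φ, hφ, hφe⟩ := h.extend_normalizer hQ hτF (h.normalizes_autS hQ hτF fun x hx => by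
    rw [hτD x hx]; exact h.dZ (Subgroup.inv_mem _ hx))
  have hin : ∀ {x : S}, (x : Ω) ∈ zcen S → (x : Ω) ∈ Q := fun hx => zcen_le_site hQ hx
  have hzform : ∀ x : S, ∀ hx : (x : Ω) ∈ zcen S, ∃ c : Q, (c : Ω) ∈ siteCore F Q ∧ ∃ i : ℤ,
      (⟨x, hin hx⟩ : Q) = c * d ^ i ∧ ((φ x : S) : Ω) = (c * (d ^ i)⁻¹ : Q) := fun x hx => by
    obtain ⟨c, hc, i, hi⟩ := h.zcen_decomp hQ hD hep (q := ⟨x, hin hx⟩) hx
    refine ⟨c, hc, i, hi, ?_⟩
    rw [show x = ⟨((⟨x, hin hx⟩ : Q) : Ω), x.2⟩ from rfl, hφe, hi, map_mul,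
      hτD (d ^ i) (by rw [Subgroup.coe_zpow]; exact Subgroup.zpow_mem _ hD.d_mem i), MulAut.mul_apply,
      hD.w_fix c hc, hD.w_fix c hc]
  refine ⟨φ, hφ, fun x hx => Subtype.ext ?_, fun x hx => ?_, fun x => ?_⟩
  · rw [show x = ⟨((⟨x, hin (h.dZ hx)⟩ : Q) : Ω), x.2⟩ from rfl, hφe, hτD _ hx]
    rfl
  · obtain ⟨c, hc, i, hi, hφx⟩ := hzform x hx
    rw [Subgroup.coe_mul, Subgroup.coe_inv, hφx, show (x : Ω) = ((c * d ^ i : Q) : Ω) from congrArg Subtype.val hi]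
    simp only [Subgroup.coe_mul, Subgroup.coe_inv, Subgroup.coe_zpow, mul_inv_rev, mul_assoc,
      inv_mul_cancel_left]
    exact Subgroup.mul_mem _ (Subgroup.inv_mem _ (Subgroup.zpow_mem _ hD.d_mem i))
      (Subgroup.inv_mem _ (Subgroup.zpow_mem _ hD.d_mem i))
  constructor
  · intro hx
    have hxZ := siteCore_le_zcen Q hx
    refine ⟨hxZ, Subtype.ext ?_⟩
    rw [show x = ⟨((⟨x, hin hxZ⟩ : Q) : Ω), x.2⟩ from rfl, hφe, MulAut.mul_apply,
      hD.w_fix ⟨x, hin hxZ⟩ hx, hD.w_fix ⟨x, hin hxZ⟩ hx]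
  · rintro ⟨hx, hfix⟩
    obtain ⟨c, hc, i, hi, hφx⟩ := hzform x hx
    rw [hfix] at hφx
    have h1 : c * d ^ i = c * (d ^ i)⁻¹ := hi.symm.trans (Subtype.ext hφx)
    have h2 : (d ^ i) * (d ^ i) = 1 := by
      have := mul_left_cancel h1
      exact eq_inv_iff_mul_eq_one.mp this
    have hdp : (d ^ i) ^ p = 1 := Subtype.ext (by
      rw [Subgroup.coe_pow, Subgroup.coe_zpow, h.dcom_pow (Subgroup.zpow_mem _ hD.d_mem i),
        Subgroup.coe_one])
    have h3 : d ^ i = 1 := orderOf_eq_one_iff.mp (Nat.eq_one_of_dvd_coprimes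
      ((Nat.coprime_primes Nat.prime_two (Fact.out : p.Prime)).mpr (Ne.symm hp2))
      (orderOf_dvd_of_pow_eq_one (by rw [pow_two, h2])) (orderOf_dvd_of_pow_eq_one hdp))
    rw [show (x : Ω) = ((⟨x, hin hx⟩ : Q) : Ω) from rfl, hi, h3, mul_one]
    exact hc

theorem siteCore_eq_bot_odd (h : SqCenter F p) (hp2 : p ≠ 2) (hcore : F.core = ⊥)
    (hQ : IsSite F p Q) : siteCore F Q = ⊥ := by
  have hle := siteCore_le_zcen (F := F) Q
  obtain ⟨φ, hφ, hφD, hφZ, hφC⟩ := h.exists_reflection hp2 hQ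
  refine h.eq_bot_of_sites hcore (hle.trans zcen_le) (normalizes_of_le_zcen hle)
    (fun R hR => hle.trans (zcen_le_site hR)) (fun ψ hψ x hx => ?_) (fun R hR α hα x hx => ?_)
  · obtain ⟨hxZ, hfix⟩ := (hφC x).mp hx
    have hψs : ∀ y : S, ψ (ψ⁻¹ y) = y := fun y => ψ.apply_symm_apply y
    have key := h.agree_on_zcen hφ
      (Subgroup.mul_mem _ (Subgroup.mul_mem _ hψ hφ) (Subgroup.inv_mem _ hψ))
      (fun y hy => by
        rw [hφD y hy, MulAut.mul_apply, MulAut.mul_apply, hφD _ (aut_mem_dcom hy), map_inv, hψs])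
      hφZ (fun y hy => by
        have := aut_mem_dcom (φ := ψ) (hφZ _ (aut_mem_zcen (φ := ψ⁻¹) hy))
        rw [map_mul, map_inv, hψs] at this
        exact this) (ψ x) (aut_mem_zcen hxZ)
    refine (hφC _).mpr ⟨aut_mem_zcen hxZ, ?_⟩
    rw [key, MulAut.mul_apply, MulAut.mul_apply, show ψ⁻¹ (ψ x) = x from ψ.symm_apply_apply x, hfix]
  · obtain ⟨φ', hφ', hφ'D, hφ'Z, hφ'C⟩ := h.exists_reflection hp2 hR
    have heq : ∀ y : S, (y : Ω) ∈ siteCore F Q ↔ (y : Ω) ∈ siteCore F R := fun y => by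
      rw [hφC, hφ'C]
      refine and_congr_right fun hy => ?_
      rw [h.agree_on_zcen hφ hφ' (fun z hz => by rw [hφD z hz, hφ'D z hz]) hφZ hφ'Z y hy]
    exact (heq ⟨_, hR.1.le (α x).2⟩).mpr
      (siteCore_invariant hα ((heq ⟨x, hR.1.le x.2⟩).mp hx))

end SqCenter

end Cfsg.Lib.Fusion
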