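import Cfsg.Agent.Fusion.ChainStab
import Cfsg.Agent.Fusion.Factor
import Cfsg.Agent.Fusion.Constrained

/-!
A saturated system on a `2`-group in which every element is conjugate into the centre lives on an
abelian group (Camina–Herzog).
-/

set_option autoImplicit false

namespace Cfsg.Lib.Fusion

open Cfsg Cfsg.FusionSystem

universe u

namespace CentralFusion

variable {Ω : Type u} [Group Ω] {S : Subgroup Ω} {F : FusionSystem S} {p : ℕ}

/-- Elementwise centrality in `S`. -/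
def Cen (S : Subgroup Ω) (x : Ω) : Prop := ∀ s ∈ S, s * x = x * s

theorem map_zpow {P : Subgroup Ω} {f : Ω → Ω} (hf : IsMap F P f) {x : Ω} (hx : x ∈ P) (n : ℤ) :
    f (x ^ n) = f x ^ n := by
  obtain ⟨φ, -, e⟩ := hf
  have := _root_.map_zpow φ ⟨x, hx⟩ n
  rwa [e, e] at this

theorem cen_zpow {x : Ω} (hx : Cen S x) (n : ℤ) : Cen S (x ^ n) := fun s hs =>
  (Commute.zpow_right (hx s hs) n).eq

theorem cen_zpowers {x : Ω} {f : Ω → Ω} (hf : IsMap F (Subgroup.zpowers x) f) (h : Cen S (f x)) :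
    ∀ y ∈ Subgroup.zpowers x, Cen S (f y) := by
  rintro y ⟨n, rfl⟩
  show Cen S (f (x ^ n))
  rw [map_zpow hf (Subgroup.mem_zpowers x) n]
  exact cen_zpow h n

/-- A map with central image extends to `S` when its source is central. -/
theorem extend_central [Finite S] [Fact p.Prime] (hS : IsPGroup p S) (hF : F.IsSaturated p)
    {P : Subgroup Ω} {f : Ω → Ω} (hf : IsMap F P f) (hP : ∀ x ∈ P, Cen S x)
    (hi : ∀ x ∈ P, Cen S (f x)) : ∃ k, IsMap F S k ∧ ∀ x ∈ P, k x = f x := by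
  have hQn : F.IsFullyNormalized (img P f) := by
    refine ⟨hf.img_le, fun R _ => ?_⟩
    have hNS : normalizerIn S (img P f) = S := by
      refine le_antisymm inf_le_left fun s hs => ?_
      refine centralizerIn_le_normalizerIn _ (mem_centralizerIn.mpr ⟨hs, fun y hy => ?_⟩)
      obtain ⟨x, hx, rfl⟩ := hf.mem_img.mp hy
      rw [hi x hx s hs, mul_inv_cancel_right]
    rw [hNS]
    exact Subgroup.card_le_of_le inf_le_left
  obtain ⟨k, hk, hkf⟩ := receptive_extend (fullyNormalized_props hS hF hQn).2.2 hf rfl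
  refine ⟨k, hk.mono fun s hs => centralizerIn_le_extSub P f
    (mem_centralizerIn.mpr ⟨hs, fun y hy => ?_⟩), hkf⟩
  rw [hP y hy s hs, mul_inv_cancel_right]

/-- No automorphism in the system inverts a central element of order above two. -/
theorem eq_inv_of_inverted [Finite S] (hS : IsPGroup 2 S) (hF : F.IsSaturated 2)
    {α : MulAut S} (hα : α ∈ F.autGroup S) {z : S} (hz : ∀ s : S, s * z = z * s)
    (h : α z = z⁻¹) : z⁻¹ = z := by
  have : Fact (Nat.Prime 2) := ⟨Nat.prime_two⟩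
  have hSn : F.IsFullyNormalized S := ⟨le_rfl, fun R _ => by
    have hNS : normalizerIn S S = S := le_antisymm inf_le_left (le_normalizerIn le_rfl)
    rw [hNS]
    exact Subgroup.card_le_of_le inf_le_left⟩
  obtain ⟨-, hfa, -⟩ := fullyNormalized_props hS hF hSn
  obtain ⟨a, m, hm, hord⟩ := Nat.exists_eq_two_pow_mul_odd (orderOf_pos α).ne'
  obtain ⟨j, rfl⟩ := hm
  have h2 : (α ^ 2) z = z := by
    rw [pow_two, MulAut.mul_apply, h, map_inv, h, inv_inv]
  have h2j : ∀ i : ℕ, ((α ^ 2) ^ i) z = z := fun i => by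
    induction i with
    | zero => simp
    | succ i ih => rw [pow_succ, MulAut.mul_apply, h2, ih]
  set β := α ^ (2 * j + 1) with hβ
  have hβz : β z = z⁻¹ := by
    rw [hβ, pow_succ, MulAut.mul_apply, h, map_inv, pow_mul, h2j]
  have hβo : β ^ 2 ^ a = 1 := by
    rw [hβ, ← pow_mul, mul_comm, ← hord, pow_orderOf_eq_one]
  have hK : IsPGroup 2 (Subgroup.zpowers β) := fun ⟨γ, hγ⟩ => by
    obtain ⟨n, rfl⟩ := hγ
    refine ⟨a, Subtype.ext ?_⟩
    show (β ^ n) ^ 2 ^ a = 1
    rw [← zpow_natCast, ← zpow_mul, mul_comm n, zpow_mul, zpow_natCast, hβo, one_zpow]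
  obtain ⟨χ, -, hχ⟩ := exists_conj_into_autS hfa hK
    (Subgroup.zpowers_le.mpr (Subgroup.pow_mem _ hα _))
  obtain ⟨g, hg, eg⟩ := mem_autInducedBy.mp (hχ β (Subgroup.mem_zpowers β))
  have hcz : (⟨g, hg⟩ : S) * χ z = χ z * ⟨g, hg⟩ := by
    obtain ⟨s, hs⟩ := χ.surjective ⟨g, hg⟩
    rw [← hs, ← map_mul, ← map_mul, hz]
  have h1 : χ (β z) = χ z := by
    have e1 : (χ * β * χ⁻¹) (χ z) = χ (β z) := by
      simp [MulAut.mul_apply]
    rw [← e1]
    refine Subtype.ext ?_
    rw [eg (χ z)]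
    have e2 := congrArg Subtype.val hcz
    simp only [Subgroup.coe_mul] at e2
    rw [e2, mul_inv_cancel_right]
  rw [hβz] at h1
  exact χ.injective h1

/-- The hypothesis: every element is conjugate into the centre. -/
def IntoCentre (F : FusionSystem S) : Prop :=
  ∀ x ∈ S, ∃ f, IsMap F (Subgroup.zpowers x) f ∧ Cen S (f x)

theorem inv_eq_of_conj_inv [Finite S] (hS : IsPGroup 2 S) (hF : F.IsSaturated 2)
    (H : IntoCentre F) {x : Ω} (hxS : x ∈ S) {g : Ω → Ω}
    (hg : IsMap F (Subgroup.zpowers x) g) (hgx : g x = x⁻¹) : x⁻¹ = x := by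
  have : Fact (Nat.Prime 2) := ⟨Nat.prime_two⟩
  obtain ⟨f, hf, hfz⟩ := H x hxS
  have hx := Subgroup.mem_zpowers x
  obtain ⟨k, hk, hki, hl, -⟩ := hf.exists_inv
  have hzle : Subgroup.zpowers (f x) ≤ img (Subgroup.zpowers x) f :=
    Subgroup.zpowers_le.mpr (IsMap.apply_mem_img hx)
  have hkmem : ∀ y ∈ Subgroup.zpowers (f x), k y ∈ Subgroup.zpowers x := fun y hy =>
    IsMap.img_le_iff.mp hki.le y (hzle hy)
  have hgmem : ∀ y ∈ Subgroup.zpowers x, g y ∈ Subgroup.zpowers x := by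
    rintro y ⟨n, rfl⟩
    show g (x ^ n) ∈ _
    rw [map_zpow hg hx n, hgx]
    exact zpow_mem (inv_mem hx) n
  have hc := ((hk.mono hzle).comp hg hkmem).comp hf fun y hy => hgmem _ (hkmem y hy)
  have hcz : (f ∘ (g ∘ k)) (f x) = (f x)⁻¹ := by
    show f (g (k (f x))) = _
    rw [hl x hx, hgx, hf.map_inv hx]
  obtain ⟨e, he, hee⟩ := extend_central hS hF hc
    (fun y hy => by obtain ⟨n, rfl⟩ := hy; exact cen_zpow hfz n)
    (cen_zpowers hc (by rw [hcz]; simpa using cen_zpow hfz (-1)))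
  have hei : img S e = S :=
    Subgroup.eq_of_le_of_card_ge he.img_le he.card_img.ge
  obtain ⟨α, hα, hαe⟩ := he.exists_aut hei
  have h1 : α ⟨f x, hf.mem_S hx⟩ = (⟨f x, hf.mem_S hx⟩ : S)⁻¹ := by
    refine Subtype.ext ?_
    rw [← autFun_apply, hαe _ (hf.mem_S hx), hee _ (Subgroup.mem_zpowers _)]
    exact hcz
  have h2 := eq_inv_of_inverted hS hF hα (fun s => Subtype.ext (hfz s s.2)) h1
  have h3 : (f x)⁻¹ = f x := congrArg Subtype.val h2
  rw [← hf.map_inv hx] at h3
  exact hf.injOn (inv_mem hx) hx h3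

/-- The elements of order at most two form a subgroup. -/
def omegaTwo (S : Subgroup Ω) (h : ∀ x ∈ S, ∀ y ∈ S, x * x = 1 → y * y = 1 → x * y = y * x) :
    Subgroup Ω where
  carrier := {x | x ∈ S ∧ x * x = 1}
  one_mem' := ⟨S.one_mem, mul_one 1⟩
  mul_mem' := by
    rintro x y ⟨hx, hx2⟩ ⟨hy, hy2⟩
    refine ⟨S.mul_mem hx hy, ?_⟩
    calc x * y * (x * y) = x * (y * x) * y := by group
      _ = x * (x * y) * y := by rw [h x hx y hy hx2 hy2]
      _ = x * x * (y * y) := by group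
      _ = 1 := by rw [hx2, hy2, mul_one]
  inv_mem' := by
    rintro x ⟨hx, hx2⟩
    refine ⟨S.inv_mem hx, ?_⟩
    rw [← mul_inv_rev, hx2, inv_one]

theorem commutative_of_card : ∀ (n : ℕ) {Ω : Type u} [Group Ω] {S : Subgroup Ω} [Finite S]
    (F : FusionSystem S), Nat.card S = n → IsPGroup 2 S → F.IsSaturated 2 → IntoCentre F →
    ∀ a ∈ S, ∀ b ∈ S, a * b = b * a := by
  intro n
  induction n using Nat.strong_induction_on with
  | _ n IH =>
  intro Ω _ S _ F hn hS hF H
  have : Fact (Nat.Prime 2) := ⟨Nat.prime_two⟩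
  -- involutions commute
  have hinv : ∀ x ∈ S, ∀ y ∈ S, x * x = 1 → y * y = 1 → x * y = y * x := by
    intro x hx y hy hx2 hy2
    have hxi : x⁻¹ = x := inv_eq_of_mul_eq_one_right hx2
    have hyi : y⁻¹ = y := inv_eq_of_mul_eq_one_right hy2
    have hw : x * y ∈ S := S.mul_mem hx hy
    have h1 := inv_eq_of_conj_inv hS hF H hw
      (isMap_conj (F := F) (Subgroup.zpowers_le.mpr hw) hx)
      (show x * (x * y) * x⁻¹ = (x * y)⁻¹ by
        rw [← mul_assoc, hx2, one_mul, hxi, mul_inv_rev, hxi, hyi])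
    rw [mul_inv_rev, hxi, hyi] at h1
    exact h1.symm
  set E := omegaTwo S hinv with hEdef
  have hmE : ∀ {x : Ω}, x ∈ E ↔ x ∈ S ∧ x * x = 1 := Iff.rfl
  have hES : E ≤ S := fun x hx => (hmE.mp hx).1
  have hEsc : F.StronglyClosed E := stronglyClosed_of_apply hES fun P f hf x hx hxE =>
    hmE.mpr ⟨hf.mem_S hx, by rw [← hf.map_mul hx hx, (hmE.mp hxE).2, hf.map_one]⟩
  have hEab : ∀ x ∈ E, ∀ y ∈ E, x * y = y * x := fun x hx y hy =>
    hinv x (hES hx) y (hES hy) (hmE.mp hx).2 (hmE.mp hy).2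
  have hEcj : ∀ s ∈ S, ∀ x ∈ E, s * x * s⁻¹ ∈ E := fun s hs x hx =>
    hmE.mpr ⟨S.mul_mem (S.mul_mem hs (hES hx)) (S.inv_mem hs), by
      rw [show s * x * s⁻¹ * (s * x * s⁻¹) = s * (x * x) * s⁻¹ by group, (hmE.mp hx).2, mul_one,
        mul_inv_cancel]⟩
  have hSsc : F.StronglyClosed S :=
    stronglyClosed_of_apply le_rfl fun P f hf x hx _ => hf.mem_S hx
  have hbsc : F.StronglyClosed ⊥ := stronglyClosed_of_apply bot_le fun P f hf x hx h1 => by
    rw [Subgroup.mem_bot] at h1 ⊢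
    rw [h1, hf.map_one]
  have hEn : F.IsNormal E := by
    refine isNormal_of_sections hS hF hEsc (J := Bool) (fun j => bif j then S else E)
      (fun j => bif j then E else ⊥) (fun j => ?_) (fun j => ?_) (fun j => ?_)
      fun P hPn _ _ α _ hcop hsec => ?_
    · cases j
      · exact hEsc
      · exact hSsc
    · cases j
      · exact hbsc
      · exact hEsc
    · cases j
      · intro x hx g hg
        simp only [cond_false] at hx ⊢
        rw [Subgroup.mem_bot, hEab g hg x hx, mul_inv_cancel_right, inv_mul_cancel]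
      · intro x hx g hg
        simp only [cond_true] at hx ⊢
        have := E.mul_mem (hEcj x⁻¹ (S.inv_mem hx) g hg) (E.inv_mem hg)
        simpa [mul_assoc] using this
    · refine MulEquiv.ext fun x => ?_
      refine fix_of_fix_mem hS hPn.1 hcop (B := E) (hsec true x (hPn.1 x.2)) fun y hy => ?_
      have := hsec false y hy
      simp only [cond_false, Subgroup.mem_bot, inv_mul_eq_one] at this
      exact Subtype.ext this.symm
  by_cases hEb : E = ⊥
  · -- no involution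
    have hS1 : ∀ x ∈ S, x = 1 := by
      intro x hx
      obtain ⟨k, hk⟩ := hS ⟨x, hx⟩
      have hk' : x ^ 2 ^ k = 1 := congrArg Subtype.val hk
      clear hk
      induction k generalizing x with
      | zero => simpa using hk'
      | succ k ih =>
        have hxx : x * x = 1 := ih (x * x) (S.mul_mem hx hx) (by
          rw [← pow_two, ← pow_mul, ← pow_succ']; exact hk')
        have hxE : x ∈ E := hmE.mpr ⟨hx, hxx⟩
        rwa [hEb, Subgroup.mem_bot] at hxE
    intro a ha b hb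
    rw [hS1 a ha, hS1 b hb]
  have : (E.subgroupOf S).Normal := ⟨fun x hx g => by
    rw [Subgroup.mem_subgroupOf] at hx ⊢
    exact hEcj g g.2 x hx⟩
  let θ : S →* ↥S ⧸ E.subgroupOf S := QuotientGroup.mk' _
  have hθk : ∀ s : S, θ s = 1 ↔ (s : Ω) ∈ E := fun s =>
    (QuotientGroup.eq_one_iff s).trans Subgroup.mem_subgroupOf
  have hθ : KerClosed F θ := kerClosed_of_stronglyClosed hEsc hθk
  have hq := isQuot_factorSystem hθ
  have hker : ∀ {u v : Ω}, u ∈ S → v ∈ S → qmap θ u = qmap θ v → v⁻¹ * u ∈ E := by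
    intro u v hu hv h
    have : qmap θ (v⁻¹ * u) = 1 := by
      rw [qmap_mul (S.inv_mem hv) hu, qmap_inv hv, h, inv_mul_cancel]
    rw [qmap_apply (S.mul_mem (S.inv_mem hv) hu)] at this
    exact (hθk _).mp this
  have hqz : ∀ {x : Ω}, x ∈ S → ∀ n : ℤ, qmap θ (x ^ n) = qmap θ x ^ n := by
    intro x hx n
    rw [qmap_apply hx, qmap_apply (zpow_mem hx n), ← _root_.map_zpow]
    rfl
  have hpre : ∀ {x : Ω}, x ∈ S →
      preimageAlong θ (Subgroup.zpowers (qmap θ x)) ≤ Subgroup.zpowers x ⊔ E := by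
    intro x hx u hu
    obtain ⟨huS, m, hm⟩ := mem_preimageAlong.mp hu
    have hm' : qmap θ u = qmap θ (x ^ m) := (hm.symm.trans (hqz hx m).symm)
    have := hker huS (zpow_mem hx m) hm'
    rw [← mul_inv_cancel_left (x ^ m) u]
    exact Subgroup.mul_mem_sup (zpow_mem (Subgroup.mem_zpowers x) m) this
  -- the maps into the centre descend
  have hdesc : ∀ x ∈ S, ∃ f f', IsMap (factorSystem F θ hθ) (Subgroup.zpowers (qmap θ x)) f' ∧
      IsMap F (Subgroup.zpowers x) f ∧ Cen S (f x) ∧ f' (qmap θ x) = qmap θ (f x) := by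
    intro x hx
    obtain ⟨f, hf, hfc⟩ := H x hx
    obtain ⟨k, hk, hkf, -⟩ := extend_of_isNormal hEn hf
    have hxr : qmap θ x ∈ θ.range := by rw [qmap_apply hx]; exact ⟨_, rfl⟩
    have hk' := hk.mono (hpre hx)
    refine ⟨f, pushMap θ k, hq.isMap_pushMap (Subgroup.zpowers_le.mpr hxr) hk', hf, hfc, ?_⟩
    rw [hq.pushMap_apply hk' (mem_preimageAlong.mpr ⟨hx, Subgroup.mem_zpowers _⟩),
      hkf x (Subgroup.mem_zpowers x)]
  have hr : ∀ y ∈ θ.range, ∃ x ∈ S, qmap θ x = y := by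
    rintro y ⟨s, rfl⟩
    exact ⟨s, s.2, qmap_apply (θ := θ) s.2⟩
  have : Finite θ.range := Finite.of_surjective θ.rangeRestrict θ.rangeRestrict_surjective
  have hQ2 : IsPGroup 2 θ.range := hS.of_surjective θ.rangeRestrict θ.rangeRestrict_surjective
  have hQsat : (factorSystem F θ hθ).IsSaturated 2 := hq.saturated hS hF
  have hlt : Nat.card θ.range < n := by
    rw [← hn, MonoidHom.range_eq_top.mpr (QuotientGroup.mk'_surjective _),
      Nat.card_congr Subgroup.topEquiv.toEquiv,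
      Subgroup.card_eq_card_quotient_mul_card_subgroup (E.subgroupOf S)]
    refine lt_mul_of_one_lt_right Nat.card_pos ((Subgroup.one_lt_card_iff_ne_bot _).mpr ?_)
    rw [Ne, Subgroup.subgroupOf_eq_bot]
    exact fun h => hEb (le_bot_iff.mp fun x hx => h.le_bot ⟨hx, hES hx⟩)
  have hQab := IH _ hlt (factorSystem F θ hθ) rfl hQ2 hQsat fun y hy => by
    obtain ⟨x, hx, rfl⟩ := hr y hy
    obtain ⟨f, f', hf', hf, hfc, e⟩ := hdesc x hx
    refine ⟨f', hf', fun t ht => ?_⟩
    obtain ⟨s, hs, rfl⟩ := hr t ht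
    have hfS := hf.mem_S (Subgroup.mem_zpowers x)
    rw [e, ← qmap_mul hs hfS, ← qmap_mul hfS hs, hfc s hs]
  -- every element is central times an involution
  have hsplit : ∀ s ∈ S, ∃ c ∈ S, Cen S c ∧ c⁻¹ * s ∈ E := by
    intro s hs
    obtain ⟨f, f', hf', hf, hfc, e⟩ := hdesc s hs
    obtain ⟨g, hg, hgf⟩ := extend_central hQ2 hQsat hf'
      (fun y hy t ht => hQab t ht y (hf'.le hy))
      (fun y hy t ht => hQab t ht _ (hf'.mem_S hy))
    obtain ⟨k, hk, hke⟩ := hq.exists_lift hg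
    have hSpre : S ≤ preimageAlong θ θ.range := fun x hx => mem_preimageAlong.mpr
      ⟨hx, by rw [qmap_apply hx]; exact ⟨_, rfl⟩⟩
    have hk' := hk.mono hSpre
    have hki : img S k = S := Subgroup.eq_of_le_of_card_ge hk'.img_le hk'.card_img.ge
    have hfS : f s ∈ S := hf.mem_S (Subgroup.mem_zpowers s)
    obtain ⟨c, hc, hce⟩ := hk'.mem_img.mp (hki.symm ▸ hfS : f s ∈ img S k)
    refine ⟨c, hc, fun t ht => hk'.injOn (S.mul_mem ht hc) (S.mul_mem hc ht) ?_, ?_⟩
    · rw [hk'.map_mul ht hc, hk'.map_mul hc ht, hce]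
      exact hfc _ (hk'.mem_S ht)
    · have h1 : qmap θ (k s) = qmap θ (f s) := by
        rw [← hke s (hSpre hs), hgf _ (Subgroup.mem_zpowers _), e]
      have h2 := hker (hk'.mem_S hs) hfS h1
      have h3 : k (c⁻¹ * s) ∈ E := by
        rwa [hk'.map_mul (S.inv_mem hc) hs, hk'.map_inv hc, hce]
      have hcs := S.mul_mem (S.inv_mem hc) hs
      refine hmE.mpr ⟨hcs, hk'.injOn (S.mul_mem hcs hcs) S.one_mem ?_⟩
      rw [hk'.map_mul hcs hcs, hk'.map_one]
      exact (hmE.mp h3).2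
  intro a ha b hb
  obtain ⟨c, hc, hcc, he⟩ := hsplit a ha
  obtain ⟨d, hd, hdc, he'⟩ := hsplit b hb
  have hcb : b * c = c * b := hcc b hb
  have hda : a * d = d * a := hdc a ha
  set e := c⁻¹ * a with hea
  set e' := d⁻¹ * b with heb
  have hab : a = c * e := by rw [hea, mul_inv_cancel_left]
  have hbb : b = d * e' := by rw [heb, mul_inv_cancel_left]
  have hde : e * d = d * e := hdc e (hES he)
  calc a * b = c * (e * d) * e' := by rw [hab, hbb]; group
    _ = c * d * (e * e') := by rw [hde]; group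
    _ = d * c * (e' * e) := by rw [hEab e he e' he', (hdc c hc)]
    _ = d * (c * e') * e := by group
    _ = d * (e' * c) * e := by rw [hcc e' (hES he')]
    _ = b * a := by rw [hab, hbb]; group

end CentralFusion

/-- **Camina–Herzog for fusion systems.** -/
theorem isMulCommutative_of_conj_centre {Ω : Type u} [Group Ω] {S : Subgroup Ω} [Finite S]
    (hS : IsPGroup 2 S) (F : FusionSystem S) (hF : F.IsSaturated 2)
    (h : ∀ x ∈ S, ∃ z ∈ S ⊓ Subgroup.centralizer (S : Set Ω), F.IsConjElt x z) :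
    IsMulCommutative S := by
  have H : CentralFusion.IntoCentre F := fun x hx => by
    obtain ⟨z, hz, φ, hφ, e⟩ := h x hx
    refine ⟨toFun' φ, isMap_of_mem hφ, fun s hs => ?_⟩
    rw [toFun'_apply_mem φ (Subgroup.mem_zpowers x), e]
    exact Subgroup.mem_centralizer_iff.mp hz.2 s hs
  exact ⟨⟨fun a b => Subtype.ext
    (CentralFusion.commutative_of_card _ F rfl hS hF H a a.2 b b.2)⟩⟩

end Cfsg.Lib.Fusion
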