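import Cfsg.Agent.Fusion.CentralizerSystem

/-!
A saturated subsystem agreeing with `F` at the centralizers of the subgroups of order `p` is `F`.
-/

set_option autoImplicit false

namespace Cfsg.Lib.Fusion

open Cfsg Cfsg.FusionSystem

variable {Ω : Type*} [Group Ω] {S : Subgroup Ω} {F F' : FusionSystem S} {p : ℕ}

theorem hom_eq_of_centralizers [Finite S] [Fact p.Prime] (hS : IsPGroup p S) (hF : F.IsSaturated p)
    (hF' : F'.IsSaturated p) (hle : F' ≤ F)
    (hZ : ∀ Z : Subgroup Ω, Z ≤ S → Nat.card Z = p → F'.IsFullyCentralized Z → F.Hom Z = F'.Hom Z ∧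
      ∀ (C C' : FusionSystem (centralizerIn S Z)), F.IsCentralizerSystem Z C →
        F'.IsCentralizerSystem Z C' → ∀ P : Subgroup Ω, C.Hom P = C'.Hom P)
    (P : Subgroup Ω) : F.Hom P = F'.Hom P := by
  refine hom_eq_iff_isMap.mpr fun f => ⟨fun hf => ?_, fun hf => le_iff_isMap.mp hle P f hf⟩
  by_cases hS1 : S = ⊥
  · refine (isMap_id hf.le).congr fun x hx => ?_
    rw [Subgroup.mem_bot.mp (hS1.le (hf.le hx))]
    exact hf.map_one
  -- a central subgroup of order `p`
  haveI : Nontrivial S := (Subgroup.nontrivial_iff_ne_bot S).mpr hS1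
  haveI := hS.center_nontrivial
  have hZp : IsPGroup p (Subgroup.center S) := hS.to_subgroup _
  obtain ⟨n, hn, hcard⟩ := hZp.nontrivial_iff_card.mp inferInstance
  obtain ⟨z, hz⟩ := exists_prime_orderOf_dvd_card' (G := Subgroup.center S) p
    (hcard ▸ dvd_pow_self p hn.ne')
  set Z := Subgroup.zpowers ((z : S) : Ω)
  have hZS : Z ≤ S := Subgroup.zpowers_le.mpr (z : S).2
  have hZcard : Nat.card Z = p := by
    rw [Nat.card_zpowers, Subgroup.orderOf_coe, Subgroup.orderOf_coe, hz]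
  have hSC : S ≤ centralizerIn S Z := fun s hs => mem_centralizerIn.mpr ⟨hs, fun x hx => by
    obtain ⟨k, rfl⟩ := hx
    have h : Commute s ((z : S) : Ω) :=
      congrArg Subtype.val (Subgroup.mem_center_iff.mp z.2 ⟨s, hs⟩)
    show s * ((z : S) : Ω) ^ k * s⁻¹ = _
    rw [(h.zpow_right k).eq, mul_inv_cancel_right]⟩
  haveI : Finite (centralizerIn S Z) := finite_of_le inf_le_left
  have hfc : F'.IsFullyCentralized Z := ⟨hZS, fun R _ => Subgroup.card_le_of_le
    ((inf_le_left : centralizerIn S R ≤ S).trans hSC)⟩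
  obtain ⟨hhom, hC⟩ := hZ Z hZS hZcard hfc
  have hrec := receptive_of_fullyCentralized hS hF' hfc
  have key : ∀ (Q : Subgroup Ω) (g : Ω → Ω), Z ≤ Q → IsMap F Q g → IsMap F' Q g := by
    intro Q g hZQ hg
    have hgZ : IsMap F' Z g := (hom_eq_iff_isMap.mp hhom g).mp (hg.mono hZQ)
    obtain ⟨k₀, hk₀, hk₀i, hk₀l, -⟩ := hgZ.exists_inv
    obtain ⟨k, hk, hag⟩ := receptive_extend hrec hk₀ hk₀i
    have hQext : img Q g ≤ extSub S (img Z g) k₀ := IsMap.img_le_iff.mpr fun y hy => by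
      refine centralizerIn_le_extSub _ _ (mem_centralizerIn.mpr ⟨hg.mem_S hy, fun w hw => ?_⟩)
      obtain ⟨x, hx, rfl⟩ := hgZ.mem_img.mp hw
      rw [← hg.map_conj hy (hZQ hx), (mem_centralizerIn.mp (hSC (hg.le hy))).2 x hx]
    have hk' : IsMap F' (img Q g) k := hk.mono hQext
    have hcomp : IsMap F Q (k ∘ g) :=
      hg.comp (le_iff_isMap.mp hle _ _ hk') fun x hx => IsMap.apply_mem_img hx
    have hfix : ∀ x ∈ Z, k (g x) = x := fun x hx => by
      rw [hag _ (IsMap.apply_mem_img hx), hk₀l x hx]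
    have hQ := hg.le
    have hmem : IsMap (centralizerSystem F hZS) Q (k ∘ g) :=
      (isMap_of_isCentralizerSystem (isCentralizerSystem_centralizerSystem hZS)).mpr
        ⟨hQ.trans hSC, fun x hx => hSC (hcomp.mem_S hx), hcomp, k ∘ g,
          hcomp.mono (sup_le le_rfl hZQ), fun _ _ => rfl, hfix⟩
    rw [hom_eq_iff_isMap.mp (hC _ _ (isCentralizerSystem_centralizerSystem hZS)
      (isCentralizerSystem_centralizerSystem hZS) Q)] at hmem
    obtain ⟨-, -, hkg, -⟩ :=
      (isMap_of_isCentralizerSystem (isCentralizerSystem_centralizerSystem hZS)).mp hmem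
    obtain ⟨m, hm, -, hml, -⟩ := hk'.exists_inv
    refine (hkg.comp hm fun x hx => IsMap.apply_mem_img (IsMap.apply_mem_img hx)).congr
      fun x hx => ?_
    show g x = m (k (g x))
    rw [hml _ (IsMap.apply_mem_img hx)]
  refine alperin_induction hS hF (isMapClass_isMap F F') (fun g hg => key S g hZS hg)
    (fun Q _ _ hQc _ α hα => key Q _ ?_ ((isMap_autFun hQc.1).mpr hα)) hf
  refine le_trans ?_ (hQc.2 Q (isConj_refl hQc.1))
  exact Subgroup.zpowers_le.mpr (mem_centralizerIn.mpr ⟨(z : S).2, fun x hx => by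
    have h : Commute x ((z : S) : Ω) :=
      congrArg Subtype.val (Subgroup.mem_center_iff.mp z.2 ⟨x, hQc.1 hx⟩)
    rw [← h.eq, mul_inv_cancel_right]⟩)

end Cfsg.Lib.Fusion
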