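import Cfsg.Agent.Fusion.Invariant

/-!
Maps are determined by, and belong to a subsystem by, their restriction to a centric subgroup.
-/

set_option autoImplicit false

namespace Cfsg.Lib.Fusion

open Cfsg Cfsg.FusionSystem

variable {Ω : Type*} [Group Ω] {S : Subgroup Ω} {F E : FusionSystem S} {p : ℕ}

theorem centric_of_map {Q : Subgroup Ω} (hQ : F.IsCentric Q) {f : Ω → Ω} (hf : IsMap F Q f) :
    F.IsCentric (img Q f) :=
  centric_of_isConj hQ (isConj_iff.mpr ⟨f, hf, rfl⟩)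

/-- A map lies in the subsystem as soon as its restriction to a centric subgroup does. -/
theorem isMap_of_restrict_centric_le [Finite S] [Fact p.Prime] (hS : IsPGroup p S)
    (hF : F.IsSaturated p) (hEs : E.IsSaturated p) (hs : E.IsSubsystemOf F) {P : Subgroup Ω}
    {g : Ω → Ω} (hg : IsMap F P g) {R : Subgroup Ω} (hRP : R ≤ P) (hR : F.IsCentric R)
    (hgR : IsMap E R g) : IsMap E P g := by
  induction hk : Nat.card P - Nat.card R using Nat.strong_induction_on generalizing R with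
  | _ k ih =>
  rcases eq_or_ne R P with hRS | hRS
  · exact hRS ▸ hgR
  have hPS := hg.le
  haveI := finite_of_le hPS
  haveI := finite_of_le hR.1
  set Q := P ⊓ Subgroup.normalizer (R : Set Ω)
  have hlt : R < Q := lt_inf_normalizer hS (lt_of_le_of_ne hRP hRS) hPS
  have hQP : Q ≤ P := inf_le_left
  have hQS : Q ≤ S := hQP.trans hPS
  have hrec := receptive_of_fullyCentralized hS hEs (fullyCentralized_of_centric hs
    (centric_of_map hR (isMap_of_le hs hgR)))
  obtain ⟨j, hj, hje⟩ := receptive_extend hrec hgR rfl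
  have hQext : Q ≤ extSub S R g := fun x hx => mem_extSub.mpr
    ⟨hQS hx, hx.2, g x, hg.mem_S hx.1, fun y hy => hg.map_conj hx.1 (hRP hy)⟩
  have hjQ := hj.mono hQext
  obtain ⟨z, hz, hzR, hze⟩ := rigidity hS hF hlt.le
    (fun x hx q hq => conj_mem_of_mem_normalizer hx.2 hq) hR (isMap_of_le hs hjQ) (hg.mono hQP) hje
  have hzQ : z ∈ Q := hlt.le hzR
  have h2 : IsMap E Q g :=
    ((isMap_conj hQS hz.1).comp hjQ fun x hx =>
      Q.mul_mem (Q.mul_mem hzQ hx) (Q.inv_mem hzQ)).congr fun x hx => hze x hx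
  haveI := finite_of_le hQS
  refine ih _ ?_ hQP (centric_of_le hR hlt.le hQS) h2 rfl
  have h3 : Nat.card R < Nat.card Q := lt_of_le_of_ne (Subgroup.card_le_of_le hlt.le) fun h =>
    hlt.ne (Subgroup.eq_of_le_of_card_ge hlt.le h.ge)
  have h4 := Subgroup.card_le_of_le hQP
  omega

/-- Maps agreeing on a centric subgroup differ by an element of its centre. -/
theorem rigidity_le [Finite S] [Fact p.Prime] (hS : IsPGroup p S) (hF : F.IsSaturated p)
    {P Q : Subgroup Ω} (hQP : Q ≤ P) (hQ : F.IsCentric Q) {f f' : Ω → Ω} (hf : IsMap F P f)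
    (hf' : IsMap F P f') (e : ∀ q ∈ Q, f q = f' q) :
    ∃ z ∈ Q, z ∈ Subgroup.centralizer (Q : Set Ω) ∧ ∀ x ∈ P, f' x = f (z * x * z⁻¹) := by
  induction hk : Nat.card P - Nat.card Q using Nat.strong_induction_on generalizing Q f with
  | _ k ih =>
  rcases eq_or_ne Q P with hRS | hRS
  · exact ⟨1, Q.one_mem, Subgroup.one_mem _, fun x hx => by
      rw [← e x (hRS.symm ▸ hx)]; simp⟩
  have hPS := hf.le
  haveI := finite_of_le hPS
  haveI := finite_of_le hQ.1
  set Q1 := P ⊓ Subgroup.normalizer (Q : Set Ω)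
  have hlt : Q < Q1 := lt_inf_normalizer hS (lt_of_le_of_ne hQP hRS) hPS
  have hQ1P : Q1 ≤ P := inf_le_left
  haveI := finite_of_le (hQ1P.trans hPS)
  obtain ⟨z, hz, hzQ, hze⟩ := rigidity hS hF hlt.le
    (fun x hx q hq => conj_mem_of_mem_normalizer hx.2 hq) hQ (hf.mono hQ1P) (hf'.mono hQ1P) e
  have hzP : z ∈ P := hQP hzQ
  have hg : IsMap F P (fun x => f (z * x * z⁻¹)) :=
    (isMap_conj hPS (hPS hzP)).comp hf fun x hx => P.mul_mem (P.mul_mem hzP hx) (P.inv_mem hzP)
  obtain ⟨w, hw, hwc, hwe⟩ := ih _ (by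
      have h3 : Nat.card Q < Nat.card Q1 := lt_of_le_of_ne (Subgroup.card_le_of_le hlt.le) fun h =>
        hlt.ne (Subgroup.eq_of_le_of_card_ge hlt.le h.ge)
      have h4 := Subgroup.card_le_of_le hQ1P
      omega) hQ1P (centric_of_le hQ hlt.le (hQ1P.trans hPS)) hg
      (fun q hq => (hze q hq).symm) rfl
  have hwQc : w ∈ Subgroup.centralizer (Q : Set Ω) := Subgroup.centralizer_le hlt.le hwc
  have hwQ : w ∈ Q := hQ.2 Q (isConj_refl hQ.1) ⟨hPS (hQ1P hw), hwQc⟩
  refine ⟨z * w, Q.mul_mem hzQ hwQ, Subgroup.mul_mem _ hz.2 hwQc, fun x hx => ?_⟩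
  rw [hwe x hx]
  congr 1
  group

end Cfsg.Lib.Fusion
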