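import Cfsg.Agent.Fusion.SmallElements

/-!
Normality by stabilizers of families of strongly closed pairs.
-/

set_option autoImplicit false

namespace Cfsg.Lib.Fusion

open Cfsg Cfsg.FusionSystem

variable {Ω : Type*} [Group Ω] {S : Subgroup Ω} {F : FusionSystem S} {p : ℕ}

theorem aut_mem_of_stronglyClosed {A P : Subgroup Ω} (hA : F.StronglyClosed A) (hP : P ≤ S)
    {α : MulAut P} (hα : α ∈ F.autGroup P) {x : P} (hx : (x : Ω) ∈ A) : ((α x : P) : Ω) ∈ A := by
  rw [← autFun_apply]
  exact stronglyClosed_apply hA ((isMap_autFun hP).mpr hα) x.2 hx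

/-- If `R` acts trivially on strongly closed sections, and on a centric radical subgroup only the
identity has order prime to `p` among such automorphisms, then `R` is normal. -/
theorem isNormal_of_sections [Finite S] [Fact p.Prime] (hS : IsPGroup p S) (hF : F.IsSaturated p)
    {R : Subgroup Ω} (hR : F.StronglyClosed R) {J : Type*} (A B : J → Subgroup Ω)
    (hA : ∀ j, F.StronglyClosed (A j)) (hB : ∀ j, F.StronglyClosed (B j))
    (hact : ∀ j, ∀ x ∈ A j, ∀ g ∈ R, x⁻¹ * (g * x * g⁻¹) ∈ B j)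
    (htriv : ∀ P : Subgroup Ω, F.IsFullyNormalized P → F.IsCentric P → F.IsRadical p P →
      ∀ α ∈ F.autGroup P, (orderOf α).Coprime p →
      (∀ j, ∀ x : P, (x : Ω) ∈ A j → (x : Ω)⁻¹ * (α x : P) ∈ B j) → α = 1) : F.IsNormal R := by
  refine isNormal_of_le_radical hS hF hR fun P hPn hPc hPr => ?_
  have hP := hPn.1
  haveI := finite_of_le hP
  let K : Subgroup (MulAut P) :=
    { carrier := {α | α ∈ F.autGroup P ∧ ∀ j, ∀ x : P, (x : Ω) ∈ A j → (x : Ω)⁻¹ * (α x : P) ∈ B j}
      one_mem' := ⟨Subgroup.one_mem _, fun j x _ => by simp⟩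
      mul_mem' := by
        rintro α β ⟨ha, ha'⟩ ⟨hb, hb'⟩
        refine ⟨Subgroup.mul_mem _ ha hb, fun j x hx => ?_⟩
        have := (B j).mul_mem (hb' j x hx) (ha' j (β x) (aut_mem_of_stronglyClosed (hA j) hP hb hx))
        convert this using 1
        rw [MulAut.mul_apply]
        group
      inv_mem' := by
        rintro α ⟨ha, ha'⟩
        have hai := (F.autGroup P).inv_mem ha
        refine ⟨hai, fun j x hx => ?_⟩
        have := (B j).inv_mem (ha' j (α⁻¹ x) (aut_mem_of_stronglyClosed (hA j) hP hai hx))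
        rw [show α (α⁻¹ x) = x from α.apply_symm_apply x] at this
        simpa using this }
  refine le_of_radical hS hR.1 (normalizes_of_stronglyClosed hR) hPc hPr K ?_ (fun α hα => hα.1) ?_ ?_
  · rintro γ hγ α ⟨ha, ha'⟩
    have hgi := (F.autGroup P).inv_mem hγ
    refine ⟨Subgroup.mul_mem _ (Subgroup.mul_mem _ hγ ha) hgi, fun j x hx => ?_⟩
    have h1 : (((γ⁻¹ x)⁻¹ * α (γ⁻¹ x) : P) : Ω) ∈ B j := by
      simpa using ha' j (γ⁻¹ x) (aut_mem_of_stronglyClosed (hA j) hP hgi hx)
    have h2 := aut_mem_of_stronglyClosed (hB j) hP hγ h1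
    rw [map_mul, map_inv, show γ (γ⁻¹ x) = x from γ.apply_symm_apply x] at h2
    simpa using h2
  · exact pPart_reduce hP fun α hα hcop => htriv P hPn hPc hPr α hα.1 hcop hα.2
  · intro g hg hgn
    refine ⟨autInducedBy_le hP (conjAut_mem_autInducedBy hgn (hR.1 hg)), fun j x hx => ?_⟩
    rw [conjAut_apply hgn x]
    exact hact j x hx g hg

/-- A coprime automorphism congruent to `1` modulo fixed elements. -/
theorem fix_of_fix_mem [Fact p.Prime] (hS : IsPGroup p S) {P : Subgroup Ω} (hP : P ≤ S)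
    {α : MulAut P} (hcop : (orderOf α).Coprime p) {x : P} {B : Subgroup Ω}
    (hv : (x : Ω)⁻¹ * (α x : P) ∈ B) (hB : ∀ y : P, (y : Ω) ∈ B → α y = y) : α x = x :=
  fix_of_fix_diff (hS.of_injective _ (Subgroup.inclusion_injective hP)) hcop
    (hB _ (by simpa using hv))

theorem conj_diff_mem {A B R : Subgroup Ω} (h : ⁅A, R⁆ ≤ B) :
    ∀ x ∈ A, ∀ g ∈ R, x⁻¹ * (g * x * g⁻¹) ∈ B := fun x hx g hg => by
  have := h (Subgroup.commutator_mem_commutator (A.inv_mem hx) hg)
  rw [commutatorElement_def, inv_inv] at this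
  convert this using 1
  group

end Cfsg.Lib.Fusion
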