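import Cfsg.Agent.Fusion.ConstrainedClosed
import Cfsg.Agent.Fusion.NormalSubgroupSystem

/-!
Groups with constrained fusion: subnormal subgroups and central quotients.
-/

set_option autoImplicit false
set_option linter.unusedSectionVars false
set_option linter.style.haveILetI false

namespace Cfsg.Lib.Fusion.ConsGroup

open Cfsg Cfsg.FusionSystem Cfsg.Lib.Fusion

universe u

variable {G : Type u} [Group G] [Finite G] {p : ℕ} [Fact p.Prime] (S : Sylow p G)

theorem top_case (hF : (groupFusionSystem (S : Subgroup G)).IsConstrained p) (T : Subgroup G)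
    (hT : T = (S : Subgroup G)) :
    (fusionSystemOfSubgroup ⊤ T le_top).IsConstrained p := by
  subst hT
  have e : fusionSystemOfSubgroup ⊤ (S : Subgroup G) le_top = groupFusionSystem (S : Subgroup G) :=
    fusionSystem_ext fun P => Set.ext fun φ => by
      constructor
      · rintro ⟨h1, h2, g, -, hg⟩
        exact ⟨h1, h2, g, hg⟩
      · rintro ⟨h1, h2, g, hg⟩
        exact ⟨h1, h2, g, trivial, hg⟩
  rwa [e]

/-- A Sylow subgroup meets a subnormal subgroup in a Sylow subgroup with constrained fusion. -/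
theorem subnormal_case (hF : (groupFusionSystem (S : Subgroup G)).IsConstrained p) {H : Subgroup G}
    (hH : H.IsSubnormal) : IsMaxPIn p ((S : Subgroup G) ⊓ H) H ∧
      (fusionSystemOfSubgroup H ((S : Subgroup G) ⊓ H) inf_le_right).IsConstrained p := by
  induction hH with
  | top =>
    refine ⟨⟨inf_le_right, isPGroup_of_le_sylow S inf_le_left, fun U _ hUp hle => ?_⟩,
      top_case S hF _ (inf_top_eq _)⟩
    rw [inf_top_eq] at hle ⊢
    exact S.is_maximal' hUp hle
  | step H K hle _ hN ih =>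
    obtain ⟨hmax, hK⟩ := ih
    have hconj : ∀ g ∈ K, ∀ x ∈ H, g * x * g⁻¹ ∈ H := fun g hg x hx =>
      hN.conj_mem ⟨x, hle hx⟩ hx ⟨g, hg⟩
    have hTT : (S : Subgroup G) ⊓ H ≤ (S : Subgroup G) ⊓ K := inf_le_inf_left _ hle
    have hmax' : IsMaxPIn p ((S : Subgroup G) ⊓ H) H := by
      refine ⟨inf_le_right, isPGroup_of_le_sylow S inf_le_left, fun U hU hUp hUle => ?_⟩
      obtain ⟨g, hgK, hg⟩ := hmax.exists_conj_le (hU.trans hle) hUp
      have h1 := Subgroup.card_le_of_le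
        (map_conj_le (g := g) (B := (S : Subgroup G) ⊓ H)
          fun u hu => Subgroup.mem_inf.mpr ⟨(hg u hu).1, hconj g hgK u (hU hu)⟩)
      rw [card_map_conj] at h1
      exact (Subgroup.eq_of_le_of_card_ge hUle h1).symm
    refine ⟨hmax', ConsClosed.isConstrained_of_stronglyClosed
      (isPGroup_of_le_sylow S inf_le_left) hK (saturated_subgroupSystem hmax')
      (fun P φ hφ => ?_) (stronglyClosed_of_apply hTT fun P f hf x hx hxH => ?_)⟩
    · obtain ⟨h1, h2, g, hg, e⟩ := hφ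
      exact ⟨h1.trans hTT, fun x => hTT (h2 x), g, hle hg, e⟩
    · obtain ⟨-, hfS, g, hgK, e⟩ := isMap_subgroup_iff.mp hf
      exact ⟨(hfS x hx).1, e x hx ▸ hconj g hgK x hxH.2⟩

/-- The system of a subgroup, read inside that subgroup. -/
theorem constrained_inside {H : Subgroup G} (hmax : IsMaxPIn p ((S : Subgroup G) ⊓ H) H)
    (hc : (fusionSystemOfSubgroup H ((S : Subgroup G) ⊓ H) inf_le_right).IsConstrained p) :
    ∃ R : Sylow p H, (R : Subgroup H) = (S : Subgroup G).subgroupOf H ∧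
      (groupFusionSystem (R : Subgroup H)).IsConstrained p := by
  obtain ⟨R, hR⟩ := (sylow_subgroupOf_iff hmax.1 hmax.2.1).mpr hmax
  have hR' : (R : Subgroup H) = (S : Subgroup G).subgroupOf H := by
    rw [hR]; exact Subgroup.ext fun x => ⟨fun h => h.1, fun h => ⟨h, x.2⟩⟩
  refine ⟨R, hR', saturated_group R, ?_⟩
  obtain ⟨-, Q, hQn, hQc⟩ := hc
  have hQT : Q ≤ (S : Subgroup G) ⊓ H := hQc.1
  have hQR : Q.subgroupOf H ≤ (R : Subgroup H) := fun x hx => by
    rw [hR']; exact (hQT hx).1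
  have hRmem : ∀ x : H, x ∈ (R : Subgroup H) → (x : G) ∈ (S : Subgroup G) ⊓ H := fun x hx =>
    ⟨by rw [hR'] at hx; exact hx, x.2⟩
  refine ⟨Q.subgroupOf H, isNormal_of_extendsWith hQR fun P f hf => ?_, hQR, fun U hU => ?_⟩
  · obtain ⟨hP, hfR, g, e⟩ := isMap_group_iff.mp hf
    have hm : IsMap (fusionSystemOfSubgroup H ((S : Subgroup G) ⊓ H) inf_le_right)
        (P.map H.subtype) (fun x => (g : G) * x * (g : G)⁻¹) := by
      refine isMap_subgroup_iff.mpr ⟨?_, ?_, g, g.2, fun _ _ => rfl⟩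
      · rintro _ ⟨x, hx, rfl⟩
        exact hRmem x (hP hx)
      · rintro _ ⟨x, hx, rfl⟩
        have := hRmem _ (hfR x hx)
        rwa [e x hx] at this
    obtain ⟨k, hk, hkf, hki⟩ := extend_of_isNormal hQn hm
    obtain ⟨-, hkT, m, hm', me⟩ := isMap_subgroup_iff.mp hk
    have hsup : P ⊔ Q.subgroupOf H ≤ (P.map H.subtype ⊔ Q).subgroupOf H :=
      sup_le (fun x hx => Subgroup.mem_sup_left (Subgroup.mem_map_of_mem _ hx))
        fun x hx => Subgroup.mem_sup_right hx
    refine ⟨fun x => ⟨m, hm'⟩ * x * ⟨m, hm'⟩⁻¹, isMap_group_iff.mpr ⟨sup_le hP hQR, fun x hx => ?_,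
      _, fun _ _ => rfl⟩, fun x hx => Subtype.ext ?_, ?_⟩
    · rw [hR']
      show m * (x : G) * m⁻¹ ∈ (S : Subgroup G)
      rw [← me (x : G) (hsup hx)]
      exact (hkT _ (hsup hx)).1
    · show m * (x : G) * m⁻¹ = (f x : G)
      rw [← me (x : G) (hsup (Subgroup.mem_sup_left hx)), hkf (x : G) ⟨x, hx, rfl⟩, e x hx]
      rfl
    · have hle : img (Q.subgroupOf H) (fun x => ⟨m, hm'⟩ * x * ⟨m, hm'⟩⁻¹) ≤ Q.subgroupOf H :=
        IsMap.img_le_iff.mpr fun x hx => by
          show m * (x : G) * m⁻¹ ∈ Q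
          rw [← me (x : G) (Subgroup.mem_sup_right hx)]
          exact hki.le (IsMap.apply_mem_img hx)
      rw [img_conj] at hle ⊢
      exact Subgroup.eq_of_le_of_card_ge hle (card_map_conj _ _).ge
  · obtain ⟨-, -, g, rfl⟩ := isConj_group_iff.mp hU
    have hQsc := stronglyClosed_of_isNormal hQn
    have hgQ : (Q.subgroupOf H).map (MulAut.conj g).toMonoidHom = Q.subgroupOf H := by
      refine Subgroup.eq_of_le_of_card_ge (map_conj_le fun x hx => ?_) (card_map_conj _ _).ge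
      have hx' : x ∈ (R : Subgroup H) := hQR hx
      have hgx : g * x * g⁻¹ ∈ (R : Subgroup H) :=
        (isConj_group_iff.mp hU).2.1 ⟨x, hx, rfl⟩
      have hm : IsMap (fusionSystemOfSubgroup H ((S : Subgroup G) ⊓ H) inf_le_right)
          (Subgroup.zpowers (x : G)) (fun y => (g : G) * y * (g : G)⁻¹) := by
        refine isMap_subgroup_iff.mpr ⟨Subgroup.zpowers_le.mpr (hRmem x hx'), ?_, g, g.2,
          fun _ _ => rfl⟩
        rintro _ ⟨n, rfl⟩
        have := Subgroup.zpow_mem _ (hRmem _ hgx) n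
        show (g : G) * (x : G) ^ n * (g : G)⁻¹ ∈ (S : Subgroup G) ⊓ H
        rw [← conj_zpow]
        exact this
      exact stronglyClosed_apply hQsc hm (Subgroup.mem_zpowers _) hx
    rw [hgQ]
    intro x hx
    obtain ⟨hxR, hxc⟩ := mem_centralizerIn.mp hx
    exact hQc.2 Q (isConj_refl hQT) (mem_centralizerIn.mpr ⟨hRmem x hxR, fun z hz =>
      congrArg Subtype.val (hxc ⟨z, (hQT hz).2⟩ hz)⟩)

/-- Central quotients of groups with constrained fusion. -/
theorem constrained_quotient (hF : (groupFusionSystem (S : Subgroup G)).IsConstrained p)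
    (Z : Subgroup G) [Z.Normal] (hZ : Z ≤ Subgroup.center G) :
    (groupFusionSystem ((S : Subgroup G).map (QuotientGroup.mk' Z))).IsConstrained p := by
  set π := QuotientGroup.mk' Z
  have hπ : Function.Surjective π := QuotientGroup.mk'_surjective Z
  have hsat := saturated_group (S.mapSurjective hπ)
  rw [Sylow.coe_mapSurjective] at hsat
  have hS : IsPGroup p (S : Subgroup G) := S.isPGroup'
  set F := groupFusionSystem (S : Subgroup G)
  set Q := F.core
  have hQn : F.IsNormal Q := isNormal_core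
  have hQsc := stronglyClosed_of_isNormal hQn
  have hQc : F.IsCentric Q := ConsClosed.centric_core hF
  have hZc : ∀ z ∈ Z, ∀ g : G, g * z * g⁻¹ = z := fun z hz g => by
    rw [Subgroup.mem_center_iff.mp (hZ hz) g, mul_inv_cancel_right]
  have hpart : ∀ z ∈ Z, ∀ s ∈ (S : Subgroup G), (∃ k, (s * z) ^ p ^ k = 1) →
      z ∈ (S : Subgroup G) := by
    intro z hz s hs ⟨k, hk⟩
    obtain ⟨j, hj⟩ := hS ⟨s, hs⟩
    have hj' : s ^ p ^ j = 1 := by simpa using congrArg Subtype.val hj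
    have hc : Commute s z := Subgroup.mem_center_iff.mp (hZ hz) s
    have hzp : z ^ p ^ (k + j) = 1 := by
      have h1 : (s * z) ^ p ^ (k + j) = 1 := by rw [pow_add, pow_mul, hk, one_pow]
      have h2 : s ^ p ^ (k + j) = 1 := by rw [pow_add, mul_comm (p ^ k), pow_mul, hj', one_pow]
      rwa [hc.mul_pow, h2, one_mul] at h1
    have hz1 : IsPGroup p (Subgroup.zpowers z) := fun ⟨y, n, hn⟩ => ⟨k + j, Subtype.ext (by
      subst hn
      rw [Subgroup.coe_pow, Subgroup.coe_one]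
      show (z ^ n) ^ p ^ (k + j) = 1
      rw [← zpow_natCast, ← zpow_mul, mul_comm, zpow_mul, zpow_natCast, hzp, one_zpow])⟩
    obtain ⟨g, hg⟩ := exists_conj_le_sylow S hz1
    have := hg z (Subgroup.mem_zpowers z)
    rwa [hZc z hz g] at this
  have hdown : ∀ P' : Subgroup (G ⧸ Z), P' ≤ (S : Subgroup G).map π → ∀ g : G,
      (∀ y ∈ P', π g * y * (π g)⁻¹ ∈ (S : Subgroup G).map π) →
      IsMap F ((S : Subgroup G) ⊓ P'.comap π) (fun x => g * x * g⁻¹) := by
    intro P' _ g hg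
    refine isMap_group_iff.mpr ⟨inf_le_left, fun x hx => ?_, g, fun _ _ => rfl⟩
    obtain ⟨s, hs, es⟩ := hg (π x) hx.2
    have hz : s⁻¹ * (g * x * g⁻¹) ∈ Z := by
      rw [← QuotientGroup.ker_mk' Z]
      show π (s⁻¹ * (g * x * g⁻¹)) = 1
      rw [map_mul, map_inv, map_mul, map_mul, map_inv, es, inv_mul_cancel]
    obtain ⟨k, hk⟩ := hS ⟨x, hx.1⟩
    have hzS := hpart _ hz s hs ⟨k, by
      rw [mul_inv_cancel_left, conj_pow, show x ^ p ^ k = 1 by simpa using congrArg Subtype.val hk,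
        mul_one, mul_inv_cancel]⟩
    have := (S : Subgroup G).mul_mem hs hzS
    rwa [mul_inv_cancel_left] at this
  refine ⟨hsat, Q.map π, isNormal_of_extendsWith (Subgroup.map_mono hQc.1) fun P' f hf => ?_,
    Subgroup.map_mono hQc.1, fun U hU => ?_⟩
  · obtain ⟨hP', hfS, γ, e⟩ := isMap_group_iff.mp hf
    obtain ⟨g, rfl⟩ := hπ γ
    obtain ⟨k, hk, hkf, hki⟩ := extend_of_isNormal hQn (hdown P' hP' g fun y hy => e y hy ▸ hfS y hy)
    obtain ⟨-, hkS, m, me⟩ := isMap_group_iff.mp hk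
    have hlift : ∀ y ∈ P', ∃ x ∈ (S : Subgroup G) ⊓ P'.comap π, π x = y := fun y hy => by
      obtain ⟨x, hx, rfl⟩ := hP' hy
      exact ⟨x, ⟨hx, hy⟩, rfl⟩
    have hsup : P' ⊔ Q.map π ≤ (((S : Subgroup G) ⊓ P'.comap π) ⊔ Q).map π :=
      sup_le (fun y hy => by
        obtain ⟨x, hx, rfl⟩ := hlift y hy
        exact Subgroup.mem_map_of_mem _ (Subgroup.mem_sup_left hx))
        (Subgroup.map_mono le_sup_right)
    refine ⟨fun y => π m * y * (π m)⁻¹, isMap_group_iff.mpr
      ⟨sup_le hP' (Subgroup.map_mono hQc.1), fun y hy => ?_, _, fun _ _ => rfl⟩, fun y hy => ?_, ?_⟩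
    · obtain ⟨x, hx, rfl⟩ := hsup hy
      exact ⟨k x, hkS x hx, by rw [me x hx, map_mul, map_mul, map_inv]⟩
    · obtain ⟨x, hx, rfl⟩ := hlift y hy
      show π m * π x * (π m)⁻¹ = f (π x)
      rw [e _ hy, ← map_inv, ← map_inv, ← map_mul, ← map_mul, ← map_mul, ← map_mul,
        ← me x (Subgroup.mem_sup_left hx), hkf x hx]
    · rw [img_conj]
      refine Subgroup.eq_of_le_of_card_ge (map_conj_le fun y hy => ?_) (card_map_conj _ _).ge
      obtain ⟨x, hx, rfl⟩ := hy
      refine ⟨k x, hki.le (IsMap.apply_mem_img hx), ?_⟩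
      rw [me x (Subgroup.mem_sup_right hx), map_mul, map_mul, map_inv]
  · obtain ⟨-, hUS, γ, rfl⟩ := isConj_group_iff.mp hU
    obtain ⟨g, rfl⟩ := hπ γ
    have hm := hdown (Q.map π) (Subgroup.map_mono hQc.1) g fun y hy => hUS ⟨y, hy, rfl⟩
    have hgQ : (Q.map π).map (MulAut.conj (π g)).toMonoidHom = Q.map π := by
      refine Subgroup.eq_of_le_of_card_ge (map_conj_le fun y hy => ?_) (card_map_conj _ _).ge
      obtain ⟨x, hx, rfl⟩ := hy
      refine ⟨g * x * g⁻¹, stronglyClosed_apply hQsc hm ⟨hQc.1 hx, x, hx, rfl⟩ hx, ?_⟩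
      rw [map_mul, map_mul, map_inv]
    rw [hgQ]
    intro y hy
    obtain ⟨⟨x, hx, rfl⟩, hyc⟩ := mem_centralizerIn.mp hy
    refine Subgroup.mem_map_of_mem π (ConsClosed.radN_core_le hS hF ?_)
    haveI := finite_of_le hQc.1
    have hxn : x ∈ Subgroup.normalizer (Q : Set G) := normalizes_of_stronglyClosed hQsc hx
    have hXQ : Q ⊓ Z ≤ Q := inf_le_left
    refine Criterion.mem_radN.mpr ⟨⟨hx, hxn⟩, Criterion.le_opAut
      (K := Small.chainAut F Q (Q ⊓ Z) hXQ) (fun _ h => h.1)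
      (Small.isPGroup_chainAut hS hXQ hQc.1) (fun α hα β hβ => ?_) ?_⟩
    · have hst : ∀ z ∈ Q ⊓ Z, autFun α z ∈ Q ⊓ Z := fun z hz => by
        obtain ⟨-, -, g, e⟩ := isMap_group_iff.mp ((isMap_autFun hQc.1).mpr hα)
        rw [e z hz.1, hZc z hz.2 g]
        exact hz
      exact Small.conj_chainAut hXQ hQc.1 ⟨hα, hst, hst⟩ hβ
    · refine ⟨autInducedBy_le hQc.1 (range_normalizerInHom (S := (S : Subgroup G)) Q ▸ ⟨_, rfl⟩),
        fun z hz => ?_, fun r hr => ?_⟩
      · rw [autFun_apply_mem _ hz.1, normalizerInHom_apply]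
        exact hZc z hz.2 x
      · rw [autFun_apply_mem _ hr, normalizerInHom_apply]
        refine ⟨Q.mul_mem (conj_mem_of_mem_normalizer hxn hr) (Q.inv_mem hr), ?_⟩
        show x * r * x⁻¹ * r⁻¹ ∈ Z
        rw [← QuotientGroup.ker_mk' Z]
        show π (x * r * x⁻¹ * r⁻¹) = 1
        rw [map_mul, map_mul, map_mul, map_inv, map_inv, hyc _ ⟨r, hr, rfl⟩, mul_inv_cancel]

end Cfsg.Lib.Fusion.ConsGroup
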