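import Cfsg.Agent.Fusion.InvarianceEquiv
import Cfsg.Prelude.Def_TwoFusion

/-!
The subsystems on a strongly closed direct factor.
-/

set_option autoImplicit false

namespace Cfsg.Lib.Fusion

open Cfsg Cfsg.FusionSystem

variable {Ω : Type*} [Group Ω] {S S₁ S₂ : Subgroup Ω} {F : FusionSystem S} {p : ℕ}
  {R R' : FusionSystem S₁}

theorem mem_sup_of_commute {A B : Subgroup Ω} (hc : ∀ a ∈ A, ∀ b ∈ B, a * b = b * a) {x : Ω}
    (hx : x ∈ A ⊔ B) : ∃ a ∈ A, ∃ b ∈ B, a * b = x := by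
  have hn : A ≤ Subgroup.normalizer (B : Set Ω) := fun a ha => by
    rw [Subgroup.mem_normalizer_iff]
    intro y
    constructor
    · intro hy
      rw [hc a ha y hy, mul_inv_cancel_right]
      exact hy
    · intro hy
      have h := hc a⁻¹ (A.inv_mem ha) _ hy
      have hy' : a⁻¹ * (a * y * a⁻¹) * a = a * y * a⁻¹ := by rw [h]; group
      have : y = a * y * a⁻¹ := by
        calc y = a⁻¹ * (a * y * a⁻¹) * a := by group
          _ = _ := hy'
      exact this ▸ hy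
  rw [← SetLike.mem_coe, Subgroup.coe_mul_of_left_le_normalizer_right A B hn] at hx
  exact Set.mem_mul.mp hx

variable (hprod : IsInternalDirectProduct S₁ S₂ S)
include hprod

theorem conj_direct {a b x : Ω} (hb : b ∈ S₂) (hx : x ∈ S₁) :
    a * b * x * (a * b)⁻¹ = a * x * a⁻¹ := by
  have := hprod.2.2.1 x hx b hb
  calc a * b * x * (a * b)⁻¹ = a * (b * x) * b⁻¹ * a⁻¹ := by group
    _ = a * (x * b) * b⁻¹ * a⁻¹ := by rw [this]
    _ = _ := by group

theorem exists_factor {s : Ω} (hs : s ∈ S) : ∃ a ∈ S₁, ∃ b ∈ S₂, a * b = s :=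
  mem_sup_of_commute hprod.2.2.1 (hprod.2.2.2.2.symm ▸ hs)

theorem mem_of_mem_sup {P : Subgroup Ω} (hP : P ≤ S₁) {x : Ω} (hx : x ∈ P ⊔ S₂) (hx1 : x ∈ S₁) :
    x ∈ P := by
  obtain ⟨a, ha, b, hb, rfl⟩ :=
    mem_sup_of_commute (fun a ha => hprod.2.2.1 a (hP ha)) hx
  have hb1 : b ∈ S₁ ⊓ S₂ := Subgroup.mem_inf.mpr ⟨by
    simpa using S₁.mul_mem (S₁.inv_mem (hP ha)) hx1, hb⟩
  rw [hprod.2.2.2.1, Subgroup.mem_bot] at hb1
  rwa [hb1, mul_one]

theorem card_normalizerIn_direct [Finite S] {P : Subgroup Ω} (hP : P ≤ S₁) :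
    Nat.card (normalizerIn S P) = Nat.card (normalizerIn S₁ P) * Nat.card S₂ := by
  rw [← Nat.card_prod]
  refine (Nat.card_congr (Equiv.ofBijective (fun x : normalizerIn S₁ P × S₂ =>
    (⟨(x.1 : Ω) * x.2, ⟨S.mul_mem (hprod.1 x.1.2.1) (hprod.2.1 x.2.2), ?_⟩⟩ :
      normalizerIn S P)) ⟨?_, ?_⟩)).symm
  · show (x.1 : Ω) * x.2 ∈ Subgroup.normalizer (P : Set Ω)
    haveI := finite_of_le (hP.trans hprod.1)
    refine mem_normalizer_of_maps_finite fun y hy => ?_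
    rw [conj_direct hprod x.2.2 (hP hy)]
    exact conj_mem_of_mem_normalizer x.1.2.2 hy
  · rintro ⟨⟨a, ha⟩, ⟨b, hb⟩⟩ ⟨⟨a', ha'⟩, ⟨b', hb'⟩⟩ h
    have h' : a * b = a' * b' := congrArg Subtype.val h
    have h1 : a'⁻¹ * a ∈ S₁ ⊓ S₂ := Subgroup.mem_inf.mpr ⟨S₁.mul_mem (S₁.inv_mem ha'.1) ha.1, by
      rw [show a'⁻¹ * a = b' * b⁻¹ from by
        calc a'⁻¹ * a = a'⁻¹ * (a * b) * b⁻¹ := by group
          _ = a'⁻¹ * (a' * b') * b⁻¹ := by rw [h']
          _ = _ := by group]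
      exact S₂.mul_mem hb' (S₂.inv_mem hb)⟩
    rw [hprod.2.2.2.1, Subgroup.mem_bot, inv_mul_eq_one] at h1
    subst h1
    obtain rfl : b = b' := mul_left_cancel h'
    rfl
  · rintro ⟨g, hgS, hgN⟩
    obtain ⟨a, ha, b, hb, rfl⟩ := exists_factor hprod hgS
    refine ⟨(⟨a, ha, ?_⟩, ⟨b, hb⟩), rfl⟩
    haveI := finite_of_le (hP.trans hprod.1)
    refine mem_normalizer_of_maps_finite fun y hy => ?_
    rw [← conj_direct hprod hb (hP hy)]
    exact conj_mem_of_mem_normalizer hgN hy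

variable (h₁ : F.StronglyClosed S₁) (h₂ : F.StronglyClosed S₂)
include h₁ h₂

theorem img_eq_of_closed [Finite S] {P : Subgroup Ω} {k : Ω → Ω} (hk : IsMap F P k)
    (hP : S₂ ≤ P) : img S₂ k = S₂ := by
  haveI := finite_of_le hprod.2.1
  exact Subgroup.eq_of_le_of_card_ge (IsMap.img_le_iff.mpr fun x hx =>
    stronglyClosed_apply h₂ hk (hP hx) hx) (hk.mono hP).card_img.ge

variable [Finite S] [Fact p.Prime] (hS : IsPGroup p S) (hF : F.IsSaturated p)
include hS hF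

theorem fullyNormalized_direct_sup {P : Subgroup Ω} (hP : P ≤ S₁) (hfn : F.IsFullyNormalized P) :
    F.IsFullyNormalized (P ⊔ S₂) := by
  refine ⟨sup_le hfn.1 hprod.2.1, fun Q hQ => ?_⟩
  obtain ⟨k, hk, rfl⟩ := isConj_iff.mp hQ
  have hPk : F.IsConj P (img P k) := isConj_iff.mpr ⟨k, hk.mono le_sup_left, rfl⟩
  have hle : img P k ≤ S₁ := IsMap.img_le_iff.mpr fun x hx =>
    stronglyClosed_apply h₁ hk (Subgroup.mem_sup_left hx) (hP hx)
  have e : img (P ⊔ S₂) k = img P k ⊔ S₂ := by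
    rw [hk.img_sup, img_eq_of_closed hprod h₁ h₂ hk le_sup_right]
  haveI := finite_of_le (hP.trans hprod.1)
  haveI := finite_of_le (hle.trans hprod.1)
  have hNle : normalizerIn S (img (P ⊔ S₂) k) ≤ normalizerIn S (img P k) := by
    rw [e]
    intro g hg
    refine ⟨hg.1, mem_normalizer_of_maps_finite fun y hy => mem_of_mem_sup hprod hle
      (conj_mem_of_mem_normalizer hg.2 (Subgroup.mem_sup_left hy)) ?_⟩
    exact conj_mem_of_mem_normalizer (normalizes_of_stronglyClosed h₁ hg.1) (hle hy)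
  haveI : Finite (normalizerIn S (img P k)) := finite_of_le inf_le_left
  haveI : Finite (normalizerIn S (P ⊔ S₂)) := finite_of_le inf_le_left
  refine (Subgroup.card_le_of_le hNle).trans ((hfn.2 _ hPk).trans (Subgroup.card_le_of_le ?_))
  intro g hg
  haveI := finite_of_le (sup_le hfn.1 hprod.2.1)
  refine ⟨hg.1, mem_normalizer_of_maps_finite fun y hy => ?_⟩
  obtain ⟨a, ha, b, hb, rfl⟩ := mem_sup_of_commute (fun a ha => hprod.2.2.1 a (hP ha)) hy
  rw [show g * (a * b) * g⁻¹ = g * a * g⁻¹ * (g * b * g⁻¹) by group]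
  exact Subgroup.mul_mem _ (Subgroup.mem_sup_left (conj_mem_of_mem_normalizer hg.2 ha))
    (Subgroup.mem_sup_right (conj_mem_of_mem_normalizer (normalizes_of_stronglyClosed h₂ hg.1) hb))

/-- Every map on a subgroup of one factor extends to the other factor. -/
theorem exists_extend_direct {P : Subgroup Ω} (hP : P ≤ S₁) {f : Ω → Ω} (hf : IsMap F P f) :
    ∃ k, IsMap F (P ⊔ S₂) k ∧ ∀ x ∈ P, k x = f x := by
  obtain ⟨Q, hPQ, hQ⟩ := exists_fullyNormalized (F := F) (hP.trans hprod.1)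
  obtain ⟨-, -, hrec⟩ := fullyNormalized_props hS hF hQ
  set P' := img P f
  have hP' : P' ≤ S₁ :=
    IsMap.img_le_iff.mpr fun x hx => stronglyClosed_apply h₁ hf hx (hP hx)
  obtain ⟨g, hg, hgi⟩ := isConj_iff.mp
    (isConj_trans (isConj_symm (isConj_iff.mpr ⟨f, hf, rfl⟩)) hPQ : F.IsConj P' Q)
  have hext : ∀ {A : Subgroup Ω} {u : Ω → Ω}, A ≤ S₁ → IsMap F A u → img A u = Q →
      ∃ u', IsMap F (A ⊔ S₂) u' ∧ ∀ x ∈ A, u' x = u x := by
    intro A u hA hu hi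
    obtain ⟨u', hu', e⟩ := receptive_extend hrec hu hi
    refine ⟨u', hu'.mono (sup_le (le_extSub hu) fun b hb => centralizerIn_le_extSub A u
      (mem_centralizerIn.mpr ⟨hprod.2.1 hb, fun x hx => ?_⟩)), e⟩
    rw [← hprod.2.2.1 x (hA hx) b hb, mul_inv_cancel_right]
  obtain ⟨g', hg', ge⟩ := hext hP' hg hgi
  have hgf : IsMap F P (g ∘ f) := hf.comp hg fun x hx => IsMap.apply_mem_img hx
  obtain ⟨u', hu', ue⟩ := hext hP hgf (by rw [img_comp hf hg, hgi])
  obtain ⟨d, hd, -, hdl, -⟩ := hg'.exists_inv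
  have hmem : ∀ x ∈ P ⊔ S₂, u' x ∈ img (P' ⊔ S₂) g' := by
    have hle : img (P ⊔ S₂) u' ≤ img (P' ⊔ S₂) g' := by
      rw [hu'.img_sup, hg'.img_sup, img_eq_of_closed hprod h₁ h₂ hu' le_sup_right,
        img_eq_of_closed hprod h₁ h₂ hg' le_sup_right]
      refine sup_le_sup_right (IsMap.img_le_iff.mpr fun x hx => ?_) _
      rw [ue x hx]
      show g (f x) ∈ _
      rw [← ge _ (IsMap.apply_mem_img hx)]
      exact IsMap.apply_mem_img (IsMap.apply_mem_img hx)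
    exact fun x hx => hle (IsMap.apply_mem_img hx)
  refine ⟨d ∘ u', hu'.comp hd hmem, fun x hx => ?_⟩
  show d (u' x) = f x
  rw [ue x hx]
  show d (g (f x)) = f x
  rw [← ge _ (IsMap.apply_mem_img hx), hdl _ (Subgroup.mem_sup_left (IsMap.apply_mem_img hx))]

/-- Automorphisms of a factor extend to the whole group. -/
theorem exists_extend_top {β : Ω → Ω} (hβ : IsMap F S₂ β) :
    ∃ σ, IsMap F S σ ∧ ∀ x ∈ S₂, σ x = β x := by
  have hfn : F.IsFullyNormalized S₂ := ⟨hprod.2.1, fun Q hQ => by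
    haveI : Finite (normalizerIn S S₂) := finite_of_le inf_le_left
    exact Subgroup.card_le_of_le fun g hg => ⟨hg.1, normalizes_of_stronglyClosed h₂ hg.1⟩⟩
  obtain ⟨σ, hσ, e⟩ := receptive_extend (fullyNormalized_props hS hF hfn).2.2 hβ
    (img_eq_of_closed hprod h₁ h₂ hβ le_rfl)
  refine ⟨σ, hσ.mono fun g hg => ?_, e⟩
  obtain ⟨a, ha, b, hb, rfl⟩ := exists_factor hprod hg
  refine (extSub S S₂ β).mul_mem (centralizerIn_le_extSub S₂ β
    (mem_centralizerIn.mpr ⟨hprod.1 ha, fun x hx => ?_⟩)) (le_extSub hβ hb)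
  rw [hprod.2.2.1 a ha x hx, mul_inv_cancel_right]

section Systems

variable (hR : ∀ P : Subgroup Ω, P ≤ S₁ → R.Hom P = F.Hom P)
  (hR' : ∀ P : Subgroup Ω, P ≤ S₁ → R'.Hom P = F.centralizerHom S₂ P)

omit hS hF [Fact p.Prime] in
include hR in
theorem isMap_full_iff {P : Subgroup Ω} {f : Ω → Ω} :
    IsMap R P f ↔ P ≤ S₁ ∧ IsMap F P f := by
  constructor
  · intro h
    obtain ⟨φ, hφ, e⟩ := h
    have hP := (R.le_of_mem hφ).1
    exact ⟨hP, φ, hR P hP ▸ hφ, e⟩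
  · rintro ⟨hP, φ, hφ, e⟩
    exact ⟨φ, (hR P hP).symm ▸ hφ, e⟩

omit hS hF [Fact p.Prime] [Finite S] h₂ in
include hR' in
theorem isMap_centr_iff {P : Subgroup Ω} {f : Ω → Ω} :
    IsMap R' P f ↔
      P ≤ S₁ ∧ ∃ k, IsMap F (P ⊔ S₂) k ∧ (∀ x ∈ P, k x = f x) ∧ ∀ x ∈ S₂, k x = x := by
  constructor
  · rintro ⟨φ, hφ, e⟩
    have hP := (R'.le_of_mem hφ).1
    rw [hR' P hP] at hφ
    obtain ⟨-, -, -, ψ, hψ, hψP, hψQ⟩ := hφ
    refine ⟨hP, toFun' ψ, isMap_of_mem hψ, fun x hx => ?_, fun x hx => ?_⟩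
    · rw [toFun'_apply_mem ψ (Subgroup.mem_sup_left hx), ← e ⟨x, hx⟩]
      exact hψP ⟨x, hx⟩
    · rw [toFun'_apply_mem ψ (Subgroup.mem_sup_right hx)]
      exact hψQ ⟨x, hx⟩
  · rintro ⟨hP, k, hk, hkf, hk2⟩
    obtain ⟨φ, hφ, e⟩ := (hk.mono le_sup_left).congr fun x hx => (hkf x hx).symm
    obtain ⟨ψ, hψ, eψ⟩ := hk
    refine ⟨φ, (hR' P hP).symm ▸ ⟨hφ, fun x hx => ?_, fun x => ?_, ψ, hψ, fun x => ?_,
      fun x => ?_⟩, e⟩
    · exact ⟨hprod.1 (hP hx), Subgroup.mem_centralizer_iff.mpr fun b hb =>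
        (hprod.2.2.1 x (hP hx) b hb).symm⟩
    · have hm : φ x ∈ S₁ := h₁.2 P hP φ hφ x
      exact ⟨hprod.1 hm, Subgroup.mem_centralizer_iff.mpr fun b hb =>
        (hprod.2.2.1 _ hm b hb).symm⟩
    · rw [eψ, e]
      exact hkf x x.2
    · rw [eψ]
      exact hk2 x x.2

include hR' in
/-- Every map is an automorphism of `S` composed with a map of the centralizer part. -/
theorem exists_decomposition {P : Subgroup Ω} (hP : P ≤ S₁) {f : Ω → Ω} (hf : IsMap F P f) :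
    ∃ σ, IsMap F S σ ∧ ∃ f₀, IsMap R' P f₀ ∧ ∀ x ∈ P, f x = σ (f₀ x) := by
  obtain ⟨k, hk, hkf⟩ := exists_extend_direct hprod h₁ h₂ hS hF hP hf
  obtain ⟨σ, hσ, hσe⟩ := exists_extend_top hprod h₁ h₂ hS hF (hk.mono le_sup_right)
  obtain ⟨d, hd, -, hdl, hdr⟩ := hσ.exists_inv
  have hi : img S σ = S :=
    Subgroup.eq_of_le_of_card_ge hσ.img_le hσ.card_img.ge
  rw [hi] at hd hdr
  refine ⟨σ, hσ, d ∘ k, (isMap_centr_iff hprod h₁ hR').mpr
    ⟨hP, d ∘ k, hk.comp hd fun x hx => hk.mem_S hx, fun _ _ => rfl, fun x hx => ?_⟩, fun x hx => ?_⟩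
  · show d (k x) = x
    rw [← hσe x hx, hdl x (hprod.2.1 hx)]
  · show f x = σ (d (k x))
    rw [hdr _ (hk.mem_S (Subgroup.mem_sup_left hx)), hkf x hx]

include hR' in
theorem fullyNormalized_centr {P : Subgroup Ω} (h : R'.IsFullyNormalized P) :
    F.IsFullyNormalized P := by
  refine ⟨h.1.trans hprod.1, fun Q hQ => ?_⟩
  obtain ⟨f, hf, rfl⟩ := isConj_iff.mp hQ
  obtain ⟨σ, hσ, f₀, hf₀, e⟩ := exists_decomposition hprod h₁ h₂ hS hF hR' h.1 hf
  obtain ⟨d, hd, -, hdl, -⟩ := hσ.exists_inv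
  rw [Subgroup.eq_of_le_of_card_ge hσ.img_le hσ.card_img.ge] at hd
  have hQ₁ : Nat.card (normalizerIn S₁ (img P f₀)) ≤ Nat.card (normalizerIn S₁ P) :=
    h.2 _ (isConj_iff.mpr ⟨f₀, hf₀, rfl⟩)
  have hle : img P f ≤ S₁ :=
    IsMap.img_le_iff.mpr fun x hx => stronglyClosed_apply h₁ hf hx (h.1 hx)
  have hd1 : img (img P f) d = img P f₀ := by
    rw [← img_comp hf (hd.mono hf.img_le)]
    exact img_congr fun x hx => by
      show d (f x) = f₀ x
      rw [e x hx, hdl _ (hprod.1 (hf₀.mem_S hx))]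
  have h3 : Nat.card (normalizerIn S (img P f)) ≤ Nat.card (normalizerIn S (img P f₀)) :=
    card_le_of_isMap hd inf_le_left inf_le_left fun a ha => by
      rw [← hd1]
      exact hd.mem_normalizerIn (hle.trans hprod.1) ha.1 ha.2
  refine h3.trans ?_
  rw [card_normalizerIn_direct hprod hf₀.img_le, card_normalizerIn_direct hprod h.1]
  exact Nat.mul_le_mul_right _ hQ₁

omit h₂ hS hF [Fact p.Prime] in
theorem autInducedBy_direct {P : Subgroup Ω} (hP : P ≤ S₁) :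
    autInducedBy S P = autInducedBy S₁ P := by
  refine le_antisymm (fun α hα => ?_) (autInducedBy_mono hprod.1)
  obtain ⟨g, hg, eg⟩ := mem_autInducedBy.mp hα
  obtain ⟨a, ha, b, hb, rfl⟩ := exists_factor hprod hg
  exact mem_autInducedBy.mpr ⟨a, ha, fun x => by rw [eg x, conj_direct hprod hb (hP x.2)]⟩

theorem fullyAutomized_sub {E : FusionSystem S₁} (hE : E.IsSubsystemOf F) {P : Subgroup Ω}
    (hP : P ≤ S₁) (h : F.IsFullyNormalized P) : E.IsFullyAutomized p P := by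
  haveI := finite_of_le hprod.1
  have hfa := (fullyNormalized_props hS hF h).2.1
  rw [isFullyAutomized_iff (hS.of_injective _ (Subgroup.inclusion_injective hprod.1))]
  rw [isFullyAutomized_iff hS, autInducedBy_direct hprod h₁ hP] at hfa
  refine ⟨hP, fun hd => hfa.2 ?_⟩
  have hEF : E.autGroup P ≤ F.autGroup P := fun α hα =>
    (isMap_autFun h.1).mp (isMap_of_sub hE ((isMap_autFun hP).mpr hα))
  rw [← Subgroup.relIndex_mul_relIndex _ _ _ (autInducedBy_le (F := E) hP) hEF]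
  exact hd.mul_right _

include hR in
theorem saturated_full : R.IsSaturated p := by
  haveI := finite_of_le hprod.1
  have hsub : R.IsSubsystemOf F := fun P φ hφ => hR P (R.le_of_mem hφ).1 ▸ hφ
  have hfnF : ∀ P, R.IsFullyNormalized P → F.IsFullyNormalized P := fun P h =>
    ⟨h.1.trans hprod.1, fun Q hQ => by
      obtain ⟨f, hf, rfl⟩ := isConj_iff.mp hQ
      have hle : img P f ≤ S₁ :=
        IsMap.img_le_iff.mpr fun x hx => stronglyClosed_apply h₁ hf hx (h.1 hx)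
      rw [card_normalizerIn_direct hprod hle, card_normalizerIn_direct hprod h.1]
      exact Nat.mul_le_mul_right _ (h.2 _ (isConj_iff.mpr
        ⟨f, (isMap_full_iff hprod h₁ h₂ hR).mpr ⟨h.1, hf⟩, rfl⟩))⟩
  refine saturated_of_props (fun P h => fullyAutomized_sub hprod h₁ h₂ hS hF hsub h.1 (hfnF P h))
    fun Q h => receptive_of_extend h.1 fun P f hf hi => ?_
  obtain ⟨hP, hfF⟩ := (isMap_full_iff hprod h₁ h₂ hR).mp hf
  obtain ⟨f', hf', e⟩ := receptive_extend (fullyNormalized_props hS hF (hfnF Q h)).2.2 hfF hi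
  have hle : extSub S₁ P f ≤ extSub S P f := fun g hg => by
    obtain ⟨hg1, hgn, a, ha, ea⟩ := hg
    exact ⟨hprod.1 hg1, hgn, a, hprod.1 ha, ea⟩
  exact ⟨f', (isMap_full_iff hprod h₁ h₂ hR).mpr
    ⟨(extSub_le P f).trans inf_le_left, hf'.mono hle⟩, e⟩

include hR' in
theorem saturated_centr : R'.IsSaturated p := by
  haveI := finite_of_le hprod.1
  have hsub : R'.IsSubsystemOf F := fun P φ hφ =>
    ((hR' P (R'.le_of_mem hφ).1) ▸ hφ : φ ∈ F.centralizerHom S₂ P).1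
  have hfnF := fun P h => fullyNormalized_centr hprod h₁ h₂ hS hF hR' (P := P) h
  refine saturated_of_props (fun P h => fullyAutomized_sub hprod h₁ h₂ hS hF hsub h.1 (hfnF P h))
    fun Q h => receptive_of_extend h.1 fun P f hf hi => ?_
  obtain ⟨hP, k, hk, hkf, hk2⟩ := (isMap_centr_iff hprod h₁ hR').mp hf
  have hrec := (fullyNormalized_props hS hF
    (fullyNormalized_direct_sup hprod h₁ h₂ hS hF h.1 (hfnF Q h))).2.2
  have hki : img (P ⊔ S₂) k = Q ⊔ S₂ := by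
    rw [hk.img_sup, img_eq_of_closed hprod h₁ h₂ hk le_sup_right, img_congr hkf, hi]
  obtain ⟨k', hk', e⟩ := receptive_extend hrec hk hki
  have hle : extSub S₁ P f ≤ extSub S (P ⊔ S₂) k := by
    intro g hg
    obtain ⟨hg1, hgn, a, ha, ea⟩ := hg
    haveI := finite_of_le (sup_le (hP.trans hprod.1) hprod.2.1)
    have hg2 : ∀ b ∈ S₂, g * b * g⁻¹ = b := fun b hb => by
      rw [hprod.2.2.1 g hg1 b hb, mul_inv_cancel_right]
    refine ⟨hprod.1 hg1, mem_normalizer_of_maps_finite fun y hy => ?_, a, hprod.1 ha,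
      fun y hy => ?_⟩
    all_goals
      obtain ⟨x, hx, b, hb, rfl⟩ := mem_sup_of_commute (fun x hx => hprod.2.2.1 x (hP hx)) hy
      rw [show g * (x * b) * g⁻¹ = g * x * g⁻¹ * (g * b * g⁻¹) by group, hg2 b hb]
    · exact Subgroup.mul_mem _ (Subgroup.mem_sup_left (conj_mem_of_mem_normalizer hgn hx))
        (Subgroup.mem_sup_right hb)
    · have hxg := conj_mem_of_mem_normalizer hgn hx
      rw [hk.map_mul (Subgroup.mem_sup_left hxg) (Subgroup.mem_sup_right hb),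
        hk.map_mul (Subgroup.mem_sup_left hx) (Subgroup.mem_sup_right hb), hkf _ hxg, hkf _ hx,
        hk2 b hb, ea x hx]
      have hab : a * b = b * a := hprod.2.2.1 a ha b hb
      calc a * f x * a⁻¹ * b = a * f x * (a⁻¹ * (a * b) * a⁻¹) := by rw [hab]; group
        _ = a * (f x * b) * a⁻¹ := by group
  refine ⟨k', (isMap_centr_iff hprod h₁ hR').mpr ⟨(extSub_le P f).trans inf_le_left, k',
    hk'.mono (sup_le hle (le_sup_right.trans (le_extSub hk))), fun _ _ => rfl,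
    fun b hb => by rw [e b (Subgroup.mem_sup_right hb), hk2 b hb]⟩, fun x hx => ?_⟩
  rw [e x (Subgroup.mem_sup_left hx), hkf x hx]

include hR' in
theorem isInvariantIn_centr : R'.IsInvariantIn F := by
  have hsub : R'.IsSubsystemOf F := fun P φ hφ =>
    ((hR' P (R'.le_of_mem hφ).1) ▸ hφ : φ ∈ F.centralizerHom S₂ P).1
  refine (invariant_iff_strongInv hS hF hsub h₁).mpr fun P Q hPQ hQ f hf hfQ g hg h hh => ?_
  obtain ⟨hP, k, hk, hkf, hk2⟩ := (isMap_centr_iff hprod h₁ hR').mp hf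
  obtain ⟨j, hj, hjg⟩ := exists_extend_direct hprod h₁ h₂ hS hF hQ hg
  obtain ⟨d, hd, -, hdl, hdr⟩ := (hj.mono (sup_le_sup_right hPQ S₂)).exists_inv
  have himg : img (P ⊔ S₂) j = img P g ⊔ S₂ := by
    rw [(hj.mono (sup_le_sup_right hPQ S₂)).img_sup,
      img_eq_of_closed hprod h₁ h₂ hj le_sup_right, img_congr fun x hx => hjg x (hPQ hx)]
  have hdP : ∀ y ∈ img (P ⊔ S₂) j, d y ∈ P ⊔ S₂ := fun y hy => by
    obtain ⟨x, hx, rfl⟩ := (hj.mono (sup_le_sup_right hPQ S₂)).mem_img.mp hy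
    rwa [hdl x hx]
  have hkQ : ∀ x ∈ P ⊔ S₂, k x ∈ Q ⊔ S₂ := fun x hx => by
    obtain ⟨a, ha, b, hb, rfl⟩ := mem_sup_of_commute (fun a ha => hprod.2.2.1 a (hP ha)) hx
    rw [hk.map_mul (Subgroup.mem_sup_left ha) (Subgroup.mem_sup_right hb), hkf a ha, hk2 b hb]
    exact Subgroup.mul_mem _ (Subgroup.mem_sup_left (hfQ a ha)) (Subgroup.mem_sup_right hb)
  have hm := (hd.comp hk hdP).comp hj fun y hy => hkQ _ (hdP y hy)
  have hle : img P g ≤ S₁ :=
    IsMap.img_le_iff.mpr fun x hx => stronglyClosed_apply h₁ hg (hPQ hx) (hP hx)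
  refine (isMap_centr_iff hprod h₁ hR').mpr ⟨hle, _, himg ▸ hm, fun y hy => ?_, fun y hy => ?_⟩
  · obtain ⟨x, hx, rfl⟩ := (hg.mono hPQ).mem_img.mp hy
    show j (k (d (g x))) = h (g x)
    rw [hh x hx, ← hjg x (hPQ hx), hdl x (Subgroup.mem_sup_left hx), hkf x hx, hjg _ (hfQ x hx)]
  · show j (k (d y)) = y
    have hym : y ∈ img S₂ j := (img_eq_of_closed hprod h₁ h₂ hj le_sup_right).symm ▸ hy
    obtain ⟨z, hz, rfl⟩ := (hj.mono le_sup_right).mem_img.mp hym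
    rw [hdl z (Subgroup.mem_sup_right hz), hk2 z hz]

include hR hR' in
theorem isNormalIn_centr : R'.IsNormalIn F p ∧ R'.IsNormalIn R p ∧ R.IsWeaklyNormalIn F p := by
  haveI := finite_of_le hprod.1
  have hS1 := hS.of_injective _ (Subgroup.inclusion_injective hprod.1)
  have hsat' := saturated_centr hprod h₁ h₂ hS hF hR'
  have hsat := saturated_full hprod h₁ h₂ hS hF hR
  have hinv := isInvariantIn_centr hprod h₁ h₂ hS hF hR'
  have hsubR : R.IsSubsystemOf F := fun P φ hφ => hR P (R.le_of_mem hφ).1 ▸ hφ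
  have hsubR' : R'.IsSubsystemOf R := fun P φ hφ => by
    rw [hR P (R'.le_of_mem hφ).1]
    exact hinv.1 P hφ
  have hclR : R.StronglyClosed S₁ := ⟨le_rfl, fun _ _ _ hφ x => (R.le_of_mem hφ).2 x⟩
  refine ⟨⟨⟨hsat', hF, hinv⟩, fun α hα => ?_⟩, ⟨⟨hsat', hsat, ?_⟩, fun α hα => ?_⟩,
    hsat, hF, ?_⟩
  · have hm := (isMap_autFun le_rfl).mpr hα
    obtain ⟨-, k, hk, hkf, hk2⟩ := (isMap_centr_iff hprod h₁ hR').mp hm
    have hsup : S₁ ⊔ centralizerIn S S₁ = S := le_antisymm (sup_le hprod.1 inf_le_left) fun s hs => by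
      obtain ⟨a, ha, b, hb, rfl⟩ := exists_factor hprod hs
      exact Subgroup.mul_mem _ (Subgroup.mem_sup_left ha) (Subgroup.mem_sup_right
        (Subgroup.mem_inf.mpr ⟨hprod.2.1 hb, Subgroup.mem_centralizer_iff.mpr
          fun x hx => hprod.2.2.1 x hx b hb⟩))
    rw [hprod.2.2.2.2] at hk
    have hkS : img S k = S := Subgroup.eq_of_le_of_card_ge hk.img_le hk.card_img.ge
    obtain ⟨β, hβ, hβe⟩ : ∃ β ∈ F.autGroup (S₁ ⊔ centralizerIn S S₁),
        ∀ x ∈ S₁ ⊔ centralizerIn S S₁, autFun β x = k x :=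
      (hk.mono hsup.le).exists_aut (by rw [hsup]; exact hkS)
    refine ⟨β, hβ, fun x => ?_, fun c hc => ?_⟩
    · rw [← autFun_apply β (Subgroup.inclusion le_sup_left x), ← autFun_apply α x]
      exact (hβe _ (Subgroup.mem_sup_left x.2)).trans (hkf _ x.2)
    · rw [← autFun_apply β c, hβe _ c.2]
      obtain ⟨a, ha, b, hb, hab⟩ := exists_factor hprod hc.1
      have hka : k a ∈ S₁ := (hkf a ha).symm ▸ hm.mem_S ha
      refine Subgroup.mem_inf.mpr ⟨?_, Subgroup.mem_centralizer_iff.mpr fun x hx => ?_⟩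
      · rw [← hab, hk.map_mul (hprod.1 ha) (hprod.2.1 hb), hk2 b hb,
          show (a * b)⁻¹ * (k a * b) = b⁻¹ * (a⁻¹ * k a * b) by group,
          hprod.2.2.1 _ (S₁.mul_mem (S₁.inv_mem ha) hka) b hb, inv_mul_cancel_left]
        exact S₁.mul_mem (S₁.inv_mem ha) hka
      · have hc' : ∀ y ∈ S₁, y * (c : Ω) = c * y := Subgroup.mem_centralizer_iff.mp hc.2
        obtain ⟨y, hy, rfl⟩ : ∃ y ∈ S₁, k y = x := by
          have h1 : img S₁ k = S₁ := Subgroup.eq_of_le_of_card_ge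
            (IsMap.img_le_iff.mpr fun y hy => (hkf y hy).symm ▸ hm.mem_S hy)
            (hk.mono hprod.1).card_img.ge
          exact (hk.mono hprod.1).mem_img.mp (h1.symm ▸ hx)
        have hky : k y ∈ S₁ := (hkf y hy).symm ▸ hm.mem_S hy
        have h2 : k y * k c = k c * k y := by
          rw [← hk.map_mul (hprod.1 hy) hc.1, ← hk.map_mul hc.1 (hprod.1 hy), hc' y hy]
        calc k y * ((c : Ω)⁻¹ * k c) = (c : Ω)⁻¹ * ((c : Ω) * k y) * (c : Ω)⁻¹ * k c := by group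
          _ = (c : Ω)⁻¹ * (k y * c) * (c : Ω)⁻¹ * k c := by rw [hc' _ hky]
          _ = (c : Ω)⁻¹ * (k y * k c) := by group
          _ = (c : Ω)⁻¹ * (k c * k y) := by rw [h2]
          _ = _ := by group
  · refine (invariant_iff_strongInv hS1 hsat hsubR' hclR).mpr
      fun P Q hPQ hQ f hf hfQ g hg => (strongInv_of_invariant hinv) P Q hPQ hQ f hf hfQ g
        (isMap_of_sub hsubR hg)
  · have hm := (isMap_autFun le_rfl).mpr hα
    have hsup : S₁ ⊔ centralizerIn S₁ S₁ = S₁ := sup_eq_left.mpr inf_le_left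
    have hi : img (S₁ ⊔ centralizerIn S₁ S₁) (autFun α) = S₁ ⊔ centralizerIn S₁ S₁ := by
      rw [hsup]; exact img_autFun α
    obtain ⟨β, hβ, hβe⟩ := ((isMap_of_sub hsubR' hm).mono hsup.le).exists_aut hi
    refine ⟨β, hβ, fun x => ?_, fun c hc => ?_⟩
    · rw [← autFun_apply β (Subgroup.inclusion le_sup_left x), ← autFun_apply α x]
      exact hβe _ (Subgroup.mem_sup_left x.2)
    · rw [← autFun_apply β c, hβe _ c.2]
      refine Subgroup.mem_inf.mpr ⟨S₁.mul_mem (S₁.inv_mem hc.1) (hm.mem_S hc.1),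
        Subgroup.mul_mem _ (Subgroup.inv_mem _ hc.2) ?_⟩
      rw [Subgroup.mem_centralizer_iff]
      intro x hx
      have hy := autFun_mem α⁻¹ hx
      rw [← autFun_inv_apply α hx, ← hm.map_mul hy hc.1, ← hm.map_mul hc.1 hy,
        Subgroup.mem_centralizer_iff.mp hc.2 _ hy]
  · refine (invariant_iff_strongInv hS hF hsubR h₁).mpr fun P Q hPQ hQ f hf hfQ g hg h hh => ?_
    obtain ⟨hP, hfF⟩ := (isMap_full_iff hprod h₁ h₂ hR).mp hf
    obtain ⟨d, hd, -, hdl, -⟩ := (hg.mono hPQ).exists_inv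
    have hdP : ∀ y ∈ img P g, d y ∈ P := fun y hy => by
      obtain ⟨x, hx, rfl⟩ := (hg.mono hPQ).mem_img.mp hy
      rwa [hdl x hx]
    refine (isMap_full_iff hprod h₁ h₂ hR).mpr ⟨IsMap.img_le_iff.mpr fun x hx =>
      stronglyClosed_apply h₁ hg (hPQ hx) (hP hx),
      ((hd.comp hfF hdP).comp hg fun y hy => hfQ _ (hdP y hy)).congr fun y hy => ?_⟩
    obtain ⟨x, hx, rfl⟩ := (hg.mono hPQ).mem_img.mp hy
    show h (g x) = g (f (d (g x)))
    rw [hh x hx, hdl x hx]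

end Systems

end Cfsg.Lib.Fusion
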