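import Cfsg.Agent.Fusion.InnerSubsystem

/-!
An abelian 2-group with pairwise distinct exponents has no automorphism of odd order.
-/

set_option autoImplicit false

namespace Cfsg.Lib.Fusion

theorem zmod_two_torsion {a : ℕ} {x : ZMod (2 ^ a)} (h : x + x = 0) :
    x = 0 ∨ x = ((2 ^ (a - 1) : ℕ) : ZMod (2 ^ a)) := by
  haveI : NeZero (2 ^ a) := ⟨pow_ne_zero _ two_ne_zero⟩
  rw [← ZMod.natCast_zmod_val x, ← Nat.cast_add, ZMod.natCast_eq_zero_iff] at h
  rcases Nat.eq_zero_or_pos x.val with h0 | h0
  · exact Or.inl ((ZMod.val_eq_zero x).mp h0)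
  right
  rw [← ZMod.natCast_zmod_val x]
  congr 1
  obtain ⟨c, hc⟩ := h
  have hlt := x.val_lt
  have hc1 : c = 1 := by
    have : 2 ^ a * c < 2 ^ a * 2 := by omega
    have := Nat.lt_of_mul_lt_mul_left this
    rcases c with _ | c
    · omega
    · omega
  subst hc1
  rcases a with _ | a
  · omega
  · simp only [Nat.add_sub_cancel]
    have := pow_succ 2 a
    omega

variable {n : ℕ} {a : Fin n → ℕ}

theorem exists_smul_iff {k : ℕ} {x : (i : Fin n) → ZMod (2 ^ a i)} (hx : x + x = 0) :
    (∃ y : (i : Fin n) → ZMod (2 ^ a i), (2 ^ k) • y = x) ↔ ∀ i, a i ≤ k → x i = 0 := by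
  constructor
  · rintro ⟨y, rfl⟩ i hi
    rw [Pi.smul_apply, nsmul_eq_mul,
      (ZMod.natCast_eq_zero_iff _ _).mpr (pow_dvd_pow 2 hi), zero_mul]
  · intro h
    refine ⟨fun i => if x i = 0 then 0 else ((2 ^ (a i - 1 - k) : ℕ) : ZMod (2 ^ a i)), funext fun i => ?_⟩
    rw [Pi.smul_apply]
    by_cases h0 : x i = 0
    · simp [h0]
    · have hk : ¬ a i ≤ k := fun hi => h0 (h i hi)
      have h2 := (zmod_two_torsion (congrFun hx i)).resolve_left h0
      simp only [if_neg h0]
      rw [nsmul_eq_mul, h2, ← Nat.cast_mul, ← pow_add, show k + (a i - 1 - k) = a i - 1 by omega]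

/-- An automorphism of finite odd order of the group is trivial. -/
theorem eq_id_of_odd_iterate (ha : StrictMono a)
    (f g : ((i : Fin n) → ZMod (2 ^ a i)) →+ ((i : Fin n) → ZMod (2 ^ a i)))
    (hgf : ∀ x, g (f x) = x) (hfg : ∀ x, f (g x) = x) {m : ℕ} (hm : Odd m) (hfm : ∀ x, f^[m] x = x)
    (x : (i : Fin n) → ZMod (2 ^ a i)) : f x = x := by
  have hstep : ∀ x : (i : Fin n) → ZMod (2 ^ a i), (f x - x) + (f x - x) = 0 →
      f (f x - x) = f x - x → f x = x := by
    intro x h2 hfix
    have hiter : ∀ j : ℕ, f^[j] x = x + j • (f x - x) := by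
      intro j
      induction j with
      | zero => simp
      | succ j ih =>
        rw [Function.iterate_succ_apply', ih, map_add, map_nsmul, hfix, succ_nsmul']
        abel
    obtain ⟨t, rfl⟩ := hm
    have h := hiter (2 * t + 1)
    rw [hfm, succ_nsmul, mul_comm, mul_nsmul, two_nsmul, ← nsmul_add, h2, nsmul_zero, zero_add,
      add_sub_cancel] at h
    exact h.symm
  have hinv : ∀ (φ : ((i : Fin n) → ZMod (2 ^ a i)) →+ ((i : Fin n) → ZMod (2 ^ a i))) (k : ℕ)
      (x : (i : Fin n) → ZMod (2 ^ a i)), x + x = 0 → (∀ i, a i ≤ k → x i = 0) →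
      ∀ i, a i ≤ k → φ x i = 0 := by
    intro φ k x hx h
    refine (exists_smul_iff (by rw [← map_add, hx, map_zero])).mp ?_
    obtain ⟨y, hy⟩ := (exists_smul_iff hx).mpr h
    exact ⟨φ y, by rw [← map_nsmul, hy]⟩
  obtain ⟨N, hN⟩ : ∃ N, ∀ i, a i ≤ N :=
    ⟨∑ i, a i, fun i => Finset.single_le_sum (fun j _ => Nat.zero_le _) (Finset.mem_univ i)⟩
  have hlow : ∀ (j k : ℕ), N ≤ k + j → ∀ x : (i : Fin n) → ZMod (2 ^ a i), x + x = 0 →
      (∀ i, a i ≤ k → x i = 0) → f x = x := by
    intro j
    induction j with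
    | zero =>
      intro k hk x _ h
      have : x = 0 := funext fun i => h i ((hN i).trans hk)
      rw [this, map_zero]
    | succ j ih =>
      intro k hk x hx h
      by_cases h1 : ∀ i, a i ≤ k + 1 → x i = 0
      · exact ih (k + 1) (by omega) x hx h1
      have hfx : f x + f x = 0 := by rw [← map_add, hx, map_zero]
      have hv2 : (f x - x) + (f x - x) = 0 := by
        rw [show f x - x + (f x - x) = (f x + f x) - (x + x) by abel, hfx, hx, sub_zero]
      refine hstep x hv2 (ih (k + 1) (by omega) _ hv2 fun i hi => ?_)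
      push Not at h1
      obtain ⟨i₀, hi₀, hne⟩ := h1
      rcases Nat.lt_or_ge k (a i) with hki | hki
      · have hai : a i = k + 1 := by omega
        have hai0 : a i₀ = k + 1 := by
          have : ¬ a i₀ ≤ k := fun hh => hne (h _ hh)
          omega
        obtain rfl : i = i₀ := ha.injective (hai.trans hai0.symm)
        have hfne : f x i ≠ 0 := fun h0 => by
          refine hne ?_
          have h3 := hinv g (k + 1) (f x) hfx (fun l hl => ?_) i hi
          · rwa [hgf] at h3
          · rcases Nat.lt_or_ge k (a l) with hkl | hkl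
            · obtain rfl : l = i := ha.injective (show a l = a i by omega)
              exact h0
            · exact hinv f k x hx h l hkl
        rw [Pi.sub_apply, (zmod_two_torsion (congrFun hx i)).resolve_left hne,
          (zmod_two_torsion (congrFun hfx i)).resolve_left hfne, sub_self]
      · rw [Pi.sub_apply, hinv f k x hx h i hki, h i hki, sub_zero]
  have hinvol : ∀ x : (i : Fin n) → ZMod (2 ^ a i), x + x = 0 → f x = x := fun x hx =>
    hlow N 0 (by omega) x hx fun i hi => by
      have h := zmod_two_torsion (congrFun hx i)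
      have h1 : (1 : ZMod (2 ^ a i)) = 0 := by
        haveI : Subsingleton (ZMod (2 ^ a i)) := by
          rw [Nat.le_zero.mp hi, pow_zero]
          infer_instance
        exact Subsingleton.elim _ _
      calc x i = x i * 1 := (mul_one _).symm
        _ = 0 := by rw [h1, mul_zero]
  have hall : ∀ (j : ℕ) (x : (i : Fin n) → ZMod (2 ^ a i)), (2 ^ j) • x = 0 → f x = x := by
    intro j
    induction j with
    | zero =>
      intro x hx
      rw [pow_zero, one_nsmul] at hx
      rw [hx, map_zero]
    | succ j ih =>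
      intro x hx
      have h1 : f (x + x) = x + x := ih _ (by
        rw [← two_nsmul, ← mul_nsmul, ← pow_succ', hx])
      have hv2 : (f x - x) + (f x - x) = 0 := by
        rw [show f x - x + (f x - x) = (f x + f x) - (x + x) by abel, ← map_add, h1, sub_self]
      exact hstep x hv2 (hinvol _ hv2)
  refine hall N x (funext fun i => ?_)
  rw [Pi.smul_apply, nsmul_eq_mul, (ZMod.natCast_eq_zero_iff _ _).mpr (pow_dvd_pow 2 (hN i)),
    zero_mul]
  rfl

open Cfsg Cfsg.FusionSystem in
theorem isInner_of_distinct_exponents {Ω : Type*} [Group Ω] {S : Subgroup Ω} [Finite S]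
    (ha : StrictMono a) (e : ↥S ≃* Multiplicative ((i : Fin n) → ZMod (2 ^ a i)))
    {F : FusionSystem S} (hF : F.IsSaturated 2) : IsInner F := by
  haveI : Fact (Nat.Prime 2) := ⟨Nat.prime_two⟩
  have hab : ∀ x ∈ S, ∀ y ∈ S, x * y = y * x := fun x hx y hy => by
    have h : (⟨x, hx⟩ : S) * ⟨y, hy⟩ = ⟨y, hy⟩ * ⟨x, hx⟩ := e.injective (by
      rw [map_mul, map_mul, mul_comm])
    exact congrArg Subtype.val h
  obtain ⟨N, hN⟩ : ∃ N, ∀ i, a i ≤ N :=
    ⟨∑ i, a i, fun i => Finset.single_le_sum (fun j _ => Nat.zero_le _) (Finset.mem_univ i)⟩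
  have hS : IsPGroup 2 S := fun s => ⟨N, e.injective (by
    rw [map_pow, map_one]
    refine Multiplicative.toAdd.injective (funext fun i => ?_)
    rw [toAdd_pow, toAdd_one, Pi.smul_apply, nsmul_eq_mul,
      (ZMod.natCast_eq_zero_iff _ _).mpr (pow_dvd_pow 2 (hN i)), zero_mul]
    rfl)⟩
  have hSn : F.IsNormal S := isNormal_of_abelian hS hF hab
  have hbot : autInducedBy S S = ⊥ := by
    refine (Subgroup.eq_bot_iff_forall _).mpr fun β hβ => ?_
    obtain ⟨g, hg, eg⟩ := mem_autInducedBy.mp hβ
    refine MulEquiv.ext fun y => Subtype.ext ?_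
    rw [eg y, hab g hg y y.2, mul_inv_cancel_right]
    rfl
  obtain ⟨-, hidx⟩ := (isFullyAutomized_iff hS).mp
    (fullyNormalized_props hS hF (fullyNormalized_of_isNormal hSn)).2.1
  rw [hbot, Subgroup.relIndex_bot_left] at hidx
  have haut : ∀ α ∈ F.autGroup S, ∀ s : S, α s = s := by
    intro α hα s
    have hodd : Odd (orderOf α) := by
      rw [Nat.odd_iff, ← Nat.two_dvd_ne_zero]
      intro hd
      refine hidx (hd.trans ?_)
      rw [← Subgroup.orderOf_mk α hα]
      exact orderOf_dvd_natCard _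
    let c : MulAut S → (((i : Fin n) → ZMod (2 ^ a i)) →+ ((i : Fin n) → ZMod (2 ^ a i))) :=
      fun β => AddMonoidHom.mk' (fun x => Multiplicative.toAdd (e (β (e.symm (Multiplicative.ofAdd x)))))
        fun x y => by simp [map_mul]
    have hiter : ∀ (j : ℕ) (x), (c α)^[j] x = c (α ^ j) x := by
      intro j
      induction j with
      | zero => intro x; simp [c]
      | succ j ih =>
        intro x
        rw [Function.iterate_succ_apply', ih, pow_succ']
        simp [c, MulAut.mul_apply]
    have h := eq_id_of_odd_iterate ha (c α) (c α⁻¹) (fun x => by simp [c]) (fun x => by simp [c])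
      hodd (fun x => by rw [hiter, pow_orderOf_eq_one]; simp [c]) (Multiplicative.toAdd (e s))
    apply e.injective
    apply Multiplicative.toAdd.injective
    simpa [c] using h
  intro P f hf
  obtain ⟨k, hk, hkf, hki⟩ := extend_of_isNormal hSn hf
  obtain ⟨α, hα, hαe⟩ := (hk.mono le_sup_right).exists_aut hki
  refine ⟨1, S.one_mem, fun x hx => ?_⟩
  rw [← hkf x hx, ← hαe x (hf.le hx), autFun_apply_mem _ (hf.le hx), haut α hα]
  simp

end Cfsg.Lib.Fusion
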