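import Cfsg.Agent.Fusion.FunctorBasics
import Cfsg.Agent.Fusion.Constrained
import Cfsg.Agent.Fusion.GTSteps

/-!
A functor satisfying a local condition in the models controls the centre.
-/

set_option autoImplicit false

namespace Cfsg.Lib.Fusion

open Cfsg Cfsg.FusionSystem

universe u

variable {p : ℕ} {W : ∀ (Q : Type u) [Group Q], Subgroup Q}

/-- The local condition. -/
def LocalControl (p : ℕ) (W : ∀ (Q : Type u) [Group Q], Subgroup Q) (e : ℕ) : Prop :=
  ∀ (L : Type u) [Group L] [Finite L] (U : Sylow p L) (y : L),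
    y ∈ (U : Subgroup L) → (∀ u ∈ (U : Subgroup L), u * y = y * u) →
    Subgroup.centralizer ((pCore p L : Subgroup L) : Set L) ≤ pCore p L →
    (∀ l ∈ Subgroup.normalizer
      (((W ↥(U : Subgroup L)).map (U : Subgroup L).subtype : Subgroup L) : Set L),
        l * y ^ e * l⁻¹ = y ^ e) →
    (∀ D : Subgroup L, D ≤ (U : Subgroup L) → pCore p L < D →
      (U : Subgroup L) ≤ Subgroup.normalizer (D : Set L) →
      ∀ l ∈ Subgroup.normalizer (D : Set L), l * y ^ e * l⁻¹ = y ^ e) →
    ∀ l : L, l * y ^ e * l⁻¹ = y ^ e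

variable {e : ℕ}

/-- The local condition, required only of the groups satisfying `Good`. -/
def LocalControlOn (p : ℕ) (W : ∀ (Q : Type u) [Group Q], Subgroup Q) (e : ℕ)
    (Good : ∀ (L : Type u) [Group L], Prop) : Prop :=
  ∀ (L : Type u) [Group L] [Finite L], Good L → ∀ (U : Sylow p L) (y : L),
    y ∈ (U : Subgroup L) → (∀ u ∈ (U : Subgroup L), u * y = y * u) →
    Subgroup.centralizer ((pCore p L : Subgroup L) : Set L) ≤ pCore p L →
    (∀ l ∈ Subgroup.normalizer
      (((W ↥(U : Subgroup L)).map (U : Subgroup L).subtype : Subgroup L) : Set L),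
        l * y ^ e * l⁻¹ = y ^ e) →
    (∀ D : Subgroup L, D ≤ (U : Subgroup L) → pCore p L < D →
      (U : Subgroup L) ≤ Subgroup.normalizer (D : Set L) →
      ∀ l ∈ Subgroup.normalizer (D : Set L), l * y ^ e * l⁻¹ = y ^ e) →
    ∀ l : L, l * y ^ e * l⁻¹ = y ^ e

/-- Every model of a subsystem satisfies `Good`. -/
def ModelsGood {Ω : Type u} [Group Ω] {S : Subgroup Ω} (F : FusionSystem S) (p : ℕ)
    (Good : ∀ (L : Type u) [Group L], Prop) : Prop :=
  ∀ (T : Subgroup Ω) (E : FusionSystem T), T ≤ S → E.IsSubsystemOf F →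
    ∀ (L : Type u) [Group L] (ι : T →* L), E.IsModel p L ι → Good L

variable {Good : ∀ (L : Type u) [Group L], Prop}

theorem model_fix [Fact p.Prime]
    (hW2 : ∀ (Q R : Type u) [Group Q] [Group R] [Finite Q], IsPGroup p Q →
      ∀ φ : Q ≃* R, (W Q).map φ.toMonoidHom = W R)
    (hWZ : ∀ (Q : Type u) [Group Q] [Finite Q], IsPGroup p Q → Subgroup.center Q ≤ W Q)
    (hloc : LocalControlOn p W e Good) {Ω : Type u} [Group Ω] {T : Subgroup Ω} [Finite T]
    (hT : IsPGroup p T) {E : FusionSystem T} {L : Type u} [Group L] {ι : T →* L}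
    (hmod : E.IsModel p L ι) (hgood : Good L) {y : Ω} (hy : y ∈ T) (hyc : ∀ t ∈ T, t * y = y * t)
    (hWfix : ∀ f, IsMap E (fnImage W T) f → img (fnImage W T) f = fnImage W T →
      f (y ^ e) = y ^ e)
    (hDfix : ∀ (D : Subgroup Ω) (f : Ω → Ω), D ≤ T →
      ((pCore p L).comap ι).map T.subtype < D → T ≤ Subgroup.normalizer (D : Set Ω) →
      IsMap E D f → img D f = D → y ^ e ∈ D → f (y ^ e) = y ^ e) :
    ∀ (P : Subgroup Ω) (f : Ω → Ω), IsMap E P f → y ^ e ∈ P → f (y ^ e) = y ^ e := by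
  obtain ⟨hL, hreal, ⟨U, hU⟩, hcen⟩ := hmod
  haveI := hL
  set z := y ^ e with hz
  have hzT : z ∈ T := T.pow_mem hy e
  have hyU : ι ⟨y, hy⟩ ∈ (U : Subgroup L) := by rw [hU]; exact ⟨_, rfl⟩
  have hyUc : ∀ u ∈ (U : Subgroup L), u * ι ⟨y, hy⟩ = ι ⟨y, hy⟩ * u := by
    intro u hu
    rw [hU] at hu
    obtain ⟨t, rfl⟩ := hu
    rw [← map_mul, ← map_mul]
    exact congrArg ι (Subtype.ext (hyc t t.2))
  have hye : ι ⟨y, hy⟩ ^ e = ι ⟨z, hzT⟩ := by rw [← map_pow]; rfl
  -- an element stabilizing a subgroup gives a map stabilizing it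
  have hstab : ∀ (A : Subgroup Ω), A ≤ T → z ∈ A →
      ∀ l ∈ Subgroup.normalizer (((A.subgroupOf T).map ι : Subgroup L) : Set L),
        (∀ f, IsMap E A f → img A f = A → f z = z) → l * ι ⟨z, hzT⟩ * l⁻¹ = ι ⟨z, hzT⟩ := by
    intro A hA hzA l hl hfix
    have hmemA : ∀ x : T, ι x ∈ (A.subgroupOf T).map ι ↔ (x : Ω) ∈ A := fun x =>
      ⟨fun ⟨w, hw, e'⟩ => hreal.1 e' ▸ hw, fun hx => ⟨x, hx, rfl⟩⟩
    obtain ⟨f, hf, -, hfe⟩ := exists_isMap_of_elt hreal hA l fun x hx =>
      Subgroup.map_le_range ι _ (conj_mem_of_mem_normalizer hl ((hmemA x).mpr hx))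
    haveI := finite_of_le hA
    have hi : img A f = A := by
      refine Subgroup.eq_of_le_of_card_ge (IsMap.img_le_iff.mpr fun x hx => ?_) hf.card_img.ge
      refine (hmemA ⟨f x, hf.mem_S hx⟩).mp ?_
      rw [(hfe ⟨x, hA hx⟩ hx ⟨f x, hf.mem_S hx⟩).mp rfl]
      exact conj_mem_of_mem_normalizer hl ((hmemA ⟨x, hA hx⟩).mpr hx)
    exact ((hfe ⟨z, hzT⟩ hzA ⟨z, hzT⟩).mp (hfix f hf hi).symm).symm
  have hzW : z ∈ fnImage W T := mem_fnImage_of_center hWZ hT hzT fun t ht =>
    ((Commute.pow_right (show Commute t y from hyc t ht) e)).eq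
  have hWmap : (fnImage W T).subgroupOf T = W ↥T :=
    Subgroup.comap_map_eq_self_of_injective T.subtype_injective _
  have hall := hloc L hgood U (ι ⟨y, hy⟩) hyU hyUc hcen (fun l hl => ?_) (fun D hDU hQD hUD l hl => ?_)
  rotate_left
  · rw [hye]
    refine hstab _ (fnImage_le T) hzW l ?_ hWfix
    rw [hWmap, ← map_fn hT hW2 hreal.1 hU]
    exact hl
  · rw [hye]
    set D' := (D.comap ι).map T.subtype with hD'
    have hDr : D ≤ ι.range := hDU.trans hU.le
    have hmemD : ∀ x : T, (x : Ω) ∈ D' ↔ ι x ∈ D := fun x =>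
      ⟨fun ⟨w, hw, e'⟩ => Subtype.ext e' ▸ hw, fun hx => ⟨x, hx, rfl⟩⟩
    have hsub : (D'.subgroupOf T).map ι = D := by
      rw [hD', Subgroup.subgroupOf, Subgroup.comap_map_eq_self_of_injective T.subtype_injective,
        Subgroup.map_comap_eq, inf_eq_right.mpr hDr]
    have hyD : ι ⟨z, hzT⟩ ∈ D := by
      refine hQD.le (hcen (Subgroup.mem_centralizer_iff.mpr fun q hq => ?_))
      rw [← hye]
      exact (Commute.pow_right (show Commute q (ι ⟨y, hy⟩) from
        hyUc q (hDU (hQD.le hq))) e).eq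
    have hzD : z ∈ D' := (hmemD ⟨z, hzT⟩).mpr hyD
    have hlt : ((pCore p L).comap ι).map T.subtype < D' := by
      refine lt_of_le_of_ne (Subgroup.map_mono (Subgroup.comap_mono hQD.le)) fun heq => hQD.not_ge ?_
      intro x hx
      obtain ⟨t, rfl⟩ := hDr hx
      obtain ⟨w, hw, e'⟩ := heq.ge ((hmemD t).mpr hx)
      exact Subtype.ext e' ▸ hw
    have hTD : T ≤ Subgroup.normalizer (D' : Set Ω) := fun t ht => by
      haveI := finite_of_le (Subgroup.map_subtype_le (D.comap ι))
      refine mem_normalizer_of_maps_finite fun x hx => ?_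
      obtain ⟨w, hw, rfl⟩ := hx
      refine (hmemD (⟨t, ht⟩ * w * ⟨t, ht⟩⁻¹)).mpr ?_
      rw [map_mul, map_mul, map_inv]
      exact conj_mem_of_mem_normalizer (hUD (by rw [hU]; exact ⟨_, rfl⟩)) hw
    exact hstab _ (Subgroup.map_subtype_le _) hzD l (by rwa [hsub])
      (fun f hf hi => hDfix D' f (Subgroup.map_subtype_le _) hlt hTD hf hi hzD)
  intro P f hf hzP
  obtain ⟨g, hg⟩ := exists_elt_of_isMap hreal hf
  have h1 := hg ⟨z, hzT⟩ hzP ⟨f z, hf.mem_S hzP⟩ rfl
  have h2 := hall g
  rw [hye] at h2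
  rw [h2] at h1
  exact congrArg Subtype.val (hreal.1 h1)

theorem control_main_on [Fact p.Prime]
    (hW2 : ∀ (Q R : Type u) [Group Q] [Group R] [Finite Q], IsPGroup p Q →
      ∀ φ : Q ≃* R, (W Q).map φ.toMonoidHom = W R)
    (hWZ : ∀ (Q : Type u) [Group Q] [Finite Q], IsPGroup p Q → Subgroup.center Q ≤ W Q)
    (hloc : LocalControlOn p W e Good) (n : ℕ) : ∀ {Ω : Type u} [Group Ω] (S : Subgroup Ω) [Finite S],
      Nat.card S = n → IsPGroup p S → ∀ y ∈ S, (∀ s ∈ S, s * y = y * s) →
      ∀ (m : ℕ) (F : FusionSystem S), mapCount F = m → F.IsSaturated p → ModelsGood F p Good →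
        (∀ f, IsMap F (fnImage W S) f → img (fnImage W S) f = fnImage W S →
          f (y ^ e) = y ^ e) →
        ∀ (P : Subgroup Ω) (f : Ω → Ω), IsMap F P f → FixesElt F (y ^ e) P f := by
  induction n using Nat.strong_induction_on with
  | _ n ihS =>
  intro Ω _ S _ hcard hS y hy hyc m
  induction m using Nat.strong_induction_on with
  | _ m ihF =>
  intro F hm hF hgood hN
  classical
  set z := y ^ e with hz
  have hzS : z ∈ S := S.pow_mem hy e
  have hzc : ∀ s ∈ S, s * z = z * s := fun s hs =>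
    ((Commute.pow_right (show Commute s y from hyc s hs) e)).eq
  have hclass := isMapClass_fixesElt (F := F) hzS hzc
  have hzW : z ∈ fnImage W S := mem_fnImage_of_center hWZ hS hzS hzc
  -- proper normalizer subsystems
  have h1 : ∀ (R : Subgroup Ω) (hR : R ≤ S) (hn : S ≤ Subgroup.normalizer (R : Set Ω)),
      ¬ F.IsNormal R → ∀ (P : Subgroup Ω) (f : Ω → Ω), IsMap (normalizerTop F hR hn) P f →
        z ∈ P → f z = z := by
    intro R hR hn hnn P f hf hzP
    set E := normalizerTop F hR hn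
    have hle : ∀ (P : Subgroup Ω) (f : Ω → Ω), IsMap E P f → IsMap F P f :=
      fun P f h => (isMap_normalizerTop.mp h).1
    obtain ⟨P₀, f₀, hf₀, hf₀'⟩ : ∃ (P : Subgroup Ω) (f : Ω → Ω), IsMap F P f ∧ ¬ IsMap E P f := by
      by_contra hne
      push Not at hne
      exact hnn (isNormal_of_extendsWith hR fun P f hf => (isMap_normalizerTop.mp (hne P f hf)).2)
    exact (ihF _ (hm ▸ mapCount_lt hle hf₀ hf₀') E rfl (saturated_normalizerTop hS hF hR hn)
      (fun T E' hT hs => hgood T E' hT fun P φ hφ => (hs P hφ).1)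
      (fun g hg hi => hN g (hle _ _ hg) hi) P f hf).apply hzP
  by_cases hex : ∃ V, F.IsNormal V ∧ z ∈ V
  · -- a normal subgroup contains `z`
    obtain ⟨V, ⟨hVn, hzV⟩, hVmax⟩ := Set.exists_max_image
      {V : Subgroup Ω | F.IsNormal V ∧ z ∈ V}
      (fun V => Nat.card V) (finite_subgroups_le.subset fun V hV => hV.1.1) hex
    haveI := finite_of_le hVn.1
    have hSV : S ≤ Subgroup.normalizer (V : Set Ω) := fun g hg => by
      have := normalizerIn_of_isNormal hVn ▸ hg
      exact this.2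
    have hnot : ∀ R : Subgroup Ω, R ≤ S → V < R → ¬ F.IsNormal R := fun R hR hlt hRn => by
      haveI := finite_of_le hR
      exact hlt.ne (Subgroup.eq_of_le_of_card_ge hlt.le (hVmax R ⟨hRn, hlt.le hzV⟩))
    suffices key : ∀ k, IsMap F V k → img V k = V → k z = z by
      intro P f hf
      obtain ⟨k, hk, hkf, hki⟩ := extend_of_isNormal hVn hf
      exact ⟨k, hk.mono (sup_le le_sup_left ((Subgroup.zpowers_le.mpr hzV).trans le_sup_right)),
        hkf, key k (hk.mono le_sup_right) hki⟩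
    intro k hk hki
    by_cases hcen : centralizerIn S V ≤ V
    · -- constrained
      have hVc : F.IsCentric V := centric_of_fullyCentralized hS hF
        (fullyNormalized_props hS hF (fullyNormalized_of_isNormal hVn)).1 hcen
      obtain ⟨L, _, ι, hmod, hnor, -⟩ := exists_isModel hS hF hVn hVc
      refine model_fix hW2 hWZ hloc hS hmod (hgood S F le_rfl (fun P => Set.Subset.rfl) L ι hmod) hy hyc hN ?_ V k hk hzV
      intro D f hDS hlt hnD hfD hi _
      have hVle : V ≤ ((pCore p L).comap ι).map S.subtype := fun x hx =>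
        ⟨⟨x, hVn.1 hx⟩, Cfsg.Lib.Components.le_pCore (p := p) (hn := hnor)
          ((hS.to_subgroup _).map _) ⟨_, hx, rfl⟩, rfl⟩
      refine h1 D hDS hnD (hnot D hDS (hVle.trans_lt hlt)) D f
        (isMap_normalizerTop.mpr ⟨hfD, f, (sup_idem D).symm ▸ hfD, fun _ _ => rfl, hi⟩) ?_
      exact (hVle.trans hlt.le) hzV
    · -- not constrained
      set R := V ⊔ centralizerIn S V
      have hRS : R ≤ S := sup_le hVn.1 inf_le_left
      haveI := finite_of_le hRS
      have hVR : V < R := lt_of_le_of_ne le_sup_left fun h =>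
        hcen ((le_sup_right : centralizerIn S V ≤ R).trans h.ge)
      obtain ⟨-, -, hVrec⟩ := fullyNormalized_props hS hF (fullyNormalized_of_isNormal hVn)
      obtain ⟨j, hj, hje⟩ := receptive_extend hVrec hk hki
      have hRext : R ≤ extSub S V k := sup_le (le_extSub hk) (centralizerIn_le_extSub V _)
      have hjR := hj.mono hRext
      have hjV : img V j = V := (img_congr hje).trans hki
      have hji : img R j = R := by
        refine Subgroup.eq_of_le_of_card_ge ?_ hjR.card_img.ge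
        rw [hjR.img_sup, hjV]
        refine sup_le le_sup_left (le_sup_of_le_right (IsMap.img_le_iff.mpr fun w hw => ?_))
        have h2 := hj.mem_centralizerIn (le_extSub hk) (centralizerIn_le_extSub V _ hw) hw
        rwa [hjV] at h2
      have hnR : S ≤ Subgroup.normalizer (R : Set Ω) := fun g hg => by
        refine mem_normalizer_of_maps_finite fun x hx => ?_
        have hm' := isMap_conj (F := F) hRS hg
        have hle : img R (fun x => g * x * g⁻¹) ≤ R := by
          rw [hm'.img_sup]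
          refine sup_le (le_sup_of_le_left (IsMap.img_le_iff.mpr fun w hw =>
            conj_mem_of_mem_normalizer (hSV hg) hw))
            (le_sup_of_le_right (IsMap.img_le_iff.mpr fun w hw => ?_))
          refine mem_centralizerIn.mpr ⟨S.mul_mem (S.mul_mem hg hw.1) (S.inv_mem hg), fun v hv => ?_⟩
          have hv' := conj_mem_of_mem_normalizer (inv_mem (hSV hg)) hv
          rw [inv_inv] at hv'
          have := (mem_centralizerIn.mp hw).2 _ hv'
          calc g * w * g⁻¹ * v * (g * w * g⁻¹)⁻¹ = g * (w * (g⁻¹ * v * g) * w⁻¹) * g⁻¹ := by group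
            _ = v := by rw [this]; group
        exact hle (IsMap.apply_mem_img hx)
      rw [← hje z hzV]
      exact h1 R hRS hnR (hnot R hRS hVR) R j
        (isMap_normalizerTop.mpr ⟨hjR, j, (sup_idem R).symm ▸ hjR, fun _ _ => rfl, hji⟩)
        (Subgroup.mem_sup_left hzV)
  -- no normal subgroup contains `z`
  push Not at hex
  have hH : ∀ (U : Subgroup Ω), U ≤ S → z ∈ U →
      (∀ (T : Subgroup Ω) (f : Ω → Ω), Nat.card (normalizerIn S U) ≤ Nat.card T → IsMap F T f →
        z ∈ T → f z = z) →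
      ∀ f, IsMap F U f → img U f = U → f z = z := by
    intro U
    induction hk : Nat.card S - Nat.card (normalizerIn S U) using Nat.strong_induction_on
      generalizing U with
    | _ k ihU =>
    intro hUS hzU hbig f hf hfi
    obtain ⟨U', hUU', hU'⟩ := exists_fullyNormalized (F := F) hUS
    obtain ⟨-, hU'fa, hU'rec⟩ := fullyNormalized_props hS hF hU'
    obtain ⟨c₀, hc₀, hc₀i⟩ := isConj_iff.mp hUU'
    obtain ⟨χ, -, c, hc, hci, -, hcN⟩ := exists_map_normalizer hS hU'fa hU'rec hc₀ hc₀i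
    have hzN : z ∈ normalizerIn S U := le_normalizerIn hUS hzU
    have hcz : c z = z := hbig _ c le_rfl hc hzN
    have hcU := hc.mono (le_normalizerIn hUS)
    have hzU' : z ∈ U' := by
      rw [← hci, ← hcz]
      exact IsMap.apply_mem_img hzU
    have hU'not : ¬ F.IsNormal U' := fun h => hex U' h hzU'
    obtain ⟨d, hd, -, hdl, -⟩ := hcU.exists_inv
    rw [hci] at hd
    have hdU : ∀ w ∈ U', d w ∈ U := fun w hw => by
      obtain ⟨x, hx, rfl⟩ := hcU.mem_img.mp (hci.symm ▸ hw)
      rwa [hdl x hx]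
    have hfU : ∀ w ∈ U', f (d w) ∈ U := fun w hw => IsMap.img_le_iff.mp hfi.le _ (hdU w hw)
    have hg : IsMap F U' (c ∘ (f ∘ d)) := (hd.comp hf hdU).comp hcU hfU
    have hgi : img U' (c ∘ (f ∘ d)) = U' := by
      haveI := finite_of_le hU'.1
      refine Subgroup.eq_of_le_of_card_ge (IsMap.img_le_iff.mpr fun w hw => ?_) hg.card_img.ge
      exact IsMap.img_le_iff.mp hci.le _ (hfU w hw)
    suffices hgz : (c ∘ (f ∘ d)) z = z by
      have e1 : c (f z) = c z := by
        rw [hcz]
        calc c (f z) = c (f (d (c z))) := by rw [hdl z hzU]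
          _ = z := by rw [hcz]; exact hgz
      exact hcU.injOn (IsMap.img_le_iff.mp hfi.le _ hzU) hzU e1
    haveI : Finite (normalizerIn S U') := finite_of_le inf_le_left
    have hTge : Nat.card (normalizerIn S U) ≤ Nat.card (normalizerIn S U') :=
      card_le_of_isMap hc le_rfl inf_le_left hcN
    rcases eq_or_ne (normalizerIn S U') S with hT | hT
    · have hn : S ≤ Subgroup.normalizer (U' : Set Ω) := fun g hg => (hT.ge hg).2
      exact h1 U' hU'.1 hn hU'not U' _
        (isMap_normalizerTop.mpr ⟨hg, _, (sup_idem U').symm ▸ hg, fun _ _ => rfl, hgi⟩) hzU'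
    · set T := normalizerIn S U'
      have hTS : T ≤ S := inf_le_left
      have hTp : IsPGroup p T := hS.of_injective _ (Subgroup.inclusion_injective hTS)
      have hTlt : T < S := lt_of_le_of_ne hTS hT
      have hcardlt : Nat.card T < n := by
        refine hcard ▸ lt_of_le_of_ne (Subgroup.card_le_of_le hTS) fun h => hT ?_
        exact Subgroup.eq_of_le_of_card_ge hTS h.ge
      have hyT : y ∈ T := ⟨hy, (Subgroup.centralizer_le_normalizer _)
        (Subgroup.mem_centralizer_iff.mpr fun w hw => hyc w (hU'.1 hw))⟩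
      have hzT : z ∈ T := T.pow_mem hyT e
      set W1 := fnImage W T
      have hW1S : W1 ≤ S := (fnImage_le T).trans hTS
      have hzW1 : z ∈ W1 := mem_fnImage_of_center hWZ hTp hzT fun t ht => hzc t (hTS ht)
      haveI : Finite (normalizerIn S T) := finite_of_le inf_le_left
      haveI : Finite (normalizerIn S W1) := finite_of_le inf_le_left
      have hlt : Nat.card T < Nat.card (normalizerIn S W1) := by
        have h2 : normalizerIn S T ≤ normalizerIn S W1 := fun g hg =>
          ⟨hg.1, fnImage_normalized hW2 hS hTS hg.1 hg.2⟩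
        have h3 := lt_normalizerIn hS hTlt
        refine lt_of_lt_of_le (lt_of_le_of_ne (Subgroup.card_le_of_le h3.le) fun h => h3.ne ?_)
          (Subgroup.card_le_of_le h2)
        exact Subgroup.eq_of_le_of_card_ge h3.le h.ge
      have hsys := isNormalizerSystem_normalizerSystem (F := F) hU'.1
      refine (ihS _ hcardlt T rfl hTp y hyT (fun t ht => hyc t (hTS ht)) _ _ rfl
        (saturated_normalizerSystem hS hF hU') (fun T' E' hT' hs => hgood T' E' (hT'.trans hTS)
          fun P φ hφ => (isSubsystemOf_of_isNormalizerSystem hsys) P (hs P hφ)) ?_ U' _ ?_).apply hzU'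
      · intro w hw hwi
        have hwF := ((isMap_of_isNormalizerSystem hsys).mp hw).2.2.1
        refine ihU _ ?_ W1 rfl hW1S hzW1 (fun R g hR hgm hzR => hbig R g ?_ hgm hzR) w hwF hwi
        · have h4 : Nat.card (normalizerIn S W1) ≤ Nat.card S := Subgroup.card_le_of_le inf_le_left
          omega
        · omega
      · refine (isMap_of_isNormalizerSystem hsys).mpr ⟨le_normalizerIn hU'.1,
          fun w hw => le_normalizerIn hU'.1 (IsMap.img_le_iff.mp hgi.le w hw), hg,
          _, (sup_idem U').symm ▸ hg, fun _ _ => rfl, hgi⟩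
  intro P f hf
  refine alperin_induction hS hF hclass ?_ ?_ hf
  · intro g hg
    refine ⟨g, hg.mono (sup_le le_rfl (Subgroup.zpowers_le.mpr hzS)), fun _ _ => rfl, ?_⟩
    have hi : img S g = S := Subgroup.eq_of_le_of_card_ge hg.img_le hg.card_img.ge
    exact hN g (hg.mono (fnImage_le S)) (fnImage_img hW2 hS hg hi)
  intro Q hQS hQn hQc hIH α hα
  have hzQ : z ∈ Q := hQc.2 Q (isConj_refl hQn.1)
    (mem_centralizerIn.mpr ⟨hzS, fun q hq => by
      rw [← hzc q (hQn.1 hq), mul_inv_cancel_right]⟩)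
  have hαm := (isMap_autFun hQn.1).mpr hα
  refine ⟨autFun α, hαm.mono (sup_le le_rfl (Subgroup.zpowers_le.mpr hzQ)), fun _ _ => rfl, ?_⟩
  obtain ⟨L, _, ι, hmod, hnor, -⟩ := exists_normalizer_model hS hF hQc hQn
  let T := normalizerIn S Q
  have hTS : T ≤ S := inf_le_left
  haveI : Finite T := finite_of_le hTS
  have hTp : IsPGroup p T := hS.of_injective _ (Subgroup.inclusion_injective hTS)
  have hyT : y ∈ T := ⟨hy, (Subgroup.centralizer_le_normalizer _)
    (Subgroup.mem_centralizer_iff.mpr fun q hq => hyc q (hQn.1 hq))⟩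
  have hzT : z ∈ T := T.pow_mem hyT e
  have hsys := isNormalizerSystem_normalizerSystem (F := F) hQc.1
  have hQT : Q < T := lt_normalizerIn hS hQS
  have hQTc : Nat.card Q < Nat.card T := lt_of_le_of_ne (Subgroup.card_le_of_le hQT.le) fun h =>
    hQT.ne (Subgroup.eq_of_le_of_card_ge hQT.le h.ge)
  refine model_fix hW2 hWZ hloc hTp hmod
    (hgood T _ hTS (isSubsystemOf_of_isNormalizerSystem hsys) L ι hmod) hyT (fun t ht => hyc t (hTS ht)) ?_ ?_ Q (autFun α) ?_ hzQ
  · intro w hw hwi
    have hzW1 : z ∈ fnImage W T := mem_fnImage_of_center hWZ hTp hzT fun t ht => hzc t (hTS ht)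
    refine hH _ ((fnImage_le T).trans hTS) hzW1 (fun R g hR hgm hzR => ?_) w
      ((isMap_of_isNormalizerSystem hsys).mp hw).2.2.1 hwi
    refine (hIH R g (hQTc.trans_le (le_trans ?_ hR)) hgm).apply hzR
    haveI : Finite (normalizerIn S (fnImage W T)) := finite_of_le inf_le_left
    exact Subgroup.card_le_of_le fun g hg =>
      ⟨hg.1, fnImage_normalized hW2 hS hTS (hTS hg) (Subgroup.le_normalizer hg)⟩
  · intro D g hDT hlt _ hgm _ hzD
    haveI := finite_of_le hDT
    have hQle : Q ≤ ((pCore p L).comap ι).map T.subtype := fun x hx =>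
      ⟨⟨x, le_normalizerIn hQn.1 hx⟩, Cfsg.Lib.Components.le_pCore (p := p) (hn := hnor)
        ((hTp.to_subgroup _).map _) ⟨⟨x, le_normalizerIn hQn.1 hx⟩, hx, rfl⟩, rfl⟩
    have hQD := hQle.trans_lt hlt
    refine (hIH D g (lt_of_le_of_ne (Subgroup.card_le_of_le hQD.le) fun h =>
      hQD.ne (Subgroup.eq_of_le_of_card_ge hQD.le h.ge))
      ((isMap_of_isNormalizerSystem hsys).mp hgm).2.2.1).apply hzD
  · exact (isMap_of_isNormalizerSystem hsys).mpr ⟨le_normalizerIn hQn.1,
      fun x hx => le_normalizerIn hQn.1 (autFun_mem α hx), hαm,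
      autFun α, (sup_idem Q).symm ▸ hαm, fun _ _ => rfl, img_autFun α⟩

theorem control_main [Fact p.Prime]
    (hW2 : ∀ (Q R : Type u) [Group Q] [Group R] [Finite Q], IsPGroup p Q →
      ∀ φ : Q ≃* R, (W Q).map φ.toMonoidHom = W R)
    (hWZ : ∀ (Q : Type u) [Group Q] [Finite Q], IsPGroup p Q → Subgroup.center Q ≤ W Q)
    (hloc : LocalControl p W e) (n : ℕ) {Ω : Type u} [Group Ω] (S : Subgroup Ω) [Finite S]
    (hn : Nat.card S = n) (hS : IsPGroup p S) (y : Ω) (hy : y ∈ S) (hyc : ∀ s ∈ S, s * y = y * s)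
    (m : ℕ) (F : FusionSystem S) (hm : mapCount F = m) (hF : F.IsSaturated p)
    (hN : ∀ f, IsMap F (fnImage W S) f → img (fnImage W S) f = fnImage W S → f (y ^ e) = y ^ e) :
    ∀ (P : Subgroup Ω) (f : Ω → Ω), IsMap F P f → FixesElt F (y ^ e) P f :=
  control_main_on (Good := fun _ _ => True) hW2 hWZ (fun L _ _ _ => hloc L) n S hn hS y hy hyc m F hm hF
    (fun _ _ _ _ _ _ _ _ => trivial) hN

end Cfsg.Lib.Fusion
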