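import Cfsg.Agent.Fusion.Essential

/-!
An essential subgroup has an automizer with several Sylow `p`-subgroups.
-/

set_option autoImplicit false

namespace Cfsg.Lib.Fusion

open Cfsg Cfsg.FusionSystem

variable {Ω : Type*} [Group Ω] {S : Subgroup Ω} {F : FusionSystem S} {p : ℕ}

theorem exists_two_sylow_of_essential [Finite S] [Fact p.Prime] (hS : IsPGroup p S)
    {Q : Subgroup Ω} (hQ : F.IsEssential p Q) :
    ∃ R₁ R₂ : Sylow p (F.autGroup Q), R₁ ≠ R₂ := by
  have hrad := radical_of_stronglyEmbedded hS hQ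
  obtain ⟨hQc, -, hn, E, hdvd, -⟩ := hQ
  have := finite_of_le hQc.1
  by_contra hall
  push Not at hall
  haveI : Subsingleton (Sylow p (F.autGroup Q)) := ⟨hall⟩
  obtain ⟨R⟩ : Nonempty (Sylow p (F.autGroup Q)) := inferInstance
  haveI : (R : Subgroup (F.autGroup Q)).Normal := R.normal_of_subsingleton
  have hle : (R : Subgroup (F.autGroup Q)) ≤ pCore p (F.autGroup Q) :=
    le_sSup ⟨inferInstance, R.2⟩
  have hle' : (R : Subgroup (F.autGroup Q)) ≤ (Inn Q).subgroupOf (F.autGroup Q) := fun β hβ => by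
    rw [Subgroup.mem_subgroupOf, ← hrad.2]
    exact Subgroup.mem_map_of_mem _ (hle hβ)
  refine R.not_dvd_index (hdvd.trans ?_)
  rw [← Subgroup.index_eq_card]
  exact Subgroup.index_dvd_of_le hle'

/-- In a group with a unique Sylow subgroup's worth of room there are no essential subgroups: a
nontrivial Sylow subgroup of the automizer is distinguished. -/
theorem sylow_ne_bot_of_ne {G : Type*} [Group G] [Finite G] [Fact p.Prime] {R₁ R₂ : Sylow p G}
    (h : R₁ ≠ R₂) : (R₁ : Subgroup G) ≠ ⊥ := by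
  intro e
  refine h (Sylow.ext ?_)
  obtain ⟨g, rfl⟩ := MulAction.exists_smul_eq G R₁ R₂
  rw [Sylow.coe_subgroup_smul, e, Subgroup.smul_bot]

end Cfsg.Lib.Fusion
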