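import Cfsg.Agent.Fusion.EssentialGen
import Cfsg.Agent.Fusion.EssentialSylow
import Cfsg.Agent.Fusion.RankTwo.Chain
import Cfsg.Agent.Fusion.RankTwo.Diag
import Cfsg.Agent.Fusion.AbelianIndexP

/-!
Essential subgroups with transvections onto a central subgroup of order `p`.
-/

set_option autoImplicit false
set_option linter.style.haveILetI false
set_option linter.unusedSectionVars false

namespace Cfsg.Lib.Fusion.ExtraspecialIndex

open Cfsg Cfsg.FusionSystem Cfsg.Lib.Fusion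

universe u

variable {Ω : Type u} [Group Ω] {S : Subgroup Ω} {F : FusionSystem S} {p : ℕ}

theorem false_of_invariant [Finite S] [hp : Fact p.Prime] (hS : IsPGroup p S) {E Z : Subgroup Ω}
    (hE : F.IsEssential p E) (hZE : Z ≤ E) (hexp : ∀ z ∈ Z, z ^ p = 1)
    (hinv : ∀ β ∈ F.autGroup E, ∀ z : E, (z : Ω) ∈ Z → ((β z : E) : Ω) ∈ Z)
    {g : Ω} (hg : g ∈ S) (hgE : g ∉ E) (hgN : g ∈ Subgroup.normalizer (E : Set Ω))
    (hdisp : ∀ e ∈ E, g * e * g⁻¹ * e⁻¹ ∈ Z) (hfix : ∀ z ∈ Z, g * z = z * g) : False := by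
  have hES := hE.1.1
  haveI := finite_of_le hES
  haveI : Finite (MulAut E) :=
    Finite.of_injective (fun f : MulAut E => (f : E → E)) DFunLike.coe_injective
  set A := F.autGroup E
  let K : Subgroup A :=
    { carrier := {α | (∀ e : E, (((α : MulAut E) e * e⁻¹ : E) : Ω) ∈ Z) ∧
          ∀ z : E, (z : Ω) ∈ Z → (α : MulAut E) z = z}
      one_mem' := ⟨fun e => by simp [Z.one_mem], fun _ _ => rfl⟩
      mul_mem' := by
        rintro a b ⟨a1, a2⟩ ⟨b1, b2⟩
        refine ⟨fun e => ?_, fun z hz => ?_⟩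
        · have hb : (a : MulAut E) ((b : MulAut E) e * e⁻¹) = (b : MulAut E) e * e⁻¹ := a2 _ (b1 e)
          rw [map_mul, map_inv, mul_inv_eq_iff_eq_mul] at hb
          show (((a : MulAut E) ((b : MulAut E) e) * e⁻¹ : E) : Ω) ∈ Z
          rw [hb, mul_assoc, Subgroup.coe_mul]
          exact Z.mul_mem (b1 e) (a1 e)
        · rw [Subgroup.coe_mul, MulAut.mul_apply, b2 z hz, a2 z hz]
      inv_mem' := by
        rintro a ⟨a1, a2⟩
        refine ⟨fun e => ?_, fun z hz => ?_⟩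
        · have h := Z.inv_mem (a1 ((a : MulAut E)⁻¹ e))
          rw [MulAut.apply_inv_self] at h
          simpa using h
        · conv_lhs => rw [← a2 z hz]
          rw [Subgroup.coe_inv, MulAut.inv_apply_self] }
  haveI hKn : K.Normal := ⟨fun a ha b => by
    obtain ⟨a1, a2⟩ := ha
    have hb' : ∀ z : E, (z : Ω) ∈ Z → (((b : MulAut E)⁻¹ z : E) : Ω) ∈ Z := fun z hz =>
      hinv _ (A.inv_mem b.2) z hz
    refine ⟨fun e => ?_, fun z hz => ?_⟩
    · have h := hinv _ b.2 _ (a1 ((b : MulAut E)⁻¹ e))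
      rw [map_mul, map_inv, MulAut.apply_inv_self] at h
      exact h
    · rw [Subgroup.coe_mul, Subgroup.coe_mul, MulAut.mul_apply, MulAut.mul_apply, Subgroup.coe_inv,
        a2 _ (hb' z hz), MulAut.apply_inv_self]⟩
  have hKp : IsPGroup p K := by
    rintro ⟨a, a1, a2⟩
    refine ⟨1, Subtype.ext (Subtype.ext ?_)⟩
    rw [pow_one]
    show (a : MulAut E) ^ p = 1
    refine MulEquiv.ext fun e => ?_
    exact RankTwo.pow_fix_step (M := (⊤ : Subgroup E)) (N := Z.subgroupOf E)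
      (fun x hx => Subtype.ext (by rw [Subgroup.coe_pow]; exact hexp _ hx)) a2 (fun x _ => a1 x) e
      (Subgroup.mem_top e)
  have hle : K ≤ pCore p A := le_sSup ⟨hKn, hKp⟩
  have hrad := radical_of_stronglyEmbedded hS hE
  have hα : conjAut E g hgN ∈ A := autInducedBy_le hES (conjAut_mem_autInducedBy hgN hg)
  have hmem : (⟨_, hα⟩ : A) ∈ K := by
    refine ⟨fun e => ?_, fun z hz => Subtype.ext ?_⟩
    · rw [Subgroup.coe_mul, conjAut_apply, Subgroup.coe_inv]
      exact hdisp e e.2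
    · show ((conjAut E g hgN z : E) : Ω) = z
      rw [conjAut_apply, hfix _ hz, mul_inv_cancel_right]
  have hI : conjAut E g hgN ∈ Inn E := hrad.2 ▸ ⟨_, hle hmem, rfl⟩
  exact hgE (mem_of_inn (hE.1.2 E (isConj_refl hES)) hg hgN hI hES)

/-- The consequences of strong embedding at an abelian essential subgroup. -/
theorem exists_embedded [Finite S] [hp : Fact p.Prime] (hS : IsPGroup p S) (hF : F.IsSaturated p)
    {E : Subgroup Ω} (hE : F.IsEssential p E) (hab : ∀ a ∈ E, ∀ b ∈ E, a * b = b * a) :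
    ∃ Y : Subgroup (F.autGroup E), Y ≠ ⊤ ∧ (autInducedBy S E).subgroupOf (F.autGroup E) ≤ Y ∧
      ∀ g a : F.autGroup E, a ∈ Y → a ≠ 1 → (∃ k : ℕ, a ^ p ^ k = 1) → g * a * g⁻¹ ∈ Y → g ∈ Y := by
  obtain ⟨hQc, hQn, hn, E', hE'⟩ := hE
  haveI := hn
  have := finite_of_le hQn.1
  obtain ⟨-, hfa, -⟩ := fullyNormalized_props hS hF hQn
  set X := F.autGroup E
  obtain ⟨R, hR⟩ : ∃ R : Sylow p X, (R : Subgroup X) = (autInducedBy S E).subgroupOf X := hfa.2
  have hInn : (Inn E).subgroupOf X = ⊥ := by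
    rw [eq_bot_iff]
    rintro a ⟨q, hq⟩
    refine Subgroup.mem_bot.2 (Subtype.ext ?_)
    show (a : MulAut E) = 1
    rw [show (a : MulAut E) = MulAut.conj q from hq.symm]
    refine MulEquiv.ext fun x => Subtype.ext ?_
    show (q : Ω) * x * (q : Ω)⁻¹ = x
    rw [hab q q.2 x x.2, mul_inv_cancel_right]
  set π := QuotientGroup.mk' ((Inn E).subgroupOf X) with hπ
  have hπs : Function.Surjective π := QuotientGroup.mk'_surjective _
  have hπi : Function.Injective π := by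
    rw [← MonoidHom.ker_eq_bot_iff, QuotientGroup.ker_mk', hInn]
  set R' : Sylow p (X ⧸ (Inn E).subgroupOf X) := R.mapSurjective hπs
  obtain ⟨hEtop, hpE, -⟩ := Cfsg.Lib.Embedded.sPE_iff_norm.mp hE'
  obtain ⟨c, hc⟩ := (Cfsg.Lib.Embedded.core_conj_iff R' E' hEtop hpE).mp hE'
  set W := E'.map (MulAut.conj c⁻¹).toMonoidHom
  have hW : W ≠ ⊤ := by
    intro h
    refine hEtop (top_unique fun x _ => ?_)
    obtain ⟨y, hy, hye⟩ := h.ge (Subgroup.mem_top (c⁻¹ * x * c⁻¹⁻¹))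
    exact (MulAut.conj c⁻¹).injective hye ▸ hy
  have hcore : Cfsg.kGeneratedCore p 1 (R' : Subgroup (X ⧸ (Inn E).subgroupOf X)) ≤ W := fun x hx =>
    ⟨c * x * c⁻¹, hc ⟨x, hx, rfl⟩, by simp [mul_assoc]⟩
  obtain ⟨hRW, hnorm⟩ := Cfsg.Lib.Embedded.normCond_of_core R' hE'.1 hcore
  have hconj := Cfsg.Lib.Embedded.conj_of_norm hnorm
  refine ⟨W.comap π, fun h => hW ?_, fun a ha => hRW ?_, fun g a haY ha1 hap hga => ?_⟩
  · rw [← Subgroup.map_comap_eq_self_of_surjective hπs W, h, Subgroup.map_top_of_surjective _ hπs]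
  · rw [Sylow.coe_mapSurjective]
    exact ⟨a, by rw [hR]; exact ha, rfl⟩
  · by_contra hgY
    refine hconj (π g) hgY ?_
    have hu : π g * π a * (π g)⁻¹ ∈ W ⊓ W.map (MulAut.conj (π g)).toMonoidHom :=
      ⟨by rw [← map_inv, ← map_mul, ← map_mul]; exact hga, π a, haY, rfl⟩
    obtain ⟨k, hk⟩ := hap
    have hu1 : π g * π a * (π g)⁻¹ ≠ 1 := fun h => ha1 (hπi (by
      rw [mul_inv_eq_one] at h
      exact (mul_eq_left.mp h).trans (map_one π).symm))
    have hd : orderOf (π g * π a * (π g)⁻¹) ∣ p ^ k := orderOf_dvd_of_pow_eq_one (by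
      rw [conj_pow, ← map_pow, hk, map_one, mul_one, mul_inv_cancel])
    obtain ⟨j, -, hj⟩ := (Nat.dvd_prime_pow hp.out).mp hd
    have hj0 : j ≠ 0 := fun h => hu1 (orderOf_eq_one_iff.mp (by rw [hj, h, pow_zero]))
    refine (dvd_pow_self p hj0).trans ?_
    rw [← hj, ← Subgroup.orderOf_mk _ hu]
    exact orderOf_dvd_natCard _

theorem aut_pow (hS : IsPGroup p S) {E : Subgroup Ω} {g : Ω} (hgN : g ∈ Subgroup.normalizer (E : Set Ω))
    (hg : g ∈ S) (hα : conjAut E g hgN ∈ F.autGroup E) :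
    ∃ k : ℕ, (⟨_, hα⟩ : F.autGroup E) ^ p ^ k = 1 := by
  obtain ⟨k, hk⟩ := isPGroup_autInducedBy hS E ⟨_, conjAut_mem_autInducedBy hgN hg⟩
  exact ⟨k, Subtype.ext (by simpa using congrArg Subtype.val hk)⟩

/-- Transvections in two directions make the direction invariant. -/
theorem invariant_of_pick [Finite S] [hp : Fact p.Prime] (hS : IsPGroup p S) (hF : F.IsSaturated p)
    {E Z : Subgroup Ω} (hE : F.IsEssential p E) (hab : ∀ a ∈ E, ∀ b ∈ E, a * b = b * a) (hZE : Z ≤ E)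
    (hZc : Nat.card Z = p)
    (hpick : ∀ e ∈ E, ∃ g ∈ S, g ∉ E ∧ g ∈ Subgroup.normalizer (E : Set Ω) ∧
      (∀ x ∈ E, g * x * g⁻¹ * x⁻¹ ∈ Z) ∧ g * e = e * g) :
    ∀ β ∈ F.autGroup E, ∀ z : E, (z : Ω) ∈ Z → ((β z : E) : Ω) ∈ Z := by
  classical
  have hES := hE.1.1
  haveI := finite_of_le hES
  let A := F.autGroup E
  obtain ⟨Y, hYtop, hTY, hY⟩ : ∃ Y : Subgroup A, Y ≠ ⊤ ∧ (autInducedBy S E).subgroupOf A ≤ Y ∧
      ∀ g a : A, a ∈ Y → a ≠ 1 → (∃ k : ℕ, a ^ p ^ k = 1) → g * a * g⁻¹ ∈ Y → g ∈ Y :=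
    exists_embedded hS hF hE hab
  obtain ⟨z, hzZ, hz1⟩ := Z.bot_or_exists_ne_one.resolve_left fun h => by
    rw [h, Subgroup.card_bot] at hZc; exact hp.out.ne_one hZc.symm
  have hZgen : ∀ x ∈ Z, ∃ i : ℤ, z ^ i = x := fun x hx => by
    haveI := finite_of_le hZE
    have : Subgroup.zpowers z = Z := Subgroup.eq_of_le_of_card_ge (Subgroup.zpowers_le.2 hzZ) (by
      rw [hZc, Nat.card_zpowers]
      refine le_of_eq (orderOf_eq_prime ?_ hz1).symm
      have := pow_card_eq_one' (G := Z) (x := ⟨z, hzZ⟩)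
      rw [hZc] at this
      exact congrArg Subtype.val this)
    exact this.ge hx
  let z₀ : E := ⟨z, hZE hzZ⟩
  -- a mover lies in `Y`
  have hmover : ∀ β : A, (((β : MulAut E) z₀ : E) : Ω) ∉ Z → β ∈ Y := by
    intro β hβ
    set w := (β : MulAut E) z₀
    obtain ⟨g, hg, hgE, hgN, hgd, hgw⟩ := hpick w w.2
    obtain ⟨h, hh, hhE, hhN, hhd, hhw⟩ := hpick _ ((β : MulAut E)⁻¹ z₀).2
    have hαg := autInducedBy_le (F := F) hES (conjAut_mem_autInducedBy hgN hg)
    have hαh := autInducedBy_le (F := F) hES (conjAut_mem_autInducedBy hhN hh)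
    set t : A := ⟨_, hαg⟩
    set s : A := ⟨_, hαh⟩
    have hne : ∀ {k : Ω} (hk : k ∈ S) (hkN : k ∈ Subgroup.normalizer (E : Set Ω))
        (hm : conjAut E k hkN ∈ A), k ∉ E → (⟨_, hm⟩ : A) ≠ 1 := fun hk hkN hm hkE e => by
      refine hkE (mem_of_inn (hE.1.2 E (isConj_refl hES)) hk hkN ?_ hES)
      rw [show conjAut E _ hkN = 1 from congrArg Subtype.val e]
      exact Subgroup.one_mem _
    have hcomm : β * s * β⁻¹ * t = t * (β * s * β⁻¹) := by
      refine Subtype.ext (MulEquiv.ext fun e => ?_)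
      simp only [Subgroup.coe_mul, Subgroup.coe_inv, MulAut.mul_apply]
      obtain ⟨i, hi⟩ := hZgen _ (hgd e e.2)
      have he : (t : MulAut E) e = z₀ ^ i * e := Subtype.ext (by
        rw [Subgroup.coe_mul, Subgroup.coe_zpow, hi, inv_mul_cancel_right]
        exact conjAut_apply hgN e)
      obtain ⟨j, hj⟩ := hZgen _ (hhd _ ((β : MulAut E)⁻¹ e).2)
      have hs : (s : MulAut E) ((β : MulAut E)⁻¹ e) = z₀ ^ j * (β : MulAut E)⁻¹ e := Subtype.ext (by
        rw [Subgroup.coe_mul, Subgroup.coe_zpow, hj, inv_mul_cancel_right]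
        exact conjAut_apply hhN _)
      have hsz : (s : MulAut E) ((β : MulAut E)⁻¹ z₀) = (β : MulAut E)⁻¹ z₀ := Subtype.ext (by
        show ((conjAut E h hhN _ : E) : Ω) = _
        rw [conjAut_apply, hhw, mul_inv_cancel_right])
      have htw : (t : MulAut E) w = w := Subtype.ext (by
        show ((conjAut E g hgN _ : E) : Ω) = _
        rw [conjAut_apply, hgw, mul_inv_cancel_right])
      rw [he, hs, map_mul, map_mul, map_mul, map_mul, map_zpow, map_zpow, map_zpow, map_zpow, hsz,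
        MulAut.apply_inv_self, hs, map_mul, map_zpow, MulAut.apply_inv_self, map_mul, map_zpow, htw, he]
      refine Subtype.ext ?_
      simp only [Subgroup.coe_mul, Subgroup.coe_zpow]
      rw [← mul_assoc, ← mul_assoc, hab _ (E.zpow_mem (z₀ : E).2 i) _ (E.zpow_mem w.2 j)]
    have htY : t ∈ Y := hTY (conjAut_mem_autInducedBy hgN hg)
    have hsY : s ∈ Y := hTY (conjAut_mem_autInducedBy hhN hh)
    have h1 : β * s * β⁻¹ ∈ Y := hY _ t htY (hne hg hgN hαg hgE) (aut_pow hS hgN hg hαg) (by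
      rw [hcomm, mul_inv_cancel_right]; exact htY)
    exact hY β s hsY (hne hh hhN hαh hhE) (aut_pow hS hhN hh hαh) h1
  intro β hβ x hx
  by_contra hbad
  have hbad' : (((⟨β, hβ⟩ : A) : MulAut E) z₀ : Ω) ∉ Z := fun h => hbad (by
    obtain ⟨i, hi⟩ := hZgen _ hx
    rw [show x = z₀ ^ i from Subtype.ext (by rw [Subgroup.coe_zpow]; exact hi.symm), map_zpow,
      Subgroup.coe_zpow]
    exact Z.zpow_mem h i)
  refine hYtop (eq_top_iff.2 fun γ _ => ?_)
  by_cases hγ : (((γ : MulAut E) z₀ : E) : Ω) ∈ Z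
  · have h1 : ((((⟨β, hβ⟩ : A) * γ : A) : MulAut E) z₀ : Ω) ∉ Z := by
      intro h
      rw [Subgroup.coe_mul, MulAut.mul_apply] at h
      obtain ⟨i, hi⟩ := hZgen _ hγ
      have hγz : (γ : MulAut E) z₀ = z₀ ^ i := Subtype.ext (by rw [Subgroup.coe_zpow]; exact hi.symm)
      rw [hγz, map_zpow, Subgroup.coe_zpow] at h
      by_cases hd : (p : ℤ) ∣ i
      · obtain ⟨m, rfl⟩ := hd
        have hz : z₀ ^ p = 1 := Subtype.ext (by
          haveI := finite_of_le hZE
          have := pow_card_eq_one' (G := Z) (x := ⟨z, hzZ⟩)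
          rw [hZc] at this
          simpa using congrArg Subtype.val this)
        rw [zpow_mul, zpow_natCast, hz, one_zpow] at hγz
        exact hz1 (congrArg Subtype.val ((map_eq_one_iff _ (γ : MulAut E).injective).1 hγz))
      · obtain ⟨a, b, hab'⟩ := ((Nat.prime_iff_prime_int.mp hp.out).coprime_iff_not_dvd.mpr hd)
        refine hbad' ?_
        have hzp : (((β : MulAut E) z₀ : E) : Ω) ^ p = 1 := by
          rw [← Subgroup.coe_pow, ← map_pow, show z₀ ^ p = 1 from Subtype.ext (by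
            haveI := finite_of_le hZE
            have := pow_card_eq_one' (G := Z) (x := ⟨z, hzZ⟩)
            rw [hZc] at this
            simpa using congrArg Subtype.val this), map_one, Subgroup.coe_one]
        rw [← zpow_one (((β : MulAut E) z₀ : E) : Ω), ← hab', zpow_add, mul_comm a, zpow_mul,
          zpow_natCast, hzp, one_zpow, one_mul, mul_comm b, zpow_mul]
        exact Z.zpow_mem h b
    have h2 := Y.mul_mem (Y.inv_mem (hmover _ hbad')) (hmover _ h1)
    rwa [inv_mul_cancel_left] at h2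
  · exact hmover γ hγ

/-- Two transvections, the axis of one containing the centres of both, generate a `p`-group. -/
theorem chain_pow {G : Type*} [Group G] [Finite G] [hp : Fact p.Prime] {α : MulAut G} {M N : Subgroup G}
    (hN : ∀ x ∈ N, x ^ p = 1) (hM : ∀ x ∈ M, x ^ p = 1) (hfix : ∀ x ∈ N, α x = x)
    (h2 : ∀ x ∈ M, α x * x⁻¹ ∈ N) (h1 : ∀ x : G, α x * x⁻¹ ∈ M) : α ^ (p * p) = 1 := by
  have e1 := RankTwo.pow_fix_step hN hfix h2
  rw [pow_mul]
  refine MulEquiv.ext fun x => RankTwo.pow_fix_step (M := (⊤ : Subgroup G)) hM e1 (fun y _ => ?_) x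
    (Subgroup.mem_top x)
  have key : ∀ i : ℕ, (α ^ i) y * y⁻¹ ∈ M := by
    intro i
    induction i with
    | zero => simp
    | succ i ih =>
      have h := M.mul_mem (h1 ((α ^ i) y)) ih
      rw [pow_succ', MulAut.mul_apply]
      simpa [mul_assoc] using h
  exact key p

end Cfsg.Lib.Fusion.ExtraspecialIndex
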