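import Cfsg.Agent.Fusion.TransvectionThree
import Cfsg.Agent.Fusion.ExtraspecialIndex

/-!
An elementary abelian essential subgroup of order `p ^ 3` with an element of the normalizer that fixes a
subgroup of index `p`: the normalizer has order `p ^ 4` and the automizer has a diagonal element.
-/

set_option autoImplicit false
set_option linter.unusedSectionVars false
set_option linter.style.haveILetI false

namespace Cfsg.Lib.Fusion.EssentialTransvection

open Subgroup Cfsg Cfsg.FusionSystem Cfsg.Lib.Fusion

universe u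

variable {Ω : Type u} [Group Ω] {S : Subgroup Ω} {F : FusionSystem S} {p : ℕ}

theorem card_normalizer_and_torus [Finite S] [hp : Fact p.Prime] (hS : IsPGroup p S) (hF : F.IsSaturated p)
    {E : Subgroup Ω} (hE : F.IsEssential p E) (hab : ∀ a ∈ E, ∀ b ∈ E, a * b = b * a)
    (hexp : ∀ a ∈ E, a ^ p = 1) (hcard : Nat.card E = p ^ 3) {A : Subgroup Ω} (hA : A ≤ E)
    (hAc : Nat.card A = p ^ 2) {y : Ω} (hyS : y ∈ S) (hyN : y ∈ Subgroup.normalizer (E : Set Ω))
    (hyE : y ∉ E) (hyA : ∀ a ∈ A, y * a = a * y) :
    Nat.card (normalizerIn S E) = p ^ 4 ∧ (∀ x ∈ E, y * x = x * y → x ∈ A) ∧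
      ∀ μ : ZMod p, μ ≠ 0 → ∃ h ∈ F.autGroup E, ∃ c l : Ω, c ∈ A ∧ c ≠ 1 ∧ l ∈ A ∧ l ∉ zpowers c ∧
        (∀ x ∈ E, y * x * y⁻¹ * x⁻¹ ∈ zpowers c) ∧ autFun h c = c ^ μ.val ∧ autFun h l = l ∧
        ∀ x ∈ E, autFun h (y * x * y⁻¹) = y ^ (μ ^ 2).val * autFun h x * (y ^ (μ ^ 2).val)⁻¹ := by
  classical
  have hES := hE.1.1
  haveI := finite_of_le hES
  have hCE : centralizerIn S E ≤ E := hE.1.2 E (isConj_refl hES)
  -- the fixed points
  have hfix : ∀ x ∈ E, y * x = x * y → x ∈ A := by
    intro x hx hyx
    by_contra hxA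
    refine hyE (hCE ⟨hyS, ?_⟩)
    have hsup : A ⊔ zpowers x = E := by
      have hle : A ⊔ zpowers x ≤ E := sup_le hA (zpowers_le.2 hx)
      haveI := finite_of_le (hle.trans hES)
      refine eq_of_le_of_card_ge hle ?_
      obtain ⟨j, -, hjc⟩ := (Nat.dvd_prime_pow hp.out).1
        (show Nat.card ↥(A ⊔ zpowers x) ∣ p ^ 3 from hcard ▸ card_dvd_of_le hle)
      have hlt : Nat.card A < Nat.card ↥(A ⊔ zpowers x) := lt_of_le_of_ne (card_le_of_le le_sup_left)
        fun e => hxA ((eq_of_le_of_card_ge le_sup_left e.ge).ge (mem_sup_right (mem_zpowers x)))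
      rw [hAc, hjc] at hlt
      rw [hjc, hcard]
      exact Nat.pow_le_pow_right hp.out.pos ((Nat.pow_lt_pow_iff_right hp.out.one_lt).1 hlt)
    have hle : E ≤ centralizer ({y} : Set Ω) := hsup ▸ sup_le
      (fun a ha => mem_centralizer_singleton_iff.2 (hyA a ha).symm)
      (zpowers_le.2 (mem_centralizer_singleton_iff.2 hyx.symm))
    exact mem_centralizer_iff.2 fun z hz => mem_centralizer_singleton_iff.1 (hle hz)
  -- the representation
  letI : CommGroup E :=
    { (inferInstance : Group E) with mul_comm := fun a b => Subtype.ext (hab a a.2 b b.2) }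
  have hexp' : ∀ z : E, z ^ p = 1 := fun z => Subtype.ext (by rw [coe_pow]; exact hexp _ z.2)
  letI : Module (ZMod p) (Additive E) :=
    AddCommGroup.zmodModule (n := p) fun x => congrArg Additive.ofMul (hexp' (Additive.toMul x))
  let act : MulAut E → Module.End (ZMod p) (Additive E) := fun α =>
    { toFun := fun v => Additive.ofMul (α (Additive.toMul v))
      map_add' := fun v w => congrArg Additive.ofMul (map_mul α (Additive.toMul v) (Additive.toMul w))
      map_smul' := fun c v => ZMod.map_smul (AddMonoidHom.mk' (fun w : Additive E => Additive.ofMul (α (Additive.toMul w)))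
        fun v w => congrArg Additive.ofMul (map_mul α (Additive.toMul v) (Additive.toMul w))) c v }
  have hact1 : ∀ v : Additive E, act 1 v = v := fun v => by
    show Additive.ofMul ((1 : MulAut E) (Additive.toMul v)) = v
    rfl
  have hact2 : ∀ (a b : MulAut E) (v : Additive E), act (a * b) v = (act a * act b) v := fun a b v => by
    show Additive.ofMul ((a * b) (Additive.toMul v)) = Additive.ofMul (a (b (Additive.toMul v)))
    exact congrArg Additive.ofMul (MulAut.mul_apply _ a b _)
  let ρ : F.autGroup E →* Module.End (ZMod p) (Additive E) :=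
    { toFun := fun α => act α
      map_one' := LinearMap.ext fun v => hact1 v
      map_mul' := fun a b => LinearMap.ext fun v => hact2 a b v }
  have hρa : ∀ (α : F.autGroup E) (x : E), ρ α (Additive.ofMul x) = Additive.ofMul ((α : MulAut E) x) :=
    fun _ _ => rfl
  have hρ : Function.Injective ρ := fun α β h => Subtype.ext (MulEquiv.ext fun x =>
    Additive.ofMul.injective (LinearMap.congr_fun h (Additive.ofMul x)))
  -- the transvection
  set t : F.autGroup E := ⟨conjAut E y hyN, autInducedBy_le hES (conjAut_mem_autInducedBy hyN hyS)⟩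
  have hty : ∀ x : E, ((Additive.toMul (ρ t (Additive.ofMul x)) : E) : Ω) = y * x * y⁻¹ := fun x =>
    conjAut_apply hyN x
  obtain ⟨e, he, heA⟩ : ∃ e ∈ E, e ∉ A := by
    refine SetLike.exists_of_lt (lt_of_le_of_ne hA fun h => ?_)
    rw [h, hcard] at hAc
    exact absurd (Nat.pow_right_injective hp.out.two_le hAc) (by norm_num)
  set e' : Additive E := Additive.ofMul (⟨e, he⟩ : E)
  set P : Submodule (ZMod p) (Additive E) :=
    AddSubgroup.toZModSubmodule p (Subgroup.toAddSubgroup (A.subgroupOf E))
  have hP : ∀ x : E, Additive.ofMul x ∈ P ↔ (x : Ω) ∈ A := fun x => Iff.rfl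
  obtain ⟨φ₀, hφe, hφA⟩ := Submodule.exists_dual_map_eq_bot_of_notMem (p := P) (x := e')
    (fun h => heA ((hP _).1 h)) inferInstance
  set φ := (φ₀ e')⁻¹ • φ₀
  have hφ1 : φ e' = 1 := by simp [φ, hφe]
  have hφP : ∀ v ∈ P, φ v = 0 := fun v hv => by
    have : φ₀ v = 0 := by
      have h2 := Submodule.mem_map_of_mem (f := φ₀) hv
      rwa [hφA, Submodule.mem_bot] at h2
    simp [φ, this]
  have hrest : ∀ v : Additive E, v - φ v • e' ∈ P := by
    have hfr : Module.finrank (ZMod p) (Additive E) = 3 := by
      have h := Module.natCard_eq_pow_finrank (K := ZMod p) (V := Additive E)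
      rw [Nat.card_congr Additive.toMul, hcard, Nat.card_zmod] at h
      exact (Nat.pow_right_injective hp.out.two_le h).symm
    have hPr : Module.finrank (ZMod p) P = 2 := by
      have h := Module.natCard_eq_pow_finrank (K := ZMod p) (V := P)
      have hc : Nat.card P = Nat.card A := (Nat.card_congr ⟨fun v => (⟨((Additive.toMul v.1 : E) : Ω), v.2⟩ : A),
        fun a => ⟨Additive.ofMul (⟨a, hA a.2⟩ : E), a.2⟩, fun _ => rfl, fun _ => rfl⟩)
      rw [hc, hAc, Nat.card_zmod] at h
      exact (Nat.pow_right_injective hp.out.two_le h).symm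
    have hker : Module.finrank (ZMod p) (LinearMap.ker φ) ≤ 2 := by
      have h := LinearMap.finrank_range_add_finrank_ker φ
      have hr : LinearMap.range φ = ⊤ := LinearMap.range_eq_top.2 fun a => ⟨a • e', by simp [hφ1]⟩
      rw [hr, finrank_top, Module.finrank_self, hfr] at h
      omega
    have hPk : P = LinearMap.ker φ :=
      Submodule.eq_of_le_of_finrank_le (fun v hv => LinearMap.mem_ker.2 (hφP v hv)) (hker.trans hPr.ge)
    intro v
    rw [hPk, LinearMap.mem_ker, map_sub, map_smul, hφ1, smul_eq_mul, mul_one, sub_self]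
  set c := ρ t e' - e'
  have htP : ∀ v ∈ P, ρ t v = v := fun v hv => by
    refine Additive.toMul.injective (Subtype.ext ?_)
    show ((Additive.toMul (ρ t (Additive.ofMul (Additive.toMul v : E))) : E) : Ω) = _
    rw [hty, show y * ((Additive.toMul v : E) : Ω) = ((Additive.toMul v : E) : Ω) * y from hyA _ hv,
      mul_inv_cancel_right]
  have htfix : ∀ v, ρ t v = v → v ∈ P := fun v hv => by
    have h := congrArg (fun w : Additive E => ((Additive.toMul w : E) : Ω)) hv
    rw [show v = Additive.ofMul (Additive.toMul v : E) from rfl, hty] at h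
    exact hfix _ (Additive.toMul v : E).2 (mul_inv_eq_iff_eq_mul.1 h)
  have hact : ∀ v, ρ t v = v + φ v • c := fun v => by
    have h := htP _ (hrest v)
    rw [map_sub, map_smul, sub_eq_iff_eq_add] at h
    rw [h, smul_sub]
    abel
  have hcP : c ∈ P := by
    have h : ρ t c = c := by
      have hS' : y * e * y⁻¹ ∈ E := conj_mem_of_mem_normalizer hyN he
      by_contra hne
      -- otherwise the displacement is not fixed and the action has no fixed hyperplane of this kind
      have hφc : φ c ≠ 0 := fun h0 => hne (by rw [hact, h0, zero_smul, add_zero])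
      obtain ⟨k, hk⟩ := hS ⟨y, hyS⟩
      have hiter : ∀ m : ℕ, φ (ρ (t ^ m) e') = (1 + φ c) ^ m := by
        intro m
        induction m with
        | zero => simp [TransvectionThree.one_apply', hφ1]
        | succ m ih =>
          rw [pow_succ', TransvectionThree.mul_apply', hact, map_add, map_smul, ih, smul_eq_mul, pow_succ]
          ring
      have htk : t ^ p ^ k = 1 := Subtype.ext (MulEquiv.ext fun x => Subtype.ext (by
        have hyk : (y : Ω) ^ p ^ k = 1 := congrArg Subtype.val hk
        have : ∀ m : ℕ, ∀ z : E, ((((t : MulAut E) ^ m) z : E) : Ω) = y ^ m * z * (y ^ m)⁻¹ := by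
          intro m
          induction m with
          | zero => intro z; simp
          | succ m ih =>
            intro z
            rw [pow_succ, MulAut.mul_apply, ih]
            show y ^ m * (y * z * y⁻¹) * (y ^ m)⁻¹ = _
            group
        rw [coe_pow, this, hyk]; simp))
      have h := hiter (p ^ k)
      rw [htk, TransvectionThree.one_apply', hφ1, ZMod.pow_card_pow] at h
      exact hφc (add_eq_left.1 h.symm)
    exact htfix c h
  have htv : TransvectionThree.IsTv ρ t φ c :=
    { dual := fun h => by simp [h] at hφ1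
      vec := fun h => heA ((hP ⟨e, he⟩).1 (htfix e' (sub_eq_zero.1 h)))
      kills := hφP c hcP
      act := hact }
  -- strong embedding
  obtain ⟨Y, hYtop, hTY, hY⟩ := ExtraspecialIndex.exists_embedded hS hF hE hab
  have hD : TransvectionThree.SEData p Y :=
    { ne_top := hYtop
      normalizer_le := fun T hTY' hT hT1 g hg => by
        obtain ⟨a, ha, ha1⟩ := T.bot_or_exists_ne_one.resolve_left hT1
        obtain ⟨k, hk⟩ := hT ⟨a, ha⟩
        exact hY g a (hTY' ha) ha1 ⟨k, congrArg Subtype.val hk⟩
          (hTY' ((Subgroup.mem_normalizer_iff.1 hg a).1 ha))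
      disjoint := fun g a ha hga hap ha1 => hY g a ha ha1 ⟨1, by rwa [pow_one]⟩ hga }
  have hV : Nat.card (Additive E) = p ^ 3 := (Nat.card_congr Additive.toMul).trans hcard
  set T := (autInducedBy S E).subgroupOf (F.autGroup E)
  have htT : t ∈ T := conjAut_mem_autInducedBy hyN hyS
  obtain ⟨g, s, φ', ψ, c', d, l, hPair⟩ := TransvectionThree.exists_pair hD hρ hV htv (hTY htT)
  haveI : Finite (MulAut E) :=
    Finite.of_injective (fun f : MulAut E => (f : E → E)) DFunLike.coe_injective
  have hTle : T ≤ zpowers t := hPair.pGroup_le hD hρ ((isPGroup_autInducedBy hS E).of_injective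
    (Subgroup.subgroupOfEquivOfLe (autInducedBy_le (F := F) hES)).toMonoidHom
    (Subgroup.subgroupOfEquivOfLe (autInducedBy_le (F := F) hES)).injective) htT
  -- the order of the normalizer
  have hN : Nat.card (normalizerIn S E) = p ^ 4 := by
    haveI : Finite (normalizerIn S E) := finite_of_le inf_le_left
    have hT' : Nat.card T ≤ p := by
      refine (card_le_of_le hTle).trans ?_
      rw [Nat.card_zpowers, orderOf_eq_prime (htv.pow_prime hρ) htv.ne_one]
    have hr : Nat.card (normalizerInHom S E).range ≤ p := by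
      rw [range_normalizerInHom]
      exact (Nat.card_congr (Subgroup.subgroupOfEquivOfLe (autInducedBy_le (F := F) hES)).toEquiv).ge.trans hT'
    have hk : Nat.card (normalizerInHom S E).ker ≤ p ^ 3 := by
      rw [← hcard]
      refine Nat.card_le_card_of_injective (fun g => (⟨((g : normalizerIn S E) : Ω), hCE (mem_centralizerIn.2
        ⟨(g : normalizerIn S E).2.1, fun x hx => ?_⟩)⟩ : E))
        fun a b h => Subtype.ext (Subtype.ext (congrArg Subtype.val h :))
      exact congrArg Subtype.val (MulEquiv.congr_fun (MonoidHom.mem_ker.1 g.2) ⟨x, hx⟩)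
    have h4 : Nat.card (normalizerIn S E) ≤ p ^ 4 := by
      rw [← (normalizerInHom S E).ker.card_mul_index, Subgroup.index_ker, pow_succ]
      exact Nat.mul_le_mul hk hr
    refine le_antisymm h4 ?_
    obtain ⟨j, hj⟩ : ∃ j, Nat.card (normalizerIn S E) = p ^ j := IsPGroup.iff_card.1
      (hS.of_injective _ (Subgroup.inclusion_injective (inf_le_left : normalizerIn S E ≤ S)))
    have hlt : Nat.card E < Nat.card (normalizerIn S E) := by
      refine lt_of_le_of_ne (card_le_of_le (le_normalizerIn hES)) fun e => hyE ?_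
      exact (eq_of_le_of_card_ge (le_normalizerIn hES) e.ge).ge ⟨hyS, hyN⟩
    rw [hcard, hj] at hlt
    rw [hj]
    exact Nat.pow_le_pow_right hp.out.pos ((Nat.pow_lt_pow_iff_right hp.out.one_lt).1 hlt)
  refine ⟨hN, hfix, fun μ hμ => ?_⟩
  obtain ⟨h, hc, hd, hl⟩ := hPair.exists_torus hμ
  refine ⟨h, h.2, ((Additive.toMul c' : E) : Ω), ((Additive.toMul l : E) : Ω),
    hfix _ (Additive.toMul c' : E).2 ?_, fun e => ?_, hfix _ (Additive.toMul l : E).2 ?_, ?_,
    fun x hx => ?_, ?_, ?_, ?_⟩
  · have h1 : ρ t c' = c' := by rw [hPair.tv.act, hPair.tv.kills, zero_smul, add_zero]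
    have h2 := congrArg (fun w : Additive E => ((Additive.toMul w : E) : Ω)) h1
    rw [show c' = Additive.ofMul (Additive.toMul c' : E) from rfl, hty] at h2
    exact mul_inv_eq_iff_eq_mul.1 h2
  · exact hPair.tv.vec (Additive.toMul.injective (Subtype.ext e))
  · have h1 : ρ t l = l := by rw [hPair.tv.act, hPair.l_kills, zero_smul, add_zero]
    have h2 := congrArg (fun w : Additive E => ((Additive.toMul w : E) : Ω)) h1
    rw [show l = Additive.ofMul (Additive.toMul l : E) from rfl, hty] at h2
    exact mul_inv_eq_iff_eq_mul.1 h2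
  · rintro ⟨j, hj⟩
    have h1 : l = j • c' := Additive.toMul.injective (Subtype.ext (by
      rw [toMul_zsmul, coe_zpow]; exact hj.symm))
    have h2 := congrArg ψ h1
    rw [hPair.l_kills', map_zsmul, hPair.one', zsmul_eq_mul, mul_one] at h2
    refine hPair.l_ne (h1.trans ?_)
    rw [← Int.cast_smul_eq_zsmul (ZMod p), ← h2, zero_smul]
  · have h1 := congrArg (fun w : Additive E => ((Additive.toMul w : E) : Ω))
      (hPair.tv.act (Additive.ofMul (⟨x, hx⟩ : E)))
    rw [hty] at h1
    refine ⟨((φ' (Additive.ofMul (⟨x, hx⟩ : E))).val : ℤ), ?_⟩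
    show ((Additive.toMul c' : E) : Ω) ^ ((φ' (Additive.ofMul (⟨x, hx⟩ : E))).val : ℤ) = _
    rw [zpow_natCast, h1, toMul_add, toMul_ofMul, coe_mul,
      ← ZMod.natCast_zmod_val (φ' (Additive.ofMul (⟨x, hx⟩ : E))), Nat.cast_smul_eq_nsmul, toMul_nsmul,
      coe_pow, ZMod.natCast_zmod_val, hab x hx _ (pow_mem (Additive.toMul c' : E).2 _), mul_inv_cancel_right]
  · rw [autFun_apply]
    have h1 := congrArg (fun w : Additive E => ((Additive.toMul w : E) : Ω)) hc
    rw [← ZMod.natCast_zmod_val μ, Nat.cast_smul_eq_nsmul] at h1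
    simp only [toMul_nsmul, coe_pow] at h1
    exact h1
  · rw [autFun_apply]
    exact congrArg (fun w : Additive E => ((Additive.toMul w : E) : Ω)) hl
  · intro x hx
    have hcomm : ∀ v, ρ (h * t) v = ρ (t ^ (μ ^ 2).val * h) v := fun v => by
      obtain ⟨γ, hv⟩ := hPair.span v
      have hφh : φ' (ρ h v) = μ⁻¹ * φ' v := by
        conv_lhs => rw [hv]
        simp only [map_add, map_smul, hc, hd, hl]
        simp [hPair.tv.kills, hPair.one, hPair.l_kills, mul_comm]
      rw [TransvectionThree.mul_apply', TransvectionThree.mul_apply', hPair.tv.act, hPair.tv.pow_act,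
        map_add, map_smul, hc, ZMod.natCast_zmod_val, hφh, smul_smul]
      congr 2
      field_simp
    have h1 := congrArg (fun w : Additive E => ((Additive.toMul w : E) : Ω)) (hcomm (Additive.ofMul (⟨x, hx⟩ : E)))
    simp only [TransvectionThree.mul_apply', hρa, toMul_ofMul] at h1
    have hpow : ∀ (m : ℕ) (z : E), ((((t : MulAut E) ^ m) z : E) : Ω) = y ^ m * z * (y ^ m)⁻¹ := by
      intro m
      induction m with
      | zero => intro z; simp
      | succ m ih =>
        intro z
        rw [pow_succ, MulAut.mul_apply, ih]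
        show y ^ m * (y * z * y⁻¹) * (y ^ m)⁻¹ = _
        group
    rw [Subgroup.coe_mul, Subgroup.coe_mul, MulAut.mul_apply, MulAut.mul_apply, SubgroupClass.coe_pow, hpow] at h1
    rw [autFun_apply_mem _ (conj_mem_of_mem_normalizer hyN hx), autFun_apply_mem _ hx]
    exact h1

end Cfsg.Lib.Fusion.EssentialTransvection
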