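import Cfsg.Agent.PGroups.MaxClassRank
import Cfsg.Agent.Fusion.EssentialShape
import Cfsg.Agent.Fusion.EssentialGen

/-!
A pearl forces maximal class and an element of order `p` with a centralizer of order `p ^ 2`.
-/

set_option autoImplicit false
set_option linter.style.haveILetI false

namespace Cfsg.Lib.Fusion.Pearl

open Subgroup
open scoped commutatorElement

universe u

variable {X : Type u} [Group X] [Finite X] {p : ℕ} [hp : Fact p.Prime]

theorem sup_eq_of_small {A : Subgroup X} (hP : IsPGroup p X) (hA : Nat.card A = p ^ 2) {B : Subgroup X}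
    (hB : B ≤ A) (hBne : B ≠ ⊥) {x : X} (hx : x ∈ A) (hxB : x ∉ B) : B ⊔ zpowers x = A := by
  have hle : B ⊔ zpowers x ≤ A := sup_le hB (zpowers_le.2 hx)
  obtain ⟨b, hb⟩ := IsPGroup.iff_card.mp (hP.to_subgroup B)
  obtain ⟨c, hc⟩ := IsPGroup.iff_card.mp (hP.to_subgroup (B ⊔ zpowers x))
  have hlt : Nat.card B < Nat.card (B ⊔ zpowers x : Subgroup X) :=
    lt_of_le_of_ne (card_le_of_le le_sup_left) fun e =>
      hxB ((eq_of_le_of_card_ge le_sup_left e.ge).ge (mem_sup_right (mem_zpowers x)))
  rw [hb, hc] at hlt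
  have hb0 : b ≠ 0 := fun e => hBne (card_eq_one.1 (by rw [hb, e, pow_zero]))
  have := (Nat.pow_lt_pow_iff_right hp.out.one_lt).1 hlt
  exact eq_of_le_of_card_ge hle (by rw [hA, hc]; exact Nat.pow_le_pow_right hp.out.pos (by omega))

/-- A noncentral element of a self-centralizing subgroup of order `p ^ 2`. -/
theorem centralizer_elem {A : Subgroup X} (hP : IsPGroup p X) (hA : Nat.card A = p ^ 2)
    (hC : centralizer (A : Set X) = A) (hlt : A ≠ ⊤) :
    ∃ x ∈ A, x ∉ center X ∧ centralizer ({x} : Set X) = A := by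
  haveI hAc : IsMulCommutative A := IsPGroup.isMulCommutative_of_card_eq_prime_sq (p := p) hA
  obtain ⟨x, hx, hxc⟩ : ∃ x ∈ A, x ∉ center X := by
    by_contra h
    push Not at h
    refine hlt (eq_top_iff.2 fun g _ => hC ▸ mem_centralizer_iff.2 fun a ha => ?_)
    exact (mem_center_iff.1 (h a ha) g).symm
  have hZA : center X ≤ A := fun z hz => hC ▸ mem_centralizer_iff.2 fun a _ => mem_center_iff.1 hz a
  haveI : Nontrivial X := ⟨⟨x, 1, fun e => hxc (e ▸ one_mem _)⟩⟩
  haveI := hP.center_nontrivial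
  have hne : center X ≠ ⊥ := (nontrivial_iff_ne_bot _).1 inferInstance
  refine ⟨x, hx, hxc, le_antisymm ?_ fun a ha => mem_centralizer_singleton_iff.2
    (congrArg Subtype.val (hAc.is_comm.comm ⟨a, ha⟩ ⟨x, hx⟩))⟩
  intro g hg
  have hle : A ≤ centralizer ({g} : Set X) := by
    rw [← sup_eq_of_small hP hA hZA hne hx hxc]
    refine sup_le (fun z hz => mem_centralizer_singleton_iff.2 (mem_center_iff.1 hz g).symm)
      (zpowers_le.2 (mem_centralizer_singleton_iff.2 (mem_centralizer_singleton_iff.1 hg).symm))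
  exact hC ▸ mem_centralizer_iff.2 fun a ha => mem_centralizer_singleton_iff.1 (hle ha)

open Cfsg Cfsg.FusionSystem Cfsg.Lib.Fusion

variable {Ω : Type u} [Group Ω] {S : Subgroup Ω}

/-- The data of a pearl. -/
theorem exists_data [Finite S] (hS : IsPGroup p S) {F : FusionSystem S} (hF : F.IsSaturated p)
    (hp2 : p ≠ 2) {E : Subgroup Ω} (hE : F.IsEssential p E)
    (hpearl : (Nat.card E = p ^ 2 ∧ ∀ x ∈ E, x ^ p = 1 ∧ IsMulCommutative ↥E) ∨
      (Nat.card E = p ^ 3 ∧ ¬ IsMulCommutative ↥E)) {n : ℕ} (hn : Nat.card S = p ^ n) :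
    ∃ x : S, Cfsg.Lib.PGroups.MaxClassRank.Data p n x := by
  have hp3 : 3 ≤ p := by have := hp.out.two_le; omega
  have hES := hE.1.1
  have hlt := EssentialGen.lt_of_essential hS hF hE
  haveI := finite_of_le hES
  haveI : Group.IsNilpotent S := hS.isNilpotent
  set A := E.subgroupOf S
  have hAc : Nat.card A = Nat.card E := Nat.card_congr (subgroupOfEquivOfLe hES).toEquiv
  have hcen : centralizer (A : Set S) ≤ A := fun g hg => hE.1.2 E (isConj_refl hES)
    (mem_centralizerIn.mpr ⟨g.2, fun e he => by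
      have h := congrArg Subtype.val (mem_centralizer_iff.1 hg ⟨e, hES he⟩ he)
      simp only [coe_mul] at h
      show (g : Ω) * e * (g : Ω)⁻¹ = e
      rw [← h, mul_inv_cancel_right]⟩)
  have hAne : A ≠ ⊤ := fun e => hlt.not_ge fun s hs => (e ▸ mem_top (⟨s, hs⟩ : S) : (⟨s, hs⟩ : S) ∈ A)
  have hidx : Nat.card A < p ^ n := hn ▸ lt_of_le_of_ne (card_le_card_group A) fun e => hAne (eq_top_of_card_eq A e)
  rcases hpearl with ⟨hc, hel⟩ | ⟨hc, hnab⟩
  · rw [hc] at hAc
    rw [hAc] at hidx
    have hn3 : 2 < n := (Nat.pow_lt_pow_iff_right hp.out.one_lt).1 hidx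
    haveI hAcm : IsMulCommutative A := IsPGroup.isMulCommutative_of_card_eq_prime_sq (p := p) hAc
    have hC : centralizer (A : Set S) = A := le_antisymm hcen fun a ha => mem_centralizer_iff.2 fun b hb =>
      congrArg Subtype.val (hAcm.is_comm.comm ⟨b, hb⟩ ⟨a, ha⟩)
    obtain ⟨x, hx, -, hxC⟩ := centralizer_elem hS hAc hC hAne
    exact ⟨x, hp3, hn3, hn, Cfsg.Lib.MaxClass.of_self_centralizing n S hn A hAc hC,
      Subtype.ext (by rw [coe_pow, coe_one]; exact (hel x hx).1), by rw [hxC, hAc]⟩
  rw [hc] at hAc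
  rw [hAc] at hidx
  have hn4 : 3 < n := (Nat.pow_lt_pow_iff_right hp.out.one_lt).1 hidx
  have hEp : IsPGroup p E := hS.to_le hES
  -- the centre of `E`
  haveI : Nontrivial E := Finite.one_lt_card_iff_nontrivial.1 (hc ▸ Nat.one_lt_pow (by norm_num) hp.out.one_lt)
  obtain ⟨i, hi⟩ := IsPGroup.iff_card.mp (hEp.to_quotient (center E))
  obtain ⟨j, hj⟩ := IsPGroup.iff_card.mp (hEp.to_subgroup (center E))
  have hi2 : 2 ≤ i := by
    by_contra h
    exact hnab ⟨⟨Cfsg.Lib.MaxClass.comm_of_quotient_center_small (p := p) (show i ≤ 1 by omega) hi⟩⟩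
  have hj1 : 1 ≤ j := by
    haveI := hEp.center_nontrivial
    by_contra h
    have := Finite.one_lt_card (α := center E)
    rw [hj, show j = 0 by omega, pow_zero] at this
    omega
  have hij : i + j = 3 := by
    have h1 := card_eq_card_quotient_mul_card_subgroup (center E)
    rw [hc, hi, hj, ← pow_add] at h1
    exact (Nat.pow_right_injective hp.out.two_le h1).symm
  have hZEc : Nat.card (center E) = p := by rw [hj, show j = 1 by omega, pow_one]
  -- the centre of `S`
  set Z := center S
  have hZA : Z ≤ A := fun z hz => hcen (mem_centralizer_iff.2 fun a _ => mem_center_iff.1 hz a)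
  haveI : Nontrivial S := Finite.one_lt_card_iff_nontrivial.1 (hn ▸ Nat.one_lt_pow (by omega) hp.out.one_lt)
  let toE : Z → center E := fun z => ⟨⟨((z : S) : Ω), hZA z.2⟩, mem_center_iff.2 fun e => Subtype.ext
    (show (e : Ω) * ((z : S) : Ω) = ((z : S) : Ω) * e from congrArg Subtype.val (mem_center_iff.1 z.2 ⟨e, hES e.2⟩))⟩
  have htoE : Function.Injective toE := fun a b e =>
    Subtype.ext (Subtype.ext (congrArg (fun z : center E => ((z : E) : Ω)) e))
  have hZc : Nat.card Z = p := by
    have h1 : Nat.card Z ≤ p := hZEc ▸ Nat.card_le_card_of_injective toE htoE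
    haveI := hS.center_nontrivial
    obtain ⟨k, hk⟩ := IsPGroup.iff_card.mp (hS.to_subgroup Z)
    have h2 := Finite.one_lt_card (α := Z)
    rw [hk] at h1 h2 ⊢
    rcases Nat.eq_zero_or_pos k with h | h
    · rw [h, pow_zero] at h2; omega
    · exact le_antisymm h1 (Nat.le_self_pow h.ne' p)
  have hZiff : ∀ a : E, a ∈ center E ↔ (⟨a, hES a.2⟩ : S) ∈ Z := by
    intro a
    refine ⟨fun ha => ?_, fun ha => (toE ⟨_, ha⟩).2⟩
    obtain ⟨z, hz⟩ := ((Nat.bijective_iff_injective_and_card toE).2 ⟨htoE, hZc.trans hZEc.symm⟩).2 ⟨a, ha⟩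
    have h2 : ((z : S) : Ω) = a := congrArg (fun w : center E => ((w : E) : Ω)) hz
    rw [show (⟨a, hES a.2⟩ : S) = z from Subtype.ext h2.symm]
    exact z.2
  -- exponent `p`
  have hexp : ∀ a : E, a ^ p = 1 := by
    have hqp : ∀ a : E, a ^ p ∈ center E := by
      intro a
      have hq : Nat.card (E ⧸ center E) = p ^ 2 := by rw [hi, show i = 2 by omega]
      haveI : IsMulCommutative (E ⧸ center E) := IsPGroup.isMulCommutative_of_card_eq_prime_sq (p := p) hq
      have hd : orderOf (QuotientGroup.mk' (center E) a) ∣ p ^ 2 := hq ▸ orderOf_dvd_natCard _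
      obtain ⟨m, hm, hme⟩ := (Nat.dvd_prime_pow hp.out).1 hd
      rcases Nat.lt_or_ge m 2 with hm2 | hm2
      · exact (QuotientGroup.eq_one_iff _).1 (orderOf_dvd_iff_pow_eq_one.1
          (hme ▸ (pow_dvd_pow p (show m ≤ 1 by omega)).trans (by rw [pow_one])))
      · exfalso
        haveI : IsCyclic (E ⧸ center E) :=
          isCyclic_of_orderOf_eq_card _ (by rw [hme, hq, show m = 2 by omega])
        have hcomm := commutative_of_cyclic_center_quotient (QuotientGroup.mk' (center E))
          (le_of_eq (QuotientGroup.ker_mk' _))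
        exact absurd ⟨⟨hcomm⟩⟩ hnab
    have hcc : ∀ a b : E, ⁅a, b⁆ ∈ center E := by
      intro a b
      have hq : Nat.card (E ⧸ center E) = p ^ 2 := by rw [hi, show i = 2 by omega]
      haveI : IsMulCommutative (E ⧸ center E) := IsPGroup.isMulCommutative_of_card_eq_prime_sq (p := p) hq
      rw [← QuotientGroup.eq_one_iff]
      show QuotientGroup.mk' (center E) ⁅a, b⁆ = 1
      rw [map_commutatorElement, commutatorElement_eq_one_iff_mul_comm]
      exact mul_comm' _ _
    have hcp : ∀ z ∈ center E, z ^ p = 1 := fun z hz =>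
      congrArg Subtype.val ((hZEc ▸ pow_card_eq_one' : (⟨z, hz⟩ : center E) ^ p = 1))
    obtain ⟨f, hf⟩ := hp.out.dvd_choose_self (show 2 ≠ 0 by norm_num) (show 2 < p by omega)
    have hmul : ∀ a b : E, (a * b) ^ p = a ^ p * b ^ p := by
      intro a b
      have hz : ∀ y : E, Commute ⁅b, a⁆ y := fun y => (mem_center_iff.1 (hcc b a) y).symm
      have hba : b * a = a * b * ⁅b, a⁆ := by
        calc b * a = ⁅b, a⁆ * (a * b) := by rw [commutatorElement_def]; group
          _ = _ := (hz _).eq
      obtain ⟨cc, hcdef⟩ : ∃ cc, cc = ⁅b, a⁆ := ⟨_, rfl⟩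
      rw [← hcdef] at hz hba
      have key : ∀ m : ℕ, (a * b) ^ m = a ^ m * b ^ m * cc ^ m.choose 2 ∧
          b ^ m * a = a * b ^ m * cc ^ m := by
        intro m
        induction m with
        | zero => simp
        | succ m ih =>
          obtain ⟨h1, h2⟩ := ih
          refine ⟨?_, ?_⟩
          · calc (a * b) ^ (m + 1) = a ^ m * b ^ m * cc ^ m.choose 2 * (a * b) := by rw [pow_succ, h1]
              _ = a ^ m * (b ^ m * a) * b * cc ^ m.choose 2 := by
                rw [mul_assoc (a ^ m * b ^ m), ((hz (a * b)).pow_left _).eq]; group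
              _ = a ^ m * a * (b ^ m * (cc ^ m * b)) * cc ^ m.choose 2 := by rw [h2]; group
              _ = a ^ m * a * (b ^ m * b) * (cc ^ m * cc ^ m.choose 2) := by
                rw [((hz b).pow_left m).eq]; group
              _ = _ := by rw [← pow_succ, ← pow_succ, ← pow_add, Nat.choose_succ_succ' m 1, Nat.choose_one_right]
          · calc b ^ (m + 1) * a = b * (b ^ m * a) := by rw [pow_succ']; group
              _ = (b * a) * b ^ m * cc ^ m := by rw [h2]; group
              _ = a * b * (cc * b ^ m) * cc ^ m := by rw [hba]; group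
              _ = a * (b * b ^ m) * (cc * cc ^ m) := by rw [(hz (b ^ m)).eq]; group
              _ = _ := by rw [← pow_succ', ← pow_succ']
      rw [(key p).1, hf, pow_mul, hcp cc (hcdef.symm ▸ hcc b a), one_pow, mul_one]
    let φ : E →* center E := MonoidHom.mk' (fun a => ⟨a ^ p, hqp a⟩) fun a b => Subtype.ext (hmul a b)
    intro a
    by_contra ha
    have hrange : φ.range = ⊤ := by
      rcases (Nat.dvd_prime hp.out).1 (hZEc ▸ φ.range.card_subgroup_dvd_card) with h | h
      · exfalso
        have : φ a = 1 := mem_bot.1 ((card_eq_one.1 h).le ⟨a, rfl⟩)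
        exact ha (congrArg Subtype.val this)
      · exact eq_top_of_card_eq _ (h.trans hZEc.symm)
    have hM : φ.ker.index = p := by rw [index_ker, hrange, card_top, hZEc]
    have hinv : ∀ α ∈ F.autGroup E, ∀ q ∈ φ.ker, α q ∈ φ.ker := by
      intro α _ q hq
      refine MonoidHom.mem_ker.2 (Subtype.ext ?_)
      show (α q) ^ p = 1
      rw [← map_pow, show q ^ p = 1 from congrArg Subtype.val (MonoidHom.mem_ker.1 hq), map_one]
    have hr : (frattini E).index ∣ p ^ 2 := by
      have hne : commutator E ≠ ⊥ := fun e => hnab ⟨⟨fun a b => commutatorElement_eq_one_iff_mul_comm.1 (by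
        rw [← mem_bot, ← e]; exact commutator_mem_commutator (mem_top a) (mem_top b))⟩⟩
      have hle := Cfsg.Lib.PGroups.commutator_le_frattini hEp
      obtain ⟨k, hk⟩ := hEp.index (frattini E)
      obtain ⟨l, hl⟩ := IsPGroup.iff_card.mp (hEp.to_subgroup (frattini E))
      have hl0 : l ≠ 0 := fun e => hne (le_bot_iff.1 (hle.trans (card_eq_one.1 (by rw [hl, e, pow_zero])).le))
      have h1 := (frattini E).card_mul_index
      rw [hl, hk, hc, ← pow_add] at h1
      have := Nat.pow_right_injective hp.out.two_le h1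
      rw [hk]
      exact pow_dvd_pow p (by omega)
    obtain ⟨R₁, R₂, hR⟩ := exists_two_sylow_of_essential hS hE
    haveI := subsingleton_sylow_aut_of_char hEp hr φ.ker hM (F.autGroup E) hinv
    exact hR (Subsingleton.elim _ _)
  -- the image in the central quotient
  set π := QuotientGroup.mk' Z
  have hπ : Function.Surjective π := QuotientGroup.mk'_surjective _
  set B := A.map π
  have hXc : Nat.card (S ⧸ Z) = p ^ (n - 1) := by
    have h1 := card_eq_card_quotient_mul_card_subgroup Z
    rw [hn, hZc, show n = n - 1 + 1 by omega, pow_succ] at h1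
    exact (Nat.eq_of_mul_eq_mul_right hp.out.pos h1).symm
  have hmemB : ∀ g : S, π g ∈ B ↔ g ∈ A := by
    intro g
    refine ⟨fun h => ?_, mem_map_of_mem π⟩
    obtain ⟨a, ha, e⟩ := h
    have := A.mul_mem ha (hZA (QuotientGroup.eq.1 e))
    rwa [mul_inv_cancel_left] at this
  have hBc : Nat.card B = p ^ 2 := by
    have h1 := (π.comp A.subtype).ker.card_mul_index
    rw [index_ker, MonoidHom.range_comp, range_subtype, ← MonoidHom.comap_ker, QuotientGroup.ker_mk',
      show Nat.card (Z.comap A.subtype) = p from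
        (Nat.card_congr (subgroupOfEquivOfLe hZA).toEquiv).trans hZc, hAc, pow_succ'] at h1
    exact Nat.eq_of_mul_eq_mul_left hp.out.pos h1
  have hBC : centralizer (B : Set (S ⧸ Z)) = B := by
    refine le_antisymm ?_ ?_
    · intro q hq
      obtain ⟨g, rfl⟩ := hπ q
      rw [hmemB]
      have hdisp : ∀ a ∈ A, g * a * g⁻¹ * a⁻¹ ∈ Z := fun a ha => by
        rw [← QuotientGroup.eq_one_iff]
        show π (g * a * g⁻¹ * a⁻¹) = 1
        rw [map_mul, map_mul, map_mul, map_inv, map_inv, mul_inv_eq_one, mul_inv_eq_iff_eq_mul]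
        exact (mem_centralizer_iff.1 hq (π a) (mem_map_of_mem π ha)).symm
      obtain ⟨a, b, hab⟩ : ∃ a b : E, a * b ≠ b * a := by
        by_contra h; push Not at h; exact hnab ⟨⟨h⟩⟩
      set a' : S := ⟨a, hES a.2⟩
      set b' : S := ⟨b, hES b.2⟩
      have haA : a' ∈ A := a.2
      have hbA : b' ∈ A := b.2
      set c := a' * b' * a'⁻¹ * b'⁻¹
      have hcZ : c ∈ Z := by
        have hq' : ⁅a, b⁆ ∈ center E := by
          have hq2 : Nat.card (E ⧸ center E) = p ^ 2 := by rw [hi, show i = 2 by omega]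
          haveI : IsMulCommutative (E ⧸ center E) := IsPGroup.isMulCommutative_of_card_eq_prime_sq (p := p) hq2
          rw [← QuotientGroup.eq_one_iff]
          show QuotientGroup.mk' (center E) ⁅a, b⁆ = 1
          rw [map_commutatorElement, commutatorElement_eq_one_iff_mul_comm]
          exact mul_comm' _ _
        exact (hZiff _).1 hq'
      have hc1 : c ≠ 1 := fun e => hab (Subtype.ext (by
        have := congrArg Subtype.val (mul_inv_eq_iff_eq_mul.1 (mul_inv_eq_one.1 e))
        exact this))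
      have hgenZ : zpowers c = Z := eq_of_le_of_card_ge (zpowers_le.2 hcZ) (by
        rw [Nat.card_zpowers, hZc]
        refine le_of_eq (((Nat.dvd_prime hp.out).1 ?_).resolve_left fun e => hc1 (orderOf_eq_one_iff.1 e)).symm
        rw [← hZc, ← Subgroup.orderOf_mk c hcZ]
        exact orderOf_dvd_natCard _)
      obtain ⟨i0, hi0⟩ := hgenZ.ge (hdisp a' haA)
      obtain ⟨j0, hj0⟩ := hgenZ.ge (hdisp b' hbA)
      change c ^ i0 = _ at hi0
      change c ^ j0 = _ at hj0
      have hcC : ∀ s : S, Commute c s := fun s => (mem_center_iff.1 hcZ s).symm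
      have hga : g * a' * g⁻¹ = c ^ i0 * a' := by rw [hi0]; group
      have hgb : g * b' * g⁻¹ = c ^ j0 * b' := by rw [hj0]; group
      have hab' : a' * b' * a'⁻¹ = c * b' := by simp only [c]; group
      have hba' : b' * a' * b'⁻¹ = c⁻¹ * a' := by simp only [c]; group
      have hA1 : ∀ m : ℤ, a' ^ m * b' * (a' ^ m)⁻¹ = c ^ m * b' := by
        intro m
        have : b' * a' ^ m * b'⁻¹ = (c ^ m)⁻¹ * a' ^ m := by
          rw [← conj_zpow, hba', ((hcC a').inv_left).mul_zpow, inv_zpow]
        calc a' ^ m * b' * (a' ^ m)⁻¹ = a' ^ m * (b' * a' ^ m * b'⁻¹)⁻¹ * b' := by group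
          _ = a' ^ m * ((c ^ m)⁻¹ * a' ^ m)⁻¹ * b' := by rw [this]
          _ = a' ^ m * ((a' ^ m)⁻¹ * c ^ m) * b' := by rw [mul_inv_rev, inv_inv]
          _ = _ := by rw [mul_inv_cancel_left]
      have hB1 : ∀ m : ℤ, b' ^ m * a' * (b' ^ m)⁻¹ = (c ^ m)⁻¹ * a' := by
        intro m
        have : a' * b' ^ m * a'⁻¹ = c ^ m * b' ^ m := by rw [← conj_zpow, hab', (hcC b').mul_zpow]
        calc b' ^ m * a' * (b' ^ m)⁻¹ = b' ^ m * (a' * b' ^ m * a'⁻¹)⁻¹ * a' := by group
          _ = b' ^ m * ((b' ^ m)⁻¹ * (c ^ m)⁻¹) * a' := by rw [this, mul_inv_rev]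
          _ = _ := by rw [mul_inv_cancel_left]
      set g' := a' ^ (-j0) * (b' ^ i0 * g)
      have hfa : g' * a' * g'⁻¹ = a' := by
        calc g' * a' * g'⁻¹ = a' ^ (-j0) * (b' ^ i0 * (g * a' * g⁻¹) * (b' ^ i0)⁻¹) * (a' ^ (-j0))⁻¹ := by
              simp only [g']; group
          _ = a' ^ (-j0) * (c ^ i0 * (b' ^ i0 * a' * (b' ^ i0)⁻¹)) * (a' ^ (-j0))⁻¹ := by
              rw [hga, ← mul_assoc (b' ^ i0), ← ((hcC (b' ^ i0)).zpow_left i0).eq]; group
          _ = a' := by rw [hB1, mul_inv_cancel_left]; group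
      have hfb : g' * b' * g'⁻¹ = b' := by
        calc g' * b' * g'⁻¹ = a' ^ (-j0) * (b' ^ i0 * (g * b' * g⁻¹) * (b' ^ i0)⁻¹) * (a' ^ (-j0))⁻¹ := by
              simp only [g']; group
          _ = a' ^ (-j0) * (c ^ j0 * b') * (a' ^ (-j0))⁻¹ := by
              rw [hgb, ← mul_assoc (b' ^ i0), ← ((hcC (b' ^ i0)).zpow_left j0).eq]; group
          _ = c ^ j0 * (a' ^ (-j0) * b' * (a' ^ (-j0))⁻¹) := by
              rw [← mul_assoc (a' ^ (-j0)), ← ((hcC (a' ^ (-j0))).zpow_left j0).eq]; group
          _ = b' := by rw [hA1, ← mul_assoc, ← zpow_add]; simp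
      have hg' : g' ∈ centralizer (A : Set S) := by
        rw [mem_centralizer_iff]
        set K := centralizer ({g'} : Set S) ⊓ A
        have hKa : a' ∈ K := ⟨mem_centralizer_singleton_iff.2 (mul_inv_eq_iff_eq_mul.1 hfa).symm, haA⟩
        have hKb : b' ∈ K := ⟨mem_centralizer_singleton_iff.2 (mul_inv_eq_iff_eq_mul.1 hfb).symm, hbA⟩
        have hKZ : Z ≤ K := le_inf (fun z hz => mem_centralizer_singleton_iff.2 (mem_center_iff.1 hz g').symm) hZA
        have hKA : K = A := by
          refine le_antisymm inf_le_right fun y hy => ?_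
          have hKB : K.map π = B := by
            refine le_antisymm (map_mono inf_le_right) (sup_eq_of_small (p := p) (hS.to_quotient Z) hBc
              (B := zpowers (π a')) (zpowers_le.2 (mem_map_of_mem π haA)) ?_ (mem_map_of_mem π hbA) ?_ ▸
              sup_le (zpowers_le.2 (mem_map_of_mem π hKa)) (zpowers_le.2 (mem_map_of_mem π hKb)))
            · intro e
              have : π a' = 1 := mem_bot.1 (e ▸ mem_zpowers (π a'))
              exact hc1 (by
                have h2 := mem_center_iff.1 ((QuotientGroup.eq_one_iff a').1 this) b'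
                simp only [c]
                rw [← h2]
                group)
            · rintro ⟨m, hm⟩
              change π a' ^ m = π b' at hm
              rw [← map_zpow] at hm
              have h2 := mem_center_iff.1 (QuotientGroup.eq.1 hm) a'
              refine hc1 ?_
              have h3 : a' * b' = b' * a' := by
                calc a' * b' = a' ^ m * (a' * ((a' ^ m)⁻¹ * b')) := by group
                  _ = a' ^ m * (((a' ^ m)⁻¹ * b') * a') := by rw [h2]
                  _ = b' * a' := by group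
              simp only [c]
              rw [h3]
              group
          obtain ⟨k, hk, e⟩ := hKB.ge (mem_map_of_mem π hy)
          have := K.mul_mem hk (hKZ (QuotientGroup.eq.1 e))
          rwa [mul_inv_cancel_left] at this
        exact fun y hy => (mem_centralizer_singleton_iff.1 (hKA.ge hy).1)
      have hgA := hcen hg'
      have e : g = (b' ^ i0)⁻¹ * ((a' ^ (-j0))⁻¹ * g') := by simp only [g']; group
      rw [e]
      exact A.mul_mem (A.inv_mem (A.zpow_mem hbA i0)) (A.mul_mem (A.inv_mem (A.zpow_mem haA (-j0))) hgA)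
    · haveI hBcm : IsMulCommutative B := IsPGroup.isMulCommutative_of_card_eq_prime_sq (p := p) hBc
      exact fun q hq => mem_centralizer_iff.2 fun r hr =>
        congrArg Subtype.val (hBcm.is_comm.comm ⟨r, hr⟩ ⟨q, hq⟩)
  have hcls : Group.nilpotencyClass S = n - 1 := by
    have h1 := Cfsg.Lib.MaxClass.of_self_centralizing (n - 1) (S ⧸ Z) hXc B hBc hBC
    rw [Group.nilpotencyClass_quotient_center] at h1
    omega
  have hBne : B ≠ ⊤ := fun e => hAne (eq_top_iff.2 fun g _ => (hmemB g).1 (e ▸ mem_top _))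
  obtain ⟨q, hqB, hqc, hqC⟩ := centralizer_elem (hS.to_quotient Z) hBc hBC hBne
  obtain ⟨x, hx, rfl⟩ := hqB
  refine ⟨x, hp3, by omega, hn, hcls, Subtype.ext ?_, ?_⟩
  · have := congrArg Subtype.val (hexp ⟨x, hx⟩)
    simpa using this
  have hxZ : x ∉ Z := fun h => hqc (by rw [show π x = 1 from (QuotientGroup.eq_one_iff x).2 h]; exact one_mem _)
  set C := centralizer ({x} : Set S)
  have hCA : C ≤ A := fun g hg => (hmemB g).1 (hqC ▸ mem_centralizer_singleton_iff.2 (by
    rw [← map_mul, ← map_mul, mem_centralizer_singleton_iff.1 hg]))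
  have hZC : Z ≤ C := fun z hz => mem_centralizer_singleton_iff.2 (mem_center_iff.1 hz x).symm
  have hxC : x ∈ C := mem_centralizer_singleton_iff.2 rfl
  have h1 : p * p ≤ Nat.card C := by
    obtain ⟨k, hk⟩ := IsPGroup.iff_card.mp (hS.to_subgroup C)
    have hlt' : Nat.card Z < Nat.card C := lt_of_le_of_ne (card_le_of_le hZC) fun e =>
      hxZ ((eq_of_le_of_card_ge hZC e.ge).ge hxC)
    rw [hZc, hk] at hlt'
    rw [hk, ← pow_two]
    refine Nat.pow_le_pow_right hp.out.pos ?_
    by_contra h
    have h2 : p ^ k ≤ p ^ 1 := Nat.pow_le_pow_right hp.out.pos (by omega)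
    rw [pow_one] at h2
    omega
  obtain ⟨k, hk⟩ := IsPGroup.iff_card.mp (hS.to_subgroup C)
  have hlt2 : Nat.card C < p ^ 3 := hAc ▸ lt_of_le_of_ne (card_le_of_le hCA) fun e => by
    have hAC : A ≤ C := (eq_of_le_of_card_ge hCA e.ge).ge
    refine hxZ ((hZiff ⟨x, hx⟩).1 (mem_center_iff.2 fun a => Subtype.ext ?_))
    have h := congrArg (fun w : S => (w : Ω)) (mem_centralizer_singleton_iff.1 (hAC (show (⟨(a : Ω), hES a.2⟩ : S) ∈ A from a.2)))
    exact h
  rw [hk] at h1 hlt2 ⊢
  have hk3 := (Nat.pow_lt_pow_iff_right hp.out.one_lt).1 hlt2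
  rw [← pow_two, Nat.pow_le_pow_iff_right hp.out.one_lt] at h1
  rw [show k = 2 by omega]

end Cfsg.Lib.Fusion.Pearl
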