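import Cfsg.Agent.Fusion.ExtraspecialIndex
import Cfsg.Agent.PGroups.Basic

/-!
Saturated fusion systems on groups with an extraspecial subgroup of index `p`: essential subgroups
inside it, and the centre.
-/

set_option autoImplicit false
set_option linter.style.haveILetI false
set_option linter.unusedSectionVars false

namespace Cfsg.Lib.Fusion.ExtraspecialIndex

open Cfsg Cfsg.FusionSystem Cfsg.Lib.Fusion
open scoped commutatorElement

universe u

variable {Ω : Type u} [Group Ω] {S : Subgroup Ω} {F : FusionSystem S} {p : ℕ}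

/-- The centre of a subgroup, inside the ambient group. -/
def cen (X : Subgroup Ω) : Subgroup Ω := X ⊓ Subgroup.centralizer (X : Set Ω)

theorem mem_cen {X : Subgroup Ω} {x : Ω} : x ∈ cen X ↔ x ∈ X ∧ ∀ y ∈ X, y * x = x * y := Iff.rfl

/-- The standing hypotheses. -/
structure ExtIdx (F : FusionSystem S) (p : ℕ) (Q : Subgroup Ω) : Prop where
  isP : IsPGroup p S
  sat : F.IsSaturated p
  le : Q ≤ S
  extra : Cfsg.IsExtraspecial p Q
  idx : Nat.card S = p * Nat.card Q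

theorem extIdx_of_index [Finite S] {Q : Subgroup Ω} (hS : IsPGroup p S) (hF : F.IsSaturated p)
    (hQS : Q ≤ S) (hQ : Cfsg.IsExtraspecial p Q) (hQi : (Q.subgroupOf S).index = p) : ExtIdx F p Q :=
  ⟨hS, hF, hQS, hQ, by
    rw [← (Q.subgroupOf S).index_mul_card, hQi,
      Nat.card_congr (Subgroup.subgroupOfEquivOfLe hQS).toEquiv]⟩

/-- A subgroup of `L` meets a subgroup of index at most `p` in index at most `p`. -/
theorem card_le_inf {H K L : Subgroup Ω} [Finite L] (hH : H ≤ L) (hK : K ≤ L)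
    (h : Nat.card L ≤ p * Nat.card H) : Nat.card K ≤ p * Nat.card (H ⊓ K : Subgroup Ω) := by
  haveI := finite_of_le hH
  haveI := finite_of_le hK
  have e1 : Nat.card (H ⊓ K : Subgroup Ω) * H.relIndex K = Nat.card K := by
    rw [← Subgroup.inf_relIndex_right, Subgroup.relIndex, ← ((H ⊓ K).subgroupOf K).card_mul_index,
      Nat.card_congr (Subgroup.subgroupOfEquivOfLe inf_le_right).toEquiv]
  have e2 : Nat.card H * H.relIndex L = Nat.card L := by
    rw [Subgroup.relIndex, ← (H.subgroupOf L).card_mul_index,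
      Nat.card_congr (Subgroup.subgroupOfEquivOfLe hH).toEquiv]
  have e3 : H.relIndex L ≤ p := by
    refine Nat.le_of_mul_le_mul_left ?_ (Nat.card_pos (α := H))
    rw [e2, mul_comm]; exact h
  have e4 : H.relIndex K ≤ H.relIndex L := Subgroup.relIndex_le_of_le_right hK Subgroup.index_ne_zero_of_finite
  calc Nat.card K = _ := e1.symm
    _ ≤ Nat.card (H ⊓ K : Subgroup Ω) * p := Nat.mul_le_mul le_rfl (e4.trans e3)
    _ = _ := mul_comm _ _

namespace ExtIdx

variable [Finite S] [hp : Fact p.Prime] {Q E : Subgroup Ω} (h : ExtIdx F p Q)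
include h

theorem z_eq : cen Q = (Subgroup.center Q).map Q.subtype := by
  ext x
  constructor
  · rintro ⟨hx, hc⟩
    exact ⟨⟨x, hx⟩, Subgroup.mem_center_iff.mpr fun y => Subtype.ext (hc y y.2), rfl⟩
  · rintro ⟨y, hy, rfl⟩
    exact ⟨y.2, fun q hq => congrArg Subtype.val (Subgroup.mem_center_iff.mp hy ⟨q, hq⟩)⟩

theorem card_z : Nat.card (cen Q) = p := by
  rw [h.z_eq, Subgroup.card_map_of_injective Q.subtype_injective, h.extra.2]

theorem z_le : cen Q ≤ S := inf_le_left.trans h.le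

theorem z_pow {z : Ω} (hz : z ∈ cen Q) : z ^ p = 1 :=
  orderOf_dvd_iff_pow_eq_one.mp (h.card_z ▸ Subgroup.orderOf_dvd_natCard (cen Q) hz)

theorem comm_Q {a b : Ω} (ha : a ∈ Q) (hb : b ∈ Q) : a * b * a⁻¹ * b⁻¹ ∈ cen Q := by
  rw [h.z_eq]
  exact ⟨⁅(⟨a, ha⟩ : Q), ⟨b, hb⟩⁆, h.extra.1.2.2 ▸
    Subgroup.commutator_mem_commutator (Subgroup.mem_top _) (Subgroup.mem_top _), rfl⟩

theorem conj_Q {g : Ω} (hg : g ∈ S) {q : Ω} (hq : q ∈ Q) : g * q * g⁻¹ ∈ Q := by
  have hn : (Q.subgroupOf S).Normal := RankTwo.normal_of_index_dvd h.isP _ (by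
    have e := (Q.subgroupOf S).card_mul_index
    rw [Nat.card_congr (Subgroup.subgroupOfEquivOfLe h.le).toEquiv, h.idx, mul_comm p] at e
    haveI := finite_of_le h.le
    exact (Nat.eq_of_mul_eq_mul_left Nat.card_pos e).dvd)
  exact hn.conj_mem ⟨q, h.le hq⟩ hq ⟨g, hg⟩

theorem z_central {z : Ω} (hz : z ∈ cen Q) {s : Ω} (hs : s ∈ S) : s * z = z * s := by
  haveI : ((cen Q).subgroupOf S).Normal := ⟨fun x hx g => by
    refine ⟨h.conj_Q g.2 hx.1, fun q hq => ?_⟩
    show q * ((g : Ω) * x * (g : Ω)⁻¹) = (g : Ω) * x * (g : Ω)⁻¹ * q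
    have e : ((g : Ω)⁻¹ * q * (g : Ω)⁻¹⁻¹) * (x : Ω) = (x : Ω) * ((g : Ω)⁻¹ * q * (g : Ω)⁻¹⁻¹) :=
      hx.2 _ (h.conj_Q (S.inv_mem g.2) hq)
    calc q * ((g : Ω) * x * (g : Ω)⁻¹) = (g : Ω) * ((g : Ω)⁻¹ * q * (g : Ω)⁻¹⁻¹ * x) * (g : Ω)⁻¹ := by group
      _ = (g : Ω) * ((x : Ω) * ((g : Ω)⁻¹ * q * (g : Ω)⁻¹⁻¹)) * (g : Ω)⁻¹ := by rw [e]
      _ = _ := by group⟩
  have hle := Cfsg.Lib.PGroups.le_center_of_card_eq_prime h.isP (N := (cen Q).subgroupOf S)
    (by rw [Nat.card_congr (Subgroup.subgroupOfEquivOfLe h.z_le).toEquiv, h.card_z])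
  exact congrArg Subtype.val (Subgroup.mem_center_iff.mp (hle (x := ⟨z, h.z_le hz⟩) hz) ⟨s, hs⟩)

theorem z_le_cen : cen Q ≤ cen S := fun _ hz => ⟨h.z_le hz, fun _ hs => h.z_central hz hs⟩

theorem cen_le_essential (hE : F.IsEssential p E) : cen S ≤ E := fun x hx =>
  hE.1.2 E (isConj_refl hE.1.1) (mem_centralizerIn.mpr ⟨hx.1, fun q hq => by
    rw [← hx.2 q (hE.1.1 hq), mul_inv_cancel_right]⟩)

theorem exists_gen : ∃ z ∈ cen Q, z ≠ 1 ∧ ∀ x ∈ cen Q, ∃ i : ℤ, z ^ i = x := by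
  haveI := finite_of_le h.z_le
  obtain ⟨z, hz, hz1⟩ := (cen Q).bot_or_exists_ne_one.resolve_left fun e => by
    have := h.card_z
    rw [e, Subgroup.card_bot] at this
    exact hp.out.ne_one this.symm
  refine ⟨z, hz, hz1, fun x hx => ?_⟩
  exact (Subgroup.eq_of_le_of_card_ge (Subgroup.zpowers_le.2 hz)
    (by rw [h.card_z, Nat.card_zpowers, orderOf_eq_prime (h.z_pow hz) hz1])).ge hx

theorem invariant_of_nonab (hZE : cen Q ≤ E) (hcomm : ∀ a ∈ E, ∀ b ∈ E, a * b * a⁻¹ * b⁻¹ ∈ cen Q)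
    (hnab : ¬ ∀ a ∈ E, ∀ b ∈ E, a * b = b * a) (β : MulAut E) (z : E) (hz : (z : Ω) ∈ cen Q) :
    ((β z : E) : Ω) ∈ cen Q := by
  push Not at hnab
  obtain ⟨a, ha, b, hb, hab⟩ := hnab
  haveI := finite_of_le h.z_le
  set c := a * b * a⁻¹ * b⁻¹ with hc
  have hc1 : c ≠ 1 := fun e => hab (by
    rw [hc, mul_inv_eq_one, mul_inv_eq_iff_eq_mul] at e; exact e)
  obtain ⟨i, hi⟩ := (Subgroup.eq_of_le_of_card_ge (Subgroup.zpowers_le.2 (hcomm a ha b hb))
    (by rw [h.card_z, Nat.card_zpowers, orderOf_eq_prime (h.z_pow (hcomm a ha b hb)) hc1])).ge hz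
  have e : z = ((⟨a, ha⟩ : E) * ⟨b, hb⟩ * (⟨a, ha⟩ : E)⁻¹ * (⟨b, hb⟩ : E)⁻¹) ^ i := Subtype.ext hi.symm
  rw [e, map_zpow, map_mul, map_mul, map_mul, map_inv, map_inv, Subgroup.coe_zpow]
  exact (cen Q).zpow_mem (hcomm _ (β ⟨a, ha⟩).2 _ (β ⟨b, hb⟩).2) i

/-- Centralizers in subgroups on which the commutators are central of order `p`. -/
theorem card_le_centralizer {P : Subgroup Ω} (hP : P ≤ S) (x : Ω)
    (hcomm : ∀ y ∈ P, x * y * x⁻¹ * y⁻¹ ∈ cen Q) :
    Nat.card P ≤ p * Nat.card (P ⊓ Subgroup.centralizer {x} : Subgroup Ω) := by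
  haveI := finite_of_le hP
  haveI := finite_of_le h.z_le
  let f : P →* cen Q :=
    { toFun := fun y => ⟨x * y * x⁻¹ * (y : Ω)⁻¹, hcomm y y.2⟩
      map_one' := Subtype.ext (by simp)
      map_mul' := fun a b => Subtype.ext (by
        have e := h.z_central (hcomm b b.2) (S.inv_mem (hP a.2))
        show x * ((a : Ω) * b) * x⁻¹ * ((a : Ω) * b)⁻¹ =
          x * (a : Ω) * x⁻¹ * (a : Ω)⁻¹ * (x * (b : Ω) * x⁻¹ * (b : Ω)⁻¹)
        calc x * ((a : Ω) * b) * x⁻¹ * ((a : Ω) * b)⁻¹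
            = x * (a : Ω) * x⁻¹ * ((x * (b : Ω) * x⁻¹ * (b : Ω)⁻¹) * (a : Ω)⁻¹) := by group
          _ = x * (a : Ω) * x⁻¹ * ((a : Ω)⁻¹ * (x * (b : Ω) * x⁻¹ * (b : Ω)⁻¹)) := by rw [e]
          _ = _ := by group) }
  have hk : f.ker = (P ⊓ Subgroup.centralizer {x}).subgroupOf P := by
    ext y
    rw [MonoidHom.mem_ker, Subgroup.mem_subgroupOf, Subgroup.mem_inf,
      Subgroup.mem_centralizer_singleton_iff]
    refine ⟨fun e => ⟨y.2, ?_⟩, fun e => Subtype.ext ?_⟩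
    · have e' : x * (y : Ω) * x⁻¹ * (y : Ω)⁻¹ = 1 := congrArg Subtype.val e
      rw [mul_inv_eq_one, mul_inv_eq_iff_eq_mul] at e'
      exact e'.symm
    · show x * (y : Ω) * x⁻¹ * (y : Ω)⁻¹ = 1
      rw [← e.2, mul_inv_cancel_right, mul_inv_cancel]
  calc Nat.card P = Nat.card f.ker * f.ker.index := f.ker.card_mul_index.symm
    _ ≤ Nat.card (P ⊓ Subgroup.centralizer {x} : Subgroup Ω) * p := by
      rw [hk, Nat.card_congr (Subgroup.subgroupOfEquivOfLe inf_le_left).toEquiv, ← hk,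
        Subgroup.index_ker]
      exact Nat.mul_le_mul le_rfl (h.card_z ▸ Subgroup.card_le_card_group f.range)
    _ = _ := mul_comm _ _

/-- Elements of a subgroup of index `p` commuting with an outside element. -/
theorem cen_of_index {Y : Subgroup Ω} (hY : Y ≤ S) (hEY : E ≤ Y) {x : Ω} (hx : x ∈ Y) (hxE : x ∉ E)
    (hc : Nat.card Y ≤ p * Nat.card E) {k : Ω} (hk : k ∈ E) (hkE : ∀ e ∈ E, e * k = k * e)
    (hkx : x * k = k * x) : k ∈ cen Y := by
  haveI := finite_of_le hY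
  have hle : E ⊔ Subgroup.zpowers x ≤ Y := sup_le hEY (Subgroup.zpowers_le.2 hx)
  have hlt : E < E ⊔ Subgroup.zpowers x := lt_of_le_of_ne le_sup_left fun e =>
    hxE (e.symm ▸ Subgroup.mem_sup_right (Subgroup.mem_zpowers x))
  have he := Subgroup.eq_of_le_of_card_ge hle (hc.trans (SqCenter.eq_of_lt h.isP (hle.trans hY) hlt))
  refine ⟨hEY hk, fun y hy => Subgroup.mem_centralizer_singleton_iff.mp
    ((sup_le (fun e he' => ?_) (Subgroup.zpowers_le.2 ?_) : E ⊔ Subgroup.zpowers x ≤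
      Subgroup.centralizer {k}) (he.symm ▸ hy))⟩
  · exact Subgroup.mem_centralizer_singleton_iff.mpr (hkE e he')
  · exact Subgroup.mem_centralizer_singleton_iff.mpr hkx

theorem nonab : ∃ a ∈ Q, ∃ b ∈ Q, a * b ≠ b * a := by
  by_contra hno
  push Not at hno
  have hbot : commutator Q = ⊥ := by
    rw [commutator_def, eq_bot_iff, Subgroup.commutator_le]
    intro a _ b _
    exact Subgroup.mem_bot.2 (commutatorElement_eq_one_iff_mul_comm.2 (Subtype.ext (hno a a.2 b b.2)))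
  have h2 := h.extra.2
  rw [← h.extra.1.2.2, hbot, Subgroup.card_bot] at h2
  exact hp.out.ne_one h2.symm

theorem card_Q : p ^ 3 ≤ Nat.card Q := by
  obtain ⟨a, ha, b, hb, hab⟩ := h.nonab
  have haZ : a ∉ cen Q := fun hz => hab (hz.2 b hb).symm
  set W := cen Q ⊔ Subgroup.zpowers a
  have hWQ : W ≤ Q := sup_le inf_le_left (Subgroup.zpowers_le.2 ha)
  have h1 : cen Q < W := lt_of_le_of_ne le_sup_left fun e =>
    haZ (e.symm ▸ Subgroup.mem_sup_right (Subgroup.mem_zpowers a))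
  have h2 : W < Q := lt_of_le_of_ne hWQ fun e => by
    refine hab (Subgroup.mem_centralizer_singleton_iff.mp ((sup_le ?_ ?_ : W ≤
      Subgroup.centralizer {a}) (e.ge hb))).symm
    · exact fun z hz => Subgroup.mem_centralizer_singleton_iff.mpr (hz.2 a ha).symm
    · exact Subgroup.zpowers_le.2 (Subgroup.mem_centralizer_singleton_iff.mpr rfl)
  have c1 := SqCenter.eq_of_lt h.isP (hWQ.trans h.le) h1
  have c2 := SqCenter.eq_of_lt h.isP h.le h2
  rw [h.card_z] at c1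
  calc p ^ 3 = p * (p * p) := by ring
    _ ≤ p * Nat.card W := Nat.mul_le_mul le_rfl c1
    _ ≤ _ := c2

/-- An essential subgroup inside `Q` is `Q` if `Q` is large. -/
theorem essential_inside (h5 : p ^ 5 ≤ Nat.card Q) (hEQ : E ≤ Q) (hE : F.IsEssential p E) : E = Q := by
  by_contra hne
  obtain ⟨g, hgQ, hgE⟩ := SetLike.exists_of_lt (lt_of_le_of_ne hEQ hne)
  haveI := finite_of_le h.le
  haveI := finite_of_le (hEQ.trans h.le)
  have hZE : cen Q ≤ E := h.z_le_cen.trans (h.cen_le_essential hE)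
  have hn : ∀ {q : Ω}, q ∈ Q → q ∈ Subgroup.normalizer (E : Set Ω) := fun {q} hq => by
    have key : ∀ r ∈ Q, ∀ e ∈ E, r * e * r⁻¹ ∈ E := fun r hr e he => by
      have := E.mul_mem (hZE (h.comm_Q hr (hEQ he))) he
      rwa [inv_mul_cancel_right] at this
    refine Subgroup.mem_normalizer_iff.2 fun e => ⟨key q hq e, fun he => ?_⟩
    simpa [mul_assoc] using key _ (Q.inv_mem hq) _ he
  have hinv : ∀ β ∈ F.autGroup E, ∀ z : E, (z : Ω) ∈ cen Q → ((β z : E) : Ω) ∈ cen Q := by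
    by_cases hab : ∀ a ∈ E, ∀ b ∈ E, a * b = b * a
    · refine invariant_of_pick h.isP h.sat hE hab hZE h.card_z fun e he => ?_
      by_contra hno
      push Not at hno
      have hCE : Q ⊓ Subgroup.centralizer {e} ≤ E := fun g' hg => by
        by_contra hgE'
        exact hno g' (h.le hg.1) hgE' (hn hg.1) (fun x hx => h.comm_Q hg.1 (hEQ hx))
          (Subgroup.mem_centralizer_singleton_iff.mp hg.2)
      have c1 : Nat.card Q ≤ p * Nat.card E := (h.card_le_centralizer h.le e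
        fun y hy => h.comm_Q (hEQ he) hy).trans
        (Nat.mul_le_mul le_rfl (Subgroup.card_le_of_le hCE))
      have c2 := h.card_le_centralizer (hEQ.trans h.le) g fun y hy => h.comm_Q hgQ (hEQ hy)
      have hle : E ⊓ Subgroup.centralizer {g} ≤ cen Q := fun k hk =>
        h.cen_of_index h.le hEQ hgQ hgE c1 hk.1 (fun e' he' => hab e' he' k hk.1)
          (Subgroup.mem_centralizer_singleton_iff.mp hk.2).symm
      haveI := finite_of_le h.z_le
      have c3 : Nat.card Q ≤ p ^ 3 :=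
        c1.trans ((Nat.mul_le_mul le_rfl (c2.trans (Nat.mul_le_mul le_rfl
          ((Subgroup.card_le_of_le hle).trans h.card_z.le)))).trans (le_of_eq (by ring)))
      have := h5.trans c3
      exact absurd this (not_le.mpr (Nat.pow_lt_pow_right hp.out.one_lt (by norm_num)))
    · exact fun β _ z hz => h.invariant_of_nonab hZE (fun a ha b hb => h.comm_Q (hEQ ha) (hEQ hb)) hab β z hz
  exact false_of_invariant h.isP hE hZE (fun z hz => h.z_pow hz) hinv (h.le hgQ) hgE (hn hgQ)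
    (fun e he => h.comm_Q hgQ (hEQ he)) (fun z hz => h.z_central hz (h.le hgQ))

theorem comm_S (hne : cen S ≠ cen Q) {a b : Ω} (ha : a ∈ S) (hb : b ∈ S) :
    a * b * a⁻¹ * b⁻¹ ∈ cen Q := by
  obtain ⟨w, hw, hwZ⟩ := SetLike.exists_of_lt (lt_of_le_of_ne h.z_le_cen (Ne.symm hne))
  have hwQ : w ∉ Q := fun hq => hwZ ⟨hq, fun q hq' => hw.2 q (h.le hq')⟩
  have hle : Q ⊔ Subgroup.zpowers w ≤ S := sup_le h.le (Subgroup.zpowers_le.2 hw.1)
  have hlt : Q < Q ⊔ Subgroup.zpowers w := lt_of_le_of_ne le_sup_left fun e =>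
    hwQ (e.symm ▸ Subgroup.mem_sup_right (Subgroup.mem_zpowers w))
  haveI := finite_of_le h.le
  have htop : Q ⊔ Subgroup.zpowers w = S := Subgroup.eq_of_le_of_card_ge hle
    (by rw [h.idx]; exact SqCenter.eq_of_lt h.isP hle hlt)
  have hwn : Subgroup.zpowers w ≤ Subgroup.normalizer (Q : Set Ω) := Subgroup.zpowers_le.2
    (Subgroup.centralizer_le_normalizer _ fun q hq => hw.2 q (h.le hq))
  obtain ⟨q, hq, _, ⟨i, rfl⟩, rfl⟩ := (Cfsg.Lib.Coprime.mem_sup_of_le_normalizer hwn).mp (htop.ge ha)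
  obtain ⟨r, hr, _, ⟨j, rfl⟩, rfl⟩ := (Cfsg.Lib.Coprime.mem_sup_of_le_normalizer hwn).mp (htop.ge hb)
  have hc : ∀ y ∈ S, ∀ k : ℤ, y * w ^ k = w ^ k * y := fun y hy k =>
    (show Commute y w from hw.2 y hy).zpow_right k
  show q * w ^ i * (r * w ^ j) * (q * w ^ i)⁻¹ * (r * w ^ j)⁻¹ ∈ cen Q
  have e : q * w ^ i * (r * w ^ j) * (q * w ^ i)⁻¹ * (r * w ^ j)⁻¹ = q * r * q⁻¹ * r⁻¹ := by
          calc q * w ^ i * (r * w ^ j) * (q * w ^ i)⁻¹ * (r * w ^ j)⁻¹
              = q * (w ^ i * r) * w ^ (j - i) * q⁻¹ * w ^ (-j) * r⁻¹ := by group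
            _ = q * (r * w ^ i) * (w ^ (j - i) * q⁻¹) * w ^ (-j) * r⁻¹ := by
              rw [hc r (h.le hr) i]; group
            _ = q * (r * w ^ i) * (q⁻¹ * w ^ (j - i)) * w ^ (-j) * r⁻¹ := by
              rw [hc q⁻¹ (S.inv_mem (h.le hq))]
            _ = q * r * (w ^ i * q⁻¹) * w ^ (-i) * r⁻¹ := by group
            _ = q * r * q⁻¹ * r⁻¹ := by rw [← hc q⁻¹ (S.inv_mem (h.le hq))]; group
  rw [e]
  exact h.comm_Q hq hr

theorem card_cen (hne : cen S ≠ cen Q) : Nat.card (cen S) = p * p := by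
  refine le_antisymm ?_ ?_
  · haveI : Finite (cen S) := finite_of_le (inf_le_left : cen S ≤ S)
    haveI := finite_of_le h.z_le
    refine (card_le_inf (H := Q) (K := cen S) (L := S) (p := p) h.le inf_le_left h.idx.le).trans
      (Nat.mul_le_mul le_rfl (le_trans (Subgroup.card_le_of_le ?_) h.card_z.le))
    exact fun x hx => ⟨hx.1, fun q hq => hx.2.2 q (h.le hq)⟩
  · have := SqCenter.eq_of_lt h.isP inf_le_left (lt_of_le_of_ne h.z_le_cen (Ne.symm hne))
    rwa [h.card_z] at this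

theorem cen_pow (hne : cen S ≠ cen Q) {w : Ω} (hw : w ∈ cen S) (hwZ : w ∉ cen Q) (hwp : w ^ p = 1)
    {x : Ω} (hx : x ∈ cen S) : x ^ p = 1 := by
  let W : Subgroup Ω :=
    { carrier := {y | y ∈ cen S ∧ y ^ p = 1}
      one_mem' := ⟨(cen S).one_mem, one_pow p⟩
      mul_mem' := fun {a b} ha hb => ⟨(cen S).mul_mem ha.1 hb.1, by
        rw [(show Commute a b from hb.1.2 a ha.1.1).mul_pow, ha.2, hb.2, one_mul]⟩
      inv_mem' := fun {a} ha => ⟨(cen S).inv_mem ha.1, by rw [inv_pow, ha.2, inv_one]⟩ }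
  have hle : W ≤ cen S := fun y hy => hy.1
  have hlt : cen Q < W := lt_of_le_of_ne (fun z hz => ⟨h.z_le_cen hz, h.z_pow hz⟩)
    fun e => hwZ (e.symm ▸ (⟨hw, hwp⟩ : w ∈ W))
  have hc := SqCenter.eq_of_lt h.isP (hle.trans inf_le_left) hlt
  rw [h.card_z] at hc
  haveI : Finite (cen S) := finite_of_le (inf_le_left : cen S ≤ S)
  exact ((Subgroup.eq_of_le_of_card_ge hle (h.card_cen hne ▸ hc)).ge hx).2

theorem not_mem_of_pow {y : Ω} (hy : y ^ p = 1) {i : ℤ} (hi : ¬ (p : ℤ) ∣ i) {X : Subgroup Ω}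
    (hX : y ^ i ∈ X) : y ∈ X := by
  obtain ⟨a, b, hab⟩ := ((Nat.prime_iff_prime_int.mp hp.out).coprime_iff_not_dvd.mpr hi)
  rw [← zpow_one y, ← hab, zpow_add, mul_comm a, zpow_mul, zpow_natCast, hy, one_zpow, one_mul,
    mul_comm b, zpow_mul]
  exact X.zpow_mem hX b

/-- The facts at an essential subgroup when the centre is large. -/
theorem essential_facts (hne : cen S ≠ cen Q) (hE : F.IsEssential p E) :
    (∀ g ∈ S, g ∈ Subgroup.normalizer (E : Set Ω)) ∧ (∀ a ∈ E, ∀ b ∈ E, a * b = b * a) ∧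
      Nat.card E = p ^ 3 ∧ Nat.card S = p * Nat.card E ∧
      ∃ β ∈ F.autGroup E, ∃ z : E, (z : Ω) ∈ cen Q ∧ ((β z : E) : Ω) ∉ cen Q := by
  have hES := hE.1.1
  haveI := finite_of_le hES
  have hZE : cen Q ≤ E := h.z_le_cen.trans (h.cen_le_essential hE)
  have key : ∀ r ∈ S, ∀ e ∈ E, r * e * r⁻¹ ∈ E := fun r hr e he => by
    have := E.mul_mem (hZE (h.comm_S hne hr (hES he))) he
    rwa [inv_mul_cancel_right] at this
  have hn : ∀ g ∈ S, g ∈ Subgroup.normalizer (E : Set Ω) := fun g hg => by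
    refine Subgroup.mem_normalizer_iff.2 fun e => ⟨key g hg e, fun he => ?_⟩
    simpa [mul_assoc] using key _ (S.inv_mem hg) _ he
  obtain ⟨g, hgS, hgE⟩ := SetLike.exists_of_lt (EssentialGen.lt_of_essential h.isP h.sat hE)
  have hnot : ¬ ∀ β ∈ F.autGroup E, ∀ z : E, (z : Ω) ∈ cen Q → ((β z : E) : Ω) ∈ cen Q := fun hinv =>
    false_of_invariant h.isP hE hZE (fun z hz => h.z_pow hz) hinv hgS hgE (hn g hgS)
      (fun e he => h.comm_S hne hgS (hES he)) (fun z hz => h.z_central hz hgS)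
  have hab : ∀ a ∈ E, ∀ b ∈ E, a * b = b * a := by
    by_contra hab
    exact hnot fun β _ z hz => h.invariant_of_nonab hZE
      (fun a ha b hb => h.comm_S hne (hES ha) (hES hb)) hab β z hz
  have hidx : Nat.card S ≤ p * Nat.card E := by
    by_contra hbig
    refine hnot (invariant_of_pick h.isP h.sat hE hab hZE h.card_z fun e he => ?_)
    by_contra hno
    push Not at hno
    have hCE : S ⊓ Subgroup.centralizer {e} ≤ E := fun g' hg => by
      by_contra hgE'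
      exact hno g' hg.1 hgE' (hn g' hg.1) (fun x hx => h.comm_S hne hg.1 (hES hx))
        (Subgroup.mem_centralizer_singleton_iff.mp hg.2)
    exact hbig ((h.card_le_centralizer le_rfl e fun y hy => h.comm_S hne (hES he) hy).trans
      (Nat.mul_le_mul le_rfl (Subgroup.card_le_of_le hCE)))
  have hS : Nat.card S = p * Nat.card E := le_antisymm hidx
    (SqCenter.eq_of_lt h.isP le_rfl (EssentialGen.lt_of_essential h.isP h.sat hE))
  have c1 : Nat.card E ≤ p ^ 3 := by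
    have hle : E ⊓ Subgroup.centralizer {g} ≤ cen S := fun k hk =>
      h.cen_of_index le_rfl hES hgS hgE hidx hk.1 (fun e he => hab e he k hk.1)
        (Subgroup.mem_centralizer_singleton_iff.mp hk.2).symm
    haveI : Finite (cen S) := finite_of_le (inf_le_left : cen S ≤ S)
    refine ((h.card_le_centralizer hES g fun y hy => h.comm_S hne hgS (hES hy)).trans
      (Nat.mul_le_mul le_rfl ((Subgroup.card_le_of_le hle).trans (h.card_cen hne).le))).trans
      (le_of_eq (by ring))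
  have c2 : p ^ 3 ≤ Nat.card E := by
    have := h.card_Q
    have e := h.idx
    rw [hS] at e
    rwa [Nat.eq_of_mul_eq_mul_left hp.out.pos e]
  refine ⟨hn, hab, le_antisymm c1 c2, hS, ?_⟩
  by_contra hno
  push Not at hno
  exact hnot hno

end ExtIdx

end Cfsg.Lib.Fusion.ExtraspecialIndex
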