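import Cfsg.Agent.Fusion.ExtraspecialCenter

/-!
With an extraspecial subgroup of index `p` and trivial core, the centre has order `p`.
-/

set_option autoImplicit false
set_option linter.style.haveILetI false
set_option linter.unusedSectionVars false

namespace Cfsg.Lib.Fusion.ExtraspecialIndex

open Cfsg Cfsg.FusionSystem Cfsg.Lib.Fusion

universe u

variable {Ω : Type u} [Group Ω] {S : Subgroup Ω} {F : FusionSystem S} {p : ℕ}

theorem conjAut_mul_fix {P : Subgroup Ω} {x : Ω} (hx : x ∈ Subgroup.normalizer (P : Set Ω)) {e : P}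
    (he : x * (e : Ω) = (e : Ω) * x) : conjAut P x hx e = e :=
  Subtype.ext (by rw [conjAut_apply, he, mul_inv_cancel_right])

namespace ExtIdx

variable [Finite S] [hp : Fact p.Prime] {Q E : Subgroup Ω} (h : ExtIdx F p Q)
include h

/-- A mover moves the centre off the centre of `S`. -/
theorem not_cen (hne : cen S ≠ cen Q) (hE : F.IsEssential p E)
    (hn : ∀ g ∈ S, g ∈ Subgroup.normalizer (E : Set Ω))
    {β : MulAut E} (hβ : β ∈ F.autGroup E) {z : E} (hz : (z : Ω) ∈ cen Q)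
    (hbz : ((β z : E) : Ω) ∉ cen Q) : ((β z : E) : Ω) ∉ cen S := by
  intro hcen
  have hES := hE.1.1
  haveI := finite_of_le hES
  haveI : Finite (cen S) := finite_of_le (inf_le_left : cen S ≤ S)
  haveI : Finite (MulAut E) :=
    Finite.of_injective (fun f : MulAut E => (f : E → E)) DFunLike.coe_injective
  have hCE := h.cen_le_essential hE
  have hZE : cen Q ≤ E := h.z_le_cen.trans hCE
  have hzp : z ^ p = 1 := Subtype.ext (by rw [Subgroup.coe_pow]; exact h.z_pow hz)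
  have hwp : (β z) ^ p = 1 := by rw [← map_pow, hzp, map_one]
  have hz1 : z ≠ 1 := fun e => hbz (by rw [e, map_one]; exact (cen Q).one_mem)
  obtain ⟨g, hgS, hgE⟩ := SetLike.exists_of_lt (EssentialGen.lt_of_essential h.isP h.sat hE)
  set w := β z
  set N := Subgroup.zpowers w
  set M := (cen S).subgroupOf E
  have hNM : N ≤ M := Subgroup.zpowers_le.2 hcen
  let K : Subgroup (MulAut E) :=
    { carrier := {α | α ∈ F.autGroup E ∧ (∀ x ∈ N, α x = x) ∧ (∀ x ∈ M, α x * x⁻¹ ∈ N) ∧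
        ∀ x, α x * x⁻¹ ∈ M}
      one_mem' := ⟨(F.autGroup E).one_mem, fun _ _ => rfl, fun x _ => by simp, fun x => by simp⟩
      mul_mem' := by
        rintro a b ⟨ha, a1, a2, a3⟩ ⟨hb, b1, b2, b3⟩
        refine ⟨(F.autGroup E).mul_mem ha hb, fun x hx => by rw [MulAut.mul_apply, b1 x hx, a1 x hx],
          fun x hx => ?_, fun x => ?_⟩
        · have hbx : b x ∈ M := by simpa using M.mul_mem (hNM (b2 x hx)) hx
          simpa [MulAut.mul_apply, mul_assoc] using N.mul_mem (a2 _ hbx) (b2 x hx)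
        · simpa [MulAut.mul_apply, mul_assoc] using M.mul_mem (a3 (b x)) (b3 x)
      inv_mem' := by
        rintro a ⟨ha, a1, a2, a3⟩
        refine ⟨(F.autGroup E).inv_mem ha, fun x hx => ?_, fun x hx => ?_, fun x => ?_⟩
        · conv_lhs => rw [← a1 x hx]
          simp
        · have hax : a⁻¹ x ∈ M := by
            have := M.mul_mem (M.inv_mem (a3 (a⁻¹ x))) hx
            simpa using this
          simpa using N.inv_mem (a2 _ hax)
        · simpa using M.inv_mem (a3 (a⁻¹ x)) }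
  have hMexp : ∀ x ∈ M, x ^ p = 1 := fun x hx => Subtype.ext (by
    rw [Subgroup.coe_pow]
    exact h.cen_pow hne hcen hbz (by rw [← Subgroup.coe_pow, hwp]; rfl) hx)
  have hK : IsPGroup p K := by
    rintro ⟨α, hα, a1, a2, a3⟩
    refine ⟨2, Subtype.ext ?_⟩
    show α ^ p ^ 2 = 1
    rw [pow_two]
    exact chain_pow (fun x hx => hMexp x (hNM hx)) hMexp a1 a2 a3
  have hTK : autInducedBy S E ≤ K := by
    intro α hα
    obtain ⟨s, hs, es⟩ := mem_autInducedBy.mp hα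
    have hfix : ∀ x ∈ M, α x = x := fun x hx => Subtype.ext (by
      rw [es, show s * (x : Ω) = (x : Ω) * s from hx.2 s hs, mul_inv_cancel_right])
    exact ⟨autInducedBy_le hES hα, fun x hx => hfix x (hNM hx), fun x hx => by simp [hfix x hx],
      fun x => h.z_le_cen (show ((α x * x⁻¹ : E) : Ω) ∈ cen Q by
        rw [Subgroup.coe_mul, Subgroup.coe_inv, es]; exact h.comm_S hne hs (hES x.2))⟩
  set t := conjAut E g (hn g hgS)
  have ht : t ∈ autInducedBy S E := conjAut_mem_autInducedBy (hn g hgS) hgS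
  have hdisp : ∀ e : E, ∃ i : ℤ, t e * e⁻¹ = z ^ i := fun e => by
    haveI := finite_of_le h.z_le
    have hgen : Subgroup.zpowers (z : Ω) = cen Q := Subgroup.eq_of_le_of_card_ge (Subgroup.zpowers_le.2 hz)
      (by rw [h.card_z, Nat.card_zpowers, orderOf_eq_prime (h.z_pow hz) (fun e => hz1 (Subtype.ext e))])
    have hm : ((t e * e⁻¹ : E) : Ω) ∈ cen Q := by
      rw [Subgroup.coe_mul, Subgroup.coe_inv, conjAut_apply]
      exact h.comm_S hne hgS (hES e.2)
    obtain ⟨i, hi⟩ := hgen.ge hm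
    exact ⟨i, Subtype.ext (by rw [Subgroup.coe_zpow]; exact hi.symm)⟩
  have htz : t z = z := conjAut_mul_fix _ (h.z_central hz hgS)
  have hmem : β * t * β⁻¹ ∈ K := by
    have hd : ∀ x : E, (β * t * β⁻¹) x * x⁻¹ ∈ N := fun x => by
      obtain ⟨i, hi⟩ := hdisp (β⁻¹ x)
      refine ⟨i, ?_⟩
      have := congrArg β hi
      rw [map_mul, map_inv, MulAut.apply_inv_self, map_zpow] at this
      exact this.symm
    refine ⟨(F.autGroup E).mul_mem ((F.autGroup E).mul_mem hβ (autInducedBy_le hES ht))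
      ((F.autGroup E).inv_mem hβ), ?_, fun x _ => hd x, fun x => hNM (hd x)⟩
    rintro _ ⟨i, rfl⟩
    rw [map_zpow]
    congr 1
    simp only [w, MulAut.mul_apply, MulAut.inv_apply_self, htz]
  obtain ⟨-, hfa, -⟩ := fullyNormalized_props h.isP h.sat hE.2.1
  obtain ⟨R, hR⟩ := hfa.2
  have hKA : K ≤ F.autGroup E := fun _ ha => ha.1
  have he := R.3 (hK.of_injective (Subgroup.subgroupOfEquivOfLe hKA).toMonoidHom
    (Subgroup.subgroupOfEquivOfLe hKA).injective) (hR ▸ fun a ha => hTK ha)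
  have h2 : (⟨_, hKA hmem⟩ : F.autGroup E) ∈ (R : Subgroup (F.autGroup E)) := he ▸ hmem
  rw [hR] at h2
  obtain ⟨s, hs, es⟩ := mem_autInducedBy.mp (Subgroup.mem_subgroupOf.mp h2)
  refine hgE ?_
  refine hE.1.2 E (isConj_refl hES) (mem_centralizerIn.mpr ⟨hgS, fun e he' => ?_⟩)
  obtain ⟨i, hi⟩ := hdisp ⟨e, he'⟩
  by_cases hip : (p : ℤ) ∣ i
  · obtain ⟨m, rfl⟩ := hip
    rw [zpow_mul, zpow_natCast, hzp, one_zpow, mul_inv_eq_one] at hi
    exact (conjAut_apply (hn g hgS) ⟨e, he'⟩).symm.trans (congrArg Subtype.val hi)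
  · exfalso
    have e1 : (β * t * β⁻¹) (β ⟨e, he'⟩) * (β ⟨e, he'⟩)⁻¹ = w ^ i := by
      rw [MulAut.mul_apply, MulAut.mul_apply, MulAut.inv_apply_self, ← map_inv, ← map_mul, hi, map_zpow]
    have hz' : ((w ^ i : E) : Ω) ∈ cen Q := by
      rw [← e1, Subgroup.coe_mul, Subgroup.coe_inv, es]
      exact h.comm_S hne hs (hES (β ⟨e, he'⟩).2)
    rw [Subgroup.coe_zpow] at hz'
    exact hbz (h.not_mem_of_pow (by rw [← Subgroup.coe_pow, hwp]; rfl) hip hz')

theorem mover_inv {β : MulAut E} {z : E} (hz : (z : Ω) ∈ cen Q)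
    (hbz : ((β z : E) : Ω) ∉ cen Q) : ((β⁻¹ z : E) : Ω) ∉ cen Q := by
  intro hc
  obtain ⟨y, hy, -, hgen⟩ := h.exists_gen
  have hz1 : (z : Ω) ≠ 1 := fun e => hbz (by
    rw [show z = 1 from Subtype.ext e, map_one]; exact (cen Q).one_mem)
  haveI := finite_of_le h.z_le
  have hgen' : Subgroup.zpowers (z : Ω) = cen Q := Subgroup.eq_of_le_of_card_ge (Subgroup.zpowers_le.2 hz)
    (by rw [h.card_z, Nat.card_zpowers, orderOf_eq_prime (h.z_pow hz) hz1])
  obtain ⟨i, hi⟩ := hgen'.ge hc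
  have e : β⁻¹ z = z ^ i := Subtype.ext (by rw [Subgroup.coe_zpow]; exact hi.symm)
  have e2 : z = β z ^ i := by
    have := congrArg β e
    rwa [MulAut.apply_inv_self, map_zpow] at this
  by_cases hip : (p : ℤ) ∣ i
  · obtain ⟨m, rfl⟩ := hip
    refine hz1 ?_
    have e3 := congrArg Subtype.val e2
    rw [Subgroup.coe_zpow, zpow_mul, zpow_natCast, ← Subgroup.coe_pow, ← map_pow,
      show z ^ p = 1 from Subtype.ext (by rw [Subgroup.coe_pow]; exact h.z_pow hz), map_one,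
      Subgroup.coe_one, one_zpow] at e3
    exact e3
  · refine hbz (h.not_mem_of_pow ?_ hip (X := cen Q) ?_)
    · rw [← Subgroup.coe_pow, ← map_pow,
        show z ^ p = 1 from Subtype.ext (by rw [Subgroup.coe_pow]; exact h.z_pow hz), map_one]
      rfl
    · rw [← Subgroup.coe_zpow, ← e2]
      exact hz

/-- The centres of the moved and fixed transvections meet outside the centre of `Q`. -/
theorem exists_line (hne : cen S ≠ cen Q) (hE : F.IsEssential p E)
    (hn : ∀ g ∈ S, g ∈ Subgroup.normalizer (E : Set Ω)) (hcard : Nat.card E = p ^ 3)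
    {β : MulAut E} (hβ : β ∈ F.autGroup E) {z : E} (hz : (z : Ω) ∈ cen Q)
    (hbz : ((β z : E) : Ω) ∉ cen Q) :
    ∃ c : E, (c : Ω) ∈ cen S ∧ ((β⁻¹ c : E) : Ω) ∈ cen S ∧ (c : Ω) ∉ cen Q ∧ c ^ p = 1 := by
  haveI := finite_of_le hE.1.1
  have hCE := h.cen_le_essential hE
  set M := (cen S).subgroupOf E
  set Y := M.map β.toMonoidHom
  have hY : Nat.card Y = p * p := by
    rw [Subgroup.card_map_of_injective β.injective,
      Nat.card_congr (Subgroup.subgroupOfEquivOfLe hCE).toEquiv, h.card_cen hne]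
  have hM : Nat.card M = p * p := by
    rw [Nat.card_congr (Subgroup.subgroupOfEquivOfLe hCE).toEquiv, h.card_cen hne]
  have h1 : p * p ≤ p * Nat.card (Y ⊓ M : Subgroup E) := by
    have := card_le_inf (H := Y) (K := M) (L := (⊤ : Subgroup E)) (p := p) le_top le_top
      (by rw [Subgroup.card_top, hcard, hY]; exact le_of_eq (by ring))
    rwa [hM] at this
  have h2 := Nat.le_of_mul_le_mul_left h1 hp.out.pos
  have hEp : IsPGroup p E := h.isP.of_injective _ (Subgroup.inclusion_injective hE.1.1)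
  obtain ⟨k, hk⟩ := IsPGroup.iff_card.mp (hEp.to_subgroup (Y ⊓ M))
  have hdvd : p ∣ Nat.card (Y ⊓ M : Subgroup E) := by
    rw [hk] at h2 ⊢
    refine dvd_pow_self p fun e => ?_
    rw [e, pow_zero] at h2
    exact absurd h2 (not_le.2 hp.out.one_lt)
  obtain ⟨⟨c, hcY, hcM⟩, hc⟩ := exists_prime_orderOf_dvd_card' p hdvd
  have hcp : c ^ p = 1 := by
    rw [← hc, ← Subgroup.orderOf_coe]
    exact pow_orderOf_eq_one _
  have hcu : ((β⁻¹ c : E) : Ω) ∈ cen S := by
    obtain ⟨u, hu, rfl⟩ := hcY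
    show ((β⁻¹ (β u) : E) : Ω) ∈ cen S
    rw [MulAut.inv_apply_self]
    exact hu
  refine ⟨c, hcM, hcu, fun hcZ => ?_, hcp⟩
  have hc1 : c ≠ 1 := fun e => hp.out.ne_one (hc.symm.trans (by simp [e]))
  haveI := finite_of_le h.z_le
  obtain ⟨i, hi⟩ := (Subgroup.eq_of_le_of_card_ge (Subgroup.zpowers_le.2 hcZ)
    (by rw [h.card_z, Nat.card_zpowers, orderOf_eq_prime (by rw [← Subgroup.coe_pow, hcp]; rfl)
      (fun e => hc1 (Subtype.ext e))])).ge hz
  have e : z = c ^ i := Subtype.ext (by rw [Subgroup.coe_zpow]; exact hi.symm)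
  refine h.not_cen hne hE hn ((F.autGroup E).inv_mem hβ) hz (h.mover_inv hz hbz) ?_
  rw [e, map_zpow, Subgroup.coe_zpow]
  exact (cen S).zpow_mem hcu i

/-- An automorphism of `S` inverting `cen Q` and fixing the line. -/
theorem exists_inverting (hne : cen S ≠ cen Q) (hE : F.IsEssential p E)
    (hn : ∀ g ∈ S, g ∈ Subgroup.normalizer (E : Set Ω)) (hab : ∀ a ∈ E, ∀ b ∈ E, a * b = b * a)
    (hcard : Nat.card E = p ^ 3) (hidx : Nat.card S = p * Nat.card E)
    {β : MulAut E} (hβ : β ∈ F.autGroup E) {z : E} (hz : (z : Ω) ∈ cen Q)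
    (hbz : ((β z : E) : Ω) ∉ cen Q) {c : E} (hc : (c : Ω) ∈ cen S)
    (hcu : ((β⁻¹ c : E) : Ω) ∈ cen S) (hcZ : (c : Ω) ∉ cen Q) :
    ∃ φ ∈ F.autGroup S, (∀ x : S, (x : Ω) ∈ cen Q → φ x = x⁻¹) ∧
      ∀ x : S, (x : Ω) = (c : Ω) → φ x = x := by
  have hES := hE.1.1
  haveI := finite_of_le hES
  haveI := finite_of_le h.z_le
  obtain ⟨g, hgS, hgE⟩ := SetLike.exists_of_lt (EssentialGen.lt_of_essential h.isP h.sat hE)
  set t := conjAut E g (hn g hgS)
  have htA : t ∈ F.autGroup E :=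
    autInducedBy_le hES (conjAut_mem_autInducedBy (hn g hgS) hgS)
  set w := β z with hw
  have hwc := h.not_cen hne hE hn hβ hz hbz
  have hz1 : z ≠ 1 := fun e => hbz (by rw [hw, e, map_one]; exact (cen Q).one_mem)
  have hzp : z ^ p = 1 := Subtype.ext (by rw [Subgroup.coe_pow]; exact h.z_pow hz)
  have hwp : w ^ p = 1 := by rw [hw, ← map_pow, hzp, map_one]
  have hfixcen : ∀ (s : Ω) (hs : s ∈ S) (x : E), (x : Ω) ∈ cen S → conjAut E s (hn s hs) x = x :=
    fun s hs x hx => conjAut_mul_fix _ (hx.2 s hs)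
  have hdisp : ∀ (s : Ω) (hs : s ∈ S) (e : E), ∃ i : ℤ, conjAut E s (hn s hs) e = e * z ^ i := by
    intro s hs e
    have hgen : Subgroup.zpowers (z : Ω) = cen Q := Subgroup.eq_of_le_of_card_ge (Subgroup.zpowers_le.2 hz)
      (by rw [h.card_z, Nat.card_zpowers, orderOf_eq_prime (h.z_pow hz) (fun e => hz1 (Subtype.ext e))])
    obtain ⟨i, hi⟩ := hgen.ge (h.comm_S hne hs (hES e.2))
    refine ⟨i, Subtype.ext ?_⟩
    rw [conjAut_apply, Subgroup.coe_mul, Subgroup.coe_zpow, hab _ e.2 _ (E.zpow_mem z.2 i)]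
    exact (eq_mul_of_mul_inv_eq hi.symm)
  have hcen_of_fix : ∀ e : E, t e = e → (e : Ω) ∈ cen S := fun e he =>
    h.cen_of_index le_rfl hES hgS hgE hidx.le e.2 (fun x hx => hab x hx e e.2) (by
      have := congrArg Subtype.val he
      rw [conjAut_apply, mul_inv_eq_iff_eq_mul] at this
      exact this)
  have htz : t z = z := hfixcen g hgS z (h.z_le_cen hz)
  obtain ⟨j, hj⟩ := hdisp g hgS w
  have hjp : ¬ (p : ℤ) ∣ j := fun ⟨m, hm⟩ => hwc (hcen_of_fix w (by
    rw [show t w = w * z ^ j from hj, hm, zpow_mul, zpow_natCast, hzp, one_zpow, mul_one]))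
  obtain ⟨l, hl⟩ := hdisp g hgS (β⁻¹ z)
  have hlp : ¬ (p : ℤ) ∣ l := fun ⟨m, hm⟩ =>
    h.not_cen hne hE hn ((F.autGroup E).inv_mem hβ) hz (h.mover_inv hz hbz) (hcen_of_fix _ (by
      rw [show t (β⁻¹ z) = β⁻¹ z * z ^ l from hl, hm, zpow_mul, zpow_natCast, hzp, one_zpow, mul_one]))
  obtain ⟨n, hnn⟩ := RankTwo.exists_nat_pow hzp hjp (-1)
  obtain ⟨m, hmm⟩ := RankTwo.exists_nat_pow hwp hlp 1
  set t' := β * t * β⁻¹ with ht'
  have htw' : t' w = w := by simp only [ht', hw, MulAut.mul_apply, MulAut.inv_apply_self, htz]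
  have ht'z : t' z = z * w ^ l := by
    rw [ht', MulAut.mul_apply, MulAut.mul_apply, show t (β⁻¹ z) = β⁻¹ z * z ^ l from hl, map_mul,
      map_zpow, MulAut.apply_inv_self]
  have htc : t c = c := hfixcen g hgS c hc
  have ht'c : t' c = c := by
    rw [ht', MulAut.mul_apply, MulAut.mul_apply, hfixcen g hgS _ hcu, MulAut.apply_inv_self]
  set a := t ^ n
  set b := t' ^ m
  have haz : a z = z := RankTwo.pow_fix htz n
  have haw : a w = w * z⁻¹ := by
    rw [(RankTwo.pow_transvection (show t w = w * z ^ j from hj) (by rw [map_zpow, htz]) n).1, hnn,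
      zpow_neg_one]
  have hbw : b w = w := RankTwo.pow_fix htw' m
  have hbz' : b z = z * w := by
    rw [(RankTwo.pow_transvection ht'z (by rw [map_zpow, htw']) m).1, hmm, zpow_one]
  have hbc : b c = c := RankTwo.pow_fix ht'c m
  have hac : a c = c := RankTwo.pow_fix htc n
  set ν := b * a * b
  have hνz : ν z = w := by
    have e : z * (w * z⁻¹) = w := by
      rw [← mul_assoc, show z * w = w * z from Subtype.ext (hab _ z.2 _ w.2), mul_inv_cancel_right]
    simp only [ν, MulAut.mul_apply, hbz', map_mul, haz, haw]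
    rw [hbw, map_inv, hbz']
    calc z * w * (w * (z * w)⁻¹) = z * w * (z * w)⁻¹ * w := by
          rw [show w * (z * w)⁻¹ = (z * w)⁻¹ * w from Subtype.ext (hab _ w.2 _ ((z * w)⁻¹ : E).2),
            ← mul_assoc]
      _ = w := by rw [mul_inv_cancel, one_mul]
  have hνw : ν w = z⁻¹ := by
    simp only [ν, MulAut.mul_apply, hbw, haw, map_mul, map_inv, hbz']
    group
  have hνc : ν c = c := by simp only [ν, MulAut.mul_apply, hbc, hac]
  set ι := ν * ν
  have hιz : ι z = z⁻¹ := by rw [show ι = ν * ν from rfl, MulAut.mul_apply, hνz, hνw]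
  have hιw : ι w = w⁻¹ := by rw [show ι = ν * ν from rfl, MulAut.mul_apply, hνw, map_inv, hνz]
  have hιc : ι c = c := by rw [show ι = ν * ν from rfl, MulAut.mul_apply, hνc, hνc]
  have hιA : ι ∈ F.autGroup E := by
    have hb : b ∈ F.autGroup E := (F.autGroup E).pow_mem
      ((F.autGroup E).mul_mem ((F.autGroup E).mul_mem hβ htA) ((F.autGroup E).inv_mem hβ)) m
    have ha : a ∈ F.autGroup E := (F.autGroup E).pow_mem htA n
    exact (F.autGroup E).mul_mem ((F.autGroup E).mul_mem ((F.autGroup E).mul_mem hb ha) hb)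
      ((F.autGroup E).mul_mem ((F.autGroup E).mul_mem hb ha) hb)
  -- it commutes with the automorphisms induced by `S`
  have hcomm : ∀ τ ∈ autInducedBy S E, ι * τ * ι⁻¹ ∈ autInducedBy S E := by
    intro τ hτ
    obtain ⟨s, hs, es⟩ := mem_autInducedBy.mp hτ
    have hτ' : τ = conjAut E s (hn s hs) := MulEquiv.ext fun x => Subtype.ext (by
      rw [es, conjAut_apply])
    suffices ι * τ = τ * ι by rw [this, mul_inv_cancel_right]; exact hτ
    have hτz : τ z = z := by rw [hτ']; exact hfixcen s hs z (h.z_le_cen hz)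
    have hτc : τ c = c := by rw [hτ']; exact hfixcen s hs c hc
    obtain ⟨i, hi⟩ : ∃ i : ℤ, τ w = w * z ^ i := by rw [hτ']; exact hdisp s hs w
    let L := MonoidHom.eqLocus (ι * τ).toMonoidHom (τ * ι).toMonoidHom
    have hzL : z ∈ L := by
      show ι (τ z) = τ (ι z)
      rw [hτz, hιz, map_inv, hτz]
    have hcL : c ∈ L := by
      show ι (τ c) = τ (ι c)
      rw [hτc, hιc, hτc]
    have hwL : w ∈ L := by
      show ι (τ w) = τ (ι w)
      rw [hi, map_mul, map_zpow, hιw, hιz, map_inv, hi, mul_inv_rev,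
        inv_zpow]
      exact Subtype.ext (hab _ (w⁻¹ : E).2 _ ((z ^ i)⁻¹ : E).2)
    let L' := L.map E.subtype
    have hm : ∀ {x : E}, x ∈ L → (x : Ω) ∈ L' := fun hx => ⟨_, hx, rfl⟩
    have hL'E : L' ≤ E := Subgroup.map_subtype_le _
    set W := cen Q ⊔ Subgroup.zpowers (c : Ω)
    have hZL : cen Q ≤ L' := by
      have hgen : Subgroup.zpowers (z : Ω) = cen Q :=
        Subgroup.eq_of_le_of_card_ge (Subgroup.zpowers_le.2 hz) (by
          rw [h.card_z, Nat.card_zpowers, orderOf_eq_prime (h.z_pow hz) (fun e => hz1 (Subtype.ext e))])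
      rw [← hgen, Subgroup.zpowers_le]
      exact hm hzL
    have h1 : cen Q < W := lt_of_le_of_ne le_sup_left fun e =>
      hcZ (e.symm ▸ Subgroup.mem_sup_right (Subgroup.mem_zpowers _))
    have h2 : W < L' := lt_of_le_of_ne (sup_le hZL (Subgroup.zpowers_le.2 (hm hcL))) fun e =>
      hwc ((sup_le h.z_le_cen (Subgroup.zpowers_le.2 hc) : W ≤ cen S) (e.ge (hm hwL)))
    have c1 := SqCenter.eq_of_lt h.isP (h2.le.trans (hL'E.trans hES)) h1
    have c2 := SqCenter.eq_of_lt h.isP (hL'E.trans hES) h2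
    rw [h.card_z] at c1
    have htop : L' = E := Subgroup.eq_of_le_of_card_ge hL'E (by
      calc Nat.card E = p * (p * p) := by rw [hcard]; ring
        _ ≤ p * Nat.card W := Nat.mul_le_mul le_rfl c1
        _ ≤ _ := c2)
    refine MulEquiv.ext fun x => ?_
    obtain ⟨y, hy, hyx⟩ := htop.ge x.2
    rw [← show y = x from Subtype.ext hyx]
    exact hy
  obtain ⟨k, hk, hag⟩ := RankTwo.exists_extension_of_normalizing h.isP h.sat hE.2.1
    (K := autInducedBy S E) (isPGroup_autInducedBy h.isP E) (autInducedBy_le hES) le_rfl hιA hcomm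
  have hkS : IsMap F S k := hk.mono fun s hs => ⟨hs, hn s hs⟩
  obtain ⟨φ, hφ, eφ⟩ := hkS.exists_aut (img_eq_of_apply hkS le_rfl fun u hu => hkS.mem_S hu)
  have key : ∀ (x : S) (e : E), (x : Ω) = (e : Ω) → ((φ x : S) : Ω) = ((ι e : E) : Ω) := fun x e hx => by
    rw [← autFun_apply, eφ _ x.2, hx, hag _ e.2, autFun_apply]
  refine ⟨φ, hφ, fun x hx => Subtype.ext ?_, fun x hx => Subtype.ext ?_⟩
  · have hgen : Subgroup.zpowers (z : Ω) = cen Q := Subgroup.eq_of_le_of_card_ge (Subgroup.zpowers_le.2 hz)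
      (by rw [h.card_z, Nat.card_zpowers, orderOf_eq_prime (h.z_pow hz) (fun e => hz1 (Subtype.ext e))])
    obtain ⟨i, hi⟩ := hgen.ge hx
    rw [key x (z ^ i) (by rw [Subgroup.coe_zpow]; exact hi.symm), map_zpow, hιz, Subgroup.coe_zpow,
      Subgroup.coe_inv, Subgroup.coe_inv, inv_zpow]
    exact congrArg _ hi
  · rw [key x c hx, hιc, hx]

theorem inner_of_pow {ψ : MulAut S} (hψ : ψ ∈ F.autGroup S) (hk : ∃ k : ℕ, ψ ^ p ^ k = 1) {x : S}
    (hx : (x : Ω) ∈ cen S) : ψ x = x := by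
  have hSn : F.IsFullyNormalized S := ⟨le_rfl, fun R hR => by
    rw [show R = S from Subgroup.eq_of_le_of_card_ge (isConj_le hR).2 (isConj_card hR).ge]⟩
  obtain ⟨-, hfa, -⟩ := fullyNormalized_props h.isP h.sat hSn
  obtain ⟨R, hR⟩ := hfa.2
  haveI : Finite (MulAut S) :=
    Finite.of_injective (fun f : MulAut S => (f : S → S)) DFunLike.coe_injective
  haveI hRn : (R : Subgroup (F.autGroup S)).Normal := ⟨fun a ha b => by
    rw [hR] at ha ⊢
    obtain ⟨s, hs, es⟩ := mem_autInducedBy.mp ha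
    refine Subgroup.mem_subgroupOf.mpr (mem_autInducedBy.mpr
      ⟨((b : MulAut S) ⟨s, hs⟩ : S), SetLike.coe_mem _, fun y => ?_⟩)
    have e : (a : MulAut S) ((b : MulAut S)⁻¹ y) = ⟨s, hs⟩ * (b : MulAut S)⁻¹ y * (⟨s, hs⟩ : S)⁻¹ :=
      Subtype.ext (es _)
    rw [Subgroup.coe_mul, Subgroup.coe_mul, MulAut.mul_apply, MulAut.mul_apply, Subgroup.coe_inv, e,
      map_mul, map_mul, map_inv, MulAut.apply_inv_self]
    rfl⟩
  obtain ⟨k, hk⟩ := hk
  have hz : IsPGroup p (Subgroup.zpowers (⟨ψ, hψ⟩ : F.autGroup S)) := by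
    rintro ⟨_, i, rfl⟩
    refine ⟨k, Subtype.ext ?_⟩
    rw [Subgroup.coe_pow, Subgroup.coe_one, ← zpow_natCast, ← zpow_mul, mul_comm, zpow_mul, zpow_natCast,
      show (⟨ψ, hψ⟩ : F.autGroup S) ^ p ^ k = 1 from Subtype.ext hk, one_zpow]
  have he := R.3 (hz.to_sup_of_normal_right R.2) le_sup_right
  have h2 : (⟨ψ, hψ⟩ : F.autGroup S) ∈ (R : Subgroup (F.autGroup S)) :=
    he ▸ Subgroup.mem_sup_left (Subgroup.mem_zpowers _)
  rw [hR] at h2
  obtain ⟨s, hs, es⟩ := mem_autInducedBy.mp (Subgroup.mem_subgroupOf.mp h2)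
  exact Subtype.ext (by rw [es, show s * (x : Ω) = (x : Ω) * s from hx.2 s hs, mul_inv_cancel_right])

/-- The line fixed by an inverting automorphism is unique. -/
theorem line_unique (hp2 : p ≠ 2) (hne : cen S ≠ cen Q) {φ φ' : MulAut S} (hφ : φ ∈ F.autGroup S)
    (hφ' : φ' ∈ F.autGroup S) {c c' : S} (hc : (c : Ω) ∈ cen S) (hc' : (c' : Ω) ∈ cen S)
    (hcZ' : (c' : Ω) ∉ cen Q) (hz : ∀ x : S, (x : Ω) ∈ cen Q → φ x = x⁻¹)
    (hz' : ∀ x : S, (x : Ω) ∈ cen Q → φ' x = x⁻¹) (hfix : φ c = c) (hfix' : φ' c' = c') :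
    (c : Ω) ∈ Subgroup.zpowers (c' : Ω) := by
  haveI : Finite (cen S) := finite_of_le (inf_le_left : cen S ≤ S)
  haveI : Finite (MulAut S) :=
    Finite.of_injective (fun f : MulAut S => (f : S → S)) DFunLike.coe_injective
  obtain ⟨z, hzQ, hz1, hgen⟩ := h.exists_gen
  have hle : cen Q ⊔ Subgroup.zpowers (c' : Ω) ≤ cen S :=
    sup_le h.z_le_cen (Subgroup.zpowers_le.2 hc')
  have hlt : cen Q < cen Q ⊔ Subgroup.zpowers (c' : Ω) := lt_of_le_of_ne le_sup_left fun e =>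
    hcZ' (e.symm ▸ Subgroup.mem_sup_right (Subgroup.mem_zpowers _))
  have hsup := Subgroup.eq_of_le_of_card_ge hle (by
    have := SqCenter.eq_of_lt h.isP (hle.trans inf_le_left) hlt
    rwa [h.card_z, ← h.card_cen hne] at this)
  have hcn : Subgroup.zpowers (c' : Ω) ≤ Subgroup.normalizer (cen Q : Set Ω) := Subgroup.zpowers_le.2
    (Subgroup.centralizer_le_normalizer _ fun q hq => hc'.2 q (h.z_le hq))
  obtain ⟨u, hu, _, ⟨j, rfl⟩, he⟩ := (Cfsg.Lib.Coprime.mem_sup_of_le_normalizer hcn).mp (hsup.ge hc)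
  obtain ⟨i, hi⟩ := hgen u hu
  let z₁ : S := ⟨z, h.z_le hzQ⟩
  have hz1' : z₁ ^ p = 1 := Subtype.ext (by rw [Subgroup.coe_pow]; exact h.z_pow hzQ)
  have hce : c = z₁ ^ i * c' ^ j := Subtype.ext (by
    rw [Subgroup.coe_mul, Subgroup.coe_zpow, Subgroup.coe_zpow]
    show (c : Ω) = z ^ i * (c' : Ω) ^ j
    rw [hi, he])
  have hcomm : ∀ x : S, x * c = c * x := fun x => Subtype.ext (hc.2 x x.2)
  set ψ := φ' * φ
  have hψz : ψ z₁ = z₁ := by
    rw [show ψ = φ' * φ from rfl, MulAut.mul_apply, hz z₁ hzQ, map_inv, hz' z₁ hzQ, inv_inv]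
  set d := z₁ ^ (-(2 * i)) with hd
  have hψc : ψ c = c * d := by
    rw [show ψ = φ' * φ from rfl, MulAut.mul_apply, hfix, ← hcomm d]
    conv_lhs => rw [hce, map_mul, map_zpow, map_zpow, hz' z₁ hzQ, hfix']
    conv_rhs => rw [hce, ← mul_assoc, hd, ← zpow_add]
    rw [inv_zpow, ← zpow_neg, show -(2 * i) + i = -i by ring]
  obtain ⟨k, m, hm, hom⟩ := Nat.exists_eq_pow_mul_and_not_dvd (orderOf_pos ψ).ne' p hp.out.ne_one
  have hpm := h.inner_of_pow ((F.autGroup S).pow_mem ((F.autGroup S).mul_mem hφ' hφ) m)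
    ⟨k, by rw [← pow_mul, mul_comm m, ← hom, pow_orderOf_eq_one]⟩ hc
  rw [(RankTwo.pow_transvection hψc (by rw [hd, map_zpow, hψz]) m).1, mul_eq_left, hd,
    ← zpow_natCast, ← zpow_mul] at hpm
  have hdvd := RankTwo.dvd_of_zpow_eq_one hz1' (fun e => hz1 (congrArg Subtype.val e)) hpm
  have hip : (p : ℤ) ∣ i := by
    have hP := Nat.prime_iff_prime_int.mp hp.out
    rcases hP.dvd_or_dvd hdvd with h1 | h1
    · rw [dvd_neg] at h1
      rcases hP.dvd_or_dvd h1 with h2 | h2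
      · exfalso
        have : p ∣ 2 := by exact_mod_cast h2
        exact hp2 ((Nat.prime_dvd_prime_iff_eq hp.out Nat.prime_two).mp this)
      · exact h2
    · exact absurd (Int.natCast_dvd_natCast.mp h1) hm
  obtain ⟨i', rfl⟩ := hip
  rw [zpow_mul, zpow_natCast, hz1', one_zpow, one_mul] at hce
  exact ⟨j, by rw [hce, Subgroup.coe_zpow]⟩

theorem cen_eq (hp2 : p ≠ 2) (hO : F.core = ⊥) : cen S = cen Q := by
  classical
  by_contra hne
  haveI : Finite (cen S) := finite_of_le (inf_le_left : cen S ≤ S)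
  have hnorm : ∀ U : Subgroup Ω, U ≤ cen S → U ≠ ⊥ → ¬ F.IsNormal U := fun U _ hU hn =>
    hU (le_bot_iff.mp ((le_sSup hn : U ≤ F.core).trans hO.le))
  have hcn : ∀ U : Subgroup Ω, U ≤ cen S → S ≤ Subgroup.normalizer (U : Set Ω) := fun U hU s hs =>
    Subgroup.centralizer_le_normalizer _ fun u hu => ((hU hu).2 s hs).symm
  have hSnab : ¬ ∀ a ∈ S, ∀ b ∈ S, a * b = b * a := fun hh => by
    obtain ⟨a, ha, b, hb, hab⟩ := h.nonab
    exact hab (hh a (h.le ha) b (h.le hb))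
  have hautZ : ∀ φ : MulAut S, ∀ x : S, (x : Ω) ∈ cen Q → ((φ x : S) : Ω) ∈ cen Q := fun φ x hx =>
    h.invariant_of_nonab h.z_le (fun a ha b hb => h.comm_S hne ha hb) hSnab φ x hx
  by_cases hex : ∃ E, F.IsEssential p E
  swap
  · refine hnorm (cen Q) h.z_le_cen (fun e => ?_) (isNormal_of_essential h.isP h.sat h.z_le
      (hcn _ h.z_le_cen) (fun φ _ x hx => hautZ φ x hx) fun P _ hP => absurd ⟨P, hP⟩ hex)
    have := h.card_z
    rw [e, Subgroup.card_bot] at this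
    exact hp.out.ne_one this.symm
  obtain ⟨E₀, hE₀⟩ := hex
  obtain ⟨hn₀, hab₀, hcard₀, hidx₀, β₀, hβ₀, z₀, hz₀, hbz₀⟩ := h.essential_facts hne hE₀
  obtain ⟨c₀, hc₀, hcu₀, hcZ₀, hcp₀⟩ := h.exists_line hne hE₀ hn₀ hcard₀ hβ₀ hz₀ hbz₀
  obtain ⟨φ₀, hφ₀, hzφ₀, hfix₀⟩ :=
    h.exists_inverting hne hE₀ hn₀ hab₀ hcard₀ hidx₀ hβ₀ hz₀ hbz₀ hc₀ hcu₀ hcZ₀
  set C := Subgroup.zpowers (c₀ : Ω) with hC
  have hC1 : (c₀ : Ω) ≠ 1 := fun e => hcZ₀ (e.symm ▸ (cen Q).one_mem)
  have hCcen : C ≤ cen S := Subgroup.zpowers_le.2 hc₀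
  let c₁ : S := ⟨c₀, hc₀.1⟩
  refine hnorm C hCcen (fun e => hC1 (Subgroup.zpowers_eq_bot.mp e)) (isNormal_of_essential h.isP h.sat
    (hCcen.trans inf_le_left) (hcn _ hCcen) (fun α hα x hx => ?_) fun P hPS hP => ?_)
  · obtain ⟨i, hi⟩ := hx
    rw [show x = c₁ ^ i from Subtype.ext (by rw [Subgroup.coe_zpow]; exact hi.symm), map_zpow,
      Subgroup.coe_zpow]
    refine C.zpow_mem ?_ i
    refine h.line_unique hp2 hne (φ := α * φ₀ * α⁻¹) (φ' := φ₀) (c' := c₁) ?_ hφ₀ ?_ hc₀ hcZ₀ ?_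
      hzφ₀ ?_ (hfix₀ c₁ rfl)
    · exact (F.autGroup S).mul_mem ((F.autGroup S).mul_mem hα hφ₀) ((F.autGroup S).inv_mem hα)
    · refine ⟨(α c₁).2, fun s hs => ?_⟩
      have := congrArg (fun y : S => ((α y : S) : Ω))
        (show α⁻¹ ⟨s, hs⟩ * c₁ = c₁ * α⁻¹ ⟨s, hs⟩ from Subtype.ext (hc₀.2 _ (SetLike.coe_mem _)))
      simpa using this
    · intro y hy
      rw [MulAut.mul_apply, MulAut.mul_apply, hzφ₀ _ (hautZ α⁻¹ y hy), map_inv, MulAut.apply_inv_self]
    · rw [MulAut.mul_apply, MulAut.mul_apply, MulAut.inv_apply_self, hfix₀ c₁ rfl]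
  obtain ⟨hn, hab, hcard, hidx, β, hβ, z, hz, hbz⟩ := h.essential_facts hne hP
  refine ⟨hCcen.trans (h.cen_le_essential hP), ?_⟩
  haveI := finite_of_le hP.1.1
  -- a mover preserves the line
  have hmove : ∀ γ ∈ F.autGroup P, ((γ z : P) : Ω) ∉ cen Q →
      ∀ x : P, (x : Ω) ∈ C → ((γ x : P) : Ω) ∈ C := by
    intro γ hγ hγz
    have hline : ∀ δ ∈ F.autGroup P, ((δ z : P) : Ω) ∉ cen Q → ∀ c : P, (c : Ω) ∈ cen S →
        ((δ⁻¹ c : P) : Ω) ∈ cen S → (c : Ω) ∉ cen Q → (c : Ω) ∈ C := by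
      intro δ hδ hδz c hc hcu hcZ
      obtain ⟨φ, hφ, hzφ, hfix⟩ := h.exists_inverting hne hP hn hab hcard hidx hδ hz hδz hc hcu hcZ
      exact h.line_unique hp2 hne (c := ⟨c, hc.1⟩) (c' := c₁) hφ hφ₀ hc hc₀ hcZ₀ hzφ hzφ₀
        (hfix _ rfl) (hfix₀ c₁ rfl)
    have hγi := (F.autGroup P).inv_mem hγ
    obtain ⟨c, hc, hcu, hcZ, hcp⟩ :=
      h.exists_line hne hP hn hcard hγi hz (h.mover_inv hz hγz)
    rw [inv_inv] at hcu
    have hcC := hline _ hγi (h.mover_inv hz hγz) c hc (by rw [inv_inv]; exact hcu) hcZ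
    have hgc : (((γ c) : P) : Ω) ∈ C := by
      refine hline γ hγ hγz _ hcu (by rw [MulAut.inv_apply_self]; exact hc) fun hbad => ?_
      have h1 : (γ c : P) ≠ 1 := fun e =>
        hcZ ((map_eq_one_iff _ γ.injective).mp e ▸ (cen Q).one_mem)
      haveI := finite_of_le h.z_le
      obtain ⟨i, hi⟩ := (Subgroup.eq_of_le_of_card_ge (Subgroup.zpowers_le.2 hbad) (by
        rw [h.card_z, Nat.card_zpowers, orderOf_eq_prime
          (by rw [← Subgroup.coe_pow, ← map_pow, hcp, map_one]; rfl)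
          (fun e => h1 (Subtype.ext e))])).ge hz
      refine h.not_cen hne hP hn hγi hz (h.mover_inv hz hγz) ?_
      rw [show z = γ c ^ i from Subtype.ext (by rw [Subgroup.coe_zpow]; exact hi.symm), map_zpow,
        MulAut.inv_apply_self, Subgroup.coe_zpow]
      exact (cen S).zpow_mem hc i
    haveI : Finite C := finite_of_le (hCcen.trans inf_le_left : C ≤ S)
    have hgenC : Subgroup.zpowers (c : Ω) = C :=
      Subgroup.eq_of_le_of_card_ge (Subgroup.zpowers_le.2 hcC) (by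
        rw [hC, Nat.card_zpowers, Nat.card_zpowers,
          orderOf_eq_prime (by rw [← Subgroup.coe_pow, hcp₀]; rfl) hC1,
          orderOf_eq_prime (by rw [← Subgroup.coe_pow, hcp]; rfl) (fun e => hcZ (by rw [e]; exact (cen Q).one_mem))])
    intro x hx
    obtain ⟨i, hi⟩ := hgenC.ge hx
    rw [show x = c ^ i from Subtype.ext (by rw [Subgroup.coe_zpow]; exact hi.symm), map_zpow,
      Subgroup.coe_zpow]
    exact C.zpow_mem hgc i
  intro γ hγ x hx
  by_cases hγz : ((γ z : P) : Ω) ∈ cen Q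
  · haveI := finite_of_le h.z_le
    have hz1 : (z : Ω) ≠ 1 := fun e => hbz (by
      rw [show z = 1 from Subtype.ext e, map_one]; exact (cen Q).one_mem)
    obtain ⟨i, hi⟩ := (Subgroup.eq_of_le_of_card_ge (Subgroup.zpowers_le.2 hz) (by
      rw [h.card_z, Nat.card_zpowers, orderOf_eq_prime (h.z_pow hz) hz1])).ge hγz
    have e : γ z = z ^ i := Subtype.ext (by rw [Subgroup.coe_zpow]; exact hi.symm)
    have hip : ¬ (p : ℤ) ∣ i := fun ⟨m, hm⟩ => by
      have e1 : γ z = 1 := by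
        rw [e, hm, zpow_mul, zpow_natCast,
          show z ^ p = 1 from Subtype.ext (by rw [Subgroup.coe_pow]; exact h.z_pow hz), one_zpow]
      exact hz1 (by rw [(map_eq_one_iff _ γ.injective).mp e1]; rfl)
    have hbγ : (((β * γ) z : P) : Ω) ∉ cen Q := fun hbad => hbz (h.not_mem_of_pow
      (by rw [← Subgroup.coe_pow, ← map_pow,
        show z ^ p = 1 from Subtype.ext (by rw [Subgroup.coe_pow]; exact h.z_pow hz), map_one]; rfl)
      hip (by rw [MulAut.mul_apply, e, map_zpow, Subgroup.coe_zpow] at hbad; exact hbad))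
    have h1 := hmove _ ((F.autGroup P).mul_mem hβ hγ) hbγ x hx
    have h2 := hmove _ ((F.autGroup P).inv_mem hβ) (h.mover_inv hz hbz) ((β * γ) x) h1
    rwa [MulAut.mul_apply, MulAut.inv_apply_self] at h2
  · exact hmove γ hγ hγz x hx

end ExtIdx

end Cfsg.Lib.Fusion.ExtraspecialIndex
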