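import Cfsg.Agent.Fusion.FactorHyperfocal

/-!
The hyperfocal subgroup acts on a strongly closed subgroup `T` within `O^p(Aut_F(T)) Inn(T)`.
-/

set_option autoImplicit false

namespace Cfsg.Lib.Fusion

open Cfsg Cfsg.FusionSystem

variable {Ω : Type*} [Group Ω] {S : Subgroup Ω} {F : FusionSystem S} {p : ℕ}

theorem autFun_eq_of_eq {P : Subgroup Ω} {α β : MulAut P} (h : ∀ x ∈ P, autFun α x = autFun β x) :
    α = β :=
  MulEquiv.ext fun x => Subtype.ext (by rw [← autFun_apply α x, ← autFun_apply β x, h x x.2])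

theorem hyperfocal_action [Finite S] [Fact p.Prime] (hS : IsPGroup p S) (hF : F.IsSaturated p)
    {T : Subgroup Ω} (hT : F.StronglyClosed T) {x : Ω} (hx : x ∈ F.hyperfocalSubgroup p) :
    ∃ α ∈ ((pResidual p ↥(F.autGroup T)).map (F.autGroup T).subtype ⊔ Inn ↥T : Subgroup (MulAut ↥T)),
      ∀ t : ↥T, ((α t : ↥T) : Ω) = x * (t : Ω) * x⁻¹ := by
  haveI := finite_of_le hT.1
  set R : Subgroup (MulAut T) := (pResidual p ↥(F.autGroup T)).map (F.autGroup T).subtype ⊔ Inn ↥T
  have hnT := normalizes_of_stronglyClosed hT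
  set L : Subgroup Ω := (R.comap (normalizerInHom S T)).map (normalizerIn S T).subtype
  have hmemL : ∀ y ∈ S, ∀ β ∈ R, (∀ t ∈ T, autFun β t = y * t * y⁻¹) → y ∈ L := fun y hy β hβ e =>
    ⟨⟨y, hy, hnT hy⟩, show normalizerInHom S T ⟨y, hy, hnT hy⟩ ∈ R from by
      rw [show normalizerInHom S T ⟨y, hy, hnT hy⟩ = β from
        autFun_eq_of_eq fun t ht => by rw [e t ht, autFun_apply_mem _ ht]; rfl]
      exact hβ, rfl⟩
  suffices hle : F.hyperfocalSubgroup p ≤ L by
    obtain ⟨y, hy, rfl⟩ := hle hx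
    exact ⟨normalizerInHom S T y, hy, fun t => normalizerInHom_apply T y t⟩
  refine hyperfocal_le_of_coprime fun P hP α hα hcop x hx => ?_
  haveI := finite_of_le hP
  obtain ⟨g, hg, hgx⟩ := liftsMod hS hF hT ((isMap_autFun hP).mpr hα)
  have hsup : P ⊔ T ≤ S := sup_le hP hT.1
  haveI := finite_of_le hsup
  have hi : img (P ⊔ T) g = P ⊔ T := by
    refine Subgroup.eq_of_le_of_card_ge ?_ hg.card_img.ge
    rw [hg.img_sup]
    refine sup_le (IsMap.img_le_iff.mpr fun y hy => ?_) (IsMap.img_le_iff.mpr fun y hy =>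
      Subgroup.mem_sup_right (stronglyClosed_apply hT hg (Subgroup.mem_sup_right hy) hy))
    have := Subgroup.mul_mem _ (Subgroup.mem_sup_left (T := T) (autFun_mem α hy))
      (Subgroup.mem_sup_right (S := P) (hgx y hy))
    rwa [mul_inv_cancel_left] at this
  obtain ⟨γ₀, hγ₀, hγe⟩ := hg.exists_aut hi
  obtain ⟨e, hecop, hαe⟩ := exists_coprime_power γ₀ hcop
  have hpow : ∀ i : ℕ, ∀ y ∈ P, (autFun (α ^ i) y)⁻¹ * autFun (γ₀ ^ i) y ∈ T := by
    intro i
    induction i with
    | zero =>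
      intro y hy
      rw [pow_zero, pow_zero, autFun_apply_mem _ (Subgroup.mem_sup_left hy), autFun_apply_mem _ hy]
      simp
    | succ i ih =>
      intro y hy
      rw [pow_succ', pow_succ', autFun_mul _ _ hy, autFun_mul _ _ (Subgroup.mem_sup_left hy)]
      set z := autFun (α ^ i) y
      have hz : z ∈ P := autFun_mem _ hy
      have hd := ih y hy
      have e1 : autFun (γ₀ ^ i) y = z * (z⁻¹ * autFun (γ₀ ^ i) y) := by group
      rw [e1, hγe _ (Subgroup.mul_mem _ (Subgroup.mem_sup_left hz) (Subgroup.mem_sup_right hd)),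
        hg.map_mul (Subgroup.mem_sup_left hz) (Subgroup.mem_sup_right hd), ← mul_assoc]
      exact T.mul_mem (hgx z hz) (stronglyClosed_apply hT hg (Subgroup.mem_sup_right hd) hd)
  set γ := γ₀ ^ e with hγdef
  have hγ : γ ∈ F.autGroup (P ⊔ T) := Subgroup.pow_mem _ hγ₀ e
  have hm := (isMap_autFun hsup).mpr hγ
  have hxt : (autFun α x)⁻¹ * autFun γ x ∈ T := by
    have := hpow e x hx
    rwa [hαe] at this
  have hiT : img T (autFun γ) = T := img_eq_of_apply hm le_sup_right fun t ht =>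
    stronglyClosed_apply hT hm (Subgroup.mem_sup_right ht) ht
  obtain ⟨δ, hδ, hδe⟩ := (hm.mono le_sup_right).exists_aut hiT
  have hδn : ∀ i : ℕ, ∀ t ∈ T, autFun (δ ^ i) t = autFun (γ ^ i) t := by
    intro i
    induction i with
    | zero =>
      intro t ht
      rw [pow_zero, pow_zero, autFun_apply_mem _ ht, autFun_apply_mem _ (Subgroup.mem_sup_right ht)]
      rfl
    | succ i ih =>
      intro t ht
      rw [pow_succ', pow_succ', autFun_mul _ _ ht, autFun_mul _ _ (Subgroup.mem_sup_right ht),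
        ← ih t ht, hδe _ (autFun_mem _ ht)]
  have hδ1 : δ ^ orderOf γ = 1 := autFun_eq_of_eq fun t ht => by
    rw [hδn _ t ht, pow_orderOf_eq_one, autFun_apply_mem _ ht,
      autFun_apply_mem _ (Subgroup.mem_sup_right ht)]
    rfl
  have hδres : (⟨δ, hδ⟩ : F.autGroup T) ∈ pResidual p ↥(F.autGroup T) := by
    refine Cfsg.Lib.Transfer.mem_pResidual_of_coprime (Nat.Coprime.coprime_dvd_left ?_ hecop)
    rw [Subgroup.orderOf_mk]
    exact orderOf_dvd_of_pow_eq_one hδ1
  haveI := Cfsg.Lib.Transfer.pResidual_normal' (p := p) (G := F.autGroup T)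
  have hxS := hP hx
  set c : F.autGroup T := ⟨conjAut T x (hnT hxS),
    autInducedBy_le hT.1 (conjAut_mem_autInducedBy (hnT hxS) hxS)⟩
  set d : F.autGroup T := ⟨δ, hδ⟩
  have hd : c⁻¹ * d * c * d⁻¹ ∈ pResidual p ↥(F.autGroup T) := by
    have h1 := Subgroup.Normal.conj_mem inferInstance d hδres c⁻¹
    rw [inv_inv] at h1
    exact Subgroup.mul_mem _ h1 (Subgroup.inv_mem _ hδres)
  set t₀ := (autFun α x)⁻¹ * autFun γ x
  have hαS := hP (autFun_mem α hx)
  have hγS := hsup (autFun_mem γ (Subgroup.mem_sup_left hx))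
  -- the element `x⁻¹ γ(x)`
  have hL : x⁻¹ * autFun γ x ∈ L := by
    refine hmemL _ (S.mul_mem (S.inv_mem hxS) hγS) ((c⁻¹ * d * c * d⁻¹ : F.autGroup T) : MulAut T)
      (Subgroup.mem_sup_left ⟨_, hd, rfl⟩) fun t ht => ?_
    simp only [Subgroup.coe_mul, Subgroup.coe_inv]
    set c' := conjAut T x (hnT hxS)
    show autFun (c'⁻¹ * δ * c' * δ⁻¹) t = _
    have hu := autFun_mem δ⁻¹ ht
    rw [autFun_mul _ _ ht, autFun_mul _ _ hu, autFun_mul _ _ (autFun_mem _ hu),
      hδe _ (autFun_mem _ hu), autFun_apply_mem c' hu, conjAut_apply,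
      hm.map_conj (Subgroup.mem_sup_left hx) (Subgroup.mem_sup_right hu), ← hδe _ hu,
      autFun_inv_apply δ ht]
    have hy : autFun γ x * t * (autFun γ x)⁻¹ ∈ T := conj_mem_of_mem_normalizer (hnT hγS) ht
    have h2 : autFun c' (x⁻¹ * (autFun γ x * t * (autFun γ x)⁻¹) * x) =
        autFun γ x * t * (autFun γ x)⁻¹ := by
      have hmem : x⁻¹ * (autFun γ x * t * (autFun γ x)⁻¹) * x ∈ T := by
        have := conj_mem_of_mem_normalizer (Subgroup.inv_mem _ (hnT hxS)) hy
        rwa [inv_inv] at this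
      rw [autFun_apply_mem _ hmem, conjAut_apply]
      group
    rw [← h2]
    have hmem : x⁻¹ * (autFun γ x * t * (autFun γ x)⁻¹) * x ∈ T := by
      have := conj_mem_of_mem_normalizer (Subgroup.inv_mem _ (hnT hxS)) hy
      rwa [inv_inv] at this
    rw [← autFun_mul _ _ hmem, inv_mul_cancel, autFun_apply_mem _ hmem]
    show x⁻¹ * (autFun γ x * t * (autFun γ x)⁻¹) * x = _
    group
  have hT0 : t₀ ∈ L := hmemL t₀ (hT.1 hxt) (MulAut.conj (⟨t₀, hxt⟩ : T))
    (Subgroup.mem_sup_right ⟨⟨t₀, hxt⟩, rfl⟩) fun t ht => by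
      rw [autFun_apply_mem _ ht]; rfl
  have := L.mul_mem hL (L.inv_mem hT0)
  convert this using 1
  simp only [t₀]
  group

end Cfsg.Lib.Fusion
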