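import Cfsg.Agent.Fusion.PullSystem
import Cfsg.Agent.Fusion.Hyperfocal
import Cfsg.Agent.Fusion.HyperfocalAction
import Cfsg.Agent.Fusion.SmallElements
import Cfsg.Agent.S5083
import Cfsg.Agent.Fusion.CharAut
import Cfsg.Agent.Fusion.ChainStab
import Cfsg.Agent.Fusion.Essential

/-!
Extremely sparse systems are systems of a group with a normal Sylow subgroup.
-/

set_option autoImplicit false
set_option linter.unusedSectionVars false
set_option linter.style.haveILetI false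

namespace Cfsg.Lib.Fusion.XSparse

open Cfsg Cfsg.FusionSystem Cfsg.Lib.Fusion

universe u

variable {Ω : Type u} [Group Ω] {S T : Subgroup Ω} {F : FusionSystem S} {p : ℕ}
  [Finite S] [Fact p.Prime]

theorem zpowers_card_not_dvd {G : Type*} [Group G] {a : G} (h : (orderOf a).Coprime p) :
    ¬ p ∣ Nat.card (Subgroup.zpowers a) := by
  rw [Nat.card_zpowers]
  intro hd
  exact (Fact.out : p.Prime).not_dvd_one (h ▸ Nat.dvd_gcd hd (dvd_refl p))

/-- The group `T ⋊ ⟨α⟩`. -/
abbrev Semi (T : Subgroup Ω) (α : MulAut T) :=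
  T ⋊[(Subgroup.zpowers α).subtype] Subgroup.zpowers α

/-- The system of `T ⋊ ⟨α⟩` on `T`. -/
def semiSystem (T : Subgroup Ω) (α : MulAut T) : FusionSystem T :=
  pullSystem (SemidirectProduct.inl : T →* Semi T α) SemidirectProduct.inl_injective

theorem isMap_semi_iff {α : MulAut T} {P : Subgroup Ω} {f : Ω → Ω} :
    IsMap (semiSystem T α) P f ↔ P ≤ T ∧ ∃ t ∈ T, ∃ a ∈ Subgroup.zpowers α,
      ∀ x ∈ P, f x = t * autFun a x * t⁻¹ := by
  have key : ∀ (g : Semi T α) (x : T),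
      g * SemidirectProduct.inl x * g⁻¹ =
        SemidirectProduct.inl (g.left * (g.right : MulAut T) x * g.left⁻¹) := fun g x => by
    have h : g = SemidirectProduct.inl g.left * SemidirectProduct.inr g.right :=
      (SemidirectProduct.inl_left_mul_inr_right g).symm
    conv_lhs => rw [h]
    rw [map_mul, map_mul, map_inv, ← Subgroup.coe_subtype, SemidirectProduct.inl_aut, map_inv]
    group
  constructor
  · rintro ⟨φ, ⟨hP, hφ, g, hg⟩, e⟩
    refine ⟨hP, g.left, g.left.2, g.right, g.right.2, fun x hx => ?_⟩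
    rw [← e ⟨x, hx⟩, autFun_apply_mem _ (hP hx)]
    have h := hg ⟨x, hx⟩
    rw [key] at h
    exact congrArg Subtype.val (SemidirectProduct.inl_injective h)
  · rintro ⟨hP, t, ht, a, ha, e⟩
    have hmem : ∀ x : P, t * autFun a (x : Ω) * t⁻¹ ∈ T := fun x =>
      T.mul_mem (T.mul_mem ht (autFun_mem a (hP x.2))) (T.inv_mem ht)
    let φ : P →* Ω := MonoidHom.mk' (fun x => t * autFun a (x : Ω) * t⁻¹) fun x y => by
      rw [Subgroup.coe_mul, autFun_apply_mem _ (hP (P.mul_mem x.2 y.2)),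
        autFun_apply_mem _ (hP x.2), autFun_apply_mem _ (hP y.2),
        show (⟨(x : Ω) * y, hP (P.mul_mem x.2 y.2)⟩ : T) = ⟨x, hP x.2⟩ * ⟨y, hP y.2⟩ from rfl,
        map_mul, Subgroup.coe_mul]
      group
    refine ⟨φ, ⟨hP, hmem, ⟨⟨t, ht⟩, ⟨a, ha⟩⟩, fun x => ?_⟩, fun x => (e x x.2).symm⟩
    rw [key]
    refine congrArg _ (Subtype.ext ?_)
    show t * autFun a (x : Ω) * t⁻¹ = t * ((a ⟨x, hP x.2⟩ : T) : Ω) * t⁻¹
    rw [autFun_apply_mem _ (hP x.2)]

theorem semi_sub (hT : T ≤ S) {α : MulAut T} (hα : α ∈ F.autGroup T) :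
    (semiSystem T α).IsSubsystemOf F := by
  intro P φ hφ
  obtain ⟨hP, t, ht, a, ha, e⟩ := isMap_semi_iff.mp (isMap_of_mem hφ)
  have ham : IsMap F P (autFun a) :=
    ((isMap_autFun hT).mpr ((Subgroup.zpowers_le.mpr hα) ha)).mono hP
  exact IsMap.mem_toFun' ((ham.comp (isMap_conj hT (hT ht)) fun x hx =>
    autFun_mem a (hP hx)).congr e)

theorem semi_saturated (hS : IsPGroup p S) (hT : T ≤ S) {α : MulAut T}
    (hα : (orderOf α).Coprime p) : (semiSystem T α).IsSaturated p := by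
  haveI := finite_of_le hT
  haveI : Finite (MulAut T) := Finite.of_injective
    (fun f : MulAut T => (f : T → T)) DFunLike.coe_injective
  haveI : Finite (Semi T α) := Finite.of_equiv _ SemidirectProduct.equivProd.symm
  set ι : T →* Semi T α := SemidirectProduct.inl
  have hp : IsPGroup p ι.range :=
    (hS.of_injective _ (Subgroup.inclusion_injective hT)).of_surjective _
      ι.rangeRestrict_surjective
  have hidx : ¬ p ∣ ι.range.index := by
    rw [show ι.range = (SemidirectProduct.rightHom : Semi T α →* _).ker from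
        SemidirectProduct.range_inl_eq_ker_rightHom, Subgroup.index_ker,
      MonoidHom.range_eq_top.mpr SemidirectProduct.rightHom_surjective, Subgroup.card_top]
    exact zpowers_card_not_dvd hα
  exact saturated_pullSystem ι SemidirectProduct.inl_injective (hp.toSylow hidx)
    (IsPGroup.toSylow_coe _ _)

theorem semi_not_inner (hS : IsPGroup p S) (hT : T ≤ S) {α : MulAut T}
    (hα : (orderOf α).Coprime p) (hne : α ≠ 1) :
    ¬ ∀ P : Subgroup Ω, (semiSystem T α).Hom P = (innerFusionSystem T).Hom P := by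
  intro h
  haveI := finite_of_le hT
  have hm : IsMap (semiSystem T α) T (autFun α) := isMap_semi_iff.mpr
    ⟨le_rfl, 1, T.one_mem, α, Subgroup.mem_zpowers α, fun x _ => by simp⟩
  obtain ⟨φ, hφ, e⟩ := hm
  rw [h T] at hφ
  obtain ⟨-, s, hs, es⟩ := isMap_inner_iff.mp ⟨φ, hφ, e⟩
  have hαs : α = MulAut.conj ⟨s, hs⟩ := MulEquiv.ext fun x => Subtype.ext (by
    rw [← autFun_apply α x, es x x.2]; rfl)
  obtain ⟨k, hk⟩ := hS ⟨s, hT hs⟩
  have hs1 : (⟨s, hs⟩ : T) ^ p ^ k = 1 := Subtype.ext (by simpa using congrArg Subtype.val hk)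
  refine hne (orderOf_eq_one_iff.mp (Nat.eq_one_of_dvd_coprimes (Nat.Coprime.pow_left k
    (Nat.coprime_comm.mp hα)) (orderOf_dvd_of_pow_eq_one ?_) (dvd_refl _)))
  rw [hαs, ← map_pow, hs1, map_one]

/-- The extremely sparse hypothesis. -/
def IsXSparse (F : FusionSystem S) (p : ℕ) : Prop :=
  ∀ (T : Subgroup Ω) (E : FusionSystem T), E.IsSaturated p → E.IsSubsystemOf F →
    (T = S ∧ ∀ P : Subgroup Ω, E.Hom P = F.Hom P) ∨
      (∀ P : Subgroup Ω, E.Hom P = (innerFusionSystem T).Hom P)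

theorem eq_top_of_aut (hS : IsPGroup p S) (hx : IsXSparse F p) {T : Subgroup Ω} (hT : T ≤ S)
    {α : MulAut T} (hα : α ∈ F.autGroup T) (hcop : (orderOf α).Coprime p) (hne : α ≠ 1) :
    T = S ∧ ∀ P : Subgroup Ω, (semiSystem T α).Hom P = F.Hom P :=
  (hx T _ (semi_saturated hS hT hcop) (semi_sub hT hα)).resolve_right
    (semi_not_inner hS hT hcop hne)

theorem exists_prime_element (hS : IsPGroup p S) (hF : F.IsSaturated p)
    (hne : ¬ ∀ P : Subgroup Ω, F.Hom P = (innerFusionSystem S).Hom P) :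
    ∃ P, P ≤ S ∧ ∃ α ∈ F.autGroup P, ∃ q : ℕ, q.Prime ∧ q ≠ p ∧ orderOf α = q := by
  by_contra hcon
  push Not at hcon
  refine hne fun P => ?_
  rw [Cfsg.Agent.S5083.result p hS F hF fun Q hQ => ?_]
  haveI := finite_of_le hQ
  rw [IsPGroup.iff_orderOf]
  intro α
  refine ⟨(orderOf α).primeFactorsList.length,
    Nat.eq_prime_pow_of_unique_prime_dvd (orderOf_pos α).ne' fun {q} hq hd => ?_⟩
  by_contra hqp
  have h1 : orderOf ((α : MulAut Q) ^ (orderOf α / q)) = q := by
    rw [orderOf_pow_of_dvd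
      (Nat.div_pos (Nat.le_of_dvd (orderOf_pos α) hd) hq.pos).ne'
      (by rw [Subgroup.orderOf_coe]; exact Nat.div_dvd_of_dvd hd), Subgroup.orderOf_coe,
      Nat.div_div_self hd (orderOf_pos α).ne']
  exact hcon Q hQ _ (Subgroup.pow_mem _ α.2 _) q hq hqp h1

/-- The main structure result. -/
theorem main (hS : IsPGroup p S) (hF : F.IsSaturated p)
    (hne : ¬ ∀ P : Subgroup Ω, F.Hom P = (innerFusionSystem S).Hom P) (hx : IsXSparse F p) :
    F.IsNormal S ∧ F.focalSubgroup = S ∧ F.hyperfocalSubgroup p = S ∧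
      ∃ (q : ℕ) (β : MulAut S), q.Prime ∧ q ≠ p ∧ β ∈ F.autGroup S ∧ orderOf β = q ∧
        (F.autGroup S : Subgroup (MulAut S)) = Inn S ⊔ Subgroup.zpowers β := by
  obtain ⟨P, hP, α, hα, q, hq, hqp, hαq⟩ := exists_prime_element hS hF hne
  have hcop : (orderOf α).Coprime p := hαq ▸ (Nat.coprime_primes hq Fact.out).mpr hqp
  have hα1 : α ≠ 1 := fun h => hq.one_lt.ne' (by rw [← hαq, h, orderOf_one])
  obtain ⟨rfl, hall⟩ := eq_top_of_aut hS hx hP hα hcop hα1
  have hiff : ∀ {R : Subgroup Ω} {f : Ω → Ω}, IsMap F R f ↔ R ≤ P ∧ ∃ t ∈ P,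
      ∃ a ∈ Subgroup.zpowers α, ∀ x ∈ R, f x = t * autFun a x * t⁻¹ := fun {R f} =>
    (hom_eq_iff_isMap.mp (hall R) f).symm.trans isMap_semi_iff
  have hnorm : F.IsNormal P := by
    refine isNormal_of_extendsWith le_rfl fun R f hf => ?_
    obtain ⟨hR, t, ht, a, ha, e⟩ := hiff.mp hf
    have hm : IsMap F P (fun x => t * autFun a x * t⁻¹) :=
      hiff.mpr ⟨le_rfl, t, ht, a, ha, fun _ _ => rfl⟩
    exact ⟨_, hm.mono (sup_le hR le_rfl), fun x hx => (e x hx).symm,
      Subgroup.eq_of_le_of_card_ge hm.img_le hm.card_img.ge⟩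
  set W : Subgroup Ω := Subgroup.closure {y | ∃ x ∈ P, y = x⁻¹ * autFun α x}
  have hWP : W ≤ P := (Subgroup.closure_le _).mpr fun y ⟨x, hx, e⟩ =>
    e ▸ P.mul_mem (P.inv_mem hx) (autFun_mem α hx)
  have hαm := (isMap_autFun (F := F) le_rfl).mpr hα
  have hWa : ∀ y ∈ W, autFun α y ∈ W := by
    intro y hy
    induction hy using Subgroup.closure_induction with
    | mem y hy =>
      obtain ⟨x, hx, rfl⟩ := hy
      refine Subgroup.subset_closure ⟨autFun α x, autFun_mem α hx, ?_⟩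
      rw [hαm.map_mul (P.inv_mem hx) (autFun_mem α hx), hαm.map_inv hx]
    | one => rw [hαm.map_one]; exact W.one_mem
    | mul a b ha hb iha ihb => rw [hαm.map_mul (hWP ha) (hWP hb)]; exact W.mul_mem iha ihb
    | inv a ha iha => rw [hαm.map_inv (hWP ha)]; exact W.inv_mem iha
  haveI := finite_of_le hWP
  have hWm := hαm.mono hWP
  obtain ⟨β, hβ, eβ⟩ := hWm.exists_aut (img_eq_of_apply hαm hWP hWa)
  have hpow : ∀ n : ℕ, ∀ x ∈ W, autFun (β ^ n) x = autFun (α ^ n) x := by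
    intro n
    induction n with
    | zero => exact fun x hx => by rw [pow_zero, pow_zero, autFun_one hx, autFun_one (hWP hx)]
    | succ n ih =>
      intro x hx
      rw [pow_succ, pow_succ, autFun_mul _ _ hx, autFun_mul _ _ (hWP hx), ← eβ x hx,
        ih _ (autFun_mem β hx)]
  have hβcop : (orderOf β).Coprime p := by
    refine Nat.Coprime.coprime_dvd_left (orderOf_dvd_of_pow_eq_one ?_) hcop
    refine eq_one_of_autFun fun x hx => ?_
    rw [hpow _ x hx, pow_orderOf_eq_one, autFun_one (hWP hx)]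
  have hβ1 : β ≠ 1 := fun h => hα1 (MulEquiv.ext fun x => fix_of_fix_mem hS le_rfl hcop (B := W)
    (Subgroup.subset_closure ⟨x, x.2, by rw [autFun_apply]⟩) fun y hy => Subtype.ext (by
      rw [← autFun_apply α y, ← eβ y hy, h, autFun_one hy]))
  have hW : W = P := (eq_top_of_aut hS hx hWP hβ hβcop hβ1).1
  have hWhyp : W ≤ F.hyperfocalSubgroup p := (Subgroup.closure_le _).mpr fun y ⟨x, hx, e⟩ =>
    e ▸ mem_hyperfocalSubgroup le_rfl (α := ⟨α, hα⟩)
      (Subgroup.subset_closure (by rw [Set.mem_ofPred_eq, Subgroup.orderOf_mk]; exact hcop)) hx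
  refine ⟨hnorm, le_antisymm (focalSubgroup_le F)
      (hW.ge.trans (hWhyp.trans (hyperfocalSubgroup_le_focalSubgroup F p))),
    le_antisymm (hyperfocalSubgroup_le F p) (hW.ge.trans hWhyp), q, α, hq, hqp, hα, hαq,
    le_antisymm (fun γ hγ => ?_) (sup_le (inn_le_autGroup le_rfl) (Subgroup.zpowers_le.mpr hα))⟩
  obtain ⟨-, t, ht, a, ha, e⟩ := hiff.mp ((isMap_autFun le_rfl).mpr hγ)
  have hγe : γ = MulAut.conj ⟨t, ht⟩ * a := MulEquiv.ext fun x => Subtype.ext (by
    rw [← autFun_apply γ x, e x x.2, autFun_apply]; rfl)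
  rw [hγe]
  exact Subgroup.mul_mem_sup ⟨⟨t, ht⟩, rfl⟩ ha

end Cfsg.Lib.Fusion.XSparse
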