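import Cfsg.Agent.Fusion.GTFamily
import Cfsg.Agent.Fusion.NormalizerSystem

/-!
Subsystems stabilizing a normal subgroup, and a measure of fusion systems.
-/

set_option autoImplicit false

namespace Cfsg.Lib.Fusion

open Cfsg Cfsg.FusionSystem

universe u

variable {Ω : Type u} [Group Ω] {S : Subgroup Ω} {F : FusionSystem S} {p : ℕ}

/-! ### Subsystems stabilizing a normal subgroup of `S` -/

/-- `N_F(V)` for `V` normal in `S`, on `S`. -/
def normalizerTop (F : FusionSystem S) {V : Subgroup Ω} (hV : V ≤ S)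
    (hn : S ≤ Subgroup.normalizer (V : Set Ω)) : FusionSystem S where
  Hom P := F.normalizerHom V P
  le_of_mem h := ⟨h.2.1.trans inf_le_left, fun x => (h.2.2.1 x).1⟩
  injective_of_mem h := (normalizerSystem F hV).injective_of_mem h
  conj_mem hP hg := (normalizerSystem F hV).conj_mem (le_inf hP (hP.trans hn)) ⟨hg, hn hg⟩
  comp_mem h1 h2 h := (normalizerSystem F hV).comp_mem h1 h2 h
  inv_mem h := (normalizerSystem F hV).inv_mem h

theorem isMap_normalizerTop {V : Subgroup Ω} {hV : V ≤ S}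
    {hn : S ≤ Subgroup.normalizer (V : Set Ω)} {P : Subgroup Ω} {f : Ω → Ω} :
    IsMap (normalizerTop F hV hn) P f ↔ IsMap F P f ∧ ExtendsWith F V P f := by
  have h := isMap_of_isNormalizerSystem (isNormalizerSystem_normalizerSystem (F := F) hV)
    (P := P) (f := f)
  constructor
  · rintro ⟨φ, hφ, e⟩
    exact (h.mp ⟨φ, hφ, e⟩).2.2
  · rintro ⟨hf, he⟩
    obtain ⟨φ, hφ, e⟩ := h.mpr ⟨le_inf hf.le (hf.le.trans hn),
      fun x hx => ⟨hf.mem_S hx, hn (hf.mem_S hx)⟩, hf, he⟩
    exact ⟨φ, hφ, e⟩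

theorem saturated_normalizerTop [Finite S] [Fact p.Prime] (hS : IsPGroup p S)
    (hF : F.IsSaturated p) {V : Subgroup Ω} (hV : V ≤ S)
    (hn : S ≤ Subgroup.normalizer (V : Set Ω)) : (normalizerTop F hV hn).IsSaturated p := by
  haveI : Finite (normalizerIn S V) := finite_of_le inf_le_left
  have hfn : F.IsFullyNormalized V := ⟨hV, fun R _ =>
    Nat.card_le_card_of_injective (fun x => (⟨x, x.2.1, hn x.2.1⟩ : normalizerIn S V))
      fun a b e => Subtype.ext (congrArg (fun z : normalizerIn S V => (z : Ω)) e)⟩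
  have heq : normalizerIn S V = S := le_antisymm inf_le_left (le_inf le_rfl hn)
  have key : ∀ (T : Subgroup Ω) (N : FusionSystem T), T = S → N.IsSaturated p →
      ∀ E : FusionSystem S, (∀ P, E.Hom P = N.Hom P) → E.IsSaturated p := by
    intro T N hT hN E hE
    subst hT
    rwa [fusionSystem_ext hE]
  exact key _ _ heq (saturated_normalizerSystem hS hF hfn) _ fun _ => rfl

theorem isInner_normalizerSystem_iff {U : Subgroup Ω} (hU : U ≤ S) :
    IsInner (normalizerSystem F hU) ↔ ∀ (P : Subgroup Ω) (f : Ω → Ω), IsMap F P f →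
      P ≤ normalizerIn S U → (∀ x ∈ P, f x ∈ normalizerIn S U) → ExtendsWith F U P f →
        ∃ s ∈ normalizerIn S U, ∀ x ∈ P, f x = s * x * s⁻¹ := by
  constructor
  · exact fun h P f hf hP hv he =>
      h P f ((isMap_of_isNormalizerSystem (isNormalizerSystem_normalizerSystem hU)).mpr ⟨hP, hv, hf, he⟩)
  · intro h P f hf
    obtain ⟨hP, hv, hm, he⟩ := (isMap_of_isNormalizerSystem (isNormalizerSystem_normalizerSystem hU)).mp hf
    exact h P f hm hP hv he

theorem isNormal_bot' : F.IsNormal ⊥ :=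
  isNormal_of_extendsWith bot_le fun P f hf => ⟨f, hf.mono (sup_bot_eq (a := P)).le, fun _ _ => rfl,
    le_bot_iff.mp (IsMap.img_le_iff.mpr fun x hx => by
      rw [Subgroup.mem_bot.mp hx, hf.map_one]; exact Subgroup.one_mem _)⟩

open Classical in
/-- A measure of a system: how many maps it has. -/
noncomputable def mapCount (F : FusionSystem S) : ℕ :=
  Set.ncard {x : Subgroup S × (S → S) |
    IsMap F (x.1.map S.subtype) (fun y => if h : y ∈ S then (x.2 ⟨y, h⟩ : Ω) else 1)}

theorem mapCount_lt [Finite S] {E : FusionSystem S}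
    (hle : ∀ (P : Subgroup Ω) (f : Ω → Ω), IsMap E P f → IsMap F P f)
    {P : Subgroup Ω} {f : Ω → Ω} (hf : IsMap F P f) (hnot : ¬ IsMap E P f) :
    mapCount E < mapCount F := by
  classical
  refine Set.ncard_lt_ncard ⟨fun x hx => hle _ _ (Set.mem_setOf.mp hx), fun hsub => hnot ?_⟩ (Set.toFinite _)
  let g : S → S := fun s => if h : (s : Ω) ∈ P then ⟨f s, hf.mem_S h⟩ else 1
  have hP : (P.subgroupOf S).map S.subtype = P := by
    rw [Subgroup.subgroupOf_map_subtype, inf_eq_left.mpr hf.le]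
  have hag : ∀ x ∈ P, (if h : x ∈ S then ((g ⟨x, h⟩ : S) : Ω) else 1) = f x := fun x hx => by
    rw [dif_pos (hf.le hx)]
    simp [g, hx]
  have h1 : IsMap F ((P.subgroupOf S).map S.subtype) (fun y => if h : y ∈ S then (g ⟨y, h⟩ : Ω) else 1) := by
    rw [hP]
    exact hf.congr hag
  have h2 := hsub (show (P.subgroupOf S, g) ∈ _ from h1)
  simp only [Set.mem_setOf_eq, hP] at h2
  exact h2.congr fun x hx => (hag x hx).symm

/-- An automorphism congruent to a conjugation modulo an invariant subgroup, of order prime to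
`p`, is congruent to the identity. -/
theorem coprime_conj_trick [Fact p.Prime] {A : Type*} [Group A] {a : A} (ha : (orderOf a).Coprime p)
    {b : Ω} (hb : ∃ i : ℕ, b ^ p ^ i = 1) : ∃ k : ℕ, a ^ k = a ∧ b ^ k = 1 := by
  obtain ⟨i, hi⟩ := hb
  have hcop : (orderOf a).Coprime (p ^ i) := ha.pow_right i
  obtain ⟨k, hk1, hk2⟩ := Nat.chineseRemainder hcop 1 0
  refine ⟨k, ?_, ?_⟩
  · conv_rhs => rw [← pow_one a]
    exact pow_eq_pow_iff_modEq.mpr hk1
  · obtain ⟨c, hc⟩ := Nat.modEq_zero_iff_dvd.mp hk2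
    rw [hc, pow_mul, hi, one_pow]

end Cfsg.Lib.Fusion
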