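import Cfsg.Agent.Fusion.GroupSystem
import Cfsg.Agent.Fusion.ModelTools
import Cfsg.Agent.Fusion.GTSubsystem
import Cfsg.Agent.Fusion.Puig

/-!
Characteristic `p`-functors inside a fusion system, and maps fixing an element.
-/

set_option autoImplicit false

namespace Cfsg.Lib.Fusion

open Cfsg Cfsg.FusionSystem

universe u

variable {Ω : Type u} [Group Ω] {S : Subgroup Ω} {F : FusionSystem S} {p : ℕ}

/-- The value of a functor on a subgroup, inside the ambient group. -/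
def fnImage (W : ∀ (Q : Type u) [Group Q], Subgroup Q) (T : Subgroup Ω) : Subgroup Ω :=
  (W ↥T).map T.subtype

variable {W : ∀ (Q : Type u) [Group Q], Subgroup Q}

theorem fnImage_le (T : Subgroup Ω) : fnImage W T ≤ T := Subgroup.map_subtype_le _

theorem mem_fnImage_of_center
    (hWZ : ∀ (Q : Type u) [Group Q] [Finite Q], IsPGroup p Q → Subgroup.center Q ≤ W Q)
    {T : Subgroup Ω} [Finite T] (hT : IsPGroup p T) {z : Ω} (hz : z ∈ T)
    (hc : ∀ t ∈ T, t * z = z * t) : z ∈ fnImage W T :=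
  ⟨⟨z, hz⟩, hWZ T hT (Subgroup.mem_center_iff.mpr fun t => Subtype.ext (hc t t.2)), rfl⟩

theorem fnImage_img
    (hW2 : ∀ (Q R : Type u) [Group Q] [Group R] [Finite Q], IsPGroup p Q →
      ∀ φ : Q ≃* R, (W Q).map φ.toMonoidHom = W R)
    {T T' : Subgroup Ω} [Finite T] (hT : IsPGroup p T) {f : Ω → Ω} (hf : IsMap F T f)
    (hi : img T f = T') : img (fnImage W T) f = fnImage W T' := by
  have h := hW2 T T' hT (hf.equiv hi)
  refine le_antisymm (IsMap.img_le_iff.mpr ?_) ?_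
  · rintro _ ⟨x, hx, rfl⟩
    exact ⟨hf.equiv hi x, h ▸ ⟨x, hx, rfl⟩, rfl⟩
  · rintro _ ⟨y, hy, rfl⟩
    rw [← h] at hy
    obtain ⟨x, hx, rfl⟩ := hy
    exact IsMap.apply_mem_img (f := f) (⟨x, hx, rfl⟩ : (x : Ω) ∈ fnImage W T)

theorem fnImage_normalized [Finite S]
    (hW2 : ∀ (Q R : Type u) [Group Q] [Group R] [Finite Q], IsPGroup p Q →
      ∀ φ : Q ≃* R, (W Q).map φ.toMonoidHom = W R)
    (hS : IsPGroup p S) {T : Subgroup Ω} (hT : T ≤ S) {g : Ω} (hg : g ∈ S)
    (hgn : g ∈ Subgroup.normalizer (T : Set Ω)) :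
    g ∈ Subgroup.normalizer (fnImage W T : Set Ω) := by
  haveI := finite_of_le hT
  haveI := finite_of_le ((fnImage_le (W := W) T).trans hT)
  have hm := isMap_conj (F := innerFusionSystem S) hT hg
  have hi : img T (fun x => g * x * g⁻¹) = T := Subgroup.eq_of_le_of_card_ge
    (IsMap.img_le_iff.mpr fun x hx => conj_mem_of_mem_normalizer hgn hx) hm.card_img.ge
  have h := fnImage_img hW2 (hS.of_injective _ (Subgroup.inclusion_injective hT)) hm hi
  exact mem_normalizer_of_maps_finite fun x hx => h.le (IsMap.apply_mem_img hx)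

/-- The functor on a Sylow subgroup given as the range of a realization. -/
theorem map_fn {T : Subgroup Ω} [Finite T] (hT : IsPGroup p T)
    (hW2 : ∀ (Q R : Type u) [Group Q] [Group R] [Finite Q], IsPGroup p Q →
      ∀ φ : Q ≃* R, (W Q).map φ.toMonoidHom = W R)
    {L : Type u} [Group L] {ι : T →* L} (hι : Function.Injective ι) {U : Subgroup L}
    (hU : U = ι.range) : (W ↥U).map U.subtype = (W ↥T).map ι := by
  subst hU
  rw [← hW2 T ι.range hT (MonoidHom.ofInjective hι), Subgroup.map_map]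
  rfl

/-! ### Maps fixing an element -/

/-- The map extends to one fixing `z`. -/
def FixesElt (F : FusionSystem S) (z : Ω) (P : Subgroup Ω) (f : Ω → Ω) : Prop :=
  ∃ k, IsMap F (P ⊔ Subgroup.zpowers z) k ∧ (∀ x ∈ P, k x = f x) ∧ k z = z

theorem FixesElt.apply {z : Ω} {P : Subgroup Ω} {f : Ω → Ω} (h : FixesElt F z P f) (hz : z ∈ P) :
    f z = z := by
  obtain ⟨k, -, hkf, hkz⟩ := h
  rw [← hkf z hz, hkz]

theorem img_zpowers {z : Ω} {P : Subgroup Ω} {k : Ω → Ω} (hk : IsMap F P k) (hz : z ∈ P)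
    (hkz : k z = z) : ∀ x ∈ Subgroup.zpowers z, k x = x := by
  obtain ⟨φ, -, e⟩ := hk
  rintro _ ⟨i, rfl⟩
  show k (z ^ i) = z ^ i
  rw [← e ⟨z ^ i, P.zpow_mem hz i⟩,
    show (⟨z ^ i, P.zpow_mem hz i⟩ : P) = (⟨z, hz⟩ : P) ^ i from rfl, map_zpow, e ⟨z, hz⟩, hkz]

theorem isMapClass_fixesElt {z : Ω} (hz : z ∈ S) (hc : ∀ s ∈ S, s * z = z * s) :
    IsMapClass F (FixesElt F z) where
  conj P g hP hg := ⟨fun x => g * x * g⁻¹,
    isMap_conj (sup_le hP (Subgroup.zpowers_le.mpr hz)) hg, fun _ _ => rfl, by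
      show g * z * g⁻¹ = z
      rw [hc g hg, mul_inv_cancel_right]⟩
  congr P f f' _ e := fun ⟨k, hk, hkf, hkz⟩ => ⟨k, hk, fun x hx => (hkf x hx).trans (e x hx).symm, hkz⟩
  mono P R f _ hR := fun ⟨k, hk, hkf, hkz⟩ =>
    ⟨k, hk.mono (sup_le_sup_right hR _), fun x hx => hkf x (hR hx), hkz⟩
  comp P Q f g _ _ hfQ := by
    rintro ⟨k, hk, hkf, hkz⟩ ⟨l, hl, hlg, hlz⟩
    have hzk := img_zpowers hk (Subgroup.mem_sup_right (Subgroup.mem_zpowers z)) hkz
    refine ⟨l ∘ k, hk.comp hl ?_, fun x hx => ?_, ?_⟩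
    · refine IsMap.img_le_iff.mp ?_
      rw [hk.img_sup]
      exact sup_le (IsMap.img_le_iff.mpr fun x hx => Subgroup.mem_sup_left ((hkf x hx).symm ▸ hfQ x hx))
        (IsMap.img_le_iff.mpr fun x hx => Subgroup.mem_sup_right ((hzk x hx).symm ▸ hx))
    · show l (k x) = g (f x)
      rw [hkf x hx, hlg _ (hfQ x hx)]
    · show l (k z) = z
      rw [hkz, hlz]
  inv P f g _ _ hl := by
    rintro ⟨k, hk, hkf, hkz⟩
    obtain ⟨d, hd, -, hdl, -⟩ := hk.exists_inv
    have hzm : z ∈ P ⊔ Subgroup.zpowers z := Subgroup.mem_sup_right (Subgroup.mem_zpowers z)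
    have hle : img P f ⊔ Subgroup.zpowers z ≤ img (P ⊔ Subgroup.zpowers z) k :=
      sup_le ((img_congr hkf).ge.trans (img_mono le_sup_left k))
        (Subgroup.zpowers_le.mpr (by
          have h0 : k z ∈ img (P ⊔ Subgroup.zpowers z) k := IsMap.apply_mem_img hzm
          rwa [hkz] at h0))
    refine ⟨d, hd.mono hle, fun y hy => ?_, ?_⟩
    · obtain ⟨x, hx, rfl⟩ :=
        ((hk.mono le_sup_left).congr fun x hx => (hkf x hx).symm).mem_img.mp hy
      rw [hl x hx, ← hkf x hx, hdl x (Subgroup.mem_sup_left hx)]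
    · conv_lhs => rw [← hkz]
      exact hdl z hzm

end Cfsg.Lib.Fusion
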