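import Cfsg.Agent.Fusion.GTSteps
import Cfsg.Agent.Fusion.Factor
import Cfsg.Agent.Fusion.ModelTools
import Cfsg.Agent.Fusion.GTEngine
import Cfsg.Agent.Transfer.Frobenius

/-!
The Glauberman–Thompson criterion for saturated fusion systems.
-/

set_option autoImplicit false

namespace Cfsg.Lib.Fusion

open Cfsg Cfsg.FusionSystem
open scoped commutatorElement

universe u

variable {Ω : Type u} [Group Ω] {S : Subgroup Ω} {F : FusionSystem S} {p : ℕ}

theorem gt_main (hp : p ≠ 2) (n : ℕ) : ∀ {Ω : Type u} [Group Ω] (S : Subgroup Ω) [Finite S]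
    [Fact p.Prime], Nat.card S = n → IsPGroup p S → ∀ (m : ℕ) (F : FusionSystem S),
      mapCount F = m → F.IsSaturated p → ∀ (𝒜 : Set (Subgroup Ω)) (h𝒜 : IsGTFamily F 𝒜),
        IsInner (normalizerSystem F h𝒜.inter_le) → IsInner F := by
  induction n using Nat.strong_induction_on with
  | _ n ihS =>
  intro Ω _ S _ _ hcard hS m
  induction m using Nat.strong_induction_on with
  | _ m ihF =>
  intro F hm hF 𝒜 h𝒜 hZ
  classical
  obtain ⟨hSZ, hZinv⟩ := h𝒜.inter_props
  have hZle := h𝒜.inter_le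
  rw [isInner_normalizerSystem_iff] at hZ
  set Z : Subgroup Ω := ⨅ A ∈ 𝒜, A
  have hTZ : normalizerIn S Z = S := le_antisymm inf_le_left (le_inf le_rfl hSZ)
  haveI := finite_of_le hZle
  -- automorphisms of `S` are inner
  have htop : ∀ f : Ω → Ω, IsMap F S f → ∃ s ∈ S, ∀ x ∈ S, f x = s * x * s⁻¹ := by
    intro f hf
    have hfS : img S f = S := Subgroup.eq_of_le_of_card_ge hf.img_le hf.card_img.ge
    obtain ⟨α, hα, hαe⟩ := hf.exists_aut hfS
    have he : ExtendsWith F Z S f := by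
      refine ⟨f, (sup_eq_left.mpr hZle).symm ▸ hf, fun _ _ => rfl, ?_⟩
      rw [← img_congr (f := autFun α) fun x hx => hαe x (hZle hx)]
      exact autFun_apply_img hZle hα le_rfl (hZinv α hα)
    obtain ⟨s, hs, e⟩ := hZ S f hf hTZ.ge (fun x hx => hTZ.symm ▸ hf.mem_S hx) he
    exact ⟨s, hs.1, e⟩
  -- (1) a proper normalizer subsystem is inner
  have h1 : ∀ (V : Subgroup Ω) (hV : V ≤ S) (hn : S ≤ Subgroup.normalizer (V : Set Ω)),
      ¬ F.IsNormal V → IsInner (normalizerTop F hV hn) := by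
    intro V hV hn hnn
    set E := normalizerTop F hV hn
    have hle : ∀ (P : Subgroup Ω) (f : Ω → Ω), IsMap E P f → IsMap F P f :=
      fun P f h => (isMap_normalizerTop.mp h).1
    have hex : ∃ (P : Subgroup Ω) (f : Ω → Ω), IsMap F P f ∧ ¬ IsMap E P f := by
      by_contra hne
      push Not at hne
      exact hnn (isNormal_of_extendsWith hV fun P f hf => (isMap_normalizerTop.mp (hne P f hf)).2)
    obtain ⟨P₀, f₀, hf₀, hf₀'⟩ := hex
    have hfam : IsGTFamily E 𝒜 := ⟨h𝒜.mem, h𝒜.nonempty, fun Q hQ hA α hα =>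
      h𝒜.inv Q hQ hA α ((isMap_autFun hQ).mp (hle _ _ ((isMap_autFun hQ).mpr hα))), h𝒜.rep⟩
    refine ihF _ (hm ▸ mapCount_lt hle hf₀ hf₀') E rfl (saturated_normalizerTop hS hF hV hn) 𝒜 hfam ?_
    rw [isInner_normalizerSystem_iff]
    rintro P f hf hP hv ⟨k, hk, hkf, hki⟩
    exact hZ P f (hle _ _ hf) hP hv ⟨k, hle _ _ hk, hkf, hki⟩
  -- the largest normal subgroup
  obtain ⟨V, hVn, hVmax⟩ := Set.exists_max_image {V : Subgroup Ω | F.IsNormal V}
    (fun V => Nat.card V) (finite_subgroups_le.subset fun V hV => hV.1) ⟨⊥, isNormal_bot'⟩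
  haveI := finite_of_le hVn.1
  have hSV : S ≤ Subgroup.normalizer (V : Set Ω) := fun g hg => by
    have := normalizerIn_of_isNormal hVn ▸ hg
    exact this.2
  have hnot : ∀ R : Subgroup Ω, R ≤ S → V < R → ¬ F.IsNormal R := fun R hR hlt hRn => by
    haveI := finite_of_le hR
    exact hlt.ne (Subgroup.eq_of_le_of_card_ge hlt.le (hVmax R hRn))
  have hclass := isMapClass_isMap F (innerFusionSystem S)
  have hgood : ∀ (P : Subgroup Ω) (f : Ω → Ω), P ≤ S → (∃ s ∈ S, ∀ x ∈ P, f x = s * x * s⁻¹) →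
      IsMap (innerFusionSystem S) P f := fun P f hP h => isMap_inner_iff.mpr ⟨hP, h⟩
  have hfinish : (∀ Q : Subgroup Ω, Q < S → F.IsFullyNormalized Q → F.IsCentric Q →
      (∀ (T : Subgroup Ω) (f : Ω → Ω), Nat.card Q < Nat.card T → IsMap F T f →
        IsMap (innerFusionSystem S) T f) →
      ∀ α ∈ F.autGroup Q, IsMap (innerFusionSystem S) Q (autFun α)) → IsInner F := by
    intro hsite P f hf
    exact (isMap_inner_iff.mp (alperin_induction hS hF hclass
      (fun g hg => hgood S g le_rfl (htop g hg)) hsite hf)).2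
  rcases eq_or_ne V ⊥ with hVbot | hVbot
  · -- no normal subgroup: all nontrivial normalizer systems are inner
    subst hVbot
    have hall : ∀ U : Subgroup Ω, U ≠ ⊥ → ∀ hU : F.IsFullyNormalized U,
        IsInner (normalizerSystem F hU.1) := by
      by_contra hcon
      push Not at hcon
      obtain ⟨U₀, hU₀, hU₀n, hU₀bad⟩ := hcon
      obtain ⟨U, ⟨hUne, hUn, hUbad⟩, hUmax⟩ := Set.exists_max_image
        {U : Subgroup Ω | U ≠ ⊥ ∧ ∃ hU : F.IsFullyNormalized U, ¬ IsInner (normalizerSystem F hU.1)}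
        (fun U => Nat.card (normalizerIn S U))
        (finite_subgroups_le.subset fun U hU => hU.2.1.1) ⟨U₀, hU₀, hU₀n, hU₀bad⟩
      refine hUbad ?_
      rcases eq_or_ne (normalizerIn S U) S with hT | hT
      · -- normal in `S`
        have hn : S ≤ Subgroup.normalizer (U : Set Ω) := fun g hg => (hT.ge hg).2
        have hUnn := hnot U hUn.1 (bot_lt_iff_ne_bot.mpr hUne)
        rw [isInner_normalizerSystem_iff]
        intro P f hf hP hv he
        obtain ⟨s, hs, e⟩ := h1 U hUn.1 hn hUnn P f (isMap_normalizerTop.mpr ⟨hf, he⟩)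
        exact ⟨s, hT.ge hs, e⟩
      · set T := normalizerIn S U with hTdef
        have hTS : T ≤ S := inf_le_left
        haveI : Finite T := finite_of_le hTS
        have hTlt : T < S := lt_of_le_of_ne hTS hT
        have hTne : T ≠ ⊥ := fun h => hUne (le_bot_iff.mp (h ▸ le_normalizerIn hUn.1))
        have hTp : IsPGroup p T := hS.of_injective _ (Subgroup.inclusion_injective hTS)
        have hTcard : Nat.card T < n := by
          refine hcard ▸ lt_of_le_of_ne (Subgroup.card_le_of_le hTS) fun h => hT ?_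
          exact Subgroup.eq_of_le_of_card_ge hTS h.ge
        have hfam := isGTFamily_maxAb (normalizerSystem F hUn.1) (p := p) hp hTp
        refine ihS _ hTcard T rfl hTp _ _ rfl (saturated_normalizerSystem hS hF hUn) _ hfam ?_
        rw [isInner_normalizerSystem_iff]
        set W : Subgroup Ω := ⨅ A ∈ maxAb T, A
        have hWT : W ≤ T := hfam.inter_le
        have hWne : W ≠ ⊥ := iInf_maxAb_ne_bot hS hTS hTne
        haveI := finite_of_le (hWT.trans hTS)
        -- a larger normalizer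
        have hbig : ∀ g ∈ normalizerIn S T, g ∈ normalizerIn S W := fun g hg => by
          refine ⟨hg.1, mem_normalizer_of_maps_finite fun x hx => ?_⟩
          simp only [W, Subgroup.mem_iInf] at hx ⊢
          intro A hA
          have hm := isMap_conj (F := F) hTS (S.inv_mem hg.1)
          have h2 := hx _ (maxAb_img hA hm hA.1 fun y hy => by
            simpa using conj_mem_of_mem_normalizer (inv_mem hg.2) (hA.1 hy))
          obtain ⟨y, hy, e⟩ := (hm.mono hA.1).mem_img.mp h2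
          rw [← e]
          simpa [mul_assoc] using hy
        obtain ⟨W', hWW', hW'⟩ := exists_fullyNormalized (F := F) (hWT.trans hTS)
        obtain ⟨-, hW'fa, hW'rec⟩ := fullyNormalized_props hS hF hW'
        obtain ⟨c₀, hc₀, hc₀i⟩ := isConj_iff.mp hWW'
        obtain ⟨χ, -, c, hc, hci, -, hcN⟩ := exists_map_normalizer hS hW'fa hW'rec hc₀ hc₀i
        have hW'ne : W' ≠ ⊥ := fun h => hWne (Subgroup.card_eq_one.mp (by
          rw [← isConj_card hWW', h, Subgroup.card_bot]))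
        have hW'inner : IsInner (normalizerSystem F hW'.1) := by
          by_contra hbad
          have h2 := hUmax W' ⟨hW'ne, hW', hbad⟩
          haveI : Finite (normalizerIn S W') := finite_of_le inf_le_left
          have h3 : Nat.card (normalizerIn S W) ≤ Nat.card (normalizerIn S W') :=
            card_le_of_isMap hc le_rfl inf_le_left hcN
          have h4 : Nat.card T < Nat.card (normalizerIn S W) := by
            haveI : Finite (normalizerIn S W) := finite_of_le inf_le_left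
            haveI : Finite (normalizerIn S T) := finite_of_le inf_le_left
            refine lt_of_lt_of_le ?_ (Subgroup.card_le_of_le (fun g hg => hbig g hg))
            have hlt := lt_normalizerIn hS hTlt
            refine lt_of_le_of_ne (Subgroup.card_le_of_le hlt.le) fun h => hlt.ne ?_
            exact Subgroup.eq_of_le_of_card_ge hlt.le h.ge
          omega
        rw [isInner_normalizerSystem_iff] at hW'inner
        have hTW : T ≤ normalizerIn S W := fun g hg => hbig g (le_normalizerIn hTS hg)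
        intro P f hf hP hv he
        obtain ⟨k, hk, hkf, hki⟩ := he
        obtain ⟨hPT, hvT, hfF, -⟩ :=
          (isMap_of_isNormalizerSystem (isNormalizerSystem_normalizerSystem hUn.1)).mp hf
        obtain ⟨hkT, hkvT, hkF, j, hj, hjk, hji⟩ :=
          (isMap_of_isNormalizerSystem (isNormalizerSystem_normalizerSystem hUn.1)).mp hk
        set R := P ⊔ W ⊔ U
        have hRT : R ≤ T := sup_le hkT (le_normalizerIn hUn.1)
        haveI := finite_of_le (hRT.trans hTS)
        have hjR : ∀ x ∈ R, j x ∈ T := fun x hx => by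
          have h := hj.mem_normalizerIn le_sup_right hx (hRT hx).2
          rwa [hji] at h
        have hcR : IsMap F R c := hc.mono (hRT.trans hTW)
        obtain ⟨d, hd, -, hdl, -⟩ := hcR.exists_inv
        have hdR : ∀ y ∈ img R c, d y ∈ R := fun y hy => by
          obtain ⟨x, hx, rfl⟩ := hcR.mem_img.mp hy
          rwa [hdl x hx]
        have hg : IsMap F (img R c) (c ∘ (j ∘ d)) :=
          (hd.comp hj hdR).comp hc fun y hy => hTW (hjR _ (hdR y hy))
        have hWR : W ≤ R := le_sup_of_le_left le_sup_right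
        have hW'R : W' ≤ img R c := hci ▸ img_mono hWR c
        obtain ⟨s, hs, es⟩ := hW'inner (img R c) _ hg
          (IsMap.img_le_iff.mpr fun x hx => hcN x (hTW (hRT hx)))
          (fun y hy => hcN _ (hTW (hjR _ (hdR y hy))))
          ⟨c ∘ (j ∘ d), (sup_eq_left.mpr hW'R).symm ▸ hg, fun _ _ => rfl, by
            haveI := finite_of_le hW'.1
            refine Subgroup.eq_of_le_of_card_ge (IsMap.img_le_iff.mpr fun y hy => ?_)
              (hg.mono hW'R).card_img.ge
            obtain ⟨x, hx, rfl⟩ := (hcR.mono hWR).mem_img.mp (hci.symm ▸ hy)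
            show c (j (d (c x))) ∈ W'
            rw [hdl x (hWR hx), hjk x (Subgroup.mem_sup_right hx), ← hci]
            exact IsMap.apply_mem_img (IsMap.img_le_iff.mp hki.le x hx)⟩
        -- `s` comes from `T`
        set U₂ := img U c
        have hUR : U ≤ R := le_sup_right
        have hU₂S : U₂ ≤ S := (hcR.mono hUR).img_le
        haveI := finite_of_le hU₂S
        have hsU₂ : s ∈ normalizerIn S U₂ := ⟨hs.1, mem_normalizer_of_maps_finite fun y hy => by
          obtain ⟨x, hx, rfl⟩ := (hcR.mono hUR).mem_img.mp hy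
          rw [← es _ (IsMap.apply_mem_img (hUR hx))]
          show c (j (d (c x))) ∈ U₂
          rw [hdl x (hUR hx)]
          exact IsMap.apply_mem_img (IsMap.img_le_iff.mp hji.le x hx)⟩
        obtain ⟨t, ht, hts⟩ := exists_preimage_of_card_le hc hTW inf_le_left
          (fun g hg => hc.mem_normalizerIn (hRT.trans hTW |>.trans' hUR) (hTW hg) hg.2)
          (hUn.2 U₂ (isConj_iff.mpr ⟨c, hcR.mono hUR, rfl⟩)) hsU₂
        refine ⟨t, ⟨ht, (hbig t (le_normalizerIn hTS ht)).2⟩, fun x hx => ?_⟩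
        have hxR : x ∈ R := Subgroup.mem_sup_left (Subgroup.mem_sup_left hx)
        have e := es (c x) (IsMap.apply_mem_img hxR)
        change c (j (d (c x))) = s * c x * s⁻¹ at e
        rw [hdl x hxR, hjk x (Subgroup.mem_sup_left hx), hkf x hx, ← hts,
          ← hc.map_conj (hTW ht) (hTW (hRT hxR))] at e
        exact hc.injOn (hTW (hvT x hx)) ((normalizerIn S W).mul_mem ((normalizerIn S W).mul_mem
          (hTW ht) (hTW (hRT hxR))) ((normalizerIn S W).inv_mem (hTW ht))) e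
    refine hfinish fun Q hQS hQn hQc _ α hα => ?_
    have hQne : Q ≠ ⊥ := by
      rintro rfl
      have hC := hQc.2 ⊥ (isConj_refl bot_le)
      exact hQS.ne (le_antisymm bot_le fun x hx => hC (mem_centralizerIn.mpr
        ⟨hx, fun y hy => by rw [Subgroup.mem_bot.mp hy]; group⟩))
    obtain ⟨s, hs, e⟩ := (isInner_normalizerSystem_iff hQn.1).mp (hall Q hQne hQn) Q (autFun α)
      ((isMap_autFun hQn.1).mpr hα) (le_normalizerIn hQn.1)
      (fun x hx => le_normalizerIn hQn.1 (autFun_mem α hx))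
      ⟨autFun α, by rw [sup_idem]; exact (isMap_autFun hQn.1).mpr hα, fun _ _ => rfl, img_autFun α⟩
    exact hgood Q _ hQn.1 ⟨s, hs.1, e⟩
  rcases eq_or_ne V S with hVS | hVS
  · intro P f hf
    obtain ⟨k, hk, hkf, -⟩ := extend_of_isNormal hVn hf
    obtain ⟨s, hs, e⟩ := htop k (hk.mono (hVS ▸ le_sup_right))
    exact ⟨s, hs, fun x hx => by rw [← hkf x hx, e x (hf.le hx)]⟩
  -- the quotient by `V`
  have hW : ∀ (R : Subgroup Ω) (hR : R ≤ S) (hn : S ≤ Subgroup.normalizer (R : Set Ω)), V < R →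
      IsInner (normalizerTop F hR hn) := fun R hR hn hlt => h1 R hR hn (hnot R hR hlt)
  have hmod := exists_conj_mod hp hS hF hVn hSV hVbot hVS hW
    fun T _ hlt hT E hE 𝒜' h𝒜' h => ihS _ (hcard ▸ hlt) T rfl hT _ E rfl hE 𝒜' h𝒜' h
  by_cases hcen : centralizerIn S V ≤ V
  · -- constrained
    have hVfn := fullyNormalized_of_isNormal hVn
    have hVc : F.IsCentric V :=
      centric_of_fullyCentralized hS hF (fullyNormalized_props hS hF hVfn).1 hcen
    obtain ⟨L, _, ι, ⟨hL, hreal, ⟨U, hU⟩, -⟩, hnor, hcenL⟩ := exists_isModel hS hF hVn hVc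
    set VL := (V.subgroupOf S).map ι
    haveI := hnor
    haveI := hL
    have hVLp : IsPGroup p VL := (hS.to_subgroup _).map _
    have hVLU : VL ≤ (U : Subgroup L) := hU ▸ Subgroup.map_le_range _ _
    have hnil : HasNormalPComplement p (L ⧸ VL) := by
      refine Cfsg.Lib.Transfer.hasNormalPComplement_of_frobenius fun Q' hQ' g hg hgc => ?_
      set π := QuotientGroup.mk' VL
      set M := Q'.comap π
      have hMp : IsPGroup p M := IsPGroup.comap_of_ker_isPGroup hQ' π (by rwa [QuotientGroup.ker_mk'])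
      obtain ⟨Y, hY⟩ := hMp.exists_le_sylow
      obtain ⟨a, rfl⟩ := MulAction.exists_smul_eq L Y U
      have haM : ∀ x ∈ M, a * x * a⁻¹ ∈ ι.range := fun x hx => by
        rw [← hU, Sylow.coe_subgroup_smul, Subgroup.mem_smul_pointwise_iff_exists]
        exact ⟨x, hY hx, rfl⟩
      obtain ⟨g₀, rfl⟩ := QuotientGroup.mk'_surjective VL g
      set g' := a * g₀ * a⁻¹
      let A : Subgroup S := M.comap ((MulAut.conj a⁻¹).toMonoidHom.comp ι)
      have hA : ∀ x : S, x ∈ A ↔ a⁻¹ * ι x * a ∈ M := fun x => by simp [A, mul_assoc]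
      set P := A.map S.subtype
      have hPS : P ≤ S := Subgroup.map_subtype_le _
      have hPA : ∀ x : S, (x : Ω) ∈ P ↔ x ∈ A := fun x =>
        ⟨fun ⟨y, hy, e⟩ => Subtype.ext e ▸ hy, fun hx => ⟨x, hx, rfl⟩⟩
      have hVP : V ≤ P := fun x hx => (hPA ⟨x, hVn.1 hx⟩).mpr ((hA _).mpr (by
        have h2 := hnor.conj_mem _ (⟨⟨x, hVn.1 hx⟩, hx, rfl⟩ : ι ⟨x, hVn.1 hx⟩ ∈ VL) a⁻¹
        rw [inv_inv] at h2
        show π _ ∈ Q'
        rw [show π (a⁻¹ * ι ⟨x, hVn.1 hx⟩ * a) = 1 from (QuotientGroup.eq_one_iff _).mpr h2]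
        exact Q'.one_mem))
      have hgM : ∀ x ∈ M, g₀ * x * g₀⁻¹ ∈ M := fun x hx => by
        show π _ ∈ Q'
        rw [map_mul, map_mul, map_inv]
        exact conj_mem_of_mem_normalizer (Ω := L ⧸ VL) hg hx
      obtain ⟨f, hf, -, hfe⟩ := exists_isMap_of_elt hreal hPS g' fun x hx => by
        rw [show g' * ι x * g'⁻¹ = a * (g₀ * (a⁻¹ * ι x * a) * g₀⁻¹) * a⁻¹ by simp [g']; group]
        exact haM _ (hgM _ ((hA x).mp ((hPA x).mp hx)))
      obtain ⟨s, hs, es⟩ := hmod P f hf hVP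
      -- the two actions agree modulo `VL`
      have key : ∀ x : S, x ∈ A → π (g' * ι x * g'⁻¹) = π (ι ⟨s, hs⟩ * ι x * (ι ⟨s, hs⟩)⁻¹) := by
        intro x hx
        have hxP := (hPA x).mpr hx
        have e1 := (hfe x hxP ⟨f x, hf.mem_S hxP⟩).mp rfl
        rw [← e1, ← map_inv ι, ← map_mul ι, ← map_mul ι]
        refine (QuotientGroup.eq).mpr ?_
        rw [← map_inv, ← map_mul]
        refine ⟨_, ?_, rfl⟩
        refine Subgroup.mem_subgroupOf.mpr ?_
        have h3 := V.inv_mem (es x hxP)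
        rw [mul_inv_rev, inv_inv] at h3
        exact h3
      intro y hy
      obtain ⟨y₀, rfl⟩ := QuotientGroup.mk'_surjective VL y
      set w := π a⁻¹ * π (ι ⟨s, hs⟩) * π a with hw
      have key' : ∀ z₀ ∈ M, π g₀ * π z₀ * (π g₀)⁻¹ = w * π z₀ * w⁻¹ := by
        intro z₀ hz₀
        obtain ⟨x, hx⟩ := haM z₀ hz₀
        have hxA : x ∈ A := (hA x).mpr (by rw [hx]; simpa [mul_assoc] using hz₀)
        have h2 := key x hxA
        rw [hx] at h2
        simp only [g', map_mul, map_inv] at h2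
        calc π g₀ * π z₀ * (π g₀)⁻¹ = (π a)⁻¹ * (π a * π g₀ * (π a)⁻¹ *
              (π a * π z₀ * (π a)⁻¹) * (π a * π g₀ * (π a)⁻¹)⁻¹) * π a := by group
          _ = _ := by rw [h2, hw, map_inv]; group
      have hiter : ∀ k : ℕ, ∀ z₀ ∈ M, (π g₀) ^ k * π z₀ * ((π g₀) ^ k)⁻¹ = w ^ k * π z₀ * (w ^ k)⁻¹ := by
        intro k
        induction k with
        | zero => intro z₀ _; simp
        | succ k ih =>
          intro z₀ hz₀
          have h3 := key' z₀ hz₀
          have h4 := ih (g₀ * z₀ * g₀⁻¹) (hgM z₀ hz₀)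
          rw [map_mul, map_mul, map_inv] at h4
          calc (π g₀) ^ (k + 1) * π z₀ * ((π g₀) ^ (k + 1))⁻¹
              = (π g₀) ^ k * (π g₀ * π z₀ * (π g₀)⁻¹) * ((π g₀) ^ k)⁻¹ := by rw [pow_succ]; group
            _ = w ^ k * (π g₀ * π z₀ * (π g₀)⁻¹) * (w ^ k)⁻¹ := h4
            _ = _ := by rw [h3, pow_succ]; group
      have hwp : ∃ i : ℕ, w ^ p ^ i = 1 := by
        obtain ⟨i, hi⟩ := hS ⟨s, hs⟩
        refine ⟨i, ?_⟩
        have e : w = (π a)⁻¹ * π (ι ⟨s, hs⟩) * ((π a)⁻¹)⁻¹ := by rw [hw, map_inv, inv_inv]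
        rw [e, conj_pow, ← map_pow, ← map_pow, hi, map_one, map_one, mul_one, mul_inv_cancel]
      obtain ⟨k, hk1, hk2⟩ := coprime_conj_trick hgc hwp
      have h5 := hiter k y₀ hy
      rw [hk1, hk2, one_mul, inv_one, mul_one] at h5
      exact (mul_inv_eq_iff_eq_mul.mp h5).symm
    let toL : Subgroup Ω → Subgroup L := fun A => (A.subgroupOf S).map ι
    let 𝒜L : Set (Subgroup L) := toL '' 𝒜
    have htoL : ∀ (A : Subgroup Ω) (x : S), ι x ∈ toL A ↔ (x : Ω) ∈ A := fun A x =>
      ⟨fun ⟨y, hy, e⟩ => hreal.1 e ▸ hy, fun hx => ⟨x, hx, rfl⟩⟩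
    let fromL : Subgroup L → Subgroup Ω := fun B => (B.comap ι).map S.subtype
    have hfrom : ∀ (B : Subgroup L) (x : S), (x : Ω) ∈ fromL B ↔ ι x ∈ B := fun B x =>
      ⟨fun ⟨y, hy, e⟩ => Subtype.ext e ▸ hy, fun hx => ⟨x, hx, rfl⟩⟩
    have hback : ∀ B : Subgroup L, B ≤ ι.range → toL (fromL B) = B := fun B hB => by
      ext y
      constructor
      · rintro ⟨x, hx, rfl⟩
        exact (hfrom B x).mp hx
      · intro hy
        obtain ⟨x, rfl⟩ := hB hy
        exact (htoL _ x).mpr ((hfrom B x).mpr hy)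
    have htoLm : ∀ A B : Subgroup Ω, A ≤ S → (toL A ≤ toL B ↔ A ≤ B) := fun A B hA =>
      ⟨fun h x hx => (htoL B ⟨x, hA hx⟩).mp (h ((htoL A ⟨x, hA hx⟩).mpr hx)),
        fun h => Subgroup.map_mono fun x hx => h hx⟩
    have htoLc : ∀ A B : Subgroup Ω, A ≤ S → B ≤ S → toL ⁅A, B⁆ = ⁅toL A, toL B⁆ := by
      intro A B hA hB
      show (⁅A, B⁆.subgroupOf S).map ι = ⁅(A.subgroupOf S).map ι, (B.subgroupOf S).map ι⁆
      rw [← Subgroup.map_commutator]
      refine congrArg (Subgroup.map ι) ?_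
      refine Subgroup.map_injective S.subtype_injective ?_
      rw [Subgroup.map_commutator, Subgroup.subgroupOf_map_subtype, Subgroup.subgroupOf_map_subtype,
        Subgroup.subgroupOf_map_subtype, inf_eq_left.mpr hA, inf_eq_left.mpr hB,
        inf_eq_left.mpr ((Subgroup.commutator_mono hA hB).trans
          (Subgroup.commutator_le.mpr fun x hx y hy =>
            S.mul_mem (S.mul_mem (S.mul_mem hx hy) (S.inv_mem hx)) (S.inv_mem hy)))]
    have hinter : ∀ (B : Subgroup L) (x : S), ι x ∈ familyInter 𝒜L B ↔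
        (x : Ω) ∈ familyInter 𝒜 (fromL B) := by
      intro B x
      simp only [mem_familyInter]
      constructor
      · intro h A hA hAB
        exact (htoL A x).mp (h _ ⟨A, hA, rfl⟩ (by
          rintro _ ⟨y, hy, rfl⟩
          exact (hfrom B y).mp (hAB hy)))
      · rintro h _ ⟨A, hA, rfl⟩ hAB
        exact (htoL A x).mpr (h A hA fun y hy =>
          (hfrom B ⟨y, (h𝒜.mem A hA).1 hy⟩).mpr (hAB ((htoL A ⟨y, _⟩).mpr hy)))
    have hnorm : ∀ (B : Subgroup Ω) (s : S), B ≤ S → ι s ∈ Subgroup.normalizer (toL B : Set L) →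
        (s : Ω) ∈ Subgroup.normalizer (B : Set Ω) := fun B s hB hs => by
      haveI := finite_of_le hB
      refine mem_normalizer_of_maps_finite fun y hy => ?_
      have h2 := conj_mem_of_mem_normalizer (Ω := L) hs ((htoL B ⟨y, hB hy⟩).mpr hy)
      rw [← map_inv, ← map_mul, ← map_mul] at h2
      exact (htoL B _).mp h2
    have hLtop := sylow_eq_top_of_criterion hp U VL hVLU hcenL hnil 𝒜L
      (by
        rintro _ ⟨A, hA, rfl⟩
        refine ⟨hU ▸ Subgroup.map_le_range _ _, ?_⟩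
        haveI := (h𝒜.mem A hA).2
        haveI : IsMulCommutative (A.subgroupOf S) := inferInstance
        exact inferInstanceAs (IsMulCommutative ((A.subgroupOf S).map ι)))
      (h𝒜.nonempty.image _)
      (by
        rintro Q' hQ' ⟨_, ⟨A, hA, rfl⟩, hle⟩ g hg x hx
        set Q := fromL Q'
        have hQS : Q ≤ S := Subgroup.map_subtype_le _
        haveI := finite_of_le hQS
        obtain ⟨f, hf, -, hfe⟩ := exists_isMap_of_elt hreal hQS g fun y hy =>
          hU ▸ hQ' (conj_mem_of_mem_normalizer hg ((hfrom Q' y).mp hy))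
        have hfi : img Q f = Q := by
          refine Subgroup.eq_of_le_of_card_ge (IsMap.img_le_iff.mpr fun y hy => ?_) hf.card_img.ge
          refine (hfrom Q' ⟨f y, hf.mem_S hy⟩).mpr ?_
          rw [(hfe ⟨y, hQS hy⟩ hy ⟨f y, hf.mem_S hy⟩).mp rfl]
          exact conj_mem_of_mem_normalizer hg ((hfrom Q' ⟨y, hQS hy⟩).mp hy)
        obtain ⟨α, hα, hαe⟩ := hf.exists_aut hfi
        have hxQ' : x ∈ Q' := hle (mem_familyInter.mp hx _ ⟨A, hA, rfl⟩ hle)
        obtain ⟨x, rfl⟩ := hU.le (hQ' hxQ')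
        have hxQ : (x : Ω) ∈ Q := (hfrom Q' x).mpr hxQ'
        have h2 := h𝒜.inv Q hQS ⟨A, hA, fun y hy =>
            (hfrom Q' ⟨y, (h𝒜.mem A hA).1 hy⟩).mpr (hle ((htoL A ⟨y, _⟩).mpr hy))⟩
          α hα x hxQ ((hinter Q' x).mp hx)
        rw [hαe _ hxQ] at h2
        rw [← (hfe x hxQ ⟨f x, hf.mem_S hxQ⟩).mp rfl]
        exact (hinter Q' _).mpr h2)
      (by
        rintro B hB hSB hcl ⟨_, ⟨A₁, hA₁, rfl⟩, h1B, h2B⟩
        set B' := fromL B
        have hB'S : B' ≤ S := Subgroup.map_subtype_le _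
        have hBeq : toL B' = B := hback B (hB.trans hU.le)
        have hc2 : ⁅B', B'⁆ ≤ S := Subgroup.commutator_le.mpr fun x hx y hy =>
          S.mul_mem (S.mul_mem (S.mul_mem (hB'S hx) (hB'S hy)) (S.inv_mem (hB'S hx))) (S.inv_mem (hB'S hy))
        rw [← hBeq, ← htoLc _ _ hB'S hB'S] at h1B
        rw [← hBeq, ← htoLc _ _ hB'S hB'S, ← htoLc _ _ hc2 hB'S] at hcl
        rw [← hBeq] at h2B
        have hcl' : ⁅⁅B', B'⁆, B'⁆ = ⊥ := by
          refine (Subgroup.eq_bot_iff_forall _).mpr fun z hz => ?_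
          have hzS : z ∈ S := Subgroup.commutator_le.mpr (fun x hx y hy =>
            S.mul_mem (S.mul_mem (S.mul_mem (hc2 hx) (hB'S hy)) (S.inv_mem (hc2 hx)))
              (S.inv_mem (hB'S hy))) hz
          have h2 := hcl ▸ (htoL _ ⟨z, hzS⟩).mpr hz
          exact congrArg Subtype.val (hreal.1 ((Subgroup.mem_bot.mp h2).trans (map_one ι).symm))
        obtain ⟨A, hA, e1, e2, e3⟩ := h𝒜.rep B' hB'S
          (fun s hs => hnorm B' ⟨s, hs⟩ hB'S (hBeq.symm ▸ hSB (hU.symm ▸ ⟨_, rfl⟩)))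
          hcl' ⟨A₁, hA₁, (htoLm _ _ hc2).mp h1B, fun h => h2B ((htoLm _ _ hB'S).mpr h)⟩
        refine ⟨toL A, ⟨A, hA, rfl⟩, ?_, ?_, ?_⟩
        · rw [← hBeq, ← htoLc _ _ hB'S hB'S]
          exact (htoLm _ _ hc2).mpr e1
        · rw [← hBeq]
          exact fun h => e2 ((htoLm _ _ hB'S).mp h)
        · rw [← hBeq]
          rintro _ ⟨b, hb, rfl⟩
          refine Subgroup.le_normalizer_map ι ⟨b, ?_, rfl⟩
          refine Subgroup.mem_normalizer_iff.mpr fun y => ?_
          simp only [Subgroup.mem_subgroupOf, Subgroup.coe_mul, Subgroup.coe_inv]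
          exact Subgroup.mem_normalizer_iff.mp (e3 hb) y)
      (by
        intro g hg
        have hZL : ∀ x : S, ι x ∈ (⨅ A ∈ 𝒜L, A : Subgroup L) ↔ (x : Ω) ∈ Z := by
          intro x
          simp only [Z, 𝒜L, Subgroup.mem_iInf, Set.forall_mem_image]
          exact forall₂_congr fun A _ => htoL A x
        have hZLr : (⨅ A ∈ 𝒜L, A : Subgroup L) ≤ ι.range := by
          obtain ⟨A, hA⟩ := h𝒜.nonempty
          exact (iInf₂_le (toL A) ⟨A, hA, rfl⟩).trans (Subgroup.map_le_range _ _)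
        set P := Z ⊔ V
        have hPS : P ≤ S := sup_le hZle hVn.1
        have hconj : ∀ x : S, (x : Ω) ∈ P → g * ι x * g⁻¹ ∈ ι.range := by
          have hle : P ≤ (ι.range.comap ((MulAut.conj g).toMonoidHom.comp ι)).map S.subtype := by
            refine sup_le (fun y hy => ⟨⟨y, hZle hy⟩, hZLr ?_, rfl⟩)
              (fun y hy => ⟨⟨y, hVn.1 hy⟩, ?_, rfl⟩)
            · exact conj_mem_of_mem_normalizer hg ((hZL ⟨y, hZle hy⟩).mpr hy)
            · obtain ⟨z, -, e⟩ := hnor.conj_mem _ (⟨⟨y, hVn.1 hy⟩, hy, rfl⟩ : ι ⟨y, hVn.1 hy⟩ ∈ VL) g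
              exact ⟨z, e⟩
          intro x hx
          obtain ⟨y, hy, e⟩ := hle hx
          obtain rfl := Subtype.ext e
          exact hy
        obtain ⟨f, hf, -, hfe⟩ := exists_isMap_of_elt hreal hPS g hconj
        obtain ⟨s, hs, es⟩ := hZ P f hf (hTZ.symm ▸ hPS) (fun x hx => hTZ.symm ▸ hf.mem_S hx)
          ⟨f, by rw [sup_eq_left.mpr (le_sup_left : Z ≤ P)]; exact hf, fun _ _ => rfl, by
            refine Subgroup.eq_of_le_of_card_ge (IsMap.img_le_iff.mpr fun x hx => ?_)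
              (hf.mono (le_sup_left : Z ≤ P)).card_img.ge
            have hxP : x ∈ P := Subgroup.mem_sup_left hx
            refine (hZL ⟨f x, hf.mem_S hxP⟩).mp ?_
            rw [(hfe ⟨x, hPS hxP⟩ hxP ⟨f x, hf.mem_S hxP⟩).mp rfl]
            exact conj_mem_of_mem_normalizer hg ((hZL ⟨x, hZle hx⟩).mpr hx)⟩
        have h2 : (ι ⟨s, hs.1⟩)⁻¹ * g ∈ Subgroup.centralizer (VL : Set L) := by
          refine Subgroup.mem_centralizer_iff.mpr ?_
          rintro _ ⟨x, hx, rfl⟩
          have hxP : (x : Ω) ∈ P := Subgroup.mem_sup_right hx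
          have e := (hfe x hxP (⟨s, hs.1⟩ * x * ⟨s, hs.1⟩⁻¹)).mp (es x hxP).symm
          rw [map_mul, map_mul, map_inv] at e
          calc ι x * ((ι ⟨s, hs.1⟩)⁻¹ * g) = (ι ⟨s, hs.1⟩)⁻¹ * (ι ⟨s, hs.1⟩ * ι x * (ι ⟨s, hs.1⟩)⁻¹) * g := by group
            _ = _ := by rw [e]; group
        have h3 := hVLU (hcenL h2)
        have h4 := Subgroup.mul_mem _ (show ι ⟨s, hs.1⟩ ∈ (U : Subgroup L) by rw [hU]; exact ⟨_, rfl⟩) h3
        rwa [mul_inv_cancel_left] at h4)
    intro P f hf
    obtain ⟨g, hg⟩ := exists_elt_of_isMap hreal hf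
    obtain ⟨s, rfl⟩ : g ∈ ι.range := hU ▸ hLtop.symm ▸ Subgroup.mem_top g
    refine ⟨s, s.2, fun x hx => ?_⟩
    have h5 := hg ⟨x, hf.le hx⟩ hx ⟨f x, hf.mem_S hx⟩ rfl
    rw [← map_inv, ← map_mul, ← map_mul] at h5
    exact congrArg Subtype.val (hreal.1 h5)
  exact isInner_of_noncentric hS hF hVn hSV hcen htop hW hmod

/-- **The Glauberman–Thompson criterion.** -/
theorem isInner_of_normalizer [Finite S] [Fact p.Prime] (hp : p ≠ 2) (hS : IsPGroup p S)
    (hF : F.IsSaturated p) {𝒜 : Set (Subgroup Ω)} (h𝒜 : IsGTFamily F 𝒜)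
    (hZ : IsInner (normalizerSystem F h𝒜.inter_le)) : IsInner F :=
  gt_main hp _ S rfl hS _ F rfl hF 𝒜 h𝒜 hZ

end Cfsg.Lib.Fusion
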