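import Mathlib

/-!
A `p'`-group of operators normalized by a quadratically acting element of odd prime order `p`
without fixed points acts trivially on an abelian `p`-group.
-/

set_option autoImplicit false

namespace Cfsg.Lib.Fusion

variable {X V : Type*} [Group X] [CommGroup V] {p : ℕ}

theorem quad_pow_apply (ρ : X →* MulAut V) {x : X}
    (hquad : ∀ v : V, ρ x (ρ x v / v) = ρ x v / v) (i : ℕ) (v : V) :
    ρ (x ^ i) v = v * (ρ x v / v) ^ i := by
  induction i with
  | zero => simp
  | succ i ih =>
    rw [pow_succ', map_mul, MulAut.mul_apply, ih, map_mul, map_pow (ρ x), hquad, pow_succ']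
    rw [← mul_assoc, mul_div_cancel]

theorem quad_pow (ρ : X →* MulAut V) {x : X}
    (hquad : ∀ v : V, ρ x (ρ x v / v) = ρ x v / v) (i : ℕ) (v : V) :
    ρ (x ^ i) (ρ (x ^ i) v / v) = ρ (x ^ i) v / v := by
  have e : ρ (x ^ i) v / v = (ρ x v / v) ^ i := by
    rw [quad_pow_apply ρ hquad, mul_div_cancel_left]
  rw [e, quad_pow_apply ρ hquad, map_pow (ρ x), hquad, div_self', one_pow, mul_one]

theorem trivial_of_quadratic [Fact p.Prime] [Finite X] [Finite V] (hV : IsPGroup p V) (hp : p ≠ 2)
    (ρ : X →* MulAut V) (N : Subgroup X) (hN : (Nat.card N).Coprime p) {x : X}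
    (hxN : ∀ n ∈ N, x * n * x⁻¹ ∈ N) (hx : x ^ p = 1)
    (hfix : ∀ n ∈ N, x * n = n * x → n = 1)
    (hquad : ∀ v : V, ρ x (ρ x v / v) = ρ x v / v) :
    ∀ n ∈ N, ∀ v : V, ρ n v = v := by
  classical
  have : Fintype N := Fintype.ofFinite _
  have hpp : p.Prime := Fact.out
  -- elementary elements
  have base : ∀ v : V, v ^ p = 1 → ∀ n ∈ N, ρ n v = v := by
    intro v hv
    have hzero : ∀ w : V, w ^ p = 1 → ∏ i ∈ Finset.range p, ρ (x ^ i) w = 1 := by
      intro w hw
      simp only [quad_pow_apply ρ hquad]
      rw [Finset.prod_mul_distrib, Finset.prod_const, Finset.card_range, hw, one_mul,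
        Finset.prod_pow_eq_pow_sum]
      have ht : (ρ x w / w) ^ p = 1 := by rw [div_pow, ← map_pow, hw, map_one, div_one]
      have hdvd : p ∣ ∑ i ∈ Finset.range p, i := by
        refine (((Nat.coprime_primes hpp Nat.prime_two).mpr hp).dvd_of_dvd_mul_right ?_)
        rw [Finset.sum_range_id_mul_two]
        exact dvd_mul_right p _
      obtain ⟨c, hc⟩ := hdvd
      rw [hc, pow_mul, ht, one_pow]
    -- reindexing each coset
    have hcoset : ∀ i ∈ Finset.range (p - 1),
        ∏ n : N, ρ ((n : X) * x ^ (i + 1) * (n : X)⁻¹) v =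
          ∏ m : N, ρ (m : X) (ρ (x ^ (i + 1)) v) := by
      intro i hi
      have hxi : ∀ n ∈ N, x ^ (i + 1) * n * (x ^ (i + 1))⁻¹ ∈ N := by
        intro n hn
        induction i + 1 generalizing n with
        | zero => simpa using hn
        | succ j ih =>
          have h := hxN _ (ih n hn)
          rw [pow_succ', mul_inv_rev]
          simpa [mul_assoc] using h
      let σ : N → N := fun n => ⟨(n : X) * (x ^ (i + 1) * (n : X)⁻¹ * (x ^ (i + 1))⁻¹),
        N.mul_mem n.2 (hxi _ (N.inv_mem n.2))⟩
      have hσ : Function.Injective σ := by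
        intro a b e
        have e1 : (a : X) * (x ^ (i + 1) * (a : X)⁻¹) = b * (x ^ (i + 1) * (b : X)⁻¹) := by
          have := congrArg (fun z : N => (z : X) * x ^ (i + 1)) e
          simpa [σ, mul_assoc] using this
        have hc : Commute ((b : X)⁻¹ * a) (x ^ (i + 1)) := by
          show (b : X)⁻¹ * a * x ^ (i + 1) = x ^ (i + 1) * ((b : X)⁻¹ * a)
          calc (b : X)⁻¹ * a * x ^ (i + 1)
              = (b : X)⁻¹ * ((a : X) * (x ^ (i + 1) * (a : X)⁻¹)) * a := by group
            _ = _ := by rw [e1]; group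
        have hcop : Nat.Coprime (i + 1) (orderOf x) := by
          refine Nat.Coprime.coprime_dvd_right (orderOf_dvd_of_pow_eq_one hx) ?_
          refine ((hpp.coprime_iff_not_dvd).mpr (Nat.not_dvd_of_pos_of_lt (Nat.succ_pos i) ?_)).symm
          have := Finset.mem_range.mp hi
          omega
        obtain ⟨j, hj⟩ := exists_pow_eq_self_of_coprime hcop
        have hc' : Commute ((b : X)⁻¹ * a) x := hj ▸ hc.pow_right j
        have := hfix _ (N.mul_mem (N.inv_mem b.2) a.2) hc'.eq.symm
        exact Subtype.ext (inv_mul_eq_one.mp this).symm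
      refine Fintype.prod_bijective σ ⟨hσ, Finite.surjective_of_injective hσ⟩ _ _ fun n => ?_
      show _ = ρ ((n : X) * (x ^ (i + 1) * (n : X)⁻¹ * (x ^ (i + 1))⁻¹)) (ρ (x ^ (i + 1)) v)
      rw [← MulAut.mul_apply, ← map_mul]
      congr 2
      group
    have hinv : ∏ i ∈ Finset.range (p - 1), ρ (x ^ (i + 1)) v = v⁻¹ := by
      have h := hzero v hv
      rw [← Nat.sub_add_cancel hpp.one_le, Finset.prod_range_succ', pow_zero, map_one,
        MulAut.one_apply] at h
      exact eq_inv_of_mul_eq_one_left h
    have htot : ∏ n : N, ∏ i ∈ Finset.range p, ρ ((n : X) * x ^ i * (n : X)⁻¹) v = 1 := by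
      refine Finset.prod_eq_one fun n _ => ?_
      have e : ∀ i, ρ ((n : X) * x ^ i * (n : X)⁻¹) v =
          ρ (n : X) (ρ (x ^ i) (ρ (n : X)⁻¹ v)) := fun i => by
        rw [map_mul, map_mul, MulAut.mul_apply, MulAut.mul_apply]
      simp only [e]
      rw [← map_prod, hzero _ (by rw [← map_pow, hv, map_one]), map_one]
    have hsum : v ^ Fintype.card N = ∏ m : N, ρ (m : X) v := by
      rw [← Nat.sub_add_cancel hpp.one_le] at htot
      simp only [Finset.prod_range_succ', pow_zero, mul_one, mul_inv_cancel, map_one,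
        MulAut.one_apply] at htot
      rw [Finset.prod_mul_distrib, Finset.prod_comm, Finset.prod_congr rfl hcoset,
        Finset.prod_comm, Finset.prod_const, Finset.card_univ] at htot
      simp only [← map_prod, hinv, map_inv, Finset.prod_inv_distrib] at htot
      exact (inv_mul_eq_one.mp htot).symm
    intro n hn
    have hfixed : ρ n (∏ m : N, ρ (m : X) v) = ∏ m : N, ρ (m : X) v := by
      rw [map_prod]
      refine Fintype.prod_equiv (Equiv.mulLeft (⟨n, hn⟩ : N)) _ _ fun m => ?_
      show ρ n (ρ (m : X) v) = ρ (n * (m : X)) v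
      rw [map_mul, MulAut.mul_apply]
    rw [← hsum, map_pow] at hfixed
    have hcop : (Nat.card V).Coprime (Fintype.card N) := by
      obtain ⟨k, hk⟩ := IsPGroup.iff_card.mp hV
      rw [hk, ← Nat.card_eq_fintype_card]
      exact hN.symm.pow_left k
    exact (powCoprime hcop).injective hfixed
  -- induction on the exponent
  have main : ∀ (k : ℕ) (v : V), v ^ p ^ k = 1 → ∀ n ∈ N, ρ n v = v := by
    intro k
    induction k with
    | zero =>
      intro v hv n _
      rw [pow_zero, pow_one] at hv
      rw [hv, map_one]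
    | succ k ih =>
      intro v hv n hn
      rw [pow_succ', pow_mul] at hv
      have hu : (ρ n v / v) ^ p = 1 := by
        rw [div_pow, ← map_pow, ih _ hv n hn, div_self']
      set u := ρ n v / v with hu'
      have hufix := base u hu n hn
      have hiter : ∀ j : ℕ, ρ (n ^ j) v = v * u ^ j := by
        intro j
        induction j with
        | zero => simp
        | succ j ihj =>
          rw [pow_succ', map_mul, MulAut.mul_apply, ihj, map_mul, map_pow (ρ n), hufix,
            ← mul_div_cancel v (ρ n v), ← hu', pow_succ', mul_assoc]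
      have h1 : u ^ Nat.card N = 1 := by
        have h2 := hiter (Nat.card N)
        rw [show n ^ Nat.card N = 1 from
          congrArg Subtype.val (pow_card_eq_one' (x := (⟨n, hn⟩ : N))), map_one,
          MulAut.one_apply] at h2
        exact left_eq_mul.mp h2
      have h3 : u = 1 := orderOf_eq_one_iff.mp (Nat.eq_one_of_dvd_coprimes hN
        (orderOf_dvd_of_pow_eq_one h1) (orderOf_dvd_of_pow_eq_one hu))
      exact div_eq_one.mp h3
  intro n hn v
  obtain ⟨k, hk⟩ := hV v
  exact main k v hk n hn

end Cfsg.Lib.Fusion
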