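import Cfsg.Agent.Fusion.PairInversion
import Cfsg.Agent.Fusion.ExceptionShape

/-!
Strongly closed generalized extraspecial subgroups.
-/

set_option autoImplicit false

namespace Cfsg.Lib.Fusion

open Cfsg Cfsg.FusionSystem

open scoped commutatorElement

/-- The span condition follows from the others. -/
theorem IsTransv.mk_of_moves {W : Type*} [Group W] {p : ℕ} [Fact p.Prime] {t : MulAut W} {Z : Subgroup W}
    {d : W} (hc : ∀ a b : W, a * b = b * a) (hexp : ∀ x : W, x ^ p = 1) (hd : d ∈ Z)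
    (hfix : ∀ z ∈ Z, t z = z) (hdiff : ∀ q : W, q⁻¹ * t q ∈ Subgroup.zpowers d)
    (hmv : ∀ q : W, q ∉ Z → t q ≠ q) : IsTransv t Z d := by
  refine ⟨hc, hd, hfix, hdiff, hmv, fun v hv q => ?_⟩
  letI : CommGroup W := { (inferInstance : Group W) with mul_comm := hc }
  set e := v⁻¹ * t v with he
  have he1 : e ≠ 1 := fun h => hmv v hv (inv_mul_eq_one.mp h).symm
  have hd1 : d ≠ 1 := fun h => he1 (Subgroup.mem_bot.mp (Subgroup.zpowers_one_eq_bot (G := W) ▸ h ▸ hdiff v))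
  have hq : q⁻¹ * t q ∈ Subgroup.zpowers e := by
    have hcard : Nat.card (Subgroup.zpowers d) ≤ Nat.card (Subgroup.zpowers e) := by
      rw [Nat.card_zpowers, Nat.card_zpowers, orderOf_eq_prime (hexp d) hd1, orderOf_eq_prime (hexp e) he1]
    haveI : Finite (Subgroup.zpowers d) := Nat.finite_of_card_ne_zero (by
      rw [Nat.card_zpowers, orderOf_eq_prime (hexp d) hd1]; exact (Fact.out : p.Prime).ne_zero)
    rw [Subgroup.eq_of_le_of_card_ge (Subgroup.zpowers_le.mpr (hdiff v)) hcard]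
    exact hdiff q
  obtain ⟨i, hi⟩ := hq
  refine ⟨q * v ^ (-i), ?_, i, by group⟩
  by_contra hz
  apply hmv _ hz
  have e1 : t v = v * e := (mul_inv_cancel_left v _).symm
  have e2 : t q = q * e ^ i := by
    rw [show e ^ i = q⁻¹ * t q from hi, mul_inv_cancel_left]
  rw [map_mul, map_zpow, e1, e2, mul_zpow v e, mul_comm (v ^ (-i)), ← mul_assoc, mul_assoc q, ← zpow_add,
    add_neg_cancel, zpow_zero, mul_one]

/-- An automorphism of `2`-power order preserving a coset of a subgroup of odd order fixes one of its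
elements. -/
theorem exists_fixed_coset {G : Type*} [Group G] [Finite G] {C : Subgroup G} (hodd : ¬ 2 ∣ Nat.card C)
    {ψ : MulAut G} {b : ℕ} (hψ : ψ ^ 2 ^ b = 1) (hC : ∀ c ∈ C, ψ c ∈ C) {u : G} (hu : u⁻¹ * ψ u ∈ C) :
    ∃ c ∈ C, ψ (u * c) = u * c := by
  classical
  letI := Fintype.ofFinite C
  haveI : Fact (Nat.Prime 2) := ⟨Nat.prime_two⟩
  let σ : Equiv.Perm C := Equiv.ofBijective
    (fun c => ⟨u⁻¹ * ψ u * ψ c, C.mul_mem hu (hC c c.2)⟩)
    (Finite.injective_iff_bijective.mp fun x z h =>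
      Subtype.ext (ψ.injective (mul_left_cancel (congrArg Subtype.val h))))
  have hstep : ∀ c : C, ψ (u * c) = u * (σ c : C) := fun c => by
    show ψ (u * c) = u * (u⁻¹ * ψ u * ψ c)
    rw [map_mul, ← mul_assoc, mul_inv_cancel_left]
  have hn : ∀ (n : ℕ) (c : C), (ψ ^ n) (u * c) = u * ((σ ^ n) c : C) := fun n => by
    induction n with
    | zero => intro c; simp
    | succ n ih => intro c; rw [pow_succ', MulAut.mul_apply, ih, hstep, pow_succ', Equiv.Perm.mul_apply]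
  have hσ : σ ^ 2 ^ b = 1 := Equiv.ext fun c => Subtype.ext (by
    have := hn (2 ^ b) c
    rw [hψ, MulAut.one_apply] at this
    rw [Equiv.Perm.one_apply]
    exact (mul_left_cancel this).symm)
  obtain ⟨c, hc⟩ := Equiv.Perm.exists_fixed_point_of_prime
    (by rwa [← Nat.card_eq_fintype_card]) hσ
  exact ⟨c, c.2, by rw [hstep, hc]⟩

variable {Ω : Type*} [Group Ω] {S : Subgroup Ω} {F : FusionSystem S} {p : ℕ}

theorem map_zpow_of_isMap {P : Subgroup Ω} {f : Ω → Ω} (hf : IsMap F P f) {x : Ω} (hx : x ∈ P) (i : ℤ) :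
    f (x ^ i) = f x ^ i := by
  obtain ⟨n, rfl | rfl⟩ := i.eq_nat_or_neg
  · rw [zpow_natCast, zpow_natCast, hf.map_pow hx]
  · rw [zpow_neg, zpow_neg, zpow_natCast, zpow_natCast, hf.map_inv (P.pow_mem hx n), hf.map_pow hx]

theorem map_mem_dcom [Finite S] {P : Subgroup Ω} {f : Ω → Ω} (hf : IsMap F P f)
    (hfP : ∀ x ∈ P, f x ∈ P) {x : Ω} (hx : x ∈ P) : f x ∈ dcom P ↔ x ∈ dcom P := by
  obtain ⟨α, -, e⟩ := hf.exists_aut (img_eq_of_apply hf le_rfl hfP)
  have key : ∀ z : P, (z : Ω) ∈ dcom P ↔ z ∈ commutator P := fun z =>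
    ⟨fun ⟨w, hw, e⟩ => (show w = z from Subtype.ext e) ▸ hw, fun h => ⟨z, h, rfl⟩⟩
  have hmap : (commutator P).map α.toMonoidHom = commutator P :=
    Subgroup.characteristic_iff_map_eq.mp inferInstance α
  rw [← e x hx, autFun_apply_mem α hx, key]
  constructor
  · intro h
    rw [← hmap] at h
    obtain ⟨w, hw, hwe⟩ := h
    exact (key ⟨x, hx⟩).mpr ((α.injective hwe : w = ⟨x, hx⟩) ▸ hw)
  · intro h
    exact hmap ▸ ⟨_, (key ⟨x, hx⟩).mp h, rfl⟩

/-- Either a strongly closed generalized extraspecial subgroup is normal, or it has the exceptional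
shape. -/
theorem genExtraspecial_normal_or_shape [Finite S] [Fact p.Prime] (hS : IsPGroup p S)
    (hF : F.IsSaturated p) {P : Subgroup Ω} (hP : F.StronglyClosed P)
    (hfr : frattini ↥P = commutator ↥P) (hcard : Nat.card ↥(commutator ↥P) = p) :
    F.IsNormal P ∨ ∃ (C : Subgroup P) (y u : P), ShapeData P p C y u := by
  classical
  have hpp : p.Prime := Fact.out
  haveI : Finite P := finite_of_le hP.1
  have hPg : IsPGroup p P := hS.of_injective _ (Subgroup.inclusion_injective hP.1)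
  set D := dcom P with hD
  have hDP : D ≤ P := dcom_le
  have hDS : D ≤ S := hDP.trans hP.1
  haveI : Finite D := finite_of_le hDS
  have hDcard : Nat.card D = p := by
    rw [hD, dcom, Subgroup.card_map_of_injective P.subtype_injective, hcard]
  have hnP := normalizes_of_stronglyClosed hP
  have hDn : ∀ s ∈ S, ∀ x ∈ D, s * x * s⁻¹ ∈ D := fun s hs x hx =>
    (map_mem_dcom (isMap_conj (F := F) hP.1 hs) (fun z hz => conj_mem_of_mem_normalizer (hnP hs) hz)
      (hDP hx)).mpr hx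
  have hDc : ∀ x ∈ D, ∀ s ∈ S, s * x = x * s := by
    haveI : (D.subgroupOf S).Normal := ⟨fun x hx g => hDn g g.2 x hx⟩
    have hle := Cfsg.Lib.PGroups.le_center_of_card_eq_prime hS (N := D.subgroupOf S)
      (by rw [Nat.card_congr (Subgroup.subgroupOfEquivOfLe hDS).toEquiv, hDcard])
    exact fun x hx s hs =>
      congrArg Subtype.val (Subgroup.mem_center_iff.mp (hle (x := ⟨x, hDS hx⟩) hx) ⟨s, hs⟩)
  have hDgen : ∀ d ∈ D, d ≠ 1 → D = Subgroup.zpowers d := fun d hd hd1 => by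
    refine (Subgroup.eq_of_le_of_card_ge (Subgroup.zpowers_le.mpr hd) ?_).symm
    have h1 : d ^ p = 1 := orderOf_dvd_iff_pow_eq_one.mp
      (hDcard ▸ Subgroup.orderOf_dvd_natCard D hd)
    rw [hDcard, Nat.card_zpowers, orderOf_eq_prime h1 hd1]
  have hpow : ∀ x ∈ P, x ^ p ∈ D := fun x hx =>
    ⟨⟨x, hx⟩ ^ p, hfr ▸ Cfsg.Lib.PGroups.pow_mem_frattini hPg _, rfl⟩
  by_cases hDsc : F.StronglyClosed D
  · left
    refine isNormal_of_chain hS hF hP 2 (fun i => if i = 0 then ⊥ else if i = 1 then D else P)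
      rfl le_rfl (fun i hi => ?_) (fun i hi => ?_)
    · rcases (show i = 0 ∨ i = 1 by omega) with rfl | rfl
      · simpa using hDsc
      · simpa using hP
    · rcases (show i = 0 ∨ i = 1 by omega) with rfl | rfl
      · simp only [zero_add, one_ne_zero, if_false, if_true]
        exact Subgroup.commutator_le.mpr fun a ha b hb => Subgroup.mem_bot.mpr
          (commutatorElement_eq_one_iff_mul_comm.mpr (hDc a ha b (hP.1 hb)).symm)
      · simp only [one_ne_zero, if_false, if_true, Nat.reduceAdd, Nat.reduceEqDiff, OfNat.ofNat_ne_one,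
          OfNat.ofNat_ne_zero]
        rw [hD, dcom, Subgroup.map_subtype_commutator]
  -- a conjugate of the commutator generator outside `D`
  obtain ⟨f, d, hf, hd, hfd⟩ : ∃ f d, IsMap F D f ∧ d ∈ D ∧ f d ∉ D := by
    by_contra hno
    push Not at hno
    refine hDsc (stronglyClosed_of_apply hDS fun R g hg x hx hxD => ?_)
    by_cases hx1 : x = 1
    · rw [hx1, hg.map_one]; exact D.one_mem
    · exact hno g x (hg.mono (hDgen x hxD hx1 ▸ Subgroup.zpowers_le.mpr hx)) hxD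
  have hd1 : d ≠ 1 := fun h => hfd (by rw [h, hf.map_one]; exact D.one_mem)
  have hdp : d ^ p = 1 := orderOf_dvd_iff_pow_eq_one.mp (hDcard ▸ Subgroup.orderOf_dvd_natCard D hd)
  have hDd := hDgen d hd hd1
  set y := f d with hy
  have hyP : y ∈ P := stronglyClosed_apply hP hf hd (hDP hd)
  have hyp : y ^ p = 1 := by rw [hy, ← hf.map_pow hd, hdp, hf.map_one]
  -- the map back to `D`, extended to the centralizer
  obtain ⟨g, hg, hgi, hgf, -⟩ := hf.exists_inv
  have hfull : F.IsFullyCentralized D := ⟨hDS, fun Q _ => by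
    rw [show centralizerIn S D = S from le_antisymm inf_le_left fun s hs =>
      mem_centralizerIn.mpr ⟨hs, fun x hx => by rw [hDc x hx s hs, mul_inv_cancel_right]⟩]
    exact Subgroup.card_le_of_le inf_le_left⟩
  obtain ⟨k0, hk0, hk0g⟩ := receptive_extend (receptive_of_fullyCentralized hS hF hfull) hg hgi
  set T := centralizerIn S (img D f)
  have hk : IsMap F T k0 := hk0.mono (centralizerIn_le_extSub _ _)
  have hky : k0 y = d := by rw [hk0g y (IsMap.apply_mem_img hd), hy, hgf d hd]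
  have hTmem : ∀ x ∈ S, x * y = y * x → x ∈ T := fun x hx hxy => mem_centralizerIn.mpr ⟨hx, fun z hz => by
    obtain ⟨w, hw, rfl⟩ := hf.mem_img.mp hz
    rw [hDd] at hw
    obtain ⟨i, rfl⟩ := hw
    show x * f (d ^ i) * x⁻¹ = f (d ^ i)
    rw [map_zpow_of_isMap hf hd]
    exact mul_inv_eq_iff_eq_mul.mpr (Commute.zpow_right hxy i).eq⟩
  set C := P ⊓ Subgroup.centralizer ({y} : Set Ω) with hC
  have hCy : ∀ x, x ∈ C ↔ x ∈ P ∧ x * y = y * x := fun x =>
    ⟨fun h => ⟨h.1, Subgroup.mem_centralizer_singleton_iff.mp h.2⟩,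
      fun h => ⟨h.1, Subgroup.mem_centralizer_singleton_iff.mpr h.2⟩⟩
  have hCT : C ≤ T := fun x hx => hTmem x (hP.1 hx.1) ((hCy x).mp hx).2
  have hkC : IsMap F C k0 := hk.mono hCT
  have hyC : y ∈ C := (hCy y).mpr ⟨hyP, rfl⟩
  have hDC : D ≤ C := fun x hx => (hCy x).mpr ⟨hDP hx, (hDc x hx y (hP.1 hyP)).symm⟩
  -- `k0` moves `D` out of `D`
  have hkD : ∀ z ∈ D, k0 z ∈ D → z = 1 := by
    intro z hz hkz
    by_contra hz1
    by_cases h1 : k0 z = 1
    · exact hz1 (hkC.injOn (hDC hz) C.one_mem (by rw [h1, hkC.map_one]))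
    · obtain ⟨i, hi⟩ := Subgroup.mem_zpowers_iff.mp (hDgen _ hkz h1 ▸ hd)
      apply hfd
      have e := hkC.injOn (C.zpow_mem (hDC hz) i) hyC (by rw [map_zpow_of_isMap hkC (hDC hz), hi, hky])
      exact e ▸ D.zpow_mem hz i
  have hkP : ∀ x ∈ C, k0 x ∈ P := fun x hx => stronglyClosed_apply hP hkC hx hx.1
  have hcomm : ∀ a ∈ P, ∀ b ∈ P, ⁅a, b⁆ ∈ D := fun a ha b hb => by
    rw [hD, dcom, Subgroup.map_subtype_commutator]
    exact Subgroup.commutator_mem_commutator ha hb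
  have hCab : ∀ a ∈ C, ∀ b ∈ C, a * b = b * a := by
    intro a ha b hb
    refine commutatorElement_eq_one_iff_mul_comm.mp (hkD _ (hcomm a ha.1 b hb.1) ?_)
    have e : k0 ⁅a, b⁆ = ⁅k0 a, k0 b⁆ := by
      rw [commutatorElement_def, commutatorElement_def,
        hkC.map_mul (C.mul_mem (C.mul_mem ha hb) (C.inv_mem ha)) (C.inv_mem hb),
        hkC.map_conj ha hb, hkC.map_inv hb]
    rw [e]
    exact hcomm _ (hkP a ha) _ (hkP b hb)
  have hCexp : ∀ a ∈ C, a ^ p = 1 := fun a ha =>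
    hkD _ (hpow a ha.1) (by rw [hkC.map_pow ha]; exact hpow _ (hkP a ha))
  obtain ⟨u, huP, huC⟩ : ∃ u ∈ P, u ∉ C := by
    by_contra hno
    push Not at hno
    exact hfd ((map_mem_dcom (hkC.mono fun x hx => hno x hx) (fun x hx => hkP x (hno x hx)) hyP).mp
      (hky ▸ hd))
  have huy : u * y ≠ y * u := fun h => huC ((hCy u).mpr ⟨huP, h⟩)
  -- `C` has index `p`
  have hgen : ∀ v ∈ P, v ∉ C → ∀ x ∈ P, ∃ c ∈ C, ∃ i : ℤ, x = c * v ^ i := by
    intro v hv hvC x hx
    have h1 : ⁅v, y⁆ ≠ 1 := fun h => hvC ((hCy v).mpr ⟨hv, commutatorElement_eq_one_iff_mul_comm.mp h⟩)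
    obtain ⟨i, hi⟩ := Subgroup.mem_zpowers_iff.mp (hDgen _ (hcomm v hv y hyP) h1 ▸ hcomm x hx y hyP)
    refine ⟨x * v ^ (-i), (hCy _).mpr ⟨P.mul_mem hx (P.zpow_mem hv _), ?_⟩, i, by group⟩
    let φ : P →* Ω :=
      { toFun := fun z => ⁅(z : Ω), y⁆
        map_one' := by simp
        map_mul' := fun a b => by
          show ⁅(a : Ω) * b, y⁆ = ⁅(a : Ω), y⁆ * ⁅(b : Ω), y⁆
          have h1 := hDc _ (hcomm b b.2 y hyP) a (hP.1 a.2)
          have h2 := hDc _ (hcomm b b.2 y hyP) _ (hDS (hcomm a a.2 y hyP))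
          rw [h2]
          calc ⁅(a : Ω) * b, y⁆ = ((a : Ω) * ⁅(b : Ω), y⁆) * ((a : Ω)⁻¹) * ⁅(a : Ω), y⁆ := by
                simp only [commutatorElement_def]; group
            _ = ⁅(b : Ω), y⁆ * ⁅(a : Ω), y⁆ := by rw [h1, mul_inv_cancel_right] }
    have h0 : φ (⟨x, hx⟩ * (⟨v, hv⟩ : P) ^ (-i)) = 1 := by
      rw [map_mul, map_zpow]
      show ⁅x, y⁆ * ⁅v, y⁆ ^ (-i) = 1
      rw [zpow_neg, hi, mul_inv_cancel]
    exact commutatorElement_eq_one_iff_mul_comm.mp h0
  by_cases hex : ∃ v ∈ P, v ∉ C ∧ v ^ p = 1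
  · right
    obtain ⟨v, hv, hvC, hvp⟩ := hex
    refine ⟨C.subgroupOf P, ⟨y, hyP⟩, ⟨v, hv⟩, hPg, hcard, fun x hx => hDC ⟨x, hx, rfl⟩,
      fun a ha b hb => Subtype.ext (hCab a ha b hb), fun a ha => Subtype.ext (hCexp a ha), hyC,
      Subtype.ext hvp, fun h => hvC ((hCy v).mpr ⟨hv, congrArg Subtype.val h⟩), fun z => ?_⟩
    obtain ⟨c, hc, i, e⟩ := hgen v hv hvC z z.2
    exact ⟨⟨c, hc.1⟩, hc, i, Subtype.ext (by rw [e]; simp)⟩
  push Not at hex
  -- an element of order `p` outside `C` exists for `p = 2`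
  have hp2 : p ≠ 2 := by
    rintro rfl
    have hu2 : u ^ 2 ≠ 1 := hex u huP huC
    obtain ⟨i, hi⟩ := Subgroup.mem_zpowers_iff.mp (hDgen _ (hpow u huP) hu2 ▸ hcomm u huP y hyP)
    have hc1 : ⁅u, y⁆ ≠ 1 := fun h => huy (commutatorElement_eq_one_iff_mul_comm.mp h)
    have hsq : (u ^ 2) ^ 2 = 1 := hCexp _ (hDC (hpow u huP))
    have hcu : ⁅u, y⁆ = u ^ 2 := by
      obtain ⟨n, rfl | rfl⟩ := Int.even_or_odd' i
      · rw [zpow_mul, zpow_two, ← pow_two, hsq, one_zpow] at hi; exact absurd hi.symm hc1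
      · rw [zpow_add_one, zpow_mul, zpow_two, ← pow_two, hsq, one_zpow, one_mul] at hi; exact hi.symm
    refine hex (u * y) (P.mul_mem huP hyP) (fun h => huC ?_) ?_
    · have := C.mul_mem h (C.inv_mem hyC)
      rwa [mul_inv_cancel_right] at this
    · have hy2 : y * y = 1 := by rw [← pow_two]; exact hyp
      calc (u * y) ^ 2 = (u * y * u⁻¹ * y⁻¹) * (y * u * u * y) := by rw [pow_two]; group
        _ = ⁅u, y⁆ * (y * u ^ 2 * y) := by rw [commutatorElement_def, pow_two]; simp [mul_assoc]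
        _ = ⁅u, y⁆ * (u ^ 2 * (y * y)) := by
          rw [hDc _ (hpow u huP) y (hP.1 hyP), mul_assoc]
        _ = 1 := by rw [hy2, mul_one, hcu, ← pow_two, hsq]
  exfalso
  -- `C` is the set of elements of order dividing `p`
  have hall : ∀ x ∈ P, x ^ p = 1 → x ∈ C := fun x hx hxp => by
    by_contra hxC; exact hex x hx hxC hxp
  have hCS : C ≤ S := inf_le_left.trans hP.1
  haveI : Finite C := finite_of_le hCS
  have hCsc := stronglyClosed_omegaOne hP inf_le_left hCexp hall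
  have hCn := normalizes_of_stronglyClosed hCsc
  obtain ⟨β, hβ, hβe⟩ := hkC.exists_aut (img_eq_of_apply hkC le_rfl fun x hx =>
    stronglyClosed_apply hCsc hkC hx hx)
  let dW : C := ⟨d, hDC hd⟩
  let yW : C := ⟨y, hyC⟩
  have hβy : β yW = dW := Subtype.ext (by rw [← autFun_apply_mem β hyC, hβe y hyC, hky])
  set t : MulAut C := conjAut C u (hCn (hP.1 huP)) with ht
  have htA : t ∈ F.autGroup C :=
    autInducedBy_le hCS (conjAut_mem_autInducedBy (hCn (hP.1 huP)) (hP.1 huP))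
  have htq : ∀ q : C, ((t q : C) : Ω) = u * q * u⁻¹ := fun q => conjAut_apply (hCn (hP.1 huP)) q
  have htr : IsTransv t ((zcen P).subgroupOf C) dW := by
    refine IsTransv.mk_of_moves (p := p) (fun a b => Subtype.ext (hCab a a.2 b b.2))
      (fun a => Subtype.ext (hCexp a a.2)) ?_ ?_ ?_ ?_
    · exact Subgroup.mem_subgroupOf.mpr (mem_zcen.mpr ⟨hDP hd, fun s hs => hDc d hd s (hP.1 hs)⟩)
    · intro z hz
      refine Subtype.ext ?_
      rw [htq, (mem_zcen.mp (Subgroup.mem_subgroupOf.mp hz)).2 u huP, mul_inv_cancel_right]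
    · intro q
      have h1 := mem_dcom (S := P) q.2.1 huP
      rw [← hD, hDd] at h1
      obtain ⟨i, hi⟩ := Subgroup.mem_zpowers_iff.mp h1
      exact Subgroup.mem_zpowers_iff.mpr ⟨i, Subtype.ext (by simp [dW, hi, htq])⟩
    · intro q hq he
      refine hq (Subgroup.mem_subgroupOf.mpr (mem_zcen.mpr ⟨q.2.1, fun s hs => ?_⟩))
      have hu : Commute u (q : Ω) := mul_inv_eq_iff_eq_mul.mp ((htq q).symm.trans (congrArg Subtype.val he))
      obtain ⟨c, hc, i, rfl⟩ := hgen u huP huC s hs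
      exact ((show Commute c (q : Ω) from hCab c hc q q.2).mul_left (hu.zpow_left i)).eq
  have hdW1 : dW ≠ 1 := fun h => hd1 (congrArg Subtype.val h)
  have hno : ∀ N : Subgroup (F.autGroup C), N.Normal → IsPGroup p N →
      (⟨t, htA⟩ : F.autGroup C) ∉ N := by
    intro N hN hNp htN
    obtain ⟨-, Rs, hRs⟩ := (fullyNormalized_props hS hF (fullyNormalized_of_normalized hCS hCn)).2.1
    have hle : N ≤ (Rs : Subgroup (F.autGroup C)) := by
      haveI := hN
      have h1 : IsPGroup p ↥((Rs : Subgroup (F.autGroup C)) ⊔ N) := Rs.2.to_sup_of_normal_right hNp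
      exact le_sup_right.trans (Rs.3 h1 le_sup_left).le
    have hfix : ∀ n ∈ N, (n : MulAut C) dW = dW := fun n hn => by
      have hm : n ∈ (autInducedBy S C).subgroupOf (F.autGroup C) := hRs ▸ hle hn
      obtain ⟨s, hs, e⟩ := mem_autInducedBy.mp (Subgroup.mem_subgroupOf.mp hm)
      refine Subtype.ext ?_
      rw [e]
      show s * d * s⁻¹ = d
      rw [hDc d hd s hs, mul_inv_cancel_right]
    have h := hfix _ (hN.conj_mem _ htN ⟨β, hβ⟩)
    simp only [Subgroup.coe_mul, Subgroup.coe_inv, MulAut.mul_apply] at h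
    have h' : t (β⁻¹ dW) = β⁻¹ dW := by
      apply β.injective
      rw [h]
      exact (β.apply_symm_apply dW).symm
    rw [show β⁻¹ dW = yW from β.injective ((β.apply_symm_apply dW).trans hβy.symm)] at h'
    exact huy (mul_inv_eq_iff_eq_mul.mp ((htq yW).symm.trans (congrArg Subtype.val h')))
  obtain ⟨τ, hτ, hτd, -, hτt⟩ :=
    exists_inv_of_not_normal (fun a : C => Subtype.ext (hCexp a a.2)) htr hdW1 _ htA hno
  -- extend to `P`
  have hτm : IsMap F C (autFun τ) := (isMap_autFun hCS).mpr hτ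
  obtain ⟨f', hf', hag⟩ := receptive_extend
    (fullyNormalized_props hS hF (fullyNormalized_of_normalized hCS hCn)).2.2 hτm (img_autFun τ)
  have hPle : P ≤ extSub S C (autFun τ) := by
    intro x hx
    obtain ⟨c, hc, i, rfl⟩ := hgen u huP huC x hx
    refine Subgroup.mul_mem _ (le_extSub hτm hc) (Subgroup.zpow_mem _ ?_ i)
    refine mem_extSub.mpr ⟨hP.1 huP, hCn (hP.1 huP), u, hP.1 huP, fun z hz => ?_⟩
    have hz' := conj_mem_of_mem_normalizer (hCn (hP.1 huP)) hz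
    rw [autFun_apply_mem τ hz', autFun_apply_mem τ hz, ← htq, ← MulAut.mul_apply, ← hτt,
      MulAut.mul_apply]
    exact congrArg (fun q : C => ((τ q : C) : Ω)) (Subtype.ext (htq ⟨z, hz⟩).symm)
  have hfP := hf'.mono hPle
  obtain ⟨φ, -, hφe⟩ := hfP.exists_aut (img_eq_of_apply hfP le_rfl fun x hx =>
    stronglyClosed_apply hP hfP hx hx)
  let CP : Subgroup P := C.subgroupOf P
  let dP : P := ⟨d, hDP hd⟩
  let uP : P := ⟨u, huP⟩
  have hφC : ∀ c : P, (hc : (c : Ω) ∈ C) → ((φ c : P) : Ω) = (τ ⟨c, hc⟩ : C) := fun c hc => by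
    rw [← autFun_apply φ c, hφe c c.2, hag c hc, autFun_apply_mem τ hc]
  have hφCP : ∀ c ∈ CP, φ c ∈ CP := fun c hc => by
    show ((φ c : P) : Ω) ∈ C
    rw [hφC c hc]
    exact (τ _).2
  have hφd : φ dP = dP⁻¹ := Subtype.ext (by
    rw [hφC dP (hDC hd)]
    exact congrArg Subtype.val hτd)
  have hφu : uP⁻¹ * φ uP ∈ CP := by
    refine (hCy _).mpr ⟨(uP⁻¹ * φ uP).2, ?_⟩
    let y' : C := τ⁻¹ yW
    have hyy : τ y' = yW := τ.apply_symm_apply yW
    have hmem : (t y' : C).1 ∈ P := (t y').2.1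
    let yP : P := ⟨(y' : Ω), y'.2.1⟩
    have e1 : φ (uP * yP * uP⁻¹) = φ uP * φ yP * (φ uP)⁻¹ := by rw [map_mul, map_mul, map_inv]
    have e2 : (uP * yP * uP⁻¹ : P) = ⟨(t y' : C).1, hmem⟩ := Subtype.ext (htq y').symm
    rw [e2] at e1
    have e3 := congrArg Subtype.val e1
    rw [hφC _ (t y').2] at e3
    simp only [Subgroup.coe_mul, Subgroup.coe_inv] at e3
    rw [hφC yP y'.2] at e3
    have e4 : τ (t y') = t yW := by rw [← MulAut.mul_apply, hτt, MulAut.mul_apply, hyy]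
    rw [show (⟨(t y' : C).1, (t y').2⟩ : C) = t y' from rfl, e4, htq,
      show (⟨(yP : Ω), y'.2⟩ : C) = y' from rfl, hyy] at e3
    show u⁻¹ * (φ uP : P).1 * y = y * (u⁻¹ * (φ uP : P).1)
    have e5 : u * y * u⁻¹ = (φ uP : P).1 * y * (φ uP : P).1⁻¹ := e3
    calc u⁻¹ * (φ uP : P).1 * y = u⁻¹ * ((φ uP : P).1 * y * (φ uP : P).1⁻¹) * (φ uP : P).1 := by group
      _ = u⁻¹ * (u * y * u⁻¹) * (φ uP : P).1 := by rw [e5]
      _ = y * (u⁻¹ * (φ uP : P).1) := by group
  -- make the order a power of two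
  haveI : Finite (MulAut P) := Finite.of_injective (fun f : MulAut P => (f : P → P)) DFunLike.coe_injective
  have hkey : ∀ m : ℕ, (∀ c ∈ CP, (φ ^ m) c ∈ CP) ∧ uP⁻¹ * (φ ^ m) uP ∈ CP ∧
      (φ ^ m) dP = if Even m then dP else dP⁻¹ := by
    intro m
    induction m with
    | zero => simp
    | succ m ih =>
      refine ⟨fun c hc => by rw [pow_succ', MulAut.mul_apply]; exact hφCP _ (ih.1 c hc), ?_, ?_⟩
      · have := CP.mul_mem hφu (hφCP _ ih.2.1)
        rw [map_mul, map_inv, mul_assoc, mul_inv_cancel_left] at this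
        rwa [pow_succ', MulAut.mul_apply]
      · rw [pow_succ', MulAut.mul_apply, ih.2.2]
        rcases Nat.even_or_odd m with he | ho
        · rw [if_pos he, if_neg (by simpa [Nat.even_add_one] using he), hφd]
        · rw [if_neg (Nat.not_even_iff_odd.mpr ho),
            if_pos (by simpa [Nat.even_add_one] using Nat.not_even_iff_odd.mpr ho), map_inv, hφd, inv_inv]
  have hn : orderOf φ ≠ 0 := (orderOf_pos φ).ne'
  set m := ordCompl[2] (orderOf φ)
  have hψo : (φ ^ m) ^ 2 ^ ((orderOf φ).factorization 2) = 1 := by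
    rw [← pow_mul, mul_comm, Nat.ordProj_mul_ordCompl_eq_self, pow_orderOf_eq_one]
  have hψd : (φ ^ m) dP = dP⁻¹ := by
    rw [(hkey m).2.2, if_neg]
    exact fun he => Nat.not_dvd_ordCompl Nat.prime_two hn (even_iff_two_dvd.mp he)
  obtain ⟨c, hc, hfixc⟩ := exists_fixed_coset (by
    obtain ⟨k, hk⟩ := IsPGroup.iff_card.mp (hPg.to_subgroup CP)
    rw [hk]
    exact fun h2 => hp2 ((Nat.prime_dvd_prime_iff_eq Nat.prime_two hpp).mp
      (Nat.prime_two.dvd_of_dvd_pow h2)).symm) hψo (hkey m).1 (hkey m).2.1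
  set x : P := uP * c
  have hxC : (x : Ω) ∉ C := fun h => huC (by
    have := C.mul_mem h (C.inv_mem (show (c : Ω) ∈ C from hc))
    rwa [show (x : Ω) = u * (c : Ω) from rfl, mul_inv_cancel_right] at this)
  have hxp : (x : Ω) ^ p ≠ 1 := hex x x.2 hxC
  obtain ⟨i, hi⟩ := Subgroup.mem_zpowers_iff.mp (hDd ▸ hpow x x.2)
  have hxi : x ^ p = dP ^ i := Subtype.ext (by simpa [dP] using hi.symm)
  have hinv : (dP ^ i)⁻¹ = dP ^ i := by
    calc (dP ^ i)⁻¹ = (φ ^ m) (dP ^ i) := by rw [map_zpow, hψd, inv_zpow]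
      _ = dP ^ i := by rw [← hxi, map_pow, hfixc]
  apply hxp
  set z := dP ^ i with hz
  have hzp : z ^ p = 1 := by
    refine Subtype.ext ?_
    simp only [hz, Subgroup.coe_pow, Subgroup.coe_zpow, Subgroup.coe_one, dP]
    rw [← zpow_natCast, ← zpow_mul, mul_comm, zpow_mul, zpow_natCast, hdp, one_zpow]
  have hz1 : z = 1 := by
    obtain ⟨q, hq⟩ : ∃ q, p = 2 * q + 1 := hpp.odd_of_ne_two hp2
    rw [hq, pow_succ, pow_mul, pow_two, show z * z = 1 from eq_inv_iff_mul_eq_one.mp hinv.symm, one_pow,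
      one_mul] at hzp
    exact hzp
  have := congrArg Subtype.val (hxi.trans hz1)
  simpa using this

end Cfsg.Lib.Fusion
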