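import Cfsg.Agent.Quadratic.Natural
import Cfsg.Agent.Quadratic.BaerSuzuki
import Cfsg.Agent.Components.Cores
import Cfsg.Agent.Transfer.Frobenius

/-!
Two quadratic elements in odd characteristic: every involution of the group they generate commutes
with them. Climbing along normalizers of subgroups generated by such elements gives a proper
overgroup of a Sylow `p`-subgroup of even order.
-/

set_option autoImplicit false
set_option linter.style.haveILetI false

namespace Cfsg.Lib.InvPair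

open scoped Matrix

universe u

section Pair

variable {R : Type*} [Ring R] (A B : R)

/-- the shape of the elements of the group generated by `1 + A` and `1 + B`, with its inverse -/
def Good (g g' : R) : Prop :=
  ∃ al be ga de : R, Commute al A ∧ Commute al B ∧ Commute be A ∧ Commute be B ∧ Commute ga A ∧ Commute ga B ∧
    Commute de A ∧ Commute de B ∧ g = al + be * A + ga * B + de * (A * B) ∧
    g' = al - be * A - ga * B + de * (B * A)

theorem good_one : Good A B 1 1 :=
  ⟨1, 0, 0, 0, Commute.one_left A, Commute.one_left B, Commute.zero_left A, Commute.zero_left B,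
    Commute.zero_left A, Commute.zero_left B, Commute.zero_left A, Commute.zero_left B, by noncomm_ring, by noncomm_ring⟩

variable (hA : A * A = 0) (hB : B * B = 0)

include hA hB

theorem commute_sum : Commute (A * B + B * A) A ∧ Commute (A * B + B * A) B := by
  constructor
  · show (A * B + B * A) * A = A * (A * B + B * A)
    rw [add_mul, mul_add, mul_assoc B A A, hA, mul_zero, ← mul_assoc A A B, hA, zero_mul, add_zero, zero_add,
      mul_assoc]
  · show (A * B + B * A) * B = B * (A * B + B * A)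
    rw [add_mul, mul_add, mul_assoc A B B, hB, mul_zero, ← mul_assoc B B A, hB, zero_mul, add_zero, zero_add,
      mul_assoc]

theorem good_mul_fst {g g' : R} (h : Good A B g g') : Good A B (g * (1 + A)) ((1 - A) * g') := by
  obtain ⟨al, be, ga, de, a1, a2, b1, b2, c1, c2, d1, d2, rfl, rfl⟩ := h
  obtain ⟨C1, C2⟩ := commute_sum A B hA hB
  refine ⟨al + ga * (A * B + B * A), al + be + de * (A * B + B * A), ga, de - ga,
    a1.add_left (c1.mul_left C1), a2.add_left (c2.mul_left C2), (a1.add_left b1).add_left (d1.mul_left C1),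
    (a2.add_left b2).add_left (d2.mul_left C2), c1, c2, d1.sub_left c1, d2.sub_left c2, ?_, ?_⟩
  · have h1 : ∀ x : R, x * A * A = 0 := fun x => by rw [mul_assoc, hA, mul_zero]
    simp only [mul_add, add_mul, sub_mul, mul_one, ← mul_assoc, h1]
    abel
  · have ea : A * al = al * A := a1.eq.symm
    have eb : A * be = be * A := b1.eq.symm
    have ec : A * ga = ga * A := c1.eq.symm
    have ed : A * de = de * A := d1.eq.symm
    have h1 : ∀ x : R, x * A * A = 0 := fun x => by rw [mul_assoc, hA, mul_zero]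
    simp only [mul_add, add_mul, sub_mul, mul_sub, one_mul, ← mul_assoc, ea, eb, ec, ed, h1, zero_mul, mul_zero]
    abel

theorem good_mul_snd {g g' : R} (h : Good A B g g') : Good A B (g * (1 + B)) ((1 - B) * g') := by
  obtain ⟨al, be, ga, de, a1, a2, b1, b2, c1, c2, d1, d2, rfl, rfl⟩ := h
  refine ⟨al, be, al + ga, be + de, a1, a2, b1, b2, a1.add_left c1, a2.add_left c2, b1.add_left d1,
    b2.add_left d2, ?_, ?_⟩
  · have h1 : ∀ x : R, x * B * B = 0 := fun x => by rw [mul_assoc, hB, mul_zero]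
    simp only [mul_add, add_mul, mul_one, ← mul_assoc, h1]
    abel
  · have ea : B * al = al * B := a2.eq.symm
    have eb : B * be = be * B := b2.eq.symm
    have ec : B * ga = ga * B := c2.eq.symm
    have ed : B * de = de * B := d2.eq.symm
    have h1 : ∀ x : R, x * B * B = 0 := fun x => by rw [mul_assoc, hB, mul_zero]
    simp only [mul_add, add_mul, sub_mul, mul_sub, one_mul, ← mul_assoc, ea, eb, ec, ed, h1, zero_mul, mul_zero]
    abel

end Pair

variable {n : ℕ} {p : ℕ} [Fact p.Prime] {K : Type*} [Group K] [Finite K]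

theorem involution_commutes (hp : p ≠ 2) (ρ : K →* Matrix (Fin n) (Fin n) (ZMod p))
    (hρ : Function.Injective ρ) {a b : K} (hgen : Subgroup.closure {a, b} = ⊤)
    (ha : (ρ a - 1) * (ρ a - 1) = 0) (hb : (ρ b - 1) * (ρ b - 1) = 0) {g : K} (hg : g * g = 1) :
    g * a = a * g := by
  set A := ρ a - 1
  set B := ρ b - 1
  have hAi : ρ a⁻¹ = 1 - A := left_inv_eq_right_inv (by rw [← map_mul, inv_mul_cancel, map_one]) (by
    rw [show ρ a = 1 + A from (add_sub_cancel _ _).symm, add_mul, one_mul, mul_sub, mul_one, ha, sub_zero,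
      sub_add_cancel])
  have hBi : ρ b⁻¹ = 1 - B := left_inv_eq_right_inv (by rw [← map_mul, inv_mul_cancel, map_one]) (by
    rw [show ρ b = 1 + B from (add_sub_cancel _ _).symm, add_mul, one_mul, mul_sub, mul_one, hb, sub_zero,
      sub_add_cancel])
  have hall : ∀ k : K, Good A B (ρ k) (ρ k⁻¹) := by
    intro k
    have hk : k ∈ Submonoid.closure ({a, b} : Set K) := by
      have h1 : (Subgroup.closure ({a, b} : Set K)).toSubmonoid = Submonoid.closure ({a, b} : Set K) :=
        Subgroup.closure_toSubmonoid_of_finite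
      rw [← h1, hgen]
      trivial
    induction hk using Submonoid.closure_induction_right with
    | one => rw [inv_one, map_one]; exact good_one A B
    | mul_right x hx y hy ih =>
      rw [mul_inv_rev, map_mul, map_mul]
      rcases hy with rfl | rfl
      · rw [hAi, show ρ y = 1 + A from (add_sub_cancel _ _).symm]
        exact good_mul_fst A B ha hb ih
      · rw [hBi, show ρ y = 1 + B from (add_sub_cancel _ _).symm]
        exact good_mul_snd A B ha hb ih
  obtain ⟨al, be, ga, de, a1, -, -, -, -, -, d1, -, h1, h2⟩ := hall g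
  rw [inv_eq_of_mul_eq_one_right hg] at h2
  have hsum : ρ g + ρ g = al + al + de * (A * B + B * A) := by
    conv_lhs => arg 1; rw [h1]
    conv_lhs => arg 2; rw [h2]
    rw [mul_add]
    abel
  have hc : (ρ g + ρ g) * A = A * (ρ g + ρ g) := by
    rw [hsum]
    exact ((a1.add_left a1).add_left (d1.mul_left (commute_sum A B ha hb).1)).eq
  have hc2 : (2 : ZMod p) • (ρ g * A) = (2 : ZMod p) • (A * ρ g) := by
    rw [two_smul, two_smul, ← add_mul, hc, mul_add]
  have h20 : (2 : ZMod p) ≠ 0 := fun h => by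
    have h3 : ((2 : ℕ) : ZMod p) = 0 := by exact_mod_cast h
    rw [ZMod.natCast_eq_zero_iff] at h3
    exact hp ((Nat.prime_dvd_prime_iff_eq Fact.out Nat.prime_two).1 h3)
  have hfin : ρ g * A = A * ρ g := smul_right_injective _ h20 hc2
  refine hρ ?_
  rw [map_mul, map_mul, show ρ a = 1 + A from (add_sub_cancel _ _).symm, mul_add, add_mul, mul_one, one_mul, hfin]

/-- two quadratic elements not generating a `p`-group give an involution commuting with the first -/
theorem exists_involution (hp : p ≠ 2) (ρ : K →* Matrix (Fin n) (Fin n) (ZMod p))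
    (hρ : Function.Injective ρ) {a b : K} (hgen : Subgroup.closure {a, b} = ⊤)
    (ha : (ρ a - 1) * (ρ a - 1) = 0) (hb : (ρ b - 1) * (ρ b - 1) = 0) (hnp : ¬ IsPGroup p K) :
    ∃ z : K, orderOf z = 2 ∧ z * a = a * z := by
  haveI := Fact.mk Nat.prime_two
  obtain ⟨f₁, f₂, hind, hM⟩ := Cfsg.Lib.QuadPair.exists_natural_plane hp ρ hρ hgen ha hb hnp
  obtain ⟨g, hg1, -⟩ := hM (-1)
  simp only [Matrix.SpecialLinearGroup.coe_neg, Matrix.SpecialLinearGroup.coe_one, Matrix.neg_apply,
    Matrix.one_apply_eq, Matrix.one_apply_ne (one_ne_zero : (1 : Fin 2) ≠ 0), neg_zero, zero_smul, add_zero] at hg1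
  have hpow : ∀ k : ℕ, ρ (g ^ k) *ᵥ f₁ = ((-1 : ZMod p) ^ k) • f₁ := by
    intro k
    induction k with
    | zero => simp
    | succ k ih =>
      rw [pow_succ', map_mul, ← Matrix.mulVec_mulVec, ih, Matrix.mulVec_smul, hg1, smul_smul, pow_succ]
  have heven : 2 ∣ Nat.card K := by
    refine dvd_trans ?_ (orderOf_dvd_natCard g)
    rcases Nat.even_or_odd (orderOf g) with h | h
    · exact even_iff_two_dvd.1 h
    · exfalso
      have h1 := hpow (orderOf g)
      rw [pow_orderOf_eq_one, map_one, Matrix.one_mulVec, h.neg_one_pow] at h1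
      have h2 : (1 + 1 : ZMod p) • f₁ + (0 : ZMod p) • f₂ = 0 := by
        rw [zero_smul, add_zero, add_smul, one_smul]
        nth_rw 2 [h1]
        rw [neg_one_smul, add_neg_cancel]
      have h3 := (hind _ _ h2).1
      rw [one_add_one_eq_two] at h3
      have h4 : ((2 : ℕ) : ZMod p) = 0 := by exact_mod_cast h3
      rw [ZMod.natCast_eq_zero_iff] at h4
      exact hp ((Nat.prime_dvd_prime_iff_eq Fact.out Nat.prime_two).1 h4)
  obtain ⟨z, hz⟩ := exists_prime_orderOf_dvd_card' 2 heven
  exact ⟨z, hz, involution_commutes hp ρ hρ hgen ha hb (by rw [← pow_two, ← hz, pow_orderOf_eq_one])⟩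

/-- Climbing along normalizers. -/
theorem climb {X : Type u} [Group X] [Finite X] (Qd : Set X)
    (hconj : ∀ g : X, ∀ b ∈ Qd, g * b * g⁻¹ ∈ Qd) (hord : ∀ b ∈ Qd, b ^ p = 1)
    (hpair : ∀ a ∈ Qd, ∀ b ∈ Qd, ¬ IsPGroup p ↥(Subgroup.closure ({a, b} : Set X)) →
      ∃ z ∈ Subgroup.closure ({a, b} : Set X), orderOf z = 2 ∧ z * a = a * z)
    {b : X} (hb : b ∈ Qd) (hbc : b ∉ Cfsg.pCore p X) (P : Sylow p X) :
    ∃ M : Subgroup X, (P : Subgroup X) ≤ M ∧ M ≠ ⊤ ∧ ∃ z ∈ M, orderOf z = 2 := by
  classical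
  have hzp : ∀ c ∈ Qd, IsPGroup p (Subgroup.zpowers c) := fun c hc x => by
    refine ⟨1, Subtype.ext ?_⟩
    obtain ⟨i, hi⟩ := Subgroup.mem_zpowers_iff.1 x.2
    rw [SubgroupClass.coe_pow, ← hi, pow_one, ← zpow_natCast, ← zpow_mul, mul_comm, zpow_mul, zpow_natCast,
      hord c hc, one_zpow, OneMemClass.coe_one]
  -- a non-core element and a conjugate give an involution
  have hbs : ∀ (M : Subgroup X) (c : X), c ∈ Qd → c ∈ M →
      (∀ g ∈ M, IsPGroup p ↥(Subgroup.closure ({c, g * c * g⁻¹} : Set X))) →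
      c ∈ (Cfsg.pCore p M).map M.subtype := by
    intro M c hc hcM hall
    have hcM' : IsPGroup p (Subgroup.zpowers (⟨c, hcM⟩ : M)) := by
      refine fun x => ⟨1, ?_⟩
      obtain ⟨i, hi⟩ := Subgroup.mem_zpowers_iff.1 x.2
      refine Subtype.ext (Subtype.ext ?_)
      rw [SubgroupClass.coe_pow, SubgroupClass.coe_pow, ← hi, pow_one]
      show ((c : X) ^ i) ^ p = 1
      rw [← zpow_natCast, ← zpow_mul, mul_comm, zpow_mul, zpow_natCast, hord c hc, one_zpow]
    obtain ⟨N, hNn, hNp, hle⟩ := Cfsg.Lib.BaerSuzuki.baer_suzuki (p := p) (Subgroup.zpowers (⟨c, hcM⟩ : M))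
      (fun g => by
        set Y := Subgroup.zpowers (⟨c, hcM⟩ : M) ⊔ (Subgroup.zpowers (⟨c, hcM⟩ : M)).map (MulAut.conj g).toMonoidHom
        set W := Subgroup.closure ({c, (g : X) * c * (g : X)⁻¹} : Set X)
        have hle : Y ≤ W.comap M.subtype := by
          refine sup_le (Subgroup.zpowers_le.mpr ?_) ?_
          · exact Subgroup.subset_closure (Set.mem_insert _ _)
          · rw [MonoidHom.map_zpowers, Subgroup.zpowers_le]
            exact Subgroup.subset_closure (Set.mem_insert_of_mem _ rfl)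
        exact (hall g g.2).of_injective ((M.subtype.comp Y.subtype).codRestrict W fun z => hle z.2)
          fun z z' e => Subtype.ext (Subtype.ext (congrArg (fun w : W => (w : X)) e)))
    exact ⟨⟨c, hcM⟩, Cfsg.Lib.Components.le_pCore (hn := hNn) hNp (hle (Subgroup.mem_zpowers _)), rfl⟩
  let Fam : Set (Subgroup X) := {R | R ≤ (P : Subgroup X) ∧ ¬ R ≤ Cfsg.pCore p X ∧
    R ≤ Subgroup.closure (Qd ∩ R) ∧ ∃ z ∈ Subgroup.normalizer (R : Set X), orderOf z = 2}
  have hconjR : ∀ (R : Subgroup X) (g : X), ¬ R ≤ Cfsg.pCore p X → R ≤ Subgroup.closure (Qd ∩ R) →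
      (∃ z ∈ Subgroup.normalizer (R : Set X), orderOf z = 2) →
      R.map (MulAut.conj g).toMonoidHom ≤ (P : Subgroup X) → R.map (MulAut.conj g).toMonoidHom ∈ Fam := by
    intro R g h1 h2 ⟨z, hz, hz2⟩ h3
    refine ⟨h3, fun hle => h1 fun r hr => ?_, ?_, g * z * g⁻¹, ?_, ?_⟩
    · have h4 := (inferInstance : (Cfsg.pCore p X).Normal).conj_mem _ (hle ⟨r, hr, rfl⟩) g⁻¹
      simpa [mul_assoc] using h4
    · refine (Subgroup.map_mono h2).trans ?_
      rw [MonoidHom.map_closure]
      refine Subgroup.closure_mono ?_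
      rintro _ ⟨x, hx, rfl⟩
      exact ⟨hconj g x hx.1, x, hx.2, rfl⟩
    · exact Subgroup.le_normalizer_map (MulAut.conj g).toMonoidHom ⟨z, hz, rfl⟩
    · rw [← hz2]
      exact orderOf_injective (MulAut.conj g).toMonoidHom (MulAut.conj g).injective z
  have hne : Fam.Nonempty := by
    obtain ⟨g, hg⟩ : ∃ g : X, ¬ IsPGroup p ↥(Subgroup.closure ({b, g * b * g⁻¹} : Set X)) := by
      by_contra h
      push Not at h
      obtain ⟨y, hy, hye⟩ := hbs ⊤ b hb trivial fun g _ => h g
      haveI : ((Cfsg.pCore p (⊤ : Subgroup X)).map (⊤ : Subgroup X).subtype).Normal := by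
        refine ⟨fun x hx c => ?_⟩
        obtain ⟨x, hx, rfl⟩ := hx
        exact ⟨⟨c, trivial⟩ * x * ⟨c, trivial⟩⁻¹, (inferInstance : (Cfsg.pCore p (⊤ : Subgroup X)).Normal).conj_mem _ hx _, rfl⟩
      exact hbc (hye ▸ (Cfsg.Lib.Components.le_pCore ((Cfsg.Lib.Components.isPGroup_pCore p).map _))
        ⟨y, hy, rfl⟩)
    obtain ⟨z, -, hz2, hzb⟩ := hpair b hb _ (hconj g b hb) hg
    obtain ⟨T, hT⟩ := (hzp b hb).exists_le_sylow
    obtain ⟨h, hh⟩ := MulAction.exists_smul_eq X T P
    refine ⟨_, hconjR (Subgroup.zpowers b) h (fun hle => hbc (hle (Subgroup.mem_zpowers b))) ?_ ⟨z, ?_, hz2⟩ ?_⟩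
    · rw [Subgroup.zpowers_le]
      exact Subgroup.subset_closure ⟨hb, Subgroup.mem_zpowers b⟩
    · rw [← Cfsg.Lib.Transfer.map_conj_eq_self_iff, MonoidHom.map_zpowers]
      congr 1
      show z * b * z⁻¹ = b
      rw [hzb, mul_inv_cancel_right]
    · rw [← hh]
      rintro _ ⟨x, hx, rfl⟩
      exact Cfsg.Lib.Transfer.mem_conj_sylow_iff.mpr (hT hx)
  obtain ⟨R₀, hR₀, hR₀max⟩ := (Set.toFinite Fam).exists_maximalFor (fun R : Subgroup X => Nat.card R) Fam hne
  -- put a Sylow subgroup of the normalizer inside `P`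
  obtain ⟨hR₀P, hR₀O, hR₀g, hR₀z⟩ := hR₀
  set N₀ := Subgroup.normalizer (R₀ : Set X)
  obtain ⟨T₀, hT₀⟩ := ((P.2.to_le hR₀P).comap_subtype (K := N₀) : IsPGroup p (R₀.subgroupOf N₀)).exists_le_sylow
  obtain ⟨T₁, hT₁⟩ := (T₀.2.map N₀.subtype).exists_le_sylow
  obtain ⟨g, hg⟩ := MulAction.exists_smul_eq X T₁ P
  have hTP : ∀ t ∈ (T₀ : Subgroup N₀), g * (t : X) * g⁻¹ ∈ (P : Subgroup X) := fun t ht => by
    rw [← hg]
    exact Cfsg.Lib.Transfer.mem_conj_sylow_iff.mpr (hT₁ ⟨t, ht, rfl⟩)
  set R := R₀.map (MulAut.conj g).toMonoidHom with hRdef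
  have hRcard : Nat.card R = Nat.card R₀ := Subgroup.card_map_of_injective (MulAut.conj g).injective
  have hR : R ∈ Fam := hconjR R₀ g hR₀O hR₀g hR₀z (by
    rintro _ ⟨r, hr, rfl⟩
    exact hTP ⟨r, Subgroup.le_normalizer hr⟩ (hT₀ hr))
  obtain ⟨hRP, hRO, hRg, z₀, hz₀, hz₀2⟩ := hR
  have hmax : ∀ R' ∈ Fam, R ≤ R' → R' = R := fun R' h1 h2 => by
    refine (Subgroup.eq_of_le_of_card_ge h2 ?_).symm
    rw [hRcard]
    rcases le_total (Nat.card R') (Nat.card R₀) with h | h
    · exact h
    · exact hR₀max h1 h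
  set M := Subgroup.normalizer (R : Set X) with hM
  set T := (P : Subgroup X) ⊓ M with hT
  have hMtop : M ≠ ⊤ := fun e => hRO (Cfsg.Lib.Components.le_pCore (hn := Subgroup.normalizer_eq_top_iff.1 e) (P.2.to_le hRP))
  by_cases hPM : (P : Subgroup X) ≤ M
  · exact ⟨M, hPM, hMtop, z₀, hz₀, hz₀2⟩
  exfalso
  have hsyl : ∀ U : Subgroup X, IsPGroup p U → U ≤ M → T ≤ U → U = T := by
    intro U hU hUM hTU
    refine (Subgroup.eq_of_le_of_card_ge hTU ?_).symm
    let e := (MulAut.conj g).toMonoidHom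
    have hmapN : N₀.map e = M := Subgroup.map_normalizer_eq_of_bijective R₀ (MulAut.conj g).bijective
    have h1 : Nat.card U ≤ Nat.card (T₀ : Subgroup N₀) := by
      let U₀ := (U.comap e).subgroupOf N₀
      have hU₀ : IsPGroup p U₀ := (hU.comap_of_injective e (MulAut.conj g).injective).comap_subtype
      obtain ⟨T₂, hT₂⟩ := hU₀.exists_le_sylow
      have h2 : U.comap e ≤ N₀ := fun x hx => by
        obtain ⟨y, hy, hye⟩ := hmapN.ge (hUM hx)
        rwa [(MulAut.conj g).injective hye] at hy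
      have h3 : Nat.card U₀ = Nat.card U := by
        rw [Nat.card_congr (Subgroup.subgroupOfEquivOfLe h2).toEquiv]
        conv_rhs => rw [← Subgroup.map_comap_eq_self_of_surjective (f := e) (MulAut.conj g).surjective U]
        exact (Subgroup.card_map_of_injective (f := e) (MulAut.conj g).injective).symm
      rw [← h3, T₀.card_eq_multiplicity, ← T₂.card_eq_multiplicity]
      exact Subgroup.card_le_of_le hT₂
    refine h1.trans ?_
    rw [← Subgroup.card_map_of_injective (K := (T₀ : Subgroup N₀)) N₀.subtype_injective,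
      ← Subgroup.card_map_of_injective (K := (T₀ : Subgroup N₀).map N₀.subtype) (f := e) (MulAut.conj g).injective]
    refine Subgroup.card_le_of_le ?_
    rintro _ ⟨_, ⟨t, ht, rfl⟩, rfl⟩
    exact ⟨hTP t ht, hmapN.le ⟨t, t.2, rfl⟩⟩
  have hQT : ∀ c ∈ Qd, c ∈ T → c ∈ R := by
    have hcore : ∀ c ∈ Qd, c ∈ T → c ∈ (Cfsg.pCore p M).map M.subtype := by
      intro c hc hcT
      refine hbs M c hc hcT.2 fun m hm => ?_
      by_contra hnp
      obtain ⟨z, hz, hz2, hzc⟩ := hpair c hc _ (hconj m c hc) hnp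
      have hzM : z ∈ M := (Subgroup.closure_le _).mpr (by
        rintro y (rfl | rfl)
        · exact hcT.2
        · exact mul_mem (mul_mem hm hcT.2) (inv_mem hm)) hz
      set R' := R ⊔ Subgroup.zpowers c
      have hR' : R' ∈ Fam := by
        refine ⟨sup_le hRP (Subgroup.zpowers_le.mpr hcT.1), fun h => hRO (le_sup_left.trans h), ?_, z, ?_, hz2⟩
        · refine sup_le (hRg.trans (Subgroup.closure_mono fun x hx => ⟨hx.1, Subgroup.mem_sup_left hx.2⟩)) ?_
          rw [Subgroup.zpowers_le]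
          exact Subgroup.subset_closure ⟨hc, Subgroup.mem_sup_right (Subgroup.mem_zpowers c)⟩
        · rw [← Cfsg.Lib.Transfer.map_conj_eq_self_iff, Subgroup.map_sup,
            Cfsg.Lib.Transfer.map_conj_eq_self_iff.mpr hzM, MonoidHom.map_zpowers]
          congr 2
          show z * c * z⁻¹ = c
          rw [hzc, mul_inv_cancel_right]
      have hcR : c ∈ R := (hmax R' hR' le_sup_left).le (Subgroup.mem_sup_right (Subgroup.mem_zpowers c))
      apply hnp
      refine (P.2.to_le hRP).to_le ((Subgroup.closure_le _).mpr ?_)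
      rintro y (rfl | rfl)
      · exact hcR
      · exact (Subgroup.mem_normalizer_iff.1 hm _).1 hcR
    intro c hc hcT
    set O := (Cfsg.pCore p M).map M.subtype
    have hOp : IsPGroup p O := (Cfsg.Lib.Components.isPGroup_pCore p).map _
    have hMO : M ≤ Subgroup.normalizer (O : Set X) := by
      intro m hm
      exact Subgroup.le_normalizer_map M.subtype
        ⟨⟨m, hm⟩, (Subgroup.normalizer_eq_top_iff.mpr (inferInstance : (Cfsg.pCore p M).Normal)).ge (Subgroup.mem_top _), rfl⟩
    set R' := Subgroup.closure (Qd ∩ (O : Set X))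
    have hTO : O ≤ T := by
      have h := hsyl (O ⊔ T) (hOp.to_sup_of_normal_left' (P.2.to_le inf_le_left) (inf_le_right.trans hMO))
        (sup_le (Subgroup.map_subtype_le _) inf_le_right) le_sup_right
      exact le_sup_left.trans h.le
    have hR'O : R' ≤ O := (Subgroup.closure_le _).mpr Set.inter_subset_right
    have hRR' : R ≤ R' := hRg.trans (Subgroup.closure_mono fun x hx =>
      ⟨hx.1, hcore x hx.1 ⟨hRP hx.2, Subgroup.le_normalizer hx.2⟩⟩)
    have hR' : R' ∈ Fam := by
      refine ⟨hR'O.trans (hTO.trans inf_le_left), fun h => hRO (hRR'.trans h),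
        Subgroup.closure_mono fun x hx => ⟨hx.1, Subgroup.subset_closure hx⟩, z₀, ?_, hz₀2⟩
      rw [← Cfsg.Lib.Transfer.map_conj_eq_self_iff]
      refine Subgroup.eq_of_le_of_card_ge ?_ (Cfsg.Lib.Transfer.card_map_conj R' z₀).ge
      rw [MonoidHom.map_closure]
      refine Subgroup.closure_mono ?_
      rintro _ ⟨x, hx, rfl⟩
      exact ⟨hconj z₀ x hx.1, (Subgroup.mem_normalizer_iff.1 (hMO hz₀) x).1 hx.2⟩
    exact (hmax R' hR' hRR').le (Subgroup.subset_closure ⟨hc, hcore c hc hcT⟩)
  -- `T` grows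
  haveI := P.2.isNilpotent
  have hlt : T.subgroupOf (P : Subgroup X) < ⊤ := lt_top_iff_ne_top.mpr fun h =>
    hPM ((Subgroup.subgroupOf_eq_top.mp h).trans inf_le_right)
  obtain ⟨s, hsn, hsT⟩ := SetLike.exists_of_lt (Group.normalizerCondition_of_isNilpotent _ hlt)
  have hsn' : (s : X) ∈ Subgroup.normalizer (T : Set X) := by
    rw [← Subgroup.subgroupOf_normalizer_eq inf_le_left] at hsn
    exact hsn
  refine hsT (Subgroup.mem_subgroupOf.mpr ⟨s.2, ?_⟩)
  show (s : X) ∈ Subgroup.normalizer (R : Set X)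
  rw [← Cfsg.Lib.Transfer.map_conj_eq_self_iff]
  refine Subgroup.eq_of_le_of_card_ge ?_ (Cfsg.Lib.Transfer.card_map_conj R s).ge
  refine (Subgroup.map_mono hRg).trans ?_
  rw [MonoidHom.map_closure, Subgroup.closure_le]
  rintro _ ⟨x, hx, rfl⟩
  exact hQT _ (hconj s x hx.1) ((Subgroup.mem_normalizer_iff.1 hsn' x).1 ⟨hRP hx.2, Subgroup.le_normalizer hx.2⟩)

end Cfsg.Lib.InvPair
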