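import Cfsg.Agent.PGroups.MaxClass
import Cfsg.Agent.Fusion.Basic

/-!
Small facts on the second centre of a `p`-group of maximal class.
-/

set_option autoImplicit false
set_option linter.style.haveILetI false

namespace Cfsg.Lib.Fusion.MaxClassBasic

open Subgroup
open scoped commutatorElement

universe u

variable {Ω : Type u} [Group Ω] {S : Subgroup Ω} {p : ℕ} [hp : Fact p.Prime]

theorem class_eq [Finite S] [Group.IsNilpotent S] {n : ℕ} (hn : Nat.card S = p ^ n) (h3 : 3 ≤ n)
    (hmax : Subgroup.lowerCentralSeries S (n - 2) ≠ ⊥) : Group.nilpotencyClass S = n - 1 := by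
  refine le_antisymm (Cfsg.Lib.MaxClass.class_le n S hn (by omega)) ?_
  by_contra h
  refine hmax ?_
  have h1 := Subgroup.map_lowerCentralSeries (⊤ : Subgroup S) S.subtype (n - 2)
  rw [← MonoidHom.range_eq_map, Subgroup.range_subtype,
    Subgroup.lowerCentralSeries_eq_bot_iff_nilpotencyClass_le.2 (show Group.nilpotencyClass S ≤ n - 2 by omega),
    Subgroup.map_bot] at h1
  exact h1.symm

variable {X : Type u} [Group X] [Finite X] [Group.IsNilpotent X] {n : ℕ}

theorem card_two (hX : Nat.card X = p ^ n) (h4 : 4 ≤ n) (hc : Group.nilpotencyClass X = n - 1) :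
    Nat.card (Subgroup.upperCentralSeries X 2) = p ^ 2 := by
  obtain ⟨hZ, hQ, hQc⟩ := Cfsg.Lib.MaxClass.center_facts n X hX (by omega) hc
  obtain ⟨hZQ, -, -⟩ := Cfsg.Lib.MaxClass.center_facts (n - 1) (X ⧸ center X) hQ (by omega) hQc
  set π := QuotientGroup.mk' (center X)
  have e : Subgroup.upperCentralSeries X 2 = (center (X ⧸ center X)).comap π := by
    ext g
    rw [Subgroup.mem_upperCentralSeries_succ_iff, Subgroup.upperCentralSeries_one, mem_comap, mem_center_iff]
    refine ⟨fun h q => ?_, fun h y => ?_⟩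
    · obtain ⟨y, rfl⟩ := QuotientGroup.mk'_surjective _ q
      have h2 : π (g * y * g⁻¹ * y⁻¹) = 1 := (QuotientGroup.eq_one_iff _).2 (h y)
      rw [map_mul, map_mul, map_mul, map_inv, map_inv, mul_inv_eq_one, mul_inv_eq_iff_eq_mul] at h2
      exact h2.symm
    · rw [← QuotientGroup.eq_one_iff]
      show π (g * y * g⁻¹ * y⁻¹) = 1
      rw [map_mul, map_mul, map_mul, map_inv, map_inv, mul_inv_eq_one, mul_inv_eq_iff_eq_mul]
      exact (h (π y)).symm
  rw [e]
  have h := ((center (X ⧸ center X)).comap π).card_mul_index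
  rw [index_comap_of_surjective _ (QuotientGroup.mk'_surjective _), hX] at h
  have h2 := (center (X ⧸ center X)).card_mul_index
  rw [hZQ, hQ] at h2
  obtain ⟨m, rfl⟩ : ∃ m, n = m + 4 := ⟨n - 4, by omega⟩
  have hi : (center (X ⧸ center X)).index = p ^ (m + 2) := by
    refine Nat.eq_of_mul_eq_mul_left hp.out.pos (h2.trans ?_)
    rw [← pow_succ', show m + 4 - 1 = m + 2 + 1 by omega]
  rw [hi, show m + 4 = 2 + (m + 2) by omega, pow_add p 2] at h
  exact Nat.eq_of_mul_eq_mul_right (pow_pos hp.out.pos _) h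

theorem two_comm (hX : Nat.card X = p ^ n) (h4 : 4 ≤ n) (hc : Group.nilpotencyClass X = n - 1) :
    ∀ a ∈ Subgroup.upperCentralSeries X 2, ∀ b ∈ Subgroup.upperCentralSeries X 2, a * b = b * a := by
  haveI := IsPGroup.isMulCommutative_of_card_eq_prime_sq (p := p) (card_two hX h4 hc)
  exact fun a ha b hb =>
    congrArg Subtype.val (mul_comm' (⟨a, ha⟩ : Subgroup.upperCentralSeries X 2) ⟨b, hb⟩)

/-- The centralizer of the second centre has index dividing `p`. -/
theorem index_centralizer_two (hX : Nat.card X = p ^ n) (h4 : 4 ≤ n)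
    (hc : Group.nilpotencyClass X = n - 1) :
    (centralizer (Subgroup.upperCentralSeries X 2 : Set X)).index ∣ p := by
  classical
  obtain ⟨hZ, -, -⟩ := Cfsg.Lib.MaxClass.center_facts n X hX (by omega) hc
  set Z2 := Subgroup.upperCentralSeries X 2
  have hZle : center X ≤ Z2 := Subgroup.upperCentralSeries_one X ▸ Subgroup.upperCentralSeries_mono X (show 1 ≤ 2 by omega)
  have hcomm : ∀ g : X, ∀ w ∈ Z2, g * w * g⁻¹ * w⁻¹ ∈ center X := by
    intro g w hw
    have h := (center X).inv_mem (Subgroup.upperCentralSeries_one X ▸ (Subgroup.mem_upperCentralSeries_succ_iff.1 hw g))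
    convert h using 1
    group
  obtain ⟨w, hw, hwZ⟩ : ∃ w ∈ Z2, w ∉ center X := by
    by_contra h
    push Not at h
    have h2 := card_le_of_le (show Z2 ≤ center X from h)
    rw [hZ, card_two hX h4 hc] at h2
    have := hp.out.two_le
    nlinarith
  let f : X →* center X := MonoidHom.mk' (fun g => ⟨g * w * g⁻¹ * w⁻¹, hcomm g w hw⟩) fun g k => Subtype.ext (by
    show g * k * w * (g * k)⁻¹ * w⁻¹ = (g * w * g⁻¹ * w⁻¹) * (k * w * k⁻¹ * w⁻¹)
    have hz := mem_center_iff.1 (hcomm k w hw)
    calc g * k * w * (g * k)⁻¹ * w⁻¹ = g * (k * w * k⁻¹ * w⁻¹) * (w * g⁻¹ * w⁻¹) := by group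
      _ = (k * w * k⁻¹ * w⁻¹) * g * (w * g⁻¹ * w⁻¹) := by rw [hz g]
      _ = (k * w * k⁻¹ * w⁻¹) * (g * w * g⁻¹ * w⁻¹) := by group
      _ = _ := (hz (g * w * g⁻¹ * w⁻¹)).symm)
  have hker : f.ker = centralizer (Z2 : Set X) := by
    refine le_antisymm (fun g hg => ?_) fun g hg => Subtype.ext ?_
    · have hgw : w * g = g * w := by
        have h1 : g * w * g⁻¹ * w⁻¹ = 1 := congrArg Subtype.val (MonoidHom.mem_ker.1 hg)
        rw [mul_inv_eq_one, mul_inv_eq_iff_eq_mul] at h1
        exact h1.symm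
      have hgen : center X ⊔ zpowers w = Z2 := by
        refine eq_of_le_of_card_ge (sup_le hZle (zpowers_le.2 hw)) ?_
        obtain ⟨j, hj, hjc⟩ := (Nat.dvd_prime_pow hp.out).1 (hX ▸ (center X ⊔ zpowers w).card_subgroup_dvd_card)
        have hlt : Nat.card (center X) < Nat.card (center X ⊔ zpowers w : Subgroup X) :=
          lt_of_le_of_ne (card_le_of_le le_sup_left) fun e =>
            hwZ ((eq_of_le_of_card_ge le_sup_left e.ge).ge (mem_sup_right (mem_zpowers w)))
        rw [hZ, hjc] at hlt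
        rw [hjc, card_two hX h4 hc]
        refine Nat.pow_le_pow_right hp.out.pos ?_
        by_contra h
        have := Nat.pow_le_pow_right hp.out.pos (show j ≤ 1 by omega)
        rw [pow_one] at this
        omega
      have hle : Z2 ≤ centralizer ({g} : Set X) := hgen ▸ sup_le
        (fun z hz => mem_centralizer_singleton_iff.2 (mem_center_iff.1 hz g).symm)
        (zpowers_le.2 (mem_centralizer_singleton_iff.2 hgw))
      exact mem_centralizer_iff.2 fun z hz => mem_centralizer_singleton_iff.1 (hle hz)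
    · show g * w * g⁻¹ * w⁻¹ = 1
      rw [← mem_centralizer_iff.1 hg w hw]
      group
  rw [← hker, index_ker, ← hZ]
  exact card_subgroup_dvd_card _

end Cfsg.Lib.Fusion.MaxClassBasic
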