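import Cfsg.Agent.Fusion.Saturation
import Cfsg.Agent.PGroups.MaxClassSmallSub

/-!
Automorphisms in a saturated fusion system of the abelian normal subgroup of order `p ^ 3` of a `p`-group
of maximal class that stabilize the flag of the lower central series.
-/

set_option autoImplicit false
set_option linter.unusedSectionVars false
set_option linter.style.haveILetI false

namespace Cfsg.Lib.Fusion.MaxClassFlag

open Subgroup Cfsg Cfsg.FusionSystem Cfsg.Lib.Fusion
open Cfsg.Lib.PGroups MaxClassRank MaxClassThree MaxClassAgemo MaxClassSmallSub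
open scoped commutatorElement

universe u

variable {Ω : Type u} [Group Ω] {S : Subgroup Ω}

/-- The subgroup `L (n - 4)` of `S` inside the ambient group. -/
def Qs (S : Subgroup Ω) (n : ℕ) : Subgroup Ω := (L S (n - 4)).map S.subtype

theorem coe_mem_Qs {n : ℕ} {g : S} : (g : Ω) ∈ Qs S n ↔ g ∈ L S (n - 4) :=
  mem_map_iff_mem S.subtype_injective

theorem Qs_le (S : Subgroup Ω) (n : ℕ) : Qs S n ≤ S := map_subtype_le _

theorem card_Qs (S : Subgroup Ω) (n : ℕ) : Nat.card (Qs S n) = Nat.card (L S (n - 4)) :=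
  (Nat.card_congr (equivMapOfInjective _ S.subtype S.subtype_injective).toEquiv).symm

theorem normalizes_Qs {n : ℕ} {s : Ω} (hs : s ∈ S) : s ∈ Subgroup.normalizer (Qs S n : Set Ω) := by
  have key : ∀ t : S, ∀ y ∈ Qs S n, (t : Ω) * y * (t : Ω)⁻¹ ∈ Qs S n := by
    rintro t _ ⟨g, hg, rfl⟩
    exact ⟨t * g * t⁻¹, (inferInstance : (L S (n - 4)).Normal).conj_mem g hg t, rfl⟩
  refine mem_normalizer_iff.2 fun y => ⟨key ⟨s, hs⟩ y, fun hy => ?_⟩
  have h := key ⟨s, hs⟩⁻¹ _ hy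
  simpa [mul_assoc] using h

theorem normalizerIn_Qs (S : Subgroup Ω) (n : ℕ) : normalizerIn S (Qs S n) = S :=
  le_antisymm inf_le_left (le_inf le_rfl fun _ hs => normalizes_Qs hs)

variable {F : FusionSystem S} {p : ℕ} [Finite S] [hp : Fact p.Prime]

theorem fullyNormalized_Qs (F : FusionSystem S) (n : ℕ) : F.IsFullyNormalized (Qs S n) := by
  refine ⟨Qs_le S n, fun R _ => ?_⟩
  rw [normalizerIn_Qs]
  exact card_le_of_le inf_le_left

variable {n : ℕ}

/-- An automorphism of `Qs S n` as a function on `S`. -/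
noncomputable def bX (β : MulAut (Qs S n)) (g : S) : S :=
  ⟨autFun β g, by
    classical
    unfold autFun
    split
    · exact Qs_le S n (SetLike.coe_mem _)
    · exact S.one_mem⟩

theorem coe_bX (β : MulAut (Qs S n)) (g : S) : ((bX β g : S) : Ω) = autFun β g := rfl

theorem bX_mem (β : MulAut (Qs S n)) {g : S} (hg : g ∈ L S (n - 4)) : bX β g ∈ L S (n - 4) :=
  coe_mem_Qs.1 (autFun_mem β (coe_mem_Qs.2 hg))

theorem bX_map_mul (β : MulAut (Qs S n)) {g g' : S} (hg : g ∈ L S (n - 4)) (hg' : g' ∈ L S (n - 4)) :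
    bX β (g * g') = bX β g * bX β g' := by
  refine Subtype.ext ?_
  rw [coe_bX, Subgroup.coe_mul, Subgroup.coe_mul, coe_bX, coe_bX,
    autFun_apply_mem β (mul_mem (coe_mem_Qs.2 hg) (coe_mem_Qs.2 hg')), autFun_apply_mem β (coe_mem_Qs.2 hg),
    autFun_apply_mem β (coe_mem_Qs.2 hg')]
  exact congrArg Subtype.val (map_mul β (⟨(g : Ω), coe_mem_Qs.2 hg⟩ : Qs S n) ⟨(g' : Ω), coe_mem_Qs.2 hg'⟩)

theorem bX_one_apply (β : MulAut (Qs S n)) : bX β (1 : S) = 1 := by
  have h := bX_map_mul β (one_mem (L S (n - 4))) (one_mem _)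
  rwa [mul_one, left_eq_mul] at h

theorem bX_map_inv (β : MulAut (Qs S n)) {g : S} (hg : g ∈ L S (n - 4)) : bX β g⁻¹ = (bX β g)⁻¹ := by
  refine eq_inv_of_mul_eq_one_left ?_
  rw [← bX_map_mul β (inv_mem hg) hg, inv_mul_cancel, bX_one_apply]

theorem bX_map_pow (β : MulAut (Qs S n)) {g : S} (hg : g ∈ L S (n - 4)) (k : ℕ) :
    bX β (g ^ k) = bX β g ^ k := by
  induction k with
  | zero => rw [pow_zero, pow_zero, bX_one_apply]
  | succ k ih => rw [pow_succ, pow_succ, bX_map_mul β (pow_mem hg k) hg, ih]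

theorem bX_map_zpow (β : MulAut (Qs S n)) {g : S} (hg : g ∈ L S (n - 4)) (k : ℤ) :
    bX β (g ^ k) = bX β g ^ k := by
  obtain ⟨k, rfl | rfl⟩ := k.eq_nat_or_neg
  · rw [zpow_natCast, zpow_natCast, bX_map_pow β hg]
  · rw [zpow_neg, zpow_neg, zpow_natCast, zpow_natCast, bX_map_inv β (pow_mem hg k), bX_map_pow β hg]

theorem bX_mul (α β : MulAut (Qs S n)) {g : S} (hg : g ∈ L S (n - 4)) :
    bX (α * β) g = bX α (bX β g) :=
  Subtype.ext (autFun_mul α β (coe_mem_Qs.2 hg))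

theorem bX_one {g : S} (hg : g ∈ L S (n - 4)) : bX (1 : MulAut (Qs S n)) g = g :=
  Subtype.ext (by rw [coe_bX, autFun_apply_mem _ (coe_mem_Qs.2 hg)]; rfl)

theorem bX_inj (β : MulAut (Qs S n)) {g g' : S} (hg : g ∈ L S (n - 4)) (hg' : g' ∈ L S (n - 4))
    (h : bX β g = bX β g') : g = g' := by
  have h1 := congrArg (bX β⁻¹) h
  rwa [← bX_mul _ _ hg, ← bX_mul _ _ hg', inv_mul_cancel, bX_one hg, bX_one hg'] at h1

theorem bX_apply_inv (β : MulAut (Qs S n)) {g : S} (hg : g ∈ L S (n - 4)) : bX β (bX β⁻¹ g) = g := by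
  rw [← bX_mul _ _ hg, mul_inv_cancel, bX_one hg]

theorem ext_bX {α β : MulAut (Qs S n)} (h : ∀ g ∈ L S (n - 4), bX α g = bX β g) : α = β := by
  refine MulEquiv.ext fun x => Subtype.ext ?_
  have h1 := congrArg Subtype.val (h ⟨x, Qs_le S n x.2⟩ (coe_mem_Qs.1 x.2))
  rwa [coe_bX, coe_bX, autFun_apply, autFun_apply] at h1

/-- Conjugation by `t` on `Qs S n`. -/
noncomputable def conjQ (n : ℕ) (t : S) : MulAut (Qs S n) := conjAut (Qs S n) t (normalizes_Qs t.2)

theorem bX_conjQ (t : S) {g : S} (hg : g ∈ L S (n - 4)) : bX (conjQ n t) g = t * g * t⁻¹ :=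
  Subtype.ext (by rw [coe_bX, autFun_apply_mem _ (coe_mem_Qs.2 hg)]; rfl)

theorem conjQ_mem (t : S) : conjQ n t ∈ F.autGroup (Qs S n) :=
  autInducedBy_le (Qs_le S n) (conjAut_mem_autInducedBy (normalizes_Qs t.2) t.2)

/-- Trivial action on the steps of the flag. -/
def Flag (β : MulAut (Qs S n)) : Prop :=
  (∀ g ∈ L S (n - 4), bX β g * g⁻¹ ∈ L S (n - 3)) ∧ (∀ g ∈ L S (n - 3), bX β g * g⁻¹ ∈ L S (n - 2)) ∧
    ∀ g ∈ L S (n - 2), bX β g = g

variable [Group.IsNilpotent S] (B : Base p n S)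
include B

theorem flag_conjQ (hn : 5 ≤ n) (t : S) : Flag (conjQ n t) := by
  have key : ∀ i, ∀ g ∈ L S i, n - 4 ≤ i → bX (conjQ n t) g * g⁻¹ ∈ L S (i + 1) := fun i g hg hi => by
    rw [bX_conjQ t (L_le hi hg), ← commutatorElement_def, ← commutatorElement_inv]
    exact inv_mem (comm_mem_succ hg t)
  refine ⟨fun g hg => ?_, fun g hg => ?_, fun g hg => ?_⟩
  · have := key _ g hg le_rfl
    rwa [show n - 4 + 1 = n - 3 by omega] at this
  · have := key _ g hg (by omega)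
    rwa [show n - 3 + 1 = n - 2 by omega] at this
  · have := key _ g hg (by omega)
    rwa [B.L_eq_bot (by omega), mem_bot, mul_inv_eq_one] at this

/-- A flag automorphism in `F` is a conjugation in `S`. -/
theorem exists_conj_of_flag (hS : IsPGroup p S) (hF : F.IsSaturated p) (hn : 5 ≤ n)
    {β : MulAut (Qs S n)} (hβ : β ∈ F.autGroup (Qs S n)) (hflag : Flag β) :
    ∃ s : S, ∀ g ∈ L S (n - 4), bX β g = s * g * s⁻¹ := by
  classical
  haveI := finite_of_le (Qs_le S n)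
  haveI : Finite (MulAut (Qs S n)) :=
    Finite.of_injective (fun f : MulAut (Qs S n) => (f : Qs S n → Qs S n)) DFunLike.coe_injective
  have h3 : L S (n - 3) ≤ L S (n - 4) := L_le (by omega)
  have h2 : L S (n - 2) ≤ L S (n - 3) := L_le (by omega)
  have hpres : ∀ α : MulAut (Qs S n), Flag α →
      (∀ g ∈ L S (n - 3), bX α g ∈ L S (n - 3)) := fun α hα g hg => by
    have := (L S (n - 3)).mul_mem (h2 (hα.2.1 g hg)) hg
    rwa [inv_mul_cancel_right] at this
  let K : Subgroup (F.autGroup (Qs S n)) :=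
    { carrier := {α | Flag (α : MulAut (Qs S n))}
      one_mem' := ⟨fun g hg => by rw [Subgroup.coe_one, bX_one hg, mul_inv_cancel]; exact one_mem _,
        fun g hg => by rw [Subgroup.coe_one, bX_one (h3 hg), mul_inv_cancel]; exact one_mem _,
        fun g hg => by rw [Subgroup.coe_one, bX_one (h3 (h2 hg))]⟩
      mul_mem' := by
        rintro a b ha hb
        refine ⟨fun g hg => ?_, fun g hg => ?_, fun g hg => ?_⟩
        · rw [Subgroup.coe_mul, bX_mul _ _ hg]
          have := mul_mem (ha.1 _ (bX_mem (b : MulAut (Qs S n)) hg)) (hb.1 g hg)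
          rwa [← mul_assoc, inv_mul_cancel_right] at this
        · rw [Subgroup.coe_mul, bX_mul _ _ (h3 hg)]
          have := mul_mem (ha.2.1 _ (hpres _ hb g hg)) (hb.2.1 g hg)
          rwa [← mul_assoc, inv_mul_cancel_right] at this
        · rw [Subgroup.coe_mul, bX_mul _ _ (h3 (h2 hg)), hb.2.2 g hg, ha.2.2 g hg]
      inv_mem' := by
        rintro a ha
        have e : ∀ g ∈ L S (n - 4), bX (a : MulAut (Qs S n))⁻¹ g * g⁻¹ =
            (bX (a : MulAut (Qs S n)) (bX (a : MulAut (Qs S n))⁻¹ g) * (bX (a : MulAut (Qs S n))⁻¹ g)⁻¹)⁻¹ := by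
          intro g hg
          rw [bX_apply_inv _ hg, mul_inv_rev, inv_inv]
        have p1 : ∀ g ∈ L S (n - 4), bX (a : MulAut (Qs S n))⁻¹ g * g⁻¹ ∈ L S (n - 3) := fun g hg => by
          rw [e g hg]; exact inv_mem (ha.1 _ (bX_mem _ hg))
        have p2 : ∀ g ∈ L S (n - 3), bX (a : MulAut (Qs S n))⁻¹ g * g⁻¹ ∈ L S (n - 2) := fun g hg => by
          rw [e g (h3 hg)]
          refine inv_mem (ha.2.1 _ ?_)
          have := mul_mem (p1 g (h3 hg)) hg
          rwa [inv_mul_cancel_right] at this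
        refine ⟨p1, p2, fun g hg => ?_⟩
        have h := mul_mem (p2 g (h2 hg)) hg
        rw [inv_mul_cancel_right] at h
        have h' := ha.2.2 _ h
        rw [bX_apply_inv _ (h3 (h2 hg))] at h'
        rw [Subgroup.coe_inv]
        exact h'.symm }
  have hpow : ∀ (α : MulAut (Qs S n)) (M N : Subgroup S), M ≤ L S (n - 4) → N ≤ L S (n - 4) →
      (∀ g ∈ N, bX α g = g) → (∀ g ∈ M, bX α g * g⁻¹ ∈ N) → ∀ g ∈ M, bX (α ^ p ^ n) g = g := by
    intro α M N hM hN hfix hd g hg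
    have h : ∀ i : ℕ, bX (α ^ i) g = (bX α g * g⁻¹) ^ i * g := by
      intro i
      induction i with
      | zero => rw [pow_zero, bX_one (hM hg), pow_zero, one_mul]
      | succ i ih =>
        rw [pow_succ', bX_mul _ _ (hM hg), ih, bX_map_mul α (hN (pow_mem (hd g hg) i)) (hM hg),
          bX_map_pow α (hN (hd g hg)), hfix _ (hd g hg), pow_succ, mul_assoc, inv_mul_cancel_right]
    rw [h, ← B.card, pow_card_eq_one', one_mul]
  have hKp : IsPGroup p K := fun α => by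
    refine ⟨n + n, Subtype.ext (Subtype.ext ?_)⟩
    show ((α : F.autGroup (Qs S n)) : MulAut (Qs S n)) ^ p ^ (n + n) = 1
    obtain ⟨α, hα⟩ := α
    set a : MulAut (Qs S n) := (α : MulAut (Qs S n))
    have e1 := hpow a (L S (n - 3)) (L S (n - 2)) h3 (h2.trans h3) hα.2.2 hα.2.1
    have hflag2 : Flag (a ^ p ^ n) := by
      have h2 : Flag (((α ^ p ^ n : F.autGroup (Qs S n)) : MulAut (Qs S n))) := K.pow_mem (x := α) hα (p ^ n)
      rwa [SubgroupClass.coe_pow] at h2
    have e2 := hpow (a ^ p ^ n) (L S (n - 4)) (L S (n - 3)) le_rfl h3 e1 hflag2.1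
    rw [pow_add, pow_mul]
    refine ext_bX fun g hg => ?_
    rw [e2 g hg, bX_one hg]
  obtain ⟨-, ⟨-, R, hR⟩, -⟩ := fullyNormalized_props hS hF (fullyNormalized_Qs F n)
  have hle : (R : Subgroup (F.autGroup (Qs S n))) ≤ K := by
    intro α hα
    rw [hR] at hα
    obtain ⟨s, hs, es⟩ := mem_autInducedBy.1 hα
    have he : (α : MulAut (Qs S n)) = conjQ n ⟨s, hs⟩ := MulEquiv.ext fun x => Subtype.ext (es x)
    show Flag (α : MulAut (Qs S n))
    rw [he]
    exact flag_conjQ B hn _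
  have hmem : (⟨β, hβ⟩ : F.autGroup (Qs S n)) ∈ (R : Subgroup (F.autGroup (Qs S n))) := by
    rw [← R.3 hKp hle]; exact hflag
  rw [hR] at hmem
  obtain ⟨s, hs, es⟩ := mem_autInducedBy.1 hmem
  refine ⟨⟨s, hs⟩, fun g hg => Subtype.ext ?_⟩
  rw [coe_bX, autFun_apply_mem β (coe_mem_Qs.2 hg)]
  exact es _

/-- An automorphism extends over a subgroup whose conjugations it carries to conjugations in `S`. -/
theorem exists_extend (hS : IsPGroup p S) (hF : F.IsSaturated p)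
    {β : MulAut (Qs S n)} (hβ : β ∈ F.autGroup (Qs S n)) {T : Subgroup S}
    (hT : ∀ t ∈ T, ∃ s : S, ∀ g ∈ L S (n - 4), bX β (t * g * t⁻¹) = s * bX β g * s⁻¹) :
    ∃ f : Ω → Ω, IsMap F ((L S (n - 4) ⊔ T).map S.subtype) f ∧
      ∀ g ∈ L S (n - 4), f g = bX β g := by
  obtain ⟨-, -, hrec⟩ := fullyNormalized_props hS hF (fullyNormalized_Qs F n)
  have hm : IsMap F (Qs S n) (autFun β) := (isMap_autFun (Qs_le S n)).2 hβ
  obtain ⟨f, hf, hag⟩ := receptive_extend hrec hm (img_autFun β)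
  refine ⟨f, hf.mono ?_, fun g hg => hag _ (coe_mem_Qs.2 hg)⟩
  rw [Subgroup.map_sup]
  refine sup_le (le_extSub hm) ?_
  rintro _ ⟨t, ht, rfl⟩
  obtain ⟨s, hs⟩ := hT t ht
  refine ⟨t.2, normalizes_Qs t.2, s, s.2, ?_⟩
  rintro _ ⟨g, hg, rfl⟩
  exact congrArg Subtype.val (hs g hg)

end Cfsg.Lib.Fusion.MaxClassFlag
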