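import Cfsg.Agent.Fusion.EssentialTransvection
import Cfsg.Agent.Fusion.MaxClassFlag

/-!
The position of an elementary abelian essential subgroup of order `p ^ 3` in a `p`-group of maximal class.
-/

set_option autoImplicit false
set_option linter.unusedSectionVars false
set_option linter.style.haveILetI false

namespace Cfsg.Lib.Fusion.MaxClassSmall

open Subgroup Cfsg Cfsg.FusionSystem Cfsg.Lib.Fusion MaxClassFlag
open Cfsg.Lib.PGroups MaxClassRank MaxClassThree MaxClassAgemo MaxClassSmallSub MaxClassDegree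
open scoped commutatorElement

universe u

variable {Ω : Type u} [Group Ω] {S : Subgroup Ω} {p : ℕ} [Finite S] [hp : Fact p.Prime]
  [Group.IsNilpotent S] {n : ℕ}

theorem card_subgroupOf {R : Subgroup Ω} (hR : R ≤ S) : Nat.card (R.subgroupOf S) = Nat.card R :=
  Nat.card_congr (subgroupOfEquivOfLe hR).toEquiv

theorem card_normalizer_le {R : Subgroup Ω} (hR : R ≤ S) :
    Nat.card (Subgroup.normalizer (R.subgroupOf S : Set S)) ≤ Nat.card (normalizerIn S R) := by
  haveI := finite_of_le hR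
  haveI : Finite (normalizerIn S R) := finite_of_le inf_le_left
  refine Nat.card_le_card_of_injective (fun g : Subgroup.normalizer (R.subgroupOf S : Set S) =>
    (⟨((g : S) : Ω), ⟨(g : S).2, mem_normalizer_of_maps_finite fun x hx => ?_⟩⟩ : normalizerIn S R))
    fun a b h => Subtype.ext (Subtype.ext (congrArg Subtype.val h :))
  exact (mem_normalizer_iff.1 g.2 ⟨x, hR hx⟩).1 hx

theorem centralizer_subgroupOf_le {R : Subgroup Ω} (hR : R ≤ S) (h : centralizerIn S R ≤ R) :
    centralizer (R.subgroupOf S : Set S) ≤ R.subgroupOf S := fun g hg => h (mem_centralizerIn.2 ⟨g.2, fun x hx => by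
  have h1 := congrArg Subtype.val (mem_centralizer_iff.1 hg ⟨x, hR hx⟩ hx)
  rw [Subgroup.coe_mul, Subgroup.coe_mul] at h1
  show (g : Ω) * x * (g : Ω)⁻¹ = x
  rw [← h1, mul_inv_cancel_right]⟩)

/-- The standing facts. -/
structure Setting (F : FusionSystem S) (p n : ℕ) (E : Subgroup Ω) : Prop where
  isP : IsPGroup p S
  sat : F.IsSaturated p
  base : Base p n S
  five : 5 ≤ n
  ess : F.IsEssential p E
  card3 : Nat.card (E.subgroupOf S) = p ^ 3
  comm : ∀ a ∈ E.subgroupOf S, ∀ b ∈ E.subgroupOf S, Commute a b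
  card4 : Nat.card (normalizerIn S E) = p ^ 4
  notL1 : ¬ E.subgroupOf S ≤ L S 1

variable {F : FusionSystem S} {E : Subgroup Ω}

namespace Setting

variable (T : Setting F p n E)
include T

theorem le : E ≤ S := T.ess.1.1

theorem self_cent : centralizer (E.subgroupOf S : Set S) ≤ E.subgroupOf S :=
  centralizer_subgroupOf_le T.le (T.ess.1.2 E (isConj_refl T.le))

theorem cardA : Nat.card ↥(E.subgroupOf S ⊓ L S 1) = p ^ 2 := card_inf_eq T.base T.five T.card3 T.notL1

theorem center_le : L S (n - 2) ≤ E.subgroupOf S ⊓ L S 1 :=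
  le_inf (center_le_of_self T.base T.self_cent) (L_le (by have := T.five; omega))

/-- No conjugate lies in the derived subgroup. -/
theorem conj_not_le {R : Subgroup Ω} (hR : F.IsConj E R) : ¬ R.subgroupOf S ≤ L S 1 := fun h => by
  have hRS := (isConj_le hR).2
  have h5 := (card_normalizer_ge T.base T.five
    (by rw [card_subgroupOf hRS, isConj_card hR, ← card_subgroupOf T.le, T.card3]) h
    (centralizer_subgroupOf_le hRS (T.ess.1.2 R hR))).trans
    ((card_normalizer_le hRS).trans (T.ess.2.1.2 R hR))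
  rw [T.card4] at h5
  exact absurd ((Nat.pow_le_pow_iff_right hp.out.one_lt).1 h5) (by norm_num)

theorem eq_two_of_le (h : E.subgroupOf S ⊓ L S 1 ≤ L S (n - 3)) : E.subgroupOf S ⊓ L S 1 = L S (n - 3) := by
  have := T.five
  exact eq_of_le_of_card_ge h (by rw [T.cardA, card_L_of_add T.base (by omega) (show n - 3 + 2 + 1 = n by omega)])

/-- The two possibilities. -/
theorem dichotomy : E.subgroupOf S ⊓ L S 1 = L S (n - 3) ∨
    (¬ E.subgroupOf S ⊓ L S 1 ≤ L S (n - 3) ∧ E.subgroupOf S ≤ stepCent S 1) := by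
  by_cases h : E.subgroupOf S ⊓ L S 1 ≤ L S (n - 3)
  · exact Or.inl (T.eq_two_of_le h)
  · obtain ⟨a, ha, ha'⟩ := SetLike.not_le_iff_exists.1 h
    exact Or.inr ⟨h, le_stepCent_one T.base T.five T.comm ha.1 ha.2 ha'⟩

theorem not_last (h : ¬ E.subgroupOf S ⊓ L S 1 ≤ L S (n - 3)) : ¬ E.subgroupOf S ≤ stepCent S (n - 3) := by
  intro hC
  have := T.five
  have hle : L S (n - 3) ≤ E.subgroupOf S ⊓ L S 1 :=
    le_inf (two_le_of_le_last T.base T.five T.self_cent hC) (L_le (by omega))
  refine h (le_of_eq (eq_of_le_of_card_ge hle ?_).symm)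
  rw [T.cardA, card_L_of_add T.base (by omega) (show n - 3 + 2 + 1 = n by omega)]

/-- `L (n - 4)` normalizes. -/
theorem four_le_normalizer : L S (n - 4) ≤ Subgroup.normalizer (E.subgroupOf S : Set S) := by
  have := T.five
  intro q hq
  have hq' : ∀ g ∈ E.subgroupOf S, ⁅q, g⁆ ∈ E.subgroupOf S := by
    intro g hg
    rcases T.dichotomy with h | ⟨-, hΓ⟩
    · refine (inf_le_left : E.subgroupOf S ⊓ L S 1 ≤ _) (h.ge ?_)
      exact L_le (by omega) (comm_mem_succ hq g)
    · refine center_le_of_self T.base T.self_cent ?_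
      have := mem_stepCent.1 (show g ∈ stepCent S (n - 4) by
        rw [stepCent_eq n S T.base (n - 4) (by omega) (by omega)]; exact hΓ hg) q hq
      rwa [show n - 4 + 2 = n - 2 by omega] at this
  haveI := finite_of_le T.le
  refine mem_normalizer_of_maps_finite fun g hg => ?_
  have := mul_mem (hq' g hg) hg
  rwa [commutatorElement_def, inv_mul_cancel_right] at this

theorem card_normalizer : Nat.card (Subgroup.normalizer (E.subgroupOf S : Set S)) ≤ p ^ 4 :=
  (card_normalizer_le T.le).trans T.card4.le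

theorem normalizer_inf : Subgroup.normalizer (E.subgroupOf S : Set S) ⊓ L S 1 = L S (n - 4) := by
  have := T.five
  refine (eq_of_le_of_card_ge (le_inf T.four_le_normalizer (L_le (by omega))) ?_).symm
  rw [card_L_of_add T.base (by omega) (show n - 4 + 3 + 1 = n by omega)]
  have hlt : Subgroup.normalizer (E.subgroupOf S : Set S) ⊓ L S 1 < Subgroup.normalizer (E.subgroupOf S : Set S) :=
    lt_of_le_of_ne inf_le_left fun h => T.notL1 (Subgroup.le_normalizer.trans (h.ge.trans inf_le_right))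
  obtain ⟨k, hk⟩ := IsPGroup.iff_card.1
    (T.base.isP.to_subgroup (Subgroup.normalizer (E.subgroupOf S : Set S)))
  have hk4 : k ≤ 4 := (Nat.pow_le_pow_iff_right hp.out.one_lt).1 (hk ▸ T.card_normalizer)
  rcases Nat.eq_zero_or_pos k with h0 | hpos
  · have h1 := card_le_of_le (Subgroup.le_normalizer (H := E.subgroupOf S))
    rw [hk, T.card3, h0] at h1
    exact absurd ((Nat.pow_le_pow_iff_right hp.out.one_lt).1 h1) (by norm_num)
  · exact (card_le_pow_of_lt T.base hlt (k := k - 1) (by rw [hk, Nat.sub_add_cancel hpos])).trans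
      (Nat.pow_le_pow_right hp.out.pos (by omega))

theorem inf_le_four : E.subgroupOf S ⊓ L S 1 ≤ L S (n - 4) :=
  (inf_le_inf_right _ Subgroup.le_normalizer).trans T.normalizer_inf.le

theorem inf_four : E.subgroupOf S ⊓ L S (n - 4) = E.subgroupOf S ⊓ L S 1 := by
  have := T.five
  exact le_antisymm (inf_le_inf_left _ (L_le (by omega))) (le_inf inf_le_left T.inf_le_four)

theorem commA {a : S} (ha : a ∈ E.subgroupOf S ⊓ L S 1) {g : S}
    (hg : g ∈ E.subgroupOf S ⊔ L S (n - 4)) : Commute a g := by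
  have hle : E.subgroupOf S ⊔ L S (n - 4) ≤ centralizer ({a} : Set S) := sup_le
    (fun g hg => mem_centralizer_singleton_iff.2 (T.comm g hg a ha.1).eq)
    (fun g hg => mem_centralizer_singleton_iff.2 (commute_four T.base T.five hg (T.inf_le_four ha)).eq)
  exact (mem_centralizer_singleton_iff.1 (hle hg)).symm

theorem eq_sup_zpowers {x : S} (hx : x ∈ E.subgroupOf S) (hx' : x ∉ L S 1) :
    E.subgroupOf S ⊓ L S 1 ⊔ zpowers x = E.subgroupOf S := by
  have hle : E.subgroupOf S ⊓ L S 1 ⊔ zpowers x ≤ E.subgroupOf S := sup_le inf_le_left (zpowers_le.2 hx)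
  refine eq_of_le_of_card_ge hle (T.card3.le.trans (pow_le_card_of_lt T.base ?_ T.cardA))
  exact lt_of_le_of_ne le_sup_left fun e => hx' (e.ge (mem_sup_right (mem_zpowers x))).2

theorem four_eq_sup {y : S} (hy : y ∈ L S (n - 4)) (hy' : y ∉ E.subgroupOf S) :
    E.subgroupOf S ⊓ L S 1 ⊔ zpowers y = L S (n - 4) := by
  have := T.five
  have hle : E.subgroupOf S ⊓ L S 1 ⊔ zpowers y ≤ L S (n - 4) := sup_le T.inf_le_four (zpowers_le.2 hy)
  refine eq_of_le_of_card_ge hle ?_
  rw [card_L_of_add T.base (by omega) (show n - 4 + 3 + 1 = n by omega)]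
  exact pow_le_card_of_lt T.base (lt_of_le_of_ne le_sup_left
    fun e => hy' (show y ∈ E.subgroupOf S ⊓ L S 1 from e.ge (mem_sup_right (mem_zpowers y))).1) T.cardA

theorem two_eq_of_odd (hodd : Odd n) : E.subgroupOf S ⊓ L S 1 = L S (n - 3) := by
  rcases T.dichotomy with h | ⟨h, hΓ⟩
  · exact h
  · exact absurd (hΓ.trans (stepCent_last_of_odd T.base T.five hodd).ge) (T.not_last h)

end Setting

/-- What the strongly embedded subgroup gives. -/
theorem exists_setting (hS : IsPGroup p S) (hF : F.IsSaturated p) (B : Base p n S) (hn : 5 ≤ n)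
    (hE : F.IsEssential p E) (hcard : Nat.card E = p ^ 3) (hab : ∀ a ∈ E, ∀ b ∈ E, a * b = b * a)
    (hexp : ∀ a ∈ E, a ^ p = 1) :
    Setting F p n E ∧ ∃ y : S, y ∈ L S (n - 4) ∧ y ∉ E.subgroupOf S ∧
      ∀ μ : ZMod p, μ ≠ 0 → ∃ h ∈ F.autGroup E, ∃ c l : S, c ∈ E.subgroupOf S ⊓ L S 1 ∧ c ≠ 1 ∧
        l ∈ E.subgroupOf S ⊓ L S 1 ∧ l ∉ zpowers c ∧ (∀ x ∈ E.subgroupOf S, ⁅y, x⁆ ∈ zpowers c) ∧
        autFun h (c : Ω) = (c : Ω) ^ μ.val ∧ autFun h (l : Ω) = l ∧
        ∀ x ∈ E, autFun h ((y : Ω) * x * (y : Ω)⁻¹) =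
          (y : Ω) ^ (μ ^ 2).val * autFun h x * ((y : Ω) ^ (μ ^ 2).val)⁻¹ := by
  have hES := hE.1.1
  set P := E.subgroupOf S with hPdef
  have hPc : Nat.card P = p ^ 3 := by rw [hPdef, card_subgroupOf hES, hcard]
  have hPab : ∀ a ∈ P, ∀ b ∈ P, Commute a b := fun a ha b hb => Subtype.ext (hab a ha b hb)
  have hPC := centralizer_subgroupOf_le hES (hE.1.2 E (isConj_refl hES))
  haveI : Finite E := finite_of_le hES
  haveI : Finite P := inferInstance
  -- apply the transvection lemma to an element fixing a subgroup of index `p`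
  have key : ∀ (A : Subgroup S) (y : S), A ≤ P → Nat.card A = p ^ 2 → y ∉ P →
      (∀ x ∈ P, y * x * y⁻¹ ∈ P) → (∀ a ∈ A, Commute y a) →
      Nat.card (normalizerIn S E) = p ^ 4 ∧ ∀ μ : ZMod p, μ ≠ 0 → ∃ h ∈ F.autGroup E, ∃ c l : S,
        c ∈ A ∧ c ≠ 1 ∧ l ∈ A ∧ l ∉ zpowers c ∧ (∀ x ∈ P, ⁅y, x⁆ ∈ zpowers c) ∧
        autFun h (c : Ω) = (c : Ω) ^ μ.val ∧ autFun h (l : Ω) = l ∧
        ∀ x ∈ E, autFun h ((y : Ω) * x * (y : Ω)⁻¹) =
          (y : Ω) ^ (μ ^ 2).val * autFun h x * ((y : Ω) ^ (μ ^ 2).val)⁻¹ := by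
    intro A y hA hAc hyP hyN hyA
    obtain ⟨hN, -, htor⟩ := EssentialTransvection.card_normalizer_and_torus hS hF hE hab hexp hcard
      (A := A.map S.subtype) (y := (y : Ω)) (by rintro _ ⟨a, ha, rfl⟩; exact hA ha)
      ((Nat.card_congr (equivMapOfInjective _ S.subtype S.subtype_injective).toEquiv).symm.trans hAc)
      y.2 (mem_normalizer_of_maps_finite fun x hx => hyN ⟨x, hES hx⟩ hx) hyP
      (by rintro _ ⟨a, ha, rfl⟩; exact congrArg Subtype.val (hyA a ha).eq)
    refine ⟨hN, fun μ hμ => ?_⟩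
    obtain ⟨h, hh, c, l, hc, hc1, hl, hlc, hdisp, e1, e2, e3⟩ := htor μ hμ
    obtain ⟨c, hcA, rfl⟩ := hc
    obtain ⟨l, hlA, rfl⟩ := hl
    refine ⟨h, hh, c, l, hcA, fun e => hc1 (by rw [e]; rfl), hlA,
      fun hz => hlc ?_, fun x hx => ?_, e1, e2, e3⟩
    · obtain ⟨k, rfl⟩ := hz
      exact ⟨k, by simp⟩
    · obtain ⟨k, hk⟩ := hdisp x hx
      exact ⟨k, Subtype.ext (by rw [commutatorElement_def]; simpa using hk)⟩
  -- the subgroup is not in the derived subgroup
  have hnot : ¬ P ≤ L S 1 := by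
    intro hle
    have h3 : L S (n - 3) ≤ P := fun z hz => hPC (mem_centralizer_iff.2 fun g hg =>
      (two_commute B (hle hg) hz).eq)
    obtain ⟨y, hyP, hyN, hyA⟩ : ∃ y : S, y ∉ P ∧ (∀ x ∈ P, y * x * y⁻¹ ∈ P) ∧
        ∀ a ∈ L S (n - 3), Commute y a := by
      by_cases heq : P = L S 1
      · obtain ⟨y, hyC, hy⟩ := SetLike.exists_of_lt
          (lt_of_le_of_ne (derived_le_stepCent (X := S) (n - 3)) fun e => by
            have h1 := B.L_index le_rfl (show 1 ≤ n - 1 by omega)
            rw [e, MaxClassOutside.index_stepCent B (by omega) (by omega)] at h1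
            have := Nat.pow_right_injective hp.out.two_le (h1.symm.trans (pow_one p).symm)
            omega)
        refine ⟨y, heq ▸ hy, fun x hx => ?_, fun a ha => ?_⟩
        · rw [heq] at hx ⊢
          exact (inferInstance : (L S 1).Normal).conj_mem x hx y
        · have h1 := mem_stepCent.1 hyC a ha
          rw [B.L_eq_bot (by omega), mem_bot, commutatorElement_eq_one_iff_commute] at h1
          exact h1.symm
      · have hlt : E < (L S 1).map S.subtype := by
          refine lt_of_le_of_ne (fun x hx => ⟨⟨x, hES hx⟩, hle hx, rfl⟩) fun e => heq ?_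
          rw [hPdef, e]
          exact Subgroup.comap_map_eq_self_of_injective S.subtype_injective _
        obtain ⟨z, ⟨⟨y, hy1, rfl⟩, hyn⟩, hyE⟩ := SetLike.exists_of_lt (lt_inf_normalizer hS hlt (map_subtype_le _))
        exact ⟨y, hyE, fun x hx => conj_mem_of_mem_normalizer (P := E) hyn (x := (x : Ω)) hx, fun a ha => two_commute B hy1 ha⟩
    obtain ⟨h4, -⟩ := key (L S (n - 3)) y h3 (card_L_of_add B (by omega) (by omega)) hyP hyN hyA
    have h5 := (card_normalizer_ge B hn hPc hle hPC).trans (card_normalizer_le hES)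
    rw [h4] at h5
    exact absurd ((Nat.pow_le_pow_iff_right hp.out.one_lt).1 h5) (by norm_num)
  have hAc := card_inf_eq B hn hPc hnot
  -- the element of `L (n - 4)`
  obtain ⟨y, hy4, hyP, hyN, hyA⟩ : ∃ y : S, y ∈ L S (n - 4) ∧ y ∉ P ∧ (∀ x ∈ P, y * x * y⁻¹ ∈ P) ∧
      ∀ a ∈ P ⊓ L S 1, Commute y a := by
    by_cases h3 : L S (n - 3) ≤ P
    · have hA3 : L S (n - 3) = P ⊓ L S 1 := eq_of_le_of_card_ge (le_inf h3 (L_le (by omega)))
        (by rw [hAc, card_L_of_add B (by omega) (show n - 3 + 2 + 1 = n by omega)])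
      obtain ⟨y, hy, hyP⟩ : ∃ y ∈ L S (n - 4), y ∉ P := by
        by_contra h
        push Not at h
        refine hnot (le_trans (eq_of_le_of_card_ge (h : L S (n - 4) ≤ P) ?_).ge (L_le (by omega)))
        rw [hPc, card_L_of_add B (by omega) (show n - 4 + 3 + 1 = n by omega)]
      refine ⟨y, hy, hyP, fun x hx => ?_, fun a ha => ?_⟩
      · have h1 : ⁅y, x⁆ ∈ L S (n - 3) := L_le (by omega) (comm_mem_succ hy x)
        have := mul_mem (h3 h1) hx
        rwa [commutatorElement_def, inv_mul_cancel_right] at this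
      · exact two_commute B (L_le (by omega) hy) (hA3.ge ha)
    · obtain ⟨y, hy, hyP⟩ := SetLike.not_le_iff_exists.1 h3
      refine ⟨y, L_le (by omega) hy, hyP, fun x hx => ?_, fun a ha => (two_commute B ha.2 hy).symm⟩
      have h1 : ⁅y, x⁆ ∈ L S (n - 2) := L_le (by omega) (comm_mem_succ hy x)
      have := mul_mem (center_le_of_self B hPC h1) hx
      rwa [commutatorElement_def, inv_mul_cancel_right] at this
  obtain ⟨h4, htor⟩ := key _ y inf_le_left hAc hyP hyN hyA
  exact ⟨⟨hS, hF, B, hn, hE, hPc, hPab, h4, hnot⟩, y, hy4, hyP, htor⟩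

end Cfsg.Lib.Fusion.MaxClassSmall
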