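import Cfsg.Agent.Fusion.EssentialShape
import Cfsg.Agent.Fusion.EssentialGen
import Cfsg.Agent.PGroups.Commutators
import Cfsg.Agent.PGroups.SpecialCoprime

/-!
Small essential subgroups that are not pearls are elementary abelian of order `p ^ 3`.
-/

set_option autoImplicit false
set_option linter.unusedSectionVars false
set_option linter.style.haveILetI false

namespace Cfsg.Lib.Fusion.MaxClassSmallShape

open Subgroup Cfsg Cfsg.FusionSystem Cfsg.Lib.Fusion
open scoped commutatorElement

universe u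

/-- A noncyclic group of order `p ^ 3` (`p` odd) of exponent larger than `p` has an automizer with a unique
Sylow `p`-subgroup. -/
theorem subsingleton_of_exponent {Q : Type u} [Group Q] [Finite Q] {p : ℕ} [hp : Fact p.Prime] (hp2 : p ≠ 2)
    (hc : Nat.card Q = p ^ 3) (hcyc : ¬ IsCyclic Q) {x : Q} (hx : x ^ p ≠ 1) (A : Subgroup (MulAut Q)) :
    Subsingleton (Sylow p A) := by
  have hQ : IsPGroup p Q := IsPGroup.of_card hc
  -- the commutators are central of order dividing `p`
  have hcomm : ∀ a b : Q, ⁅a, b⁆ ∈ center Q ∧ ⁅a, b⁆ ^ p = 1 := by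
    intro a b
    by_cases hab : IsMulCommutative Q
    · have : ⁅a, b⁆ = 1 := commutatorElement_eq_one_iff_mul_comm.2 (hab.is_comm.comm a b)
      rw [this]
      exact ⟨one_mem _, one_pow p⟩
    haveI : Nontrivial Q := Finite.one_lt_card_iff_nontrivial.1 (hc ▸ Nat.one_lt_pow (by norm_num) hp.out.one_lt)
    haveI := hQ.center_nontrivial
    obtain ⟨i, hi⟩ := IsPGroup.iff_card.mp (hQ.to_quotient (center Q))
    obtain ⟨j, hj⟩ := IsPGroup.iff_card.mp (hQ.to_subgroup (center Q))
    have hsum : i + j = 3 := by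
      have h1 := card_eq_card_quotient_mul_card_subgroup (center Q)
      rw [hc, hi, hj, ← pow_add] at h1
      exact (Nat.pow_right_injective hp.out.two_le h1).symm
    have hj1 : 1 ≤ j := by
      by_contra h
      have := Finite.one_lt_card (α := center Q)
      rw [hj, show j = 0 by omega, pow_zero] at this
      omega
    have hi1 : ¬ i ≤ 1 := by
      intro h
      have hi' : i = 0 ∨ i = 1 := by omega
      haveI : IsCyclic (Q ⧸ center Q) := by
        rcases hi' with rfl | rfl
        · haveI : Subsingleton (Q ⧸ center Q) := (Nat.card_eq_one_iff_unique.1 (by rw [hi, pow_zero])).1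
          exact isCyclic_of_subsingleton
        · exact isCyclic_of_prime_card (p := p) (by rw [hi, pow_one])
      exact hab ⟨⟨fun a b => commutative_of_cyclic_center_quotient (QuotientGroup.mk' (center Q))
        (by rw [QuotientGroup.ker_mk']) a b⟩⟩
    have hcom : ⁅a, b⁆ ∈ center Q := by
      rw [← QuotientGroup.eq_one_iff]
      show QuotientGroup.mk' (center Q) ⁅a, b⁆ = 1
      rw [map_commutatorElement, commutatorElement_eq_one_iff_mul_comm]
      haveI := IsPGroup.isMulCommutative_of_card_eq_prime_sq (p := p) (G := Q ⧸ center Q) (by rw [hi, show i = 2 by omega])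
      exact mul_comm' _ _
    refine ⟨hcom, orderOf_dvd_iff_pow_eq_one.1 ?_⟩
    rw [← Subgroup.orderOf_mk _ hcom]
    exact (_root_.orderOf_dvd_natCard _).trans (dvd_of_eq (by rw [hj, show j = 1 by omega, pow_one]))
  have hmul : ∀ a b : Q, (a * b) ^ p = a ^ p * b ^ p := by
    intro a b
    obtain ⟨hz, hzp⟩ := hcomm b a
    rw [Cfsg.Lib.PGroups.mul_pow_of_commute_commutator (mem_center_iff.1 hz a).symm (mem_center_iff.1 hz b).symm]
    obtain ⟨k, hk⟩ : p ∣ p.choose 2 :=
      hp.out.dvd_choose_self (by norm_num) (lt_of_le_of_ne hp.out.two_le (Ne.symm hp2))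
    rw [hk, pow_mul, hzp, one_pow, mul_one]
  let f : Q →* Q := MonoidHom.mk' (fun a => a ^ p) hmul
  have hexp2 : ∀ a : Q, a ^ p ^ 2 = 1 := by
    intro a
    obtain ⟨k, hk3, hk⟩ := (Nat.dvd_prime_pow hp.out).1 (hc ▸ orderOf_dvd_natCard a)
    have hne : k ≠ 3 := fun e => hcyc (isCyclic_of_orderOf_eq_card a (by rw [hk, e, hc]))
    exact orderOf_dvd_iff_pow_eq_one.1 (hk ▸ Nat.pow_dvd_pow p (show k ≤ 2 by omega))
  have hrk : f.range ≤ f.ker := by
    rintro _ ⟨a, rfl⟩
    show (a ^ p) ^ p = 1
    rw [← pow_mul, ← sq]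
    exact hexp2 a
  have hidx : f.ker.index = p := by
    have h := f.ker.card_mul_index
    rw [index_ker, hc] at h
    rw [index_ker]
    obtain ⟨j, hj⟩ := IsPGroup.iff_card.mp (hQ.to_subgroup f.range)
    obtain ⟨i, hi⟩ := IsPGroup.iff_card.mp (hQ.to_subgroup f.ker)
    have hle := card_le_of_le hrk
    rw [hi, hj] at hle
    have hji := (Nat.pow_le_pow_iff_right hp.out.one_lt).1 hle
    rw [hi, hj, ← pow_add] at h
    have hs := Nat.pow_right_injective hp.out.two_le h
    have hj0 : j ≠ 0 := fun e => by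
      have hbot : f.range = ⊥ := card_eq_one.1 (by rw [hj, e, pow_zero])
      exact hx (mem_bot.1 (hbot ▸ (⟨x, rfl⟩ : x ^ p ∈ f.range)))
    rw [hj, show j = 1 by omega, pow_one]
  refine subsingleton_sylow_aut_of_char hQ ?_ f.ker hidx A fun a _ q hq => ?_
  · obtain ⟨k, hk3, hk⟩ := (Nat.dvd_prime_pow hp.out).1 (hc ▸ (frattini Q).index_dvd_card)
    have hk' : k ≠ 3 := fun e => by
      have hbot : frattini Q = ⊥ := by
        refine card_eq_one.1 ?_
        have h := (frattini Q).card_mul_index
        rw [hk, e, hc] at h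
        exact Nat.eq_of_mul_eq_mul_right (pow_pos hp.out.pos 3) (h.trans (one_mul _).symm)
      exact hx (mem_bot.1 (hbot ▸ Cfsg.Lib.PGroups.pow_mem_frattini hQ x))
    exact hk ▸ Nat.pow_dvd_pow p (show k ≤ 2 by omega)
  · show (a q) ^ p = 1
    rw [← map_pow, show q ^ p = 1 from hq, map_one]

variable {Ω : Type u} [Group Ω] {S : Subgroup Ω} {p : ℕ}

theorem shape [Finite S] [hp : Fact p.Prime] (hS : IsPGroup p S) (hp2 : p ≠ 2) {F : FusionSystem S}
    {E : Subgroup Ω} (hE : F.IsEssential p E)
    (hnp : ¬ ((Nat.card ↥E = p ^ 2 ∧ Cfsg.IsElementaryAbelian p E) ∨ (Nat.card ↥E = p ^ 3 ∧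
      Cfsg.IsExtraspecial p ↥E ∧ Monoid.exponent ↥E = p)))
    (hsmall : Nat.card E < p ^ 4) :
    Nat.card E = p ^ 3 ∧ (∀ a ∈ E, ∀ b ∈ E, a * b = b * a) ∧ ∀ a ∈ E, a ^ p = 1 := by
  have hES := hE.1.1
  haveI := finite_of_le hES
  have hEp : IsPGroup p E := hS.to_le hES
  obtain ⟨R₁, R₂, hR⟩ := exists_two_sylow_of_essential hS hE
  have hcyc : ¬ IsCyclic E := fun h => by
    haveI := h
    exact hR (@Subsingleton.elim _ (subsingleton_sylow_aut_of_cyclic (p := p) (F.autGroup E)) R₁ R₂)
  obtain ⟨k, hk⟩ := IsPGroup.iff_card.mp hEp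
  have hk4 : k < 4 := (Nat.pow_lt_pow_iff_right hp.out.one_lt).1 (hk ▸ hsmall)
  have hk2 : 2 ≤ k := by
    by_contra h
    rcases (show k = 0 ∨ k = 1 by omega) with rfl | rfl
    · haveI : Subsingleton E := (Nat.card_eq_one_iff_unique.1 (by rw [hk, pow_zero])).1
      exact hcyc isCyclic_of_subsingleton
    · exact hcyc (isCyclic_of_prime_card (p := p) (by rw [hk, pow_one]))
  rcases (show k = 2 ∨ k = 3 by omega) with rfl | rfl
  · refine (hnp (Or.inl ⟨hk, IsPGroup.isMulCommutative_of_card_eq_prime_sq (p := p) hk, fun a ha => ?_⟩)).elim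
    obtain ⟨i, hi, hio⟩ := (Nat.dvd_prime_pow hp.out).1 (hk ▸ orderOf_dvd_natCard (⟨a, ha⟩ : E))
    have hne : i ≠ 2 := fun e => hcyc (isCyclic_of_orderOf_eq_card (⟨a, ha⟩ : E) (by rw [hio, e, hk]))
    have h1 : (⟨a, ha⟩ : E) ^ p = 1 := orderOf_dvd_iff_pow_eq_one.1 (by
      rw [hio]; simpa using Nat.pow_dvd_pow p (show i ≤ 1 by omega))
    exact congrArg Subtype.val h1
  have hexp : ∀ a : E, a ^ p = 1 := by
    by_contra h
    push Not at h
    obtain ⟨x, hx⟩ := h
    exact hR (@Subsingleton.elim _ (subsingleton_of_exponent hp2 hk hcyc hx (F.autGroup E)) R₁ R₂)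
  refine ⟨hk, ?_, fun a ha => congrArg Subtype.val (hexp ⟨a, ha⟩)⟩
  by_contra hab
  push Not at hab
  obtain ⟨a, ha, b, hb, hne⟩ := hab
  haveI : Nontrivial E := Finite.one_lt_card_iff_nontrivial.1 (hk ▸ Nat.one_lt_pow (by norm_num) hp.out.one_lt)
  haveI := hEp.center_nontrivial
  -- extraspecial of exponent `p`
  refine hnp (Or.inr ⟨hk, ?_, ?_⟩)
  · obtain ⟨j, hj⟩ := IsPGroup.iff_card.mp (hEp.to_subgroup (center E))
    obtain ⟨i, hi⟩ := IsPGroup.iff_card.mp (hEp.to_quotient (center E))
    have hsum : i + j = 3 := by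
      have h1 := card_eq_card_quotient_mul_card_subgroup (center E)
      rw [hk, hi, hj, ← pow_add] at h1
      exact (Nat.pow_right_injective hp.out.two_le h1).symm
    have hi1 : ¬ i ≤ 1 := fun h => by
      haveI : IsCyclic (E ⧸ center E) := by
        rcases (show i = 0 ∨ i = 1 by omega) with rfl | rfl
        · haveI : Subsingleton (E ⧸ center E) := (Nat.card_eq_one_iff_unique.1 (by rw [hi, pow_zero])).1
          exact isCyclic_of_subsingleton
        · exact isCyclic_of_prime_card (p := p) (by rw [hi, pow_one])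
      exact hne (congrArg Subtype.val (commutative_of_cyclic_center_quotient (QuotientGroup.mk' (center E))
        (by rw [QuotientGroup.ker_mk']) (⟨a, ha⟩ : E) ⟨b, hb⟩))
    have hj1 : 1 ≤ j := by
      by_contra h
      have := Finite.one_lt_card (α := center E)
      rw [hj, show j = 0 by omega, pow_zero] at this
      omega
    have hcc : Nat.card (center E) = p := by rw [hj, show j = 1 by omega, pow_one]
    have hcom : commutator E = center E := by
      refine eq_of_le_of_card_ge ?_ ?_
      · rw [_root_.commutator_def, commutator_le]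
        intro x _ y _
        rw [← QuotientGroup.eq_one_iff]
        show QuotientGroup.mk' (center E) ⁅x, y⁆ = 1
        rw [map_commutatorElement, commutatorElement_eq_one_iff_mul_comm]
        haveI := IsPGroup.isMulCommutative_of_card_eq_prime_sq (p := p) (G := E ⧸ center E)
          (by rw [hi, show i = 2 by omega])
        exact mul_comm' _ _
      · obtain ⟨l, hl⟩ := IsPGroup.iff_card.mp (hEp.to_subgroup (commutator E))
        have hl0 : l ≠ 0 := fun e => by
          have hbot : commutator E = ⊥ := card_eq_one.1 (by rw [hl, e, pow_zero])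
          have hmem : ⁅(⟨a, ha⟩ : E), (⟨b, hb⟩ : E)⁆ ∈ commutator E :=
            commutator_mem_commutator (mem_top _) (mem_top _)
          rw [hbot, mem_bot, commutatorElement_eq_one_iff_mul_comm] at hmem
          exact hne (congrArg Subtype.val hmem)
        rw [hcc, hl]
        exact Nat.le_self_pow hl0 p
    refine ⟨⟨hEp, le_antisymm ?_ ?_, hcom⟩, hcc⟩
    · exact Cfsg.Lib.PGroups.SpecialCoprime.frattini_le_of_elementary (p := p) (center E)
        (fun g => by rw [hexp]; exact one_mem _) hcom.le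
    · rw [← hcom]; exact Cfsg.Lib.PGroups.commutator_le_frattini hEp
  · refine (hp.out.eq_one_or_self_of_dvd _ (Monoid.exponent_dvd_iff_forall_pow_eq_one.2 hexp)).resolve_left
      fun e => ?_
    haveI := Monoid.exp_eq_one_iff.1 e
    exact not_nontrivial E inferInstance

end Cfsg.Lib.Fusion.MaxClassSmallShape
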