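import Cfsg.Agent.Fusion.MaxClassSmallSetting

/-!
There are no elementary abelian essential subgroups of order `p ^ 3` in a `p`-group of maximal class of
order at least `p ^ 5`, for `p ≥ 5`.
-/

set_option autoImplicit false
set_option linter.unusedSectionVars false
set_option linter.style.haveILetI false

namespace Cfsg.Lib.Fusion.MaxClassSmall

open Subgroup Cfsg Cfsg.FusionSystem Cfsg.Lib.Fusion MaxClassFlag
open Cfsg.Lib.PGroups MaxClassRank MaxClassThree MaxClassAgemo MaxClassSmallSub MaxClassDegree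
open scoped commutatorElement

universe u

theorem exists_mul_zpow {G : Type*} [Group G] {A : Subgroup G} {q : G} (h : ∀ a ∈ A, Commute a q) {g : G}
    (hg : g ∈ A ⊔ zpowers q) : ∃ a ∈ A, ∃ j : ℤ, g = a * q ^ j := by
  let D : Subgroup G :=
    { carrier := {g | ∃ a ∈ A, ∃ j : ℤ, g = a * q ^ j}
      one_mem' := ⟨1, one_mem _, 0, by simp⟩
      mul_mem' := by
        rintro _ _ ⟨a, ha, i, rfl⟩ ⟨b, hb, j, rfl⟩
        refine ⟨a * b, mul_mem ha hb, i + j, ?_⟩
        rw [mul_assoc a, ← mul_assoc _ b, ← ((h b hb).zpow_right i).eq, zpow_add]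
        group
      inv_mem' := by
        rintro _ ⟨a, ha, j, rfl⟩
        refine ⟨a⁻¹, inv_mem ha, -j, ?_⟩
        rw [mul_inv_rev, zpow_neg, ← ((h a ha).zpow_right j).inv_inv.eq] }
  refine (sup_le (fun a ha => ⟨a, ha, 0, by simp⟩) (zpowers_le.2 ⟨1, one_mem _, 1, by simp⟩) : _ ≤ D) hg

variable {Ω : Type u} [Group Ω] {S : Subgroup Ω} {p : ℕ} [Finite S] [hp : Fact p.Prime]
  [Group.IsNilpotent S] {n : ℕ} {F : FusionSystem S} {E : Subgroup Ω}

theorem apply_mem_of_sup {D : Subgroup Ω} {f : Ω → Ω} (hf : IsMap F D f) {A B R : Subgroup Ω}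
    (hA : A ≤ D) (hB : B ≤ D) (h1 : ∀ a ∈ A, f a ∈ R) (h2 : ∀ b ∈ B, f b ∈ R) {x : Ω}
    (hx : x ∈ A ⊔ B) : f x ∈ R := by
  let W : Subgroup Ω :=
    { carrier := {x | x ∈ D ∧ f x ∈ R}
      one_mem' := ⟨D.one_mem, by rw [hf.map_one]; exact R.one_mem⟩
      mul_mem' := fun {a b} ha hb => ⟨D.mul_mem ha.1 hb.1, by rw [hf.map_mul ha.1 hb.1]; exact R.mul_mem ha.2 hb.2⟩
      inv_mem' := fun {a} ha => ⟨D.inv_mem ha.1, by rw [hf.map_inv ha.1]; exact R.inv_mem ha.2⟩ }
  exact ((sup_le (fun a ha => ⟨hA ha, h1 a ha⟩) (fun b hb => ⟨hB hb, h2 b hb⟩) : _ ≤ W) hx).2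

namespace Setting

variable (T : Setting F p n E)
include T

theorem inf_eq_sup {c l : S} (hc : c ∈ E.subgroupOf S ⊓ L S 1) (hc1 : c ≠ 1)
    (hl : l ∈ E.subgroupOf S ⊓ L S 1) (hlc : l ∉ zpowers c) :
    zpowers c ⊔ zpowers l = E.subgroupOf S ⊓ L S 1 := by
  have hle := sup_le (zpowers_le.2 hc) (zpowers_le.2 hl)
  refine eq_of_le_of_card_ge hle (T.cardA.le.trans ?_)
  have hlt : zpowers c < zpowers c ⊔ zpowers l :=
    lt_of_le_of_ne le_sup_left fun e => hlc (e.ge (mem_sup_right (mem_zpowers l)))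
  obtain ⟨k, hk⟩ := IsPGroup.iff_card.1 (T.base.isP.to_subgroup (zpowers c))
  have hk0 : k ≠ 0 := fun e => hc1 (by
    have h : zpowers c = ⊥ := card_eq_one.1 (by rw [hk, e, pow_zero])
    exact zpowers_eq_bot.1 h)
  exact (Nat.pow_le_pow_right hp.out.pos (show 2 ≤ k + 1 by omega)).trans (pow_le_card_of_lt T.base hlt hk)

/-- The diagonal element gives an automorphism of `L (n - 4)`. -/
theorem exists_alpha {y : S} (hy : y ∈ L S (n - 4)) (hyP : y ∉ E.subgroupOf S) {μ : ZMod p}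
    {h : MulAut E} (hh : h ∈ F.autGroup E) {c l : S} (hc : c ∈ E.subgroupOf S ⊓ L S 1) (hc1 : c ≠ 1)
    (hl : l ∈ E.subgroupOf S ⊓ L S 1) (hlc : l ∉ zpowers c)
    (e1 : autFun h (c : Ω) = (c : Ω) ^ μ.val) (e2 : autFun h (l : Ω) = l)
    (e3 : ∀ x ∈ E, autFun h ((y : Ω) * x * (y : Ω)⁻¹) =
      (y : Ω) ^ (μ ^ 2).val * autFun h x * ((y : Ω) ^ (μ ^ 2).val)⁻¹) :
    ∃ α ∈ F.autGroup (Qs S n), bX α c = c ^ μ.val ∧ bX α l = l ∧
      (∀ a ∈ E.subgroupOf S ⊓ L S 1, bX α a ∈ E.subgroupOf S ⊓ L S 1) ∧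
      ∀ q ∈ L S (n - 4), (q ^ (μ ^ 2).val)⁻¹ * bX α q ∈ E.subgroupOf S ⊓ L S 1 := by
  have h5 := T.five
  have hES := T.le
  set k := (μ ^ 2).val
  set A := E.subgroupOf S ⊓ L S 1 with hA
  have hmE : IsMap F E (autFun h) := (isMap_autFun hES).2 hh
  obtain ⟨-, -, hrec⟩ := fullyNormalized_props T.isP T.sat T.ess.2.1
  obtain ⟨f, hf, hag⟩ := receptive_extend hrec hmE (img_autFun h)
  have hyN : (y : Ω) ∈ Subgroup.normalizer (E : Set Ω) := by
    haveI := finite_of_le hES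
    refine mem_normalizer_of_maps_finite fun x hx => ?_
    exact (mem_normalizer_iff.1 (T.four_le_normalizer hy) ⟨x, hES hx⟩).1 hx
  have hyD : (y : Ω) ∈ extSub S E (autFun h) :=
    ⟨y.2, hyN, (y : Ω) ^ k, S.pow_mem y.2 k, e3⟩
  have hED : E ≤ extSub S E (autFun h) := le_extSub hmE
  have hQ : E.subgroupOf S ⊓ L S 1 ⊔ zpowers y = L S (n - 4) := T.four_eq_sup hy hyP
  have hQD : Qs S n ≤ extSub S E (autFun h) := by
    rw [Qs, ← hQ, Subgroup.map_sup]
    refine sup_le ?_ ?_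
    · rintro _ ⟨a, ha, rfl⟩
      exact hED ha.1
    · rw [MonoidHom.map_zpowers]
      exact zpowers_le.2 hyD
  -- on `A`
  have hpw : ∀ z : S, (z : Ω) ∈ E → ∀ i : ℤ, autFun h ((z ^ i : S) : Ω) = autFun h (z : Ω) ^ i := by
    intro z hz i
    have hzi : ((z ^ i : S) : Ω) = (((⟨(z : Ω), hz⟩ : E) ^ i : E) : Ω) := by push_cast; rfl
    rw [hzi, autFun_apply, map_zpow, autFun_apply_mem h hz, Subgroup.coe_zpow]
  have hfA : ∀ a ∈ A, ∃ b ∈ A, f (a : Ω) = (b : Ω) := by
    intro a ha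
    have hmem : autFun h (a : Ω) ∈ A.map S.subtype := by
      rw [hA, ← T.inf_eq_sup hc hc1 hl hlc] at ha ⊢
      rw [Subgroup.map_sup]
      refine apply_mem_of_sup hmE (A := (zpowers c).map S.subtype) (B := (zpowers l).map S.subtype)
        ?_ ?_ ?_ ?_ (Subgroup.map_sup (zpowers c) (zpowers l) S.subtype ▸ mem_map_of_mem S.subtype ha)
      · rw [MonoidHom.map_zpowers]; exact zpowers_le.2 hc.1
      · rw [MonoidHom.map_zpowers]; exact zpowers_le.2 hl.1
      · rintro _ ⟨_, ⟨i, rfl⟩, rfl⟩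
        refine mem_sup_left ⟨(c ^ μ.val) ^ i, (zpowers c).zpow_mem ((zpowers c).pow_mem (mem_zpowers c) _) _, ?_⟩
        show (((c ^ μ.val) ^ i : S) : Ω) = autFun h ((c ^ i : S) : Ω)
        have hcz := hpw c hc.1 i
        rw [hcz, e1, Subgroup.coe_zpow, Subgroup.coe_pow]
      · rintro _ ⟨_, ⟨i, rfl⟩, rfl⟩
        refine mem_sup_right ⟨l ^ i, (zpowers l).zpow_mem (mem_zpowers l) _, ?_⟩
        show ((l ^ i : S) : Ω) = autFun h ((l ^ i : S) : Ω)
        rw [hpw l hl.1 i, e2, Subgroup.coe_zpow]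
    obtain ⟨b, hb, e⟩ := hmem
    exact ⟨b, hb, (hag _ ha.1).trans e.symm⟩
  -- on `y`
  let fy : S := ⟨f (y : Ω), hf.mem_S hyD⟩
  set ε := (y ^ k)⁻¹ * fy with hε
  have hεE : ε ∈ E.subgroupOf S := by
    refine T.ess.1.2 E (isConj_refl hES) (mem_centralizerIn.2 ⟨ε.2, fun x hx => ?_⟩)
    have hx' := autFun_mem h⁻¹ hx
    have h1 := hf.map_conj hyD (hED hx')
    rw [hag _ (conj_mem_of_mem_normalizer hyN hx'), hag _ hx', e3 _ hx', autFun_inv_apply h hx] at h1
    show ((ε : S) : Ω) * x * ((ε : S) : Ω)⁻¹ = x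
    have e : ((ε : S) : Ω) = ((y : Ω) ^ k)⁻¹ * f (y : Ω) := by simp [hε, fy]
    rw [e]
    calc _ = ((y : Ω) ^ k)⁻¹ * (f (y : Ω) * x * (f (y : Ω))⁻¹) * (y : Ω) ^ k := by group
      _ = x := by rw [← h1]; group
  have hfy : f (y : Ω) = ((y ^ k * ε : S) : Ω) := by rw [hε, mul_inv_cancel_left]
  have himg : ∀ R : Subgroup Ω, A.map S.subtype ≤ R → f (y : Ω) ∈ R → img (Qs S n) f ≤ R := by
    intro R hAR hyR
    refine IsMap.img_le_iff.2 fun x hx => ?_
    rw [Qs, ← hQ, Subgroup.map_sup, MonoidHom.map_zpowers] at hx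
    refine apply_mem_of_sup hf ?_ ?_ ?_ ?_ hx
    · rintro _ ⟨a, ha, rfl⟩; exact hED ha.1
    · exact zpowers_le.2 hyD
    · rintro _ ⟨a, ha, rfl⟩
      obtain ⟨b, hb, e⟩ := hfA a ha
      exact hAR ⟨b, hb, e.symm⟩
    · rintro _ ⟨j, rfl⟩
      have hj : f ((y : Ω) ^ j) = f (y : Ω) ^ j := by
        obtain ⟨φ, -, eφ⟩ := hf
        have := map_zpow φ ⟨(y : Ω), hyD⟩ j
        rwa [eφ, eφ, Subgroup.coe_zpow] at this
      show f ((y : Ω) ^ j) ∈ R
      rw [hj]
      exact R.zpow_mem hyR j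
  have hfQ : IsMap F (Qs S n) f := hf.mono hQD
  have hQc : Nat.card (Qs S n) = p ^ 3 := by
    rw [card_Qs, card_L_of_add T.base (by omega) (show n - 4 + 3 + 1 = n by omega)]
  have hεA : ε ∈ A := by
    by_contra hεA
    have hεL : ε ∉ L S 1 := fun h => hεA ⟨hεE, h⟩
    -- an element moving `E` inside the normalizer
    obtain ⟨g, hg, hgN⟩ : ∃ g ∈ L S (n - 5), g ∉ Subgroup.normalizer (E.subgroupOf S : Set S) := by
      by_contra hno
      push Not at hno
      rcases Nat.lt_or_ge n 6 with h6 | h6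
      · have hc5 := card_le_of_le (hno : L S (n - 5) ≤ _)
        rw [show n - 5 = 0 by omega, show L S 0 = ⊤ from Subgroup.lowerCentralSeries_zero _, card_top,
          T.base.card] at hc5
        have := (Nat.pow_le_pow_iff_right hp.out.one_lt).1 (hc5.trans T.card_normalizer)
        omega
      · have hle : L S (n - 5) ≤ L S (n - 4) :=
          (le_inf hno (L_le (show 1 ≤ n - 5 by omega))).trans T.normalizer_inf.le
        have := (T.base.L_lt (show n - 5 < n - 1 by omega)).not_ge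
        rw [show n - 5 + 1 = n - 4 by omega] at this
        exact this hle
    have hgQ : ∀ q ∈ L S (n - 4), ⁅g, q⁆ ∈ A := by
      intro q hq
      rcases Nat.lt_or_ge n 6 with h6 | h6
      · rw [hA, T.two_eq_of_odd (by rw [show n = 5 by omega]; decide)]
        refine L_le (show n - 3 ≤ n - 4 + 1 by omega) ?_
        rw [← commutatorElement_inv]
        exact inv_mem (comm_mem_succ hq g)
      · exact T.center_le (L_le (show n - 2 ≤ n - 5 + (n - 4) + 1 by omega) (comm_mem_mul hg hq))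
    have hgA : ∀ a ∈ A, g * a * g⁻¹ ∈ A := fun a ha => by
      have := mul_mem (hgQ a (T.inf_le_four ha)) ha
      rwa [commutatorElement_def, inv_mul_cancel_right] at this
    set q1 := ⁅g, ε⁆ with hq1def
    have hq1 : q1 ∈ L S (n - 4) := by
      rw [show n - 4 = n - 5 + 1 by omega]
      exact comm_mem_succ hg ε
    have hq1A : q1 ∉ A := fun hq1A => hgN (by
      refine mem_normalizer_of_maps_finite fun x hx => ?_
      have hle : E.subgroupOf S ≤ (E.subgroupOf S).comap (MulAut.conj g).toMonoidHom := by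
        conv_lhs => rw [← T.eq_sup_zpowers hεE hεL]
        refine sup_le (fun a ha => (hgA a ha).1) (zpowers_le.2 ?_)
        show g * ε * g⁻¹ ∈ E.subgroupOf S
        have := mul_mem (show q1 ∈ E.subgroupOf S from hq1A.1) hεE
        rwa [hq1def, commutatorElement_def, inv_mul_cancel_right] at this
      exact hle hx)
    have hq1c : ∀ a ∈ A, Commute a q1 := fun a ha => T.commA ha (mem_sup_right hq1)
    have hconj : ∀ m : ℕ, ∃ a ∈ A, g ^ m * ε * (g ^ m)⁻¹ = a * q1 ^ m * ε := by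
      intro m
      induction m with
      | zero => exact ⟨1, one_mem _, by simp⟩
      | succ m ih =>
        obtain ⟨a, ha, e⟩ := ih
        refine ⟨g * a * g⁻¹ * ⁅g, q1⁆ ^ m, mul_mem (hgA a ha) (pow_mem (hgQ q1 hq1) m), ?_⟩
        have e4 : g * q1 * g⁻¹ = ⁅g, q1⁆ * q1 := by rw [commutatorElement_def, inv_mul_cancel_right]
        have e5 : g * ε * g⁻¹ = q1 * ε := by rw [hq1def, commutatorElement_def, inv_mul_cancel_right]
        calc g ^ (m + 1) * ε * (g ^ (m + 1))⁻¹ = g * (g ^ m * ε * (g ^ m)⁻¹) * g⁻¹ := by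
              rw [pow_succ']; group
          _ = (g * a * g⁻¹) * (g * q1 * g⁻¹) ^ m * (g * ε * g⁻¹) := by rw [e, conj_pow]; group
          _ = g * a * g⁻¹ * ⁅g, q1⁆ ^ m * q1 ^ (m + 1) * ε := by
              rw [e4, e5, (hq1c _ (hgQ q1 hq1)).mul_pow, pow_succ q1]; group
    have hsup : A ⊔ zpowers q1 = L S (n - 4) :=
      T.four_eq_sup hq1 fun h => hq1A ⟨h, L_le (show 1 ≤ n - 4 by omega) hq1⟩
    obtain ⟨a, ha, j, hj⟩ := exists_mul_zpow hq1c (hsup.ge (pow_mem hy k))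
    obtain ⟨m, hm : q1 ^ m = q1 ^ j⟩ := mem_powers_iff_mem_zpowers.2 (zpow_mem (mem_zpowers q1) j)
    obtain ⟨b, hb, hbe⟩ := hconj m
    -- the image of `L (n - 4)` is a conjugate of `E`
    set R := E.map (MulAut.conj ((g ^ m : S) : Ω)).toMonoidHom with hR
    have hgmA : ∀ a ∈ A, ((a : S) : Ω) ∈ R := fun a ha => by
      have hn' : g ∈ Subgroup.normalizer (A : Set S) := mem_normalizer_of_maps_finite hgA
      have h1 := (mem_normalizer_iff.1 (inv_mem (pow_mem hn' m)) a).1 ha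
      exact ⟨(((g ^ m)⁻¹ * a * (g ^ m)⁻¹⁻¹ : S) : Ω), h1.1, by
        rw [MulEquiv.coe_toMonoidHom, MulAut.conj_apply]; push_cast; group⟩
    have hle : img (Qs S n) f ≤ R := by
      refine himg R (fun x hx => ?_) ?_
      · obtain ⟨a, ha, rfl⟩ := hx; exact hgmA a ha
      · have e : y ^ k * ε = a * b⁻¹ * (g ^ m * ε * (g ^ m)⁻¹) := by rw [hbe, hj, ← hm]; group
        rw [hfy, e, Subgroup.coe_mul]
        exact mul_mem (hgmA _ (mul_mem ha (inv_mem hb))) ⟨(ε : Ω), hεE, by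
          rw [MulEquiv.coe_toMonoidHom, MulAut.conj_apply]; push_cast; rfl⟩
    have hES' : R ≤ S := by
      rintro _ ⟨x, hx, rfl⟩
      exact S.mul_mem (S.mul_mem (g ^ m).2 (hES hx)) (S.inv_mem (g ^ m).2)
    haveI := finite_of_le hES'
    have heq : img (Qs S n) f = R := eq_of_le_of_card_ge hle (by
      rw [hfQ.card_img, hQc, hR, ← Nat.card_congr (E.equivMapOfInjective _ (MulAut.conj _).injective).toEquiv,
        ← card_subgroupOf hES, T.card3])
    have hconjE : F.IsConj E (Qs S n) := isConj_trans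
      (isConj_iff.2 ⟨_, isMap_conj hES (g ^ m).2, img_conj E _⟩) (isConj_symm (isConj_iff.2 ⟨f, hfQ, heq⟩))
    have hcn := T.ess.2.1.2 _ hconjE
    rw [normalizerIn_Qs, T.card4, T.base.card] at hcn
    have := (Nat.pow_le_pow_iff_right hp.out.one_lt).1 hcn
    omega
  -- the automorphism
  have hfyQ : f (y : Ω) ∈ Qs S n := by
    rw [hfy, coe_mem_Qs]; exact mul_mem (pow_mem hy k) (T.inf_le_four hεA)
  haveI := finite_of_le (Qs_le S n)
  obtain ⟨α, hα, hαf⟩ := hfQ.exists_aut (eq_of_le_of_card_ge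
    (himg _ (Subgroup.map_mono T.inf_le_four) hfyQ) hfQ.card_img.ge)
  have hbA : ∀ a ∈ A, ((bX α a : S) : Ω) = autFun h (a : Ω) := fun a ha => by
    rw [coe_bX, hαf _ (coe_mem_Qs.2 (T.inf_le_four ha)), hag _ (show ((a : S) : Ω) ∈ E from ha.1)]
  have hαA : ∀ a ∈ A, bX α a ∈ A := fun a ha => by
    obtain ⟨b, hb, e⟩ := hfA a ha
    have : bX α a = b := Subtype.ext (by rw [coe_bX, hαf _ (coe_mem_Qs.2 (T.inf_le_four ha)), e])
    rwa [this]
  refine ⟨α, hα, Subtype.ext (by rw [hbA c hc, e1, Subgroup.coe_pow]),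
    Subtype.ext (by rw [hbA l hl, e2]), hαA, fun q hq => ?_⟩
  obtain ⟨a, ha, j, rfl⟩ := exists_mul_zpow (fun a ha => T.commA ha (mem_sup_right hy)) (hQ.ge hq)
  have hay : bX α y = y ^ k * ε := Subtype.ext (by rw [coe_bX, hαf _ (coe_mem_Qs.2 hy), hfy])
  rw [bX_map_mul α (T.inf_le_four ha) (zpow_mem hy j), bX_map_zpow α hy, hay,
    (T.commA hεA (mem_sup_right (pow_mem hy k))).symm.mul_zpow,
    ((T.commA ha (mem_sup_right hy)).zpow_right j).mul_pow]
  have hcm : Commute (bX α a) ((y ^ k) ^ j) := T.commA (hαA a ha) (mem_sup_right (zpow_mem (pow_mem hy k) j))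
  rw [show (y ^ j) ^ k = (y ^ k) ^ j by rw [← zpow_natCast, ← zpow_natCast, ← zpow_mul, ← zpow_mul, mul_comm],
    mul_inv_rev, ← mul_assoc (bX α a), hcm.eq]
  have e : ((y ^ k) ^ j)⁻¹ * (a ^ k)⁻¹ * ((y ^ k) ^ j * bX α a * ε ^ j) = (a ^ k)⁻¹ * bX α a * ε ^ j := by
    have hck : Commute ((a ^ k)⁻¹) ((y ^ k) ^ j) :=
      T.commA (inv_mem (pow_mem ha k)) (mem_sup_right (zpow_mem (pow_mem hy k) j))
    rw [← mul_assoc, ← mul_assoc, mul_assoc _ (a ^ k)⁻¹, hck.eq, inv_mul_cancel_left]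
  rw [e]
  exact mul_mem (mul_mem (inv_mem (pow_mem ha k)) (hαA a ha)) (zpow_mem hεA j)

theorem comm_mem_zpowers {y c : S} (hy : y ∈ L S (n - 4)) (hyP : y ∉ E.subgroupOf S)
    (hc : c ∈ E.subgroupOf S ⊓ L S 1) (hyc : ∀ x ∈ E.subgroupOf S, ⁅y, x⁆ ∈ zpowers c) {q x : S}
    (hq : q ∈ L S (n - 4)) (hx : x ∈ E.subgroupOf S) : ⁅q, x⁆ ∈ zpowers c := by
  have hcq : ∀ q ∈ L S (n - 4), ∀ z ∈ zpowers c, q * z * q⁻¹ = z := by
    rintro q hq _ ⟨i, rfl⟩
    show q * c ^ i * q⁻¹ = c ^ i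
    rw [← (T.commA (zpow_mem hc i) (mem_sup_right hq)).eq, mul_inv_cancel_right]
  let D : Subgroup S :=
    { carrier := {q | q ∈ L S (n - 4) ∧ ⁅q, x⁆ ∈ zpowers c}
      one_mem' := ⟨one_mem _, by rw [commutatorElement_one_left]; exact one_mem _⟩
      mul_mem' := by
        rintro a b ⟨ha, ha'⟩ ⟨hb, hb'⟩
        refine ⟨mul_mem ha hb, ?_⟩
        rw [mul_left_commutator, hcq a ha _ hb']
        exact mul_mem hb' ha'
      inv_mem' := by
        rintro a ⟨ha, ha'⟩
        refine ⟨inv_mem ha, ?_⟩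
        have e : ⁅a⁻¹, x⁆ = a⁻¹ * ⁅a, x⁆⁻¹ * a⁻¹⁻¹ := by simp only [commutatorElement_def]; group
        rw [e, hcq _ (inv_mem ha) _ (inv_mem ha')]
        exact inv_mem ha' }
  have hle : E.subgroupOf S ⊓ L S 1 ⊔ zpowers y ≤ D := sup_le
    (fun a ha => ⟨T.inf_le_four ha, by
      rw [commutatorElement_eq_one_iff_commute.2 (T.comm a ha.1 x hx)]; exact one_mem _⟩)
    (zpowers_le.2 ⟨hy, hyc x hx⟩)
  exact (hle ((T.four_eq_sup hy hyP).ge hq)).2

/-- `A` cannot be moved onto the second centre with `c` going into the centre, if the centralizers differ. -/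
theorem moved_false (hne : stepCent S 1 ≠ stepCent S (n - 3)) {c : S} (hc : c ∈ E.subgroupOf S ⊓ L S 1)
    (hQE : ∀ q ∈ L S (n - 4), ∀ x ∈ E.subgroupOf S, ⁅q, x⁆ ∈ zpowers c)
    {β : MulAut (Qs S n)} (hβ : β ∈ F.autGroup (Qs S n))
    (hβA : ∀ a ∈ E.subgroupOf S ⊓ L S 1, bX β a ∈ L S (n - 3)) (hβc : bX β c ∈ L S (n - 2)) : False := by
  have h5 := T.five
  have hES := T.le
  set A := E.subgroupOf S ⊓ L S 1
  have hc4 : c ∈ L S (n - 4) := T.inf_le_four hc
  have hzp : ∀ z ∈ zpowers c, z ∈ L S (n - 4) ∧ bX β z ∈ L S (n - 2) := by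
    rintro _ ⟨i, rfl⟩
    refine ⟨zpow_mem hc4 i, ?_⟩
    show bX β (c ^ i) ∈ L S (n - 2)
    rw [bX_map_zpow β hc4]
    exact zpow_mem hβc i
  have honto : ∀ z ∈ L S (n - 3), ∃ a ∈ A, bX β a = z := by
    intro z hz
    let φ : A → L S (n - 3) := fun a => ⟨bX β a, hβA a a.2⟩
    have hinj : Function.Injective φ := fun a b h =>
      Subtype.ext (bX_inj β (T.inf_le_four a.2) (T.inf_le_four b.2) (congrArg Subtype.val h))
    obtain ⟨a, ha⟩ := (hinj.bijective_of_nat_card_le (by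
      rw [T.cardA, card_L_of_add T.base (by omega) (show n - 3 + 2 + 1 = n by omega)])).2 ⟨z, hz⟩
    exact ⟨a, a.2, congrArg Subtype.val ha⟩
  -- the conjugate transvection stabilizes the flag
  have hs : ∀ x ∈ E.subgroupOf S, ∃ s : S, ∀ g ∈ L S (n - 4), bX β (x * g * x⁻¹) = s * bX β g * s⁻¹ := by
    intro x hx
    set γ := β * conjQ n x * β⁻¹
    have hγ : γ ∈ F.autGroup (Qs S n) :=
      Subgroup.mul_mem _ (Subgroup.mul_mem _ hβ (conjQ_mem x)) (Subgroup.inv_mem _ hβ)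
    have hbγ : ∀ g ∈ L S (n - 4), bX γ (bX β g) = bX β (x * g * x⁻¹) := fun g hg => by
      rw [bX_mul _ _ (bX_mem β hg), bX_mul _ _ (bX_mem β⁻¹ (bX_mem β hg)), ← bX_mul β⁻¹ β hg,
        inv_mul_cancel, bX_one hg, bX_conjQ x hg]
    have hd : ∀ g ∈ L S (n - 4), bX γ g * g⁻¹ ∈ L S (n - 2) := by
      intro g hg
      set u := bX β⁻¹ g with hu
      have hu4 : u ∈ L S (n - 4) := bX_mem β⁻¹ hg
      have hgu : bX β u = g := bX_apply_inv β hg
      rw [← hgu, hbγ u hu4]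
      have hm : x * u * x⁻¹ * u⁻¹ ∈ zpowers c := by
        rw [← commutatorElement_def, ← commutatorElement_inv]
        exact inv_mem (hQE u hu4 x hx)
      obtain ⟨hm4, hm2⟩ := hzp _ hm
      rw [show x * u * x⁻¹ = x * u * x⁻¹ * u⁻¹ * u by rw [inv_mul_cancel_right], bX_map_mul β hm4 hu4,
        mul_inv_cancel_right]
      exact hm2
    have hfix : ∀ g ∈ L S (n - 3), bX γ g = g := fun g hg => by
      obtain ⟨a, ha, rfl⟩ := honto g hg
      rw [hbγ a (T.inf_le_four ha), ← (T.comm a ha.1 x hx).eq, mul_inv_cancel_right]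
    obtain ⟨s, hs⟩ := exists_conj_of_flag T.base T.isP T.sat h5 hγ
      ⟨fun g hg => L_le (by omega) (hd g hg),
        fun g hg => by rw [hfix g hg, mul_inv_cancel]; exact one_mem _,
        fun g hg => hfix g (L_le (by omega) hg)⟩
    exact ⟨s, fun g hg => by rw [← hbγ g hg, hs _ (bX_mem β hg)]⟩
  obtain ⟨f, hf, hfQ⟩ := exists_extend T.base T.isP T.sat hβ hs
  have hED : E ≤ (L S (n - 4) ⊔ E.subgroupOf S).map S.subtype := fun x hx =>
    ⟨⟨x, hES hx⟩, mem_sup_right hx, rfl⟩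
  have hfE : IsMap F E f := hf.mono hED
  -- the image lies in the derived subgroup
  refine T.conj_not_le (isConj_iff.2 ⟨f, hfE, rfl⟩) ?_
  have hcomm : ∀ {x : S}, x ∈ E.subgroupOf S → ∀ {g : S}, g ∈ L S (n - 4) → ∀ {x' : S},
      f (x : Ω) = (x' : Ω) → ⁅bX β g, x'⁆ = bX β ⁅g, x⁆ := by
    intro x hx g hg x' hx'
    have hm : (g : Ω) ∈ (L S (n - 4) ⊔ E.subgroupOf S).map S.subtype :=
      mem_map_of_mem S.subtype (mem_sup_left hg)
    have hm' : (x : Ω) ∈ (L S (n - 4) ⊔ E.subgroupOf S).map S.subtype :=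
      mem_map_of_mem S.subtype (mem_sup_right hx)
    have hcg : ⁅g, x⁆ ∈ L S (n - 4) := L_le (Nat.le_succ _) (comm_mem_succ hg x)
    refine Subtype.ext ?_
    rw [← hfQ _ hcg, commutatorElement_def, commutatorElement_def]
    push_cast
    rw [← hfQ g hg, ← hx']
    have e : f ((g : Ω) * x * (g : Ω)⁻¹ * (x : Ω)⁻¹) = f (g : Ω) * f (x : Ω) * (f (g : Ω))⁻¹ * (f (x : Ω))⁻¹ := by
      rw [hf.map_mul (mul_mem (mul_mem hm hm') (inv_mem hm)) (inv_mem hm'), hf.map_inv hm',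
        hf.map_conj hm hm']
    exact e.symm
  rintro x' hx'
  obtain ⟨x, hxE, hfx⟩ := hfE.mem_img.1 hx'
  have hx : (⟨x, hES hxE⟩ : S) ∈ E.subgroupOf S := hxE
  rw [← stepCent_inf T.base h5 hne]
  refine Subgroup.mem_inf.2 ⟨?_, ?_⟩
  · obtain ⟨q, hq, hq'⟩ := SetLike.exists_of_lt (T.base.L_lt (show n - 4 < n - 1 by omega))
    rw [← stepCent_eq n S T.base (n - 4) (by omega) (by omega)]
    refine T.base.mem_stepCent_of_exact (by omega) hq hq' ?_
    rw [show n - 4 + 2 = n - 2 by omega, ← bX_apply_inv β hq,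
      hcomm hx (bX_mem β⁻¹ hq) hfx]
    exact (hzp _ (hQE _ (bX_mem β⁻¹ hq) _ hx)).2
  · obtain ⟨z, hz, hz'⟩ := SetLike.exists_of_lt (T.base.L_lt (show n - 3 < n - 1 by omega))
    refine T.base.mem_stepCent_of_exact (by omega) hz hz' ?_
    obtain ⟨a, ha, rfl⟩ := honto z hz
    rw [hcomm hx (T.inf_le_four ha) hfx, commutatorElement_eq_one_iff_commute.2 (T.comm a ha.1 _ hx),
      bX_one_apply]
    exact one_mem _

/-- An automorphism of `L (n - 4)` fixing the flag extends to `S`. -/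
theorem exists_sigma {α : MulAut (Qs S n)} (hα : α ∈ F.autGroup (Qs S n))
    (h3 : ∀ g ∈ L S (n - 3), bX α g ∈ L S (n - 3)) (h2 : ∀ g ∈ L S (n - 2), bX α g ∈ L S (n - 2)) :
    ∃ σ : MulAut S, ∀ g ∈ L S (n - 4), σ g = bX α g := by
  have h5 := T.five
  have h34 : L S (n - 3) ≤ L S (n - 4) := L_le (by omega)
  have h24 : L S (n - 2) ≤ L S (n - 4) := L_le (by omega)
  have honto : ∀ (i : ℕ), n - 4 ≤ i → (∀ g ∈ L S i, bX α g ∈ L S i) → ∀ g ∈ L S i, ∃ g' ∈ L S i, bX α g' = g := by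
    intro i hi hmaps g hg
    let φ : L S i → L S i := fun a => ⟨bX α a, hmaps a a.2⟩
    have hinj : Function.Injective φ := fun a b h =>
      Subtype.ext (bX_inj α (L_le hi a.2) (L_le hi b.2) (congrArg Subtype.val h))
    obtain ⟨a, ha⟩ := (hinj.bijective_of_nat_card_le le_rfl).2 ⟨g, hg⟩
    exact ⟨a, a.2, congrArg Subtype.val ha⟩
  have hs : ∀ t ∈ (⊤ : Subgroup S), ∃ s : S, ∀ g ∈ L S (n - 4), bX α (t * g * t⁻¹) = s * bX α g * s⁻¹ := by
    intro t _
    set γ := α * conjQ n t * α⁻¹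
    have hγ : γ ∈ F.autGroup (Qs S n) :=
      Subgroup.mul_mem _ (Subgroup.mul_mem _ hα (conjQ_mem t)) (Subgroup.inv_mem _ hα)
    have hbγ : ∀ g ∈ L S (n - 4), bX γ (bX α g) = bX α (bX (conjQ n t) g) := fun g hg => by
      rw [bX_mul _ _ (bX_mem α hg), bX_mul _ _ (bX_mem α⁻¹ (bX_mem α hg)), ← bX_mul α⁻¹ α hg,
        inv_mul_cancel, bX_one hg]
    have hfl := flag_conjQ T.base h5 t
    have hdiff : ∀ u ∈ L S (n - 4), bX γ (bX α u) * (bX α u)⁻¹ = bX α (bX (conjQ n t) u * u⁻¹) := by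
      intro u hu
      rw [hbγ u hu, bX_map_mul α (bX_mem _ hu) (inv_mem hu), bX_map_inv α hu]
    obtain ⟨s, hs⟩ := exists_conj_of_flag T.base T.isP T.sat h5 hγ (by
      refine ⟨fun g hg => ?_, fun g hg => ?_, fun g hg => ?_⟩
      · obtain ⟨u, hu, rfl⟩ := honto _ le_rfl (fun _ => bX_mem α) g hg
        rw [hdiff u hu]; exact h3 _ (hfl.1 u hu)
      · obtain ⟨u, hu, rfl⟩ := honto _ (by omega) h3 g hg
        rw [hdiff u (h34 hu)]; exact h2 _ (hfl.2.1 u hu)
      · obtain ⟨u, hu, rfl⟩ := honto _ (by omega) h2 g hg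
        rw [hbγ u (h24 hu), hfl.2.2 u hu])
    refine ⟨s, fun g hg => ?_⟩
    rw [← bX_conjQ t hg, ← hbγ g hg, hs _ (bX_mem α hg)]
  obtain ⟨f, hf, hfQ⟩ := exists_extend T.base T.isP T.sat hα hs
  have hall : ∀ g : S, (g : Ω) ∈ (L S (n - 4) ⊔ ⊤).map S.subtype := fun g =>
    ⟨g, mem_sup_right (mem_top g), rfl⟩
  let φ : S →* S :=
    MonoidHom.mk' (fun g => ⟨f (g : Ω), hf.mem_S (hall g)⟩) fun a b => Subtype.ext (hf.map_mul (hall a) (hall b))
  have hinj : Function.Injective φ := fun a b h =>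
    Subtype.ext (hf.injOn (hall a) (hall b) (congrArg Subtype.val h))
  refine ⟨MulEquiv.ofBijective φ ⟨hinj, Finite.injective_iff_surjective.1 hinj⟩, fun g hg => ?_⟩
  exact Subtype.ext (hfQ g hg)

end Setting

/-- There is no such essential subgroup. -/
theorem false_of_essential (hS : IsPGroup p S) (hF : F.IsSaturated p) (hp5 : 5 ≤ p) (B : Base p n S)
    (hn : 5 ≤ n) (hE : F.IsEssential p E) (hcard : Nat.card E = p ^ 3)
    (hab : ∀ a ∈ E, ∀ b ∈ E, a * b = b * a) (hexp : ∀ a ∈ E, a ^ p = 1) : False := by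
  obtain ⟨T, y, hy, hyP, htor⟩ := exists_setting hS hF B hn hE hcard hab hexp
  haveI : Fact (1 < p) := ⟨hp.out.one_lt⟩
  -- a generator of the multiplicative group
  obtain ⟨u, hu⟩ := IsCyclic.exists_generator (α := (ZMod p)ˣ)
  set μ : ZMod p := (u : ZMod p) with hμdef
  have hμ0 : μ ≠ 0 := u.ne_zero
  have hμd : ∀ k : ℕ, μ ^ k = 1 → p - 1 ∣ k := fun k hk => by
    have hord := orderOf_eq_card_of_forall_mem_zpowers hu
    rw [Nat.card_eq_fintype_card, ZMod.card_units] at hord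
    rw [← hord]
    exact orderOf_dvd_of_pow_eq_one (Units.ext (by rw [Units.val_pow_eq_pow_val, ← hμdef, hk, Units.val_one]))
  have hμ1 : μ ≠ 1 := fun e => by
    have := Nat.le_of_dvd one_pos (hμd 1 (by rw [pow_one, e]))
    omega
  obtain ⟨h, hh, c, l, hc, hc1, hl, hlc, hyc, e1, e2, e3⟩ := htor μ hμ0
  obtain ⟨α, hα, hαc, hαl, hαA, hαQ⟩ := T.exists_alpha hy hyP hh hc hc1 hl hlc e1 e2 e3
  set A := E.subgroupOf S ⊓ L S 1 with hA
  have hQE := fun (q : S) (hq : q ∈ L S (n - 4)) (x : S) (hx : x ∈ E.subgroupOf S) =>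
    T.comm_mem_zpowers hy hyP hc hyc hq hx
  have h34 : L S (n - 3) ≤ L S (n - 4) := L_le (by omega)
  have h24 : L S (n - 2) ≤ L S (n - 4) := L_le (by omega)
  have hc4 := T.inf_le_four hc
  have hl4 := T.inf_le_four hl
  have h23 : L S (n - 2) ≤ L S (n - 3) := L_le (by omega)
  have hcard2 : Nat.card (L S (n - 2)) = p := by
    rw [card_L_of_add B (by omega) (show n - 2 + 1 + 1 = n by omega), pow_one]
  have hzc : ∀ z : S, z ∈ L S (n - 2) → z ≠ 1 → zpowers z = L S (n - 2) := fun z hz hz1 => by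
    refine eq_of_le_of_card_ge (zpowers_le.2 hz) ?_
    rw [hcard2, Nat.card_zpowers]
    refine le_of_eq (orderOf_eq_prime ?_ hz1).symm
    have hmem := pow_prime_mem B (show 1 ≤ n - 2 by omega) (by omega) hz
    rwa [B.L_eq_bot (by omega), mem_bot] at hmem
  have hΓc : E.subgroupOf S ≤ stepCent S 1 → c ∈ L S (n - 2) := by
    intro hΓ
    obtain ⟨x, hx, hx1⟩ := SetLike.not_le_iff_exists.1 T.notL1
    have hne : ⁅y, x⁆ ≠ 1 := fun e => hyP (T.self_cent (mem_centralizer_iff.2 fun g hg => by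
      have hle : E.subgroupOf S ≤ centralizer ({y} : Set S) := by
        rw [← T.eq_sup_zpowers hx hx1]
        exact sup_le (fun a ha => mem_centralizer_singleton_iff.2 (T.commA ha (mem_sup_right hy)).eq)
          (zpowers_le.2 (mem_centralizer_singleton_iff.2 (commutatorElement_eq_one_iff_mul_comm.1 e).symm))
      exact (mem_centralizer_singleton_iff.1 (hle hg))))
    have h2 : ⁅y, x⁆ ∈ L S (n - 2) := by
      have := mem_stepCent.1 (show x ∈ stepCent S (n - 4) by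
        rw [stepCent_eq n S B (n - 4) (by omega) (by omega)]; exact hΓ hx) y hy
      rwa [show n - 4 + 2 = n - 2 by omega] at this
    have hcp : c ^ p = 1 := Subtype.ext (by rw [Subgroup.coe_pow]; exact hexp _ hc.1)
    have hzz : zpowers ⁅y, x⁆ = zpowers c := by
      refine eq_of_le_of_card_ge (zpowers_le.2 (hyc x hx)) ?_
      rw [hzc _ h2 hne, hcard2, Nat.card_zpowers, orderOf_eq_prime hcp hc1]
    exact (hzc _ h2 hne).le (hzz.ge (mem_zpowers c))
  have hαZ : c ∈ L S (n - 2) → ∀ z ∈ L S (n - 2), bX α z ∈ L S (n - 2) := fun hcZ z hz => by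
    obtain ⟨i, rfl⟩ := (hzc c hcZ hc1).ge hz
    show bX α (c ^ i) ∈ L S (n - 2)
    rw [bX_map_zpow α hc4, hαc]
    exact zpow_mem (pow_mem hcZ _) i
  have e32 : n - 3 + 1 = n - 2 := by omega
  have e43 : n - 4 + 1 = n - 3 := by omega
  have e21 : n - 2 + 1 = n - 1 := by omega
  -- the weight of the centre
  have hw2c : c ∈ L S (n - 2) → ∀ σ : MulAut S, (∀ g ∈ L S (n - 4), σ g = bX α g) → WtL σ (n - 2) μ := by
    intro hcZ σ hσ
    refine wtL_of_exact B σ (by omega) (by omega) hcZ ?_ ?_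
    · rw [e21, B.L_eq_bot le_rfl, mem_bot]; exact hc1
    · rw [hσ c hc4, hαc, inv_mul_cancel]; exact one_mem _
  have hone : ((1 : ZMod p)).val = 1 := ZMod.val_one p
  rcases T.dichotomy with hA3 | ⟨hA3, hΓ⟩
  · -- `A` is the second centre
    have hC : E.subgroupOf S ≤ stepCent S (n - 3) := by
      obtain ⟨a, ha, ha'⟩ := SetLike.exists_of_lt (B.L_lt (show n - 3 < n - 1 by omega))
      exact le_stepCent_last B hn T.comm (hA3.ge ha).1 ha (by rwa [e32] at ha')
    have hy3 : y ∉ L S (n - 3) := fun h => hyP (hA3.ge h).1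
    have h3 : ∀ g ∈ L S (n - 3), bX α g ∈ L S (n - 3) := fun g hg => hA3.le (hαA g (hA3.ge hg))
    have hw4 : ∀ σ : MulAut S, (∀ g ∈ L S (n - 4), σ g = bX α g) → WtL σ (n - 4) (μ ^ 2) := fun σ hσ => by
      refine wtL_of_exact B σ (by omega) (by omega) hy (by rwa [e43]) ?_
      rw [hσ y hy, e43]
      exact hA3.le (hαQ y hy)
    by_cases hΓ : E.subgroupOf S ≤ stepCent S 1
    · have hcZ := hΓc hΓ
      have heq : stepCent S 1 = stepCent S (n - 3) := by
        by_contra hne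
        exact T.notL1 ((le_inf hΓ hC).trans (stepCent_inf B hn hne).le)
      have hlZ : l ∉ L S (n - 2) := fun h => hlc ((hzc c hcZ hc1).ge h)
      obtain ⟨σ, hσ⟩ := T.exists_sigma hα h3 (hαZ hcZ)
      refine false_of_weights B σ hp5 hn hμ0 hμd (Or.inr (Or.inl ⟨heq, hw4 σ hσ, ?_, hw2c hcZ σ hσ⟩))
      refine wtL_of_exact B σ (by omega) (by omega) (hA3.le hl) (by rwa [e32]) ?_
      rw [hσ l hl4, hαl, hone, pow_one, inv_mul_cancel]
      exact one_mem _
    · have hne : stepCent S 1 ≠ stepCent S (n - 3) := fun e => hΓ (hC.trans e.ge)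
      have hc2 : c ∉ L S (n - 2) := by
        intro hcZ
        obtain ⟨x, hx, hxΓ⟩ := SetLike.not_le_iff_exists.1 hΓ
        refine hxΓ ?_
        rw [← stepCent_eq n S B (n - 4) (by omega) (by omega)]
        refine B.mem_stepCent_of_exact (by omega) hy (by rwa [e43]) ?_
        rw [show n - 4 + 2 = n - 2 by omega]
        exact (zpowers_le.2 hcZ) (hyc x hx)
      by_cases hlZ : l ∈ L S (n - 2)
      · have hl1 : l ≠ 1 := fun e => hlc (e ▸ one_mem _)
        have h2 : ∀ z ∈ L S (n - 2), bX α z ∈ L S (n - 2) := fun z hz => by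
          obtain ⟨i, rfl⟩ := (hzc l hlZ hl1).ge hz
          show bX α (l ^ i) ∈ L S (n - 2)
          rw [bX_map_zpow α hl4, hαl]
          exact zpow_mem hlZ i
        obtain ⟨σ, hσ⟩ := T.exists_sigma hα h3 h2
        refine false_of_weights B σ hp5 hn hμ0 hμd (Or.inr (Or.inr ⟨hne, hw4 σ hσ, ?_, ?_⟩))
        · refine wtL_of_exact B σ (by omega) (by omega) (hA3.le hc) (by rwa [e32]) ?_
          rw [hσ c hc4, hαc, inv_mul_cancel]
          exact one_mem _
        · refine wtL_of_exact B σ (by omega) (by omega) hlZ ?_ ?_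
          · rw [e21, B.L_eq_bot le_rfl, mem_bot]; exact hl1
          · rw [hσ l hl4, hαl, hone, pow_one, inv_mul_cancel]; exact one_mem _
      · -- the centre is moved
        obtain ⟨i, hi⟩ := B.step_gen (show 1 ≤ n - 3 by omega) (hA3.le hl) (by rwa [e32]) (hA3.le hc)
        rw [e32] at hi
        set ζ := (l ^ i)⁻¹ * c with hζdef
        have hαζ : bX α ζ = ζ * (c⁻¹ * c ^ μ.val) := by
          rw [hζdef, bX_map_mul α (inv_mem (zpow_mem hl4 i)) hc4, bX_map_inv α (zpow_mem hl4 i),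
            bX_map_zpow α hl4, hαl, hαc]
          group
        have hμv : (μ.val : ZMod p) = μ := ZMod.natCast_zmod_val μ
        have hcμ : c⁻¹ * c ^ μ.val ∉ L S (n - 2) := by
          intro hmem
          rw [mem_iff_mk_eq, map_pow] at hmem
          have hord : orderOf (QuotientGroup.mk' (L S (n - 2)) c) = p := by
            refine orderOf_eq_prime ?_ fun e => hc2 ((QuotientGroup.eq_one_iff c).1 e)
            rw [← map_pow, show c ^ p = 1 from Subtype.ext (by rw [Subgroup.coe_pow]; exact hexp _ hc.1), map_one]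
          nth_rewrite 1 [← pow_one (QuotientGroup.mk' (L S (n - 2)) c)] at hmem
          rw [pow_eq_pow_iff_modEq, hord, ← ZMod.natCast_eq_natCast_iff, hμv, Nat.cast_one] at hmem
          exact hμ1 hmem.symm
        have hr2 : bX α ζ ∉ L S (n - 2) := fun hmem => hcμ (by
          have := mul_mem (inv_mem hi) hmem
          rwa [hαζ, inv_mul_cancel_left] at this)
        have hr3 : bX α ζ ∈ L S (n - 3) := h3 _ (h23 hi)
        obtain ⟨g, j, hpj, hj⟩ := exists_move B (show 1 ≤ n - 3 by omega) (by omega) (hA3.le hc)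
          (by rwa [e32]) hr3 (by rwa [e32])
        rw [B.L_eq_bot (by omega), mem_bot, inv_mul_eq_one] at hj
        set β := α⁻¹ * conjQ n g
        refine T.moved_false hne hc hQE (β := β)
          (Subgroup.mul_mem _ (Subgroup.inv_mem _ hα) (conjQ_mem g)) (fun a ha => ?_) ?_
        · rw [bX_mul _ _ (T.inf_le_four ha), bX_conjQ g (T.inf_le_four ha)]
          have hm : g * a * g⁻¹ ∈ L S (n - 3) :=
            (inferInstance : (L S (n - 3)).Normal).conj_mem a (hA3.le ha) g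
          let φ : L S (n - 3) → L S (n - 3) := fun b => ⟨bX α b, h3 b b.2⟩
          have hinj : Function.Injective φ := fun b b' h =>
            Subtype.ext (bX_inj α (h34 b.2) (h34 b'.2) (congrArg Subtype.val h))
          obtain ⟨b, hb⟩ := (hinj.bijective_of_nat_card_le le_rfl).2 ⟨_, hm⟩
          have hb' : bX α b = g * a * g⁻¹ := congrArg Subtype.val hb
          rw [← hb', ← bX_mul _ _ (h34 b.2), inv_mul_cancel, bX_one (h34 b.2)]
          exact b.2
        · have hci : bX β (c ^ j) ∈ L S (n - 2) := by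
            rw [bX_mul _ _ (zpow_mem hc4 j), bX_conjQ g (zpow_mem hc4 j), hj,
              ← bX_mul _ _ (h24 hi), inv_mul_cancel, bX_one (h24 hi)]
            exact hi
          rw [bX_map_zpow β hc4] at hci
          obtain ⟨a, b, hab⟩ := (Nat.prime_iff_prime_int.mp hp.out).coprime_iff_not_dvd.mpr hpj
          have hcp : bX β c ^ p = 1 := by
            rw [← bX_map_pow β hc4, show c ^ p = 1 from Subtype.ext (by rw [Subgroup.coe_pow]; exact hexp _ hc.1),
              bX_one_apply]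
          rw [← zpow_one (bX β c), ← hab, zpow_add, mul_comm a, zpow_mul, zpow_natCast, hcp, one_zpow,
            one_mul, mul_comm b, zpow_mul]
          exact zpow_mem hci b
  · -- `A` is not the second centre
    have hcZ := hΓc hΓ
    have hne : stepCent S 1 ≠ stepCent S (n - 3) := fun e => T.not_last hA3 (hΓ.trans e.le)
    have hAZ2 : ∀ a, a ∈ A → a ∈ L S (n - 3) → a ∈ L S (n - 2) := by
      intro a ha ha3
      have hle : L S (n - 2) ≤ A ⊓ L S (n - 3) := le_inf T.center_le h23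
      have heq : L S (n - 2) = A ⊓ L S (n - 3) := eq_of_le_of_card_ge hle (by
        rw [hcard2]
        refine le_of_le_of_eq ?_ (pow_one p)
        exact card_le_pow_of_lt B (lt_of_le_of_ne inf_le_left fun e => hA3 (e.ge.trans inf_le_right)) T.cardA)
      exact heq.ge ⟨ha, ha3⟩
    have hl3 : l ∉ L S (n - 3) := fun h => hlc ((hzc c hcZ hc1).ge (hAZ2 l hl h))
    by_cases h3 : ∀ g ∈ L S (n - 3), bX α g ∈ L S (n - 3)
    · obtain ⟨σ, hσ⟩ := T.exists_sigma hα h3 (hαZ hcZ)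
      refine false_of_weights B σ hp5 hn hμ0 hμd (Or.inl ⟨hne, ?_, ?_, hw2c hcZ σ hσ⟩)
      · refine wtL_of_exact B σ (by omega) (by omega) hl4 (by rwa [e43]) ?_
        rw [hσ l hl4, hαl, hone, pow_one, inv_mul_cancel]
        exact one_mem _
      · obtain ⟨z, hz, hz'⟩ := SetLike.exists_of_lt (B.L_lt (show n - 3 < n - 1 by omega))
        refine wtL_of_exact B σ (by omega) (by omega) hz hz' ?_
        rw [hσ z (h34 hz), e32]
        exact hAZ2 _ (hαQ z (h34 hz)) (mul_mem (inv_mem (pow_mem hz _)) (h3 z hz))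
    · push Not at h3
      obtain ⟨z, hz, hz'⟩ := h3
      obtain ⟨g, j, hpj, hj⟩ := exists_move B (show 1 ≤ n - 4 by omega) (by omega) hl4
        (by rwa [e43]) (bX_mem α (h34 hz)) (by rwa [e43])
      rw [show n - 4 + 2 = n - 2 by omega] at hj
      set β := α⁻¹ * conjQ n g
      have hαZ' : ∀ w ∈ L S (n - 2), bX α⁻¹ w ∈ L S (n - 2) := fun w hw => by
        let φ : L S (n - 2) → L S (n - 2) := fun b => ⟨bX α b, hαZ hcZ b b.2⟩
        have hinj : Function.Injective φ := fun b b' h =>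
          Subtype.ext (bX_inj α (h24 b.2) (h24 b'.2) (congrArg Subtype.val h))
        obtain ⟨b, hb⟩ := (hinj.bijective_of_nat_card_le le_rfl).2 ⟨w, hw⟩
        have hb' : bX α b = w := congrArg Subtype.val hb
        rw [← hb', ← bX_mul _ _ (h24 b.2), inv_mul_cancel, bX_one (h24 b.2)]
        exact b.2
      have hβc : bX β c ∈ L S (n - 2) := by
        rw [bX_mul _ _ hc4, bX_conjQ g hc4]
        exact hαZ' _ ((inferInstance : (L S (n - 2)).Normal).conj_mem c hcZ g)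
      refine T.moved_false hne hc hQE (β := β)
        (Subgroup.mul_mem _ (Subgroup.inv_mem _ hα) (conjQ_mem g)) (fun a ha => ?_) hβc
      have hlj : bX β (l ^ j) ∈ L S (n - 3) := by
        rw [bX_mul _ _ (zpow_mem hl4 j), bX_conjQ g (zpow_mem hl4 j)]
        have hm := (inferInstance : (L S (n - 4)).Normal).conj_mem _ (zpow_mem hl4 j) g
        set w := (g * l ^ j * g⁻¹)⁻¹ * bX α z with hw
        have e : g * l ^ j * g⁻¹ = bX α z * w⁻¹ := by rw [hw, mul_inv_rev, inv_inv, mul_inv_cancel_left]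
        rw [e, bX_map_mul _ (bX_mem α (h34 hz)) (inv_mem (h24 hj)), ← bX_mul _ _ (h34 hz), inv_mul_cancel,
          bX_one (h34 hz)]
        exact mul_mem hz (h23 (hαZ' _ (inv_mem hj)))
      rw [bX_map_zpow β hl4] at hlj
      obtain ⟨a', b', hab'⟩ := (Nat.prime_iff_prime_int.mp hp.out).coprime_iff_not_dvd.mpr hpj
      have hlp : bX β l ^ p = 1 := by
        rw [← bX_map_pow β hl4, show l ^ p = 1 from Subtype.ext (by rw [Subgroup.coe_pow]; exact hexp _ hl.1),
          bX_one_apply]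
      have hβl : bX β l ∈ L S (n - 3) := by
        rw [← zpow_one (bX β l), ← hab', zpow_add, mul_comm a', zpow_mul, zpow_natCast, hlp, one_zpow,
          one_mul, mul_comm b', zpow_mul]
        exact zpow_mem hlj b'
      obtain ⟨u', hu', i, rfl⟩ := exists_mul_zpow (A := zpowers c)
        (fun b hb => T.commA (zpowers_le.2 hc hb) (mem_sup_left hl.1)) ((T.inf_eq_sup hc hc1 hl hlc).ge ha)
      rw [bX_map_mul β (zpowers_le.2 hc4 hu') (zpow_mem hl4 i), bX_map_zpow β hl4]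
      refine mul_mem ?_ (zpow_mem hβl i)
      obtain ⟨i', rfl⟩ := hu'
      show bX β (c ^ i') ∈ L S (n - 3)
      rw [bX_map_zpow β hc4]
      exact zpow_mem (h23 hβc) i'

end Cfsg.Lib.Fusion.MaxClassSmall
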