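import Cfsg.Agent.Fusion.NormalizerSystem
import Cfsg.Agent.Fusion.Essential
import Cfsg.Agent.Components.Cores

/-!
`p`-stability of a saturated fusion system is decided on the normalizer systems of its centric
radical subgroups.
-/

set_option autoImplicit false

namespace Cfsg.Lib.Fusion.StableReduce

open Cfsg Cfsg.FusionSystem Cfsg.Lib.Fusion

section Core

variable {M : Type*} [Group M] {X : Subgroup M} {p : ℕ}

/-- Membership in the `p`-core of a subgroup, seen in the ambient group. -/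
theorem mem_core_iff [Finite X] [Fact p.Prime] {x : M} :
    x ∈ (pCore p X).map X.subtype ↔
      x ∈ X ∧ ∃ K : Subgroup M, K ≤ X ∧ IsPGroup p K ∧ (∀ g ∈ X, ∀ k ∈ K, g * k * g⁻¹ ∈ K) ∧
        x ∈ K := by
  constructor
  · intro hx
    refine ⟨Subgroup.map_subtype_le _ hx, _, Subgroup.map_subtype_le _,
      (Cfsg.Lib.Components.isPGroup_pCore p).map _, fun g hg k hk => ?_, hx⟩
    obtain ⟨k', hk', rfl⟩ := hk
    exact ⟨⟨g, hg⟩ * k' * ⟨g, hg⟩⁻¹,
      (Cfsg.Lib.Components.pCore_normal_and_isPGroup p).1.conj_mem k' hk' _, rfl⟩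
  · rintro ⟨hxX, K, hKX, hK, hn, hxK⟩
    have hnor : (K.subgroupOf X).Normal := ⟨fun k hk g => hn g g.2 k hk⟩
    exact ⟨⟨x, hxX⟩, Cfsg.Lib.Components.le_pCore
      (hK.of_injective (Subgroup.subgroupOfEquivOfLe hKX).toMonoidHom
        (Subgroup.subgroupOfEquivOfLe hKX).injective) hxK, rfl⟩

end Core

variable {Ω : Type*} [Group Ω] {S : Subgroup Ω} {F : FusionSystem S} {p : ℕ}

/-- `p`-stability of a system at one subgroup. -/
def StableAt (F : FusionSystem S) (p : ℕ) (Q : Subgroup Ω) : Prop :=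
  ∀ χ : MulAut ↥Q, χ ∈ F.autGroup Q → (∀ a : ↥Q, (χ a⁻¹) * a * (χ a⁻¹) * (χ (χ a)) = 1) →
    χ ∈ ((Cfsg.pCore p ↥(F.autGroup Q)).map (F.autGroup Q).subtype : Subgroup (MulAut ↥Q))

/-- Stability pulls back along a map of the system. -/
theorem stableAt_of_map [Finite S] [Fact p.Prime] {P Q : Subgroup Ω} {f : Ω → Ω}
    (hf : IsMap F P f) (hi : img P f = Q) (h : StableAt F p Q) : StableAt F p P := by
  have := finite_of_le hf.le
  have := finite_of_le (hi ▸ hf.img_le : Q ≤ S)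
  intro χ hχ hq
  set e := hf.equiv hi
  have hmap : (F.autGroup P).map (MulAut.congr e).toMonoidHom = F.autGroup Q :=
    map_congr_autGroup hf hi
  have hq' : ∀ b : Q, (MulAut.congr e χ b⁻¹) * b * (MulAut.congr e χ b⁻¹) *
      (MulAut.congr e χ (MulAut.congr e χ b)) = 1 := by
    intro b
    apply e.symm.injective
    show e.symm (e (χ (e.symm b⁻¹)) * b * e (χ (e.symm b⁻¹)) *
      e (χ (e.symm (e (χ (e.symm b)))))) = _
    rw [map_mul, map_mul, map_mul, MulEquiv.symm_apply_apply, MulEquiv.symm_apply_apply,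
      MulEquiv.symm_apply_apply, map_inv, map_one]
    exact hq (e.symm b)
  obtain ⟨-, K, hKX, hK, hn, hχK⟩ := mem_core_iff.mp (h _ (hmap ▸ ⟨χ, hχ, rfl⟩) hq')
  have hinj : Function.Injective (MulAut.congr e).toMonoidHom := (MulAut.congr e).injective
  refine mem_core_iff.mpr ⟨hχ, K.comap (MulAut.congr e).toMonoidHom, fun α hα => ?_,
    hK.comap_of_injective _ hinj, fun α hα β hβ => ?_, hχK⟩
  · obtain ⟨α', hα', e'⟩ := hmap.symm ▸ hKX hα
    exact hinj e' ▸ hα'
  · show (MulAut.congr e).toMonoidHom _ ∈ K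
    rw [map_mul, map_mul, map_inv]
    exact hn _ (hmap ▸ ⟨α, hα, rfl⟩) _ hβ

/-- Stability at the fully normalized subgroups gives stability everywhere. -/
theorem stableAt_of_fullyNormalized [Finite S] [Fact p.Prime]
    (h : ∀ Q, F.IsFullyNormalized Q → StableAt F p Q) {Q : Subgroup Ω} (hQ : Q ≤ S) :
    StableAt F p Q := by
  obtain ⟨Q', hQ', hn⟩ := exists_fullyNormalized (F := F) hQ
  obtain ⟨f, hf, hi⟩ := isConj_iff.mp hQ'
  exact stableAt_of_map hf hi (h Q' hn)

/-- Stability passes to a subsystem inside the system. -/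
theorem stableAt_of_le [Fact p.Prime] {T : Subgroup Ω} {N : FusionSystem T} {Q : Subgroup Ω}
    [Finite Q] (hle : N.autGroup Q ≤ F.autGroup Q) (h : StableAt F p Q) : StableAt N p Q := by
  intro χ hχ hq
  obtain ⟨-, K, hKX, hK, hn, hχK⟩ := mem_core_iff.mp (h χ (hle hχ) hq)
  refine mem_core_iff.mpr ⟨hχ, K ⊓ N.autGroup Q, inf_le_right, hK.to_le inf_le_left,
    fun g hg k hk => ⟨hn g (hle hg) k hk.1, ?_⟩, hχK, hχ⟩
  exact (N.autGroup Q).mul_mem ((N.autGroup Q).mul_mem hg hk.2) ((N.autGroup Q).inv_mem hg)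

theorem autGroup_normalizer_le {Q R : Subgroup Ω} {N : FusionSystem (normalizerIn S R)}
    (hN : F.IsNormalizerSystem R N) (hQ : Q ≤ normalizerIn S R) :
    N.autGroup Q ≤ F.autGroup Q := fun _ hα =>
  (isMap_autFun (hQ.trans inf_le_left)).mp
    ((isMap_of_isNormalizerSystem hN).mp ((isMap_autFun hQ).mpr hα)).2.2.1

/-- A quadratic automorphism of a cyclic `p`-group is in the core of any automizer. -/
theorem stableAt_of_cyclic [Finite S] [Fact p.Prime] (hS : IsPGroup p S) {Q : Subgroup Ω}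
    (hQ : Q ≤ S) (hcyc : IsCyclic ↥Q) : StableAt F p Q := by
  have := finite_of_le hQ
  have := hcyc
  intro χ hχ hq
  obtain ⟨n, hn⟩ := IsPGroup.iff_card.mp (hS.to_le hQ : IsPGroup p Q)
  have hd : ∀ a : Q, χ (a⁻¹ * χ a) = a⁻¹ * χ a := by
    intro a
    have := hq a
    rw [map_inv] at this
    calc χ (a⁻¹ * χ a) = (χ a)⁻¹ * χ (χ a) := by rw [map_mul, map_inv]
      _ = (a⁻¹ * χ a) * ((χ a)⁻¹ * a * (χ a)⁻¹ * χ (χ a)) := by group
      _ = _ := by rw [this, mul_one]
  have hpow : ∀ (m : ℕ) (a : Q), (χ ^ m) a = a * (a⁻¹ * χ a) ^ m := by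
    intro m a
    induction m with
    | zero => simp
    | succ m ih =>
      rw [pow_succ', MulAut.mul_apply, ih, map_mul, map_pow, hd, pow_succ']
      rw [← mul_assoc a, mul_inv_cancel_left]
  have hχn : χ ^ p ^ n = 1 := MulEquiv.ext fun a => by
    rw [hpow, ← hn, pow_card_eq_one']
    simp
  have hcomm : ∀ α β : MulAut Q, α * β = β * α := by
    intro α β
    obtain ⟨a, ha⟩ := MonoidHom.map_cyclic α.toMonoidHom
    obtain ⟨b, hb⟩ := MonoidHom.map_cyclic β.toMonoidHom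
    refine MulEquiv.ext fun x => ?_
    show α (β x) = β (α x)
    rw [show α (β x) = (β x) ^ a from ha _, show β x = x ^ b from hb _,
      show β (α x) = (α x) ^ b from hb _, show α x = x ^ a from ha _, ← zpow_mul, ← zpow_mul,
      mul_comm]
  refine mem_core_iff.mpr ⟨hχ, Subgroup.zpowers χ, Subgroup.zpowers_le.mpr hχ, ?_,
    fun g _ k hk => by rwa [hcomm g k, mul_inv_cancel_right], Subgroup.mem_zpowers χ⟩
  rintro ⟨k, hk⟩
  obtain ⟨i, rfl⟩ := Subgroup.mem_zpowers_iff.mp hk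
  refine ⟨n, Subtype.ext ?_⟩
  show (χ ^ i) ^ p ^ n = 1
  rw [← zpow_natCast, zpow_comm, zpow_natCast, hχn, one_zpow]

/-- An overgroup carrying all automorphisms of a given subgroup. -/
def Carries (F : FusionSystem S) (Q R : Subgroup Ω) : Prop :=
  Q ≤ R ∧ ∀ α ∈ F.autGroup Q, ∃ f, IsMap F R f ∧ img R f = R ∧ ∀ x ∈ Q, f x = autFun α x

theorem carries_move [Finite S] {Q R R2 : Subgroup Ω} {f : Ω → Ω} (hf : IsMap F R f)
    (hi : img R f = R2) (h : Carries F Q R) : Carries F (img Q f) R2 := by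
  obtain ⟨hQR, hc⟩ := h
  obtain ⟨g, hg, hgi, hl, hr⟩ := hf.exists_inv
  rw [hi] at hg hgi
  subst hi
  refine ⟨img_mono hQR f, fun β hβ => ?_⟩
  have hfQ : IsMap F Q f := hf.mono hQR
  set α := (MulAut.congr (hfQ.equiv rfl)).symm β with hα
  have hαm : α ∈ F.autGroup Q := by
    obtain ⟨α', hα', e'⟩ := (map_congr_autGroup hfQ rfl).symm ▸ hβ
    rwa [hα, ← e', MulEquiv.coe_toMonoidHom, MulEquiv.symm_apply_apply]
  obtain ⟨k, hk, hki, hkα⟩ := hc α hαm
  have hkR : ∀ x ∈ R, k x ∈ R := fun x hx => hki.le (IsMap.apply_mem_img hx)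
  have hgR : ∀ y ∈ img R f, g y ∈ R := fun y hy => hgi.le (IsMap.apply_mem_img hy)
  refine ⟨fun y => f (k (g y)), (hg.comp hk hgR).comp hf (fun y hy => hkR _ (hgR y hy)), ?_, ?_⟩
  · refine le_antisymm (IsMap.img_le_iff.mpr fun y hy => IsMap.apply_mem_img (hkR _ (hgR y hy))) ?_
    intro y hy
    obtain ⟨x, hx, rfl⟩ := hf.mem_img.mp hy
    obtain ⟨z, hz, rfl⟩ := hk.mem_img.mp (hki.ge hx)
    refine ((hg.comp hk hgR).comp hf (fun y hy => hkR _ (hgR y hy))).mem_img.mpr
      ⟨f z, IsMap.apply_mem_img hz, ?_⟩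
    show f (k (g (f z))) = _
    rw [hl z hz]
  · intro y hy
    obtain ⟨x, hx, rfl⟩ := hfQ.mem_img.mp hy
    show f (k (g (f x))) = _
    rw [hl x (hQR hx), hkα x hx]
    conv_rhs => rw [show β = MulAut.congr (hfQ.equiv rfl) α from
      (MulEquiv.apply_symm_apply _ β).symm]
    rw [congr_equiv_spec hfQ rfl α hx]

theorem centric_of_conj {P R : Subgroup Ω} (hP : F.IsCentric P) (h : F.IsConj P R) :
    F.IsCentric R :=
  ⟨(isConj_le h).2, fun T hT => hP.2 T (isConj_trans h hT)⟩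

theorem centric_of_ge {P R : Subgroup Ω} (hP : F.IsCentric P) (hPR : P ≤ R) (hR : R ≤ S) :
    F.IsCentric R := by
  refine ⟨hR, fun T hT => ?_⟩
  obtain ⟨f, hf, rfl⟩ := isConj_iff.mp hT
  refine le_trans ?_ ((hP.2 _ (isConj_iff.mpr ⟨f, hf.mono hPR, rfl⟩)).trans (img_mono hPR f))
  exact inf_le_inf_left S (Subgroup.centralizer_le (fun x hx => img_mono hPR f hx))

/-- A fully normalized subgroup is carried by its product with its centralizer, which is centric. -/
theorem carries_sup_centralizer [Finite S] [Fact p.Prime] (hS : IsPGroup p S)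
    (hF : F.IsSaturated p) {Q : Subgroup Ω} (hQ : F.IsFullyNormalized Q) :
    Carries F Q (Q ⊔ centralizerIn S Q) ∧ F.IsCentric (Q ⊔ centralizerIn S Q) := by
  obtain ⟨hfc, -, hrec⟩ := fullyNormalized_props hS hF hQ
  set C := centralizerIn S Q
  have hTS : Q ⊔ C ≤ S := sup_le hQ.1 inf_le_left
  refine ⟨⟨le_sup_left, fun α hα => ?_⟩, hTS, fun T hT => ?_⟩
  · have hm := (isMap_autFun hQ.1).mpr hα
    obtain ⟨f, hf, hag⟩ := receptive_extend hrec hm (img_autFun α)
    have hT : Q ⊔ C ≤ extSub S Q (autFun α) :=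
      sup_le (le_extSub hm) (centralizerIn_le_extSub Q _)
    have hiQ : img Q f = Q := (img_congr hag).trans (img_autFun α)
    have hfT : IsMap F (Q ⊔ C) f := hf.mono hT
    refine ⟨f, hfT, ?_, hag⟩
    have hle : img (Q ⊔ C) f ≤ Q ⊔ C := by
      refine IsMap.img_le_iff.mpr fun x hx => ?_
      have hcl : Q ⊔ C = Subgroup.closure ((Q : Set Ω) ∪ C) := by
        rw [Subgroup.closure_union, Subgroup.closure_eq, Subgroup.closure_eq]
      rw [hcl] at hx
      induction hx using Subgroup.closure_induction with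
      | mem y hy =>
        rcases hy with hy | hy
        · exact Subgroup.mem_sup_left (hiQ.le (IsMap.apply_mem_img hy))
        · refine Subgroup.mem_sup_right ?_
          have := hfT.mem_centralizerIn le_sup_left (Subgroup.mem_sup_right hy) hy
          rwa [hiQ] at this
      | one => rw [hfT.map_one]; exact Subgroup.one_mem _
      | mul a b ha hb iha ihb =>
        rw [hfT.map_mul (hcl ▸ ha) (hcl ▸ hb)]
        exact Subgroup.mul_mem _ iha ihb
      | inv a ha iha =>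
        rw [hfT.map_inv (hcl ▸ ha)]
        exact Subgroup.inv_mem _ iha
    have := finite_of_le hTS
    exact Subgroup.eq_of_le_of_card_ge hle (hfT.card_img).ge
  · obtain ⟨f, hf, rfl⟩ := isConj_iff.mp hT
    intro c hc
    have hsub : centralizerIn S (img (Q ⊔ C) f) ≤ centralizerIn S (img Q f) :=
      inf_le_inf_left S (Subgroup.centralizer_le (fun x hx => img_mono le_sup_left f hx))
    obtain ⟨a, ha, rfl⟩ := exists_preimage_of_card_le hf (le_sup_right : C ≤ Q ⊔ C)
      (inf_le_left : centralizerIn S (img Q f) ≤ S)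
      (fun a ha => hf.mem_centralizerIn le_sup_left (Subgroup.mem_sup_right ha) ha)
      (hfc.2 _ (isConj_iff.mpr ⟨f, hf.mono le_sup_left, rfl⟩)) (hsub hc)
    exact IsMap.apply_mem_img (Subgroup.mem_sup_right ha)

/-- A centric subgroup carrying `Q` is carried on to a larger one unless it is radical. -/
theorem carries_grow [Finite S] [Fact p.Prime] (hS : IsPGroup p S) (hF : F.IsSaturated p)
    {Q R : Subgroup Ω} (hn : F.IsFullyNormalized R) (hc : F.IsCentric R)
    (h : Carries F Q R) (hrad : ¬ F.IsRadical p R) :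
    ∃ R1, R < R1 ∧ F.IsCentric R1 ∧ Carries F Q R1 := by
  have hR : R ≤ S := hn.1
  have := finite_of_le hR
  obtain ⟨-, hfa, hrec⟩ := fullyNormalized_props hS hF hn
  set X := F.autGroup R
  set K := (pCore p X).map X.subtype with hKdef
  have hKX : K ≤ X := Subgroup.map_subtype_le _
  have hK : IsPGroup p K := (Cfsg.Lib.Components.isPGroup_pCore p).map _
  have hKn : ∀ g ∈ X, ∀ k ∈ K, g * k * g⁻¹ ∈ K := by
    rintro g hg _ ⟨k', hk', rfl⟩
    exact ⟨⟨g, hg⟩ * k' * ⟨g, hg⟩⁻¹,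
      (Cfsg.Lib.Components.pCore_normal_and_isPGroup p).1.conj_mem k' hk' _, rfl⟩
  have hInn : Inn R ≤ K := fun α hα =>
    mem_core_iff.mpr ⟨inn_le_autGroup hR hα, Inn R, inn_le_autGroup hR,
      (isPGroup_autInducedBy hS R).to_le (inn_le_autInducedBy hR), by
        rintro g - _ ⟨q, rfl⟩
        exact ⟨g q, MulEquiv.ext fun x => by simp [MulAut.conj_apply]⟩, hα⟩
  have hKI : ¬ K ≤ Inn R := fun hle => hrad ⟨hR, le_antisymm hle hInn⟩
  obtain ⟨χ, hχ, hχK⟩ := exists_conj_into_autS hfa hK hKX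
  have hKS : K ≤ autInducedBy S R := by
    intro β hβ
    have := hχK _ (hKn χ⁻¹ (Subgroup.inv_mem _ hχ) β hβ)
    simpa [mul_assoc] using this
  set R1 := (K.comap (normalizerInHom S R)).map (normalizerIn S R).subtype
  have hR1N : R1 ≤ normalizerIn S R := Subgroup.map_subtype_le _
  have hRR1 : R ≤ R1 := fun r hr => ⟨⟨r, le_normalizerIn hR hr⟩, hInn ⟨⟨r, hr⟩,
    MulEquiv.ext fun x => Subtype.ext rfl⟩, rfl⟩
  have hlt : R < R1 := by
    refine lt_of_le_of_ne hRR1 fun he => hKI fun β hβ => ?_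
    obtain ⟨g, hg⟩ := (range_normalizerInHom (S := S) R).ge (hKS hβ)
    have hgR : (g : Ω) ∈ R1 := ⟨g, show normalizerInHom S R g ∈ K from hg ▸ hβ, rfl⟩
    rw [← he] at hgR
    exact ⟨⟨g, hgR⟩, hg ▸ MulEquiv.ext fun x => Subtype.ext rfl⟩
  refine ⟨R1, hlt, centric_of_ge hc hRR1 (hR1N.trans inf_le_left), h.1.trans hRR1,
    fun α hα => ?_⟩
  obtain ⟨f, hf, hfi, hfα⟩ := h.2 α hα
  obtain ⟨β, hβ, hβf⟩ := hf.exists_aut hfi
  have hm : IsMap F R (autFun β) := (isMap_autFun hR).mpr hβ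
  have hsub : R1 ≤ extSub S R (autFun β) := by
    rintro _ ⟨⟨g, hg⟩, hgK, rfl⟩
    obtain ⟨y, hy, ey⟩ := mem_autInducedBy.mp (hKS (hKn β hβ _ hgK))
    refine ⟨hg.1, hg.2, y, hy, fun x hx => ?_⟩
    show autFun β (g * x * g⁻¹) = _
    rw [autFun_apply_mem β hx, ← ey, show (g * x * g⁻¹ : Ω) =
      ((normalizerInHom S R ⟨g, hg⟩ ⟨x, hx⟩ : R) : Ω) from
        (normalizerInHom_apply R ⟨g, hg⟩ ⟨x, hx⟩).symm, autFun_apply]
    simp
  obtain ⟨k, hk, hag⟩ := receptive_extend hrec hm (img_autFun β)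
  have hk1 : IsMap F R1 k := hk.mono hsub
  have hkR : img R k = R := (img_congr hag).trans (img_autFun β)
  have hle : img R1 k ≤ R1 := by
    refine IsMap.img_le_iff.mpr ?_
    rintro _ ⟨⟨g, hg⟩, hgK, rfl⟩
    have hgR1 : g ∈ R1 := ⟨⟨g, hg⟩, hgK, rfl⟩
    have hgN := hk1.mem_normalizerIn hRR1 hgR1 hg.2
    rw [hkR] at hgN
    refine ⟨⟨k g, hgN⟩, ?_, rfl⟩
    show normalizerInHom S R ⟨k g, hgN⟩ ∈ K
    convert hKn β hβ _ hgK using 1
    refine MulEquiv.ext fun x => Subtype.ext ?_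
    have hx : ((β⁻¹ x : R) : Ω) ∈ R := (β⁻¹ x).2
    have hkx : k ((β⁻¹ x : R) : Ω) = x := by
      rw [hag _ hx, autFun_apply]
      simp
    rw [normalizerInHom_apply]
    show k g * (x : Ω) * (k g)⁻¹ = ((β (normalizerInHom S R ⟨g, hg⟩ (β⁻¹ x)) : R) : Ω)
    rw [← autFun_apply β, ← hag _ (normalizerInHom S R ⟨g, hg⟩ (β⁻¹ x)).2, normalizerInHom_apply]
    conv_rhs => rw [hk1.map_conj hgR1 (hRR1 hx), hkx]
  have := finite_of_le (hR1N.trans inf_le_left : R1 ≤ S)
  refine ⟨k, hk1, Subgroup.eq_of_le_of_card_ge hle hk1.card_img.ge, fun x hx => ?_⟩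
  rw [hag x (h.1 hx), ← hfα x hx]
  exact hβf x (h.1 hx)

/-- A conjugate of `Q` is carried by a fully normalized centric radical subgroup. -/
theorem exists_carrier [Finite S] [Fact p.Prime] (hS : IsPGroup p S) (hF : F.IsSaturated p)
    {Q : Subgroup Ω} (hQ : F.IsFullyNormalized Q) :
    ∃ R Q', F.IsConj Q Q' ∧ F.IsFullyNormalized R ∧ F.IsCentric R ∧ F.IsRadical p R ∧
      Carries F Q' R := by
  let s : Set (Subgroup Ω) := {R | R ≤ S ∧ ∃ Q', F.IsConj Q Q' ∧ F.IsCentric R ∧ Carries F Q' R}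
  have hs : s.Finite := finite_subgroups_le.subset fun R hR => hR.1
  obtain ⟨hc0, hcent0⟩ := carries_sup_centralizer hS hF hQ
  obtain ⟨R0, hR0, hmax⟩ := hs.exists_maximalFor (fun R : Subgroup Ω => Nat.card R) _
    ⟨_, hcent0.1, Q, isConj_refl hQ.1, hcent0, hc0⟩
  obtain ⟨hR0S, Q0, hQ0, hcR0, hcar0⟩ := hR0
  obtain ⟨R, hRc, hRn⟩ := exists_fullyNormalized (F := F) hR0S
  obtain ⟨f, hf, hi⟩ := isConj_iff.mp hRc
  have hQ1 : F.IsConj Q (img Q0 f) :=
    isConj_trans hQ0 (isConj_iff.mpr ⟨f, hf.mono hcar0.1, rfl⟩)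
  have hcar := carries_move hf hi hcar0
  refine ⟨R, img Q0 f, hQ1, hRn, centric_of_conj hcR0 hRc, ?_, hcar⟩
  by_contra hrad
  obtain ⟨R1, hlt, hc1, hcar1⟩ := carries_grow hS hF hRn (centric_of_conj hcR0 hRc) hcar hrad
  have := finite_of_le hc1.1
  have h1 : Nat.card R < Nat.card R1 := lt_of_le_of_ne (Subgroup.card_le_of_le hlt.le) fun he =>
    hlt.ne (Subgroup.eq_of_le_of_card_ge hlt.le he.ge)
  rw [isConj_card hRc] at h1
  exact absurd (hmax ⟨hc1.1, _, hQ1, hc1, hcar1⟩ h1.le) (not_le.mpr h1)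

/-- A saturated system is stable iff its centric radical normalizer systems, after cyclic
subgroups are set aside, are stable. -/
theorem stable_of_normalizers [Finite S] [Fact p.Prime] (hS : IsPGroup p S) (hF : F.IsSaturated p)
    (h : ∀ R : Subgroup Ω, F.IsFullyNormalized R → F.IsCentric R → F.IsRadical p R →
      ¬ IsCyclic ↥R → ∀ N : FusionSystem (normalizerIn S R), F.IsNormalizerSystem R N →
        ∀ Q : Subgroup Ω, N.IsFullyNormalized Q → StableAt N p Q)
    {Q : Subgroup Ω} (hQ : F.IsFullyNormalized Q) : StableAt F p Q := by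
  obtain ⟨R, Q', hc, hn, hcen, hrad, hcar⟩ := exists_carrier hS hF hQ
  obtain ⟨f, hf, hi⟩ := isConj_iff.mp hc
  refine stableAt_of_map hf hi ?_
  by_cases hcyc : IsCyclic ↥R
  · have := hcyc
    exact stableAt_of_cyclic hS (isConj_le hc).2
      (isCyclic_of_injective (Subgroup.inclusion hcar.1) (Subgroup.inclusion_injective _))
  · have : Finite ↥(normalizerIn S R) := finite_of_le inf_le_left
    set N := normalizerSystem F hn.1
    have hN : F.IsNormalizerSystem R N := isNormalizerSystem_normalizerSystem hn.1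
    have hQN : Q' ≤ normalizerIn S R := hcar.1.trans (le_normalizerIn hn.1)
    have hst := stableAt_of_fullyNormalized (h R hn hcen hrad hcyc N hN) hQN
    have he : N.autGroup Q' = F.autGroup Q' := by
      refine le_antisymm (autGroup_normalizer_le hN hQN) fun α hα => (isMap_autFun hQN).mp ?_
      obtain ⟨k, hk, hki, hkα⟩ := hcar.2 α hα
      refine (isMap_of_isNormalizerSystem hN).mpr ⟨hQN, fun x hx => hQN (autFun_mem α hx),
        (isMap_autFun (isConj_le hc).2).mpr hα, k, ?_, hkα, hki⟩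
      rw [sup_eq_right.mpr hcar.1]
      exact hk
    intro χ hχ hq
    have h2 := hst χ (he ▸ hχ) hq
    rwa [he] at h2

/-- Normalizer systems of a stable system are stable. -/
theorem stable_normalizer [Finite S] [Fact p.Prime]
    (h : ∀ Q, F.IsFullyNormalized Q → StableAt F p Q) {R : Subgroup Ω}
    {N : FusionSystem (normalizerIn S R)} (hN : F.IsNormalizerSystem R N) {Q : Subgroup Ω}
    (hQ : Q ≤ normalizerIn S R) : StableAt N p Q := by
  have := finite_of_le (hQ.trans inf_le_left)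
  exact stableAt_of_le (autGroup_normalizer_le hN hQ)
    (stableAt_of_fullyNormalized h (hQ.trans inf_le_left))

end Cfsg.Lib.Fusion.StableReduce
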