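import Cfsg.Prelude.Def_OddOrderLocal
import Cfsg.Agent.Coprime.Basic
import Cfsg.Agent.PGroups.Basic
import Mathlib.NumberTheory.Multiplicity

/-!
Elements of order `p` in metacyclic `p`-groups, `p` odd.
-/

set_option autoImplicit false

namespace Cfsg.Lib.Fusion

theorem mul_pow_of_conj_zpow {G : Type*} [Group G] {n g : G} {r : ℤ}
    (hr : g * n * g⁻¹ = n ^ r) (m : ℕ) :
    (n * g) ^ m = n ^ (∑ j ∈ Finset.range m, r ^ j) * g ^ m ∧ g ^ m * n * (g ^ m)⁻¹ = n ^ (r ^ m) := by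
  induction m with
  | zero => simp
  | succ m ih =>
    constructor
    · rw [pow_succ, ih.1, Finset.sum_range_succ, zpow_add, pow_succ]
      calc n ^ (∑ j ∈ Finset.range m, r ^ j) * g ^ m * (n * g)
          = n ^ (∑ j ∈ Finset.range m, r ^ j) * (g ^ m * n * (g ^ m)⁻¹) * (g ^ m * g) := by group
        _ = _ := by rw [ih.2]
    · calc g ^ (m + 1) * n * (g ^ (m + 1))⁻¹ = g * (g ^ m * n * (g ^ m)⁻¹) * g⁻¹ := by
            rw [pow_succ']; group
        _ = _ := by rw [ih.2, ← conj_zpow, hr, ← zpow_mul, pow_succ, mul_comm r]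

/-- An element of a cyclic normal subgroup multiplied by an element of order `p` normalizing it. -/
theorem pow_prime_eq_one_of_mul {G : Type*} [Group G] [Finite G] {p : ℕ} [hp : Fact p.Prime]
    (hG : IsPGroup p G) (hodd : p ≠ 2) {n g : G} (hn : g * n * g⁻¹ ∈ Subgroup.zpowers n)
    (hg : g ^ p = 1) (hy : (n * g) ^ p = 1) : n ^ p = 1 := by
  obtain ⟨r, hr⟩ := hn
  replace hr : g * n * g⁻¹ = n ^ r := hr.symm
  obtain ⟨h1, h2⟩ := mul_pow_of_conj_zpow hr p
  rw [hy, hg, mul_one] at h1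
  rw [hg] at h2
  obtain ⟨k, hk⟩ := IsPGroup.iff_orderOf.1 hG n
  rcases Nat.lt_or_ge k 2 with hk2 | hk2
  · exact orderOf_dvd_iff_pow_eq_one.mp (hk ▸ (pow_dvd_pow p (Nat.lt_succ_iff.mp hk2)).trans (by rw [pow_one]))
  exfalso
  have hS : ((p : ℤ) ^ 2) ∣ ∑ j ∈ Finset.range p, r ^ j := by
    refine dvd_trans ?_ (orderOf_dvd_iff_zpow_eq_one.mpr h1.symm)
    rw [hk]; push_cast; exact pow_dvd_pow _ hk2
  have hrp : (p : ℤ) ∣ r ^ p - 1 := by
    refine dvd_trans ?_ (orderOf_dvd_iff_zpow_eq_one.mpr (show n ^ (r ^ p - 1) = 1 by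
      rw [zpow_sub, zpow_one, ← h2]; simp))
    rw [hk]; push_cast; exact dvd_pow_self _ (by omega)
  have hr1 : (p : ℤ) ∣ r - 1 := by
    rw [← ZMod.intCast_zmod_eq_zero_iff_dvd] at hrp ⊢
    push_cast at hrp ⊢
    rwa [ZMod.pow_card] at hrp
  obtain ⟨b, hb⟩ := hr1
  have h3 := odd_sq_dvd_geom_sum₂_sub (a := (1 : ℤ)) b (hp.out.odd_of_ne_two hodd)
  simp only [one_pow, mul_one] at h3
  rw [show (1 : ℤ) + p * b = r by linarith] at h3
  have h4 : ((p : ℤ) ^ 2) ∣ (p : ℤ) := by simpa using dvd_sub hS h3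
  have h5 : p ^ 2 ∣ p := by exact_mod_cast h4
  have := Nat.le_of_dvd hp.out.pos h5
  nlinarith [hp.out.two_le]

/-- The elements of order `p` of a metacyclic `p`-group, `p` odd, lie in a subgroup of order at
most `p ^ 2` and exponent `p`. -/
theorem exists_small_omega_of_metacyclic {G : Type*} [Group G] [Finite G] {p : ℕ} [hp : Fact p.Prime]
    (hG : IsPGroup p G) (hodd : p ≠ 2) (hm : Cfsg.IsMetacyclic G) :
    ∃ E : Subgroup G, Nat.card E ≤ p ^ 2 ∧ (∀ e ∈ E, e ^ p = 1) ∧ ∀ y : G, y ^ p = 1 → y ∈ E := by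
  classical
  obtain ⟨N, hNn, hNc, hQc⟩ := hm
  have hcard : ∀ {T : Type _} [Group T] [Finite T] [IsCyclic T] (U : Subgroup T),
      (∀ u ∈ U, u ^ p = 1) → Nat.card U ≤ p := by
    intro T _ _ _ U hU
    obtain ⟨u, hu⟩ := IsCyclic.exists_generator (α := U)
    have hle : Nat.card U ≤ orderOf u := by
      rw [orderOf_eq_card_of_forall_mem_zpowers hu]
    refine hle.trans (Nat.le_of_dvd hp.out.pos (orderOf_dvd_of_pow_eq_one ?_))
    exact Subtype.ext (hU u u.2)
  let N1 : Subgroup G :=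
    { carrier := {x | x ∈ N ∧ x ^ p = 1}
      one_mem' := ⟨N.one_mem, one_pow p⟩
      mul_mem' := fun {a b} ha hb => ⟨N.mul_mem ha.1 hb.1, by
        letI := hNc.commGroup
        have hcm : Commute a b := congrArg Subtype.val (mul_comm (⟨a, ha.1⟩ : N) ⟨b, hb.1⟩)
        rw [hcm.mul_pow, ha.2, hb.2, mul_one]⟩
      inv_mem' := fun {a} ha => ⟨N.inv_mem ha.1, by rw [inv_pow, ha.2, inv_one]⟩ }
  haveI : N1.Normal := ⟨fun x hx g => ⟨hNn.conj_mem x hx.1 g, by rw [conj_pow, hx.2]; simp⟩⟩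
  have hN1 : Nat.card N1 ≤ p := by
    have := hcard (N1.subgroupOf N) (fun u hu => Subtype.ext (Subgroup.mem_subgroupOf.mp hu).2)
    rwa [Nat.card_congr (Subgroup.subgroupOfEquivOfLe (fun x (hx : x ∈ N1) => hx.1)).toEquiv] at this
  have hN1Z : N1 ≤ Subgroup.center G := by
    rcases eq_or_ne N1 ⊥ with h | h
    · rw [h]; exact bot_le
    · refine Cfsg.Lib.PGroups.le_center_of_card_eq_prime hG (le_antisymm hN1 ?_)
      exact Nat.le_of_dvd Nat.card_pos
        (((hG.to_subgroup N1).card_eq_or_dvd).resolve_left fun h1 => h (Subgroup.card_eq_one.1 h1))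
  by_cases hall : ∀ y : G, y ^ p = 1 → y ∈ N
  · refine ⟨N1, hN1.trans (Nat.le_self_pow (by norm_num) p), fun e he => he.2, fun y hy => ⟨hall y hy, hy⟩⟩
  push_neg at hall
  obtain ⟨x0, hx0, hx0N⟩ := hall
  let q : G →* G ⧸ N := QuotientGroup.mk' N
  have hnorm : Subgroup.zpowers x0 ≤ Subgroup.normalizer (N1 : Set G) := by
    rw [Subgroup.normalizer_eq_top]; exact le_top
  refine ⟨N1 ⊔ Subgroup.zpowers x0, ?_, ?_, ?_⟩
  · have h1 := Nat.le_of_dvd hp.out.pos (orderOf_dvd_of_pow_eq_one hx0)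
    rw [← Nat.card_zpowers] at h1
    calc Nat.card ↥(N1 ⊔ Subgroup.zpowers x0)
        ≤ Nat.card (N1 × Subgroup.zpowers x0) := by
          refine Nat.card_le_card_of_surjective
            (fun u => ⟨(u.1 : G) * u.2, Subgroup.mul_mem_sup u.1.2 u.2.2⟩) fun z => ?_
          obtain ⟨a, ha, b, hb, e⟩ := (Cfsg.Lib.Coprime.mem_sup_of_le_normalizer hnorm).mp z.2
          exact ⟨(⟨a, ha⟩, ⟨b, hb⟩), Subtype.ext e⟩
      _ = Nat.card N1 * Nat.card (Subgroup.zpowers x0) := Nat.card_prod _ _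
      _ ≤ p ^ 2 := by rw [pow_two]; exact Nat.mul_le_mul hN1 h1
  · intro e he
    obtain ⟨a, ha, b, ⟨i, hb⟩, rfl⟩ := (Cfsg.Lib.Coprime.mem_sup_of_le_normalizer hnorm).mp he
    subst hb
    have hcm : Commute a (x0 ^ i) := ((Subgroup.mem_center_iff.mp (hN1Z ha)) _).symm
    have h2 : (x0 ^ i) ^ p = 1 := by
      rw [← zpow_natCast (x0 ^ i), ← zpow_mul, mul_comm, zpow_mul, zpow_natCast, hx0, one_zpow]
    show (a * x0 ^ i) ^ p = 1
    rw [hcm.mul_pow, ha.2, h2, mul_one]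
  · intro y hy
    let U : Subgroup (G ⧸ N) :=
      letI := hQc.commGroup
      { carrier := {u | u ^ p = 1}
        one_mem' := one_pow p
        mul_mem' := fun {a b} (ha : a ^ p = 1) (hb : b ^ p = 1) => by
          show (a * b) ^ p = 1
          rw [(Commute.all a b).mul_pow, ha, hb, mul_one]
        inv_mem' := fun {a} (ha : a ^ p = 1) => by
          show a⁻¹ ^ p = 1
          rw [inv_pow, ha, inv_one] }
    have hU : Subgroup.zpowers (q x0) = U := by
      refine Subgroup.eq_of_le_of_card_ge (Subgroup.zpowers_le.mpr (show (q x0) ^ p = 1 by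
        rw [← map_pow, hx0, map_one])) ?_
      have hq : orderOf (q x0) = p := orderOf_eq_prime (by rw [← map_pow, hx0, map_one])
        (fun h => hx0N ((QuotientGroup.eq_one_iff x0).mp h))
      rw [Nat.card_zpowers, hq]
      exact hcard U fun u hu => hu
    obtain ⟨i, hi⟩ := hU.ge (show (q y) ^ p = 1 by rw [← map_pow, hy, map_one])
    have hn : y * (x0 ^ i)⁻¹ ∈ N := by
      rw [← QuotientGroup.eq_one_iff]
      show q (y * (x0 ^ i)⁻¹) = 1
      rw [map_mul, map_inv, map_zpow, ← hi]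
      exact mul_inv_cancel _
    set n := y * (x0 ^ i)⁻¹
    have hyn : n * x0 ^ i = y := inv_mul_cancel_right _ _
    have h2 : (x0 ^ i) ^ p = 1 := by
      rw [← zpow_natCast (x0 ^ i), ← zpow_mul, mul_comm, zpow_mul, zpow_natCast, hx0, one_zpow]
    have hc : x0 ^ i * n * (x0 ^ i)⁻¹ ∈ Subgroup.zpowers n := by
      haveI : IsCyclic N := hNc
      obtain ⟨m, hm⟩ := MonoidHom.map_cyclic (MulAut.conjNormal (H := N) (x0 ^ i)).toMonoidHom
      have h := congrArg Subtype.val (hm ⟨n, hn⟩)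
      rw [MulEquiv.coe_toMonoidHom, MulAut.conjNormal_apply (H := N), Subgroup.coe_zpow] at h
      exact ⟨m, h.symm⟩
    rw [← hyn]
    exact Subgroup.mul_mem_sup ⟨hn, pow_prime_eq_one_of_mul hG hodd hc h2 (by rw [hyn, hy])⟩ ⟨i, rfl⟩

end Cfsg.Lib.Fusion
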