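import Cfsg.Agent.Fusion.NormalCriteria
import Cfsg.Agent.Fusion.SmallElements
import Cfsg.Agent.PGroups.MetacyclicTwo

/-!
Strongly closed metacyclic 2-subgroups.
-/

set_option autoImplicit false

namespace Cfsg.Lib.Fusion

open Cfsg Cfsg.FusionSystem

variable {Ω : Type*} [Group Ω] {S : Subgroup Ω} {F : FusionSystem S} {p : ℕ}

/-- A variant of `le_of_radical` asking only that the radical subgroup normalises the other one. -/
theorem le_of_radical' [Finite S] [Fact p.Prime] (hS : IsPGroup p S) {R P : Subgroup Ω}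
    (hRS : R ≤ S) (hn : P ≤ Subgroup.normalizer (R : Set Ω)) (hPc : F.IsCentric P)
    (hPr : F.IsRadical p P) (K : Subgroup (F.autGroup P)) [hKn : K.Normal] (hKp : IsPGroup p K)
    (hK : ∀ g ∈ R, ∀ hg : g ∈ Subgroup.normalizer (P : Set Ω),
      conjAut P g hg ∈ K.map (F.autGroup P).subtype) : R ≤ P := by
  have hPS := hPc.1
  haveI := finite_of_le hPS
  have hKI : K.map (F.autGroup P).subtype ≤ Inn P := by
    have hsub : K ≤ pCore p (F.autGroup P) := le_sSup ⟨hKn, hKp⟩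
    rw [← hPr.2]
    exact Subgroup.map_mono hsub
  by_contra hle
  set X := P ⊔ R
  have hlt : P < X := lt_of_le_of_ne le_sup_left fun h => hle (h.symm ▸ le_sup_right)
  obtain ⟨u, hu, huP⟩ := SetLike.exists_of_lt (lt_inf_normalizer hS hlt (sup_le hPS hRS))
  have hu1 : u ∈ ((P ⊔ R : Subgroup Ω) : Set Ω) := hu.1
  rw [Subgroup.coe_mul_of_left_le_normalizer_right P R hn] at hu1
  obtain ⟨a, ha, r, hr, rfl⟩ := hu1
  have hrn : r ∈ Subgroup.normalizer (P : Set Ω) := by
    have := Subgroup.mul_mem _ (Subgroup.inv_mem _ (Subgroup.le_normalizer ha)) hu.2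
    rwa [inv_mul_cancel_left] at this
  exact huP (P.mul_mem ha (mem_of_inn (hPc.2 P (isConj_refl hPS)) (hRS hr) hrn
    (hKI (hK r hr hrn)) hPS))

/-- A strongly closed metacyclic 2-subgroup is normal unless it has maximal class. -/
theorem isNormal_or_shape_of_metacyclic [Finite S] (hS : IsPGroup 2 S) (hF : F.IsSaturated 2)
    {W : Subgroup Ω} (hW : F.StronglyClosed W) (hm : Cfsg.IsMetacyclic W) :
    F.IsNormal W ∨ ((∃ m : ℕ, 2 ≤ m ∧ Nonempty (W ≃* DihedralGroup m)) ∨ Cfsg.IsQuasiDihedral W ∨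
      (∃ m : ℕ, 2 ≤ m ∧ Nonempty (W ≃* QuaternionGroup m))) := by
  haveI : Fact (Nat.Prime 2) := ⟨Nat.prime_two⟩
  refine or_iff_not_imp_right.mpr fun hns =>
    isNormal_of_le_radical hS hF hW fun P hPn hPc hPr => ?_
  have hPS := hPc.1
  haveI := finite_of_le hPS
  haveI := finite_of_le hW.1
  have hWp : IsPGroup 2 W := hS.of_injective _ (Subgroup.inclusion_injective hW.1)
  have hPp : IsPGroup 2 P := hS.of_injective _ (Subgroup.inclusion_injective hPS)
  have hnW := normalizes_of_stronglyClosed hW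
  set A := F.autGroup P
  set Q : Subgroup W := P.subgroupOf W with hQ
  have hQP : ∀ q : Q, ((q : W) : Ω) ∈ P := fun q => q.2
  have hmem : ∀ (β : A) {x : Ω}, x ∈ P → x ∈ W → autFun (β : MulAut P) x ∈ W := fun β x hx hxW =>
    stronglyClosed_apply hW ((isMap_autFun hPS).mpr β.2) hx hxW
  -- restriction to the intersection
  let toAut : A → MulAut Q := fun β =>
    { toFun := fun q => ⟨⟨autFun (β : MulAut P) ((q : W) : Ω), hmem β (hQP q) (q : W).2⟩,
        autFun_mem _ (hQP q)⟩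
      invFun := fun q => ⟨⟨autFun ((β⁻¹ : A) : MulAut P) ((q : W) : Ω), hmem β⁻¹ (hQP q) (q : W).2⟩,
        autFun_mem _ (hQP q)⟩
      left_inv := fun q => by
        refine Subtype.ext (Subtype.ext ?_)
        show autFun ((β⁻¹ : A) : MulAut P) (autFun (β : MulAut P) ((q : W) : Ω)) = _
        rw [Subgroup.coe_inv]
        simpa using autFun_inv_apply ((β : MulAut P))⁻¹ (hQP q)
      right_inv := fun q => Subtype.ext (Subtype.ext (autFun_inv_apply _ (hQP q)))
      map_mul' := fun a b => Subtype.ext (Subtype.ext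
        (((isMap_autFun hPS).mpr β.2).map_mul (hQP a) (hQP b))) }
  let ρ : A →* MulAut Q := MonoidHom.mk' toAut fun a b =>
    MulEquiv.ext fun q => Subtype.ext (Subtype.ext (autFun_mul _ _ (hQP q)))
  have hρ : ∀ (β : A) (q : Q), (((ρ β q : Q) : W) : Ω) = autFun (β : MulAut P) ((q : W) : Ω) :=
    fun β q => rfl
  -- trivial on `P` modulo `W`
  let A1 : Subgroup A :=
    { carrier := {β | ∀ x ∈ P, x⁻¹ * autFun (β : MulAut P) x ∈ W}
      one_mem' := fun x hx => by rw [Subgroup.coe_one, autFun_apply_mem _ hx]; simp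
      mul_mem' := fun {a b} ha hb x hx => by
        rw [Subgroup.coe_mul, autFun_mul _ _ hx]
        have h := W.mul_mem (hb x hx) (ha _ (autFun_mem (b : MulAut P) hx))
        rwa [mul_assoc, mul_inv_cancel_left] at h
      inv_mem' := fun {a} ha x hx => by
        have h := W.inv_mem (ha _ (autFun_mem ((a : MulAut P))⁻¹ hx))
        rwa [autFun_inv_apply (a : MulAut P) hx, mul_inv_rev, inv_inv] at h }
  haveI hA1n : A1.Normal := ⟨fun β hβ α x hx => by
    have hm := (isMap_autFun hPS).mpr α.2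
    have hy := autFun_mem ((α : MulAut P))⁻¹ hx
    have h := hmem α (P.mul_mem (P.inv_mem hy) (autFun_mem (β : MulAut P) hy)) (hβ _ hy)
    rw [hm.map_mul (P.inv_mem hy) (autFun_mem (β : MulAut P) hy), hm.map_inv hy,
      autFun_inv_apply (α : MulAut P) hx, ← autFun_mul _ _ hy, ← autFun_mul _ _ hx] at h
    simpa using h⟩
  set T := Cfsg.Lib.MetaTwo.stab Q
  have hodd : ∀ β : A, β ∈ A1 → (orderOf (β : MulAut P)).Coprime 2 → ρ β ∈ T → (β : MulAut P) = 1 := by
    intro β hβ1 hcop hβT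
    have h1 : ρ β = 1 := by
      refine Cfsg.Lib.MetaTwo.eq_one_of_mem_stab (hWp.to_subgroup Q) ?_ hβT
      refine (Nat.coprime_two_right.mp hcop).of_dvd_nat ?_
      rw [Subgroup.orderOf_coe]
      exact orderOf_map_dvd ρ β
    refine MulEquiv.ext fun x => fix_of_fix_diff hPp hcop ?_
    have hv : (((x⁻¹ * (β : MulAut P) x : P)) : Ω) ∈ W := by
      rw [Subgroup.coe_mul, Subgroup.coe_inv, ← autFun_apply]
      exact hβ1 x x.2
    refine Subtype.ext ?_
    rw [← autFun_apply]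
    have h2 := hρ β ⟨⟨_, hv⟩, SetLike.coe_mem (x⁻¹ * (β : MulAut P) x)⟩
    rw [h1] at h2
    exact h2.symm
  have hA1conj : ∀ g (hg0 : g ∈ W), ∀ hg : g ∈ Subgroup.normalizer (P : Set Ω),
      (⟨conjAut P g hg, autInducedBy_le hPS (conjAut_mem_autInducedBy hg (hW.1 hg0))⟩ : A) ∈ A1 := by
    intro g hg hgn x hx
    show x⁻¹ * autFun (conjAut P g hgn) x ∈ W
    rw [autFun_apply_mem _ hx, conjAut_apply]
    have h1 := conj_mem_of_mem_normalizer (Subgroup.inv_mem _ (hnW (hPS hx))) hg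
    have h := W.mul_mem h1 (W.inv_mem hg)
    convert h using 1
    group
  by_cases hi : ∃ β : A, (orderOf (β : MulAut P)).Coprime 2 ∧ ρ β ∉ T
  swap
  · push Not at hi
    have hA1p : IsPGroup 2 (A1.map A.subtype) := pPart_reduce hPS fun α hα hcop => by
      obtain ⟨β, hβ, rfl⟩ := Subgroup.mem_map.mp hα
      exact hodd β hβ hcop (hi β hcop)
    exact le_of_radical' hS hW.1 (hPS.trans hnW) hPc hPr A1
      (hA1p.of_injective (A1.equivMapOfInjective A.subtype A.subtype_injective).toMonoidHom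
        (A1.equivMapOfInjective A.subtype A.subtype_injective).injective)
      fun g hg hgn => ⟨_, hA1conj g hg hgn, rfl⟩
  obtain ⟨α, hαc, hαT⟩ := hi
  let K : Subgroup A := A1 ⊓ T.comap ρ
  haveI : K.Normal := Subgroup.normal_inf_normal A1 (T.comap ρ)
  have hKp : IsPGroup 2 K := by
    have h : IsPGroup 2 (K.map A.subtype) := pPart_reduce hPS fun β hβ hcop => by
      obtain ⟨γ, hγ, rfl⟩ := Subgroup.mem_map.mp hβ
      exact hodd γ hγ.1 hcop hγ.2
    exact h.of_injective (K.equivMapOfInjective A.subtype A.subtype_injective).toMonoidHom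
      (K.equivMapOfInjective A.subtype A.subtype_injective).injective
  -- elements of `W` acting trivially on the Frattini quotient
  let H : Subgroup Ω := ((T.comap Q.normalizerMonoidHom).map
    (Subgroup.normalizer (Q : Set W)).subtype).map W.subtype
  have hHW : H ≤ W := by rintro _ ⟨w, -, rfl⟩; exact w.2
  have hHP : H ≤ P := by
    refine le_of_radical' hS (hHW.trans hW.1) ?_ hPc hPr K hKp ?_
    · intro a ha
      haveI := finite_of_le (hHW.trans hW.1)
      refine mem_normalizer_of_maps_finite ?_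
      rintro _ ⟨_, ⟨⟨h, hhn⟩, hhT, rfl⟩, rfl⟩
      let h' : W := ⟨a * (h : Ω) * a⁻¹, conj_mem_of_mem_normalizer (hnW (hPS ha)) h.2⟩
      let αa : A := ⟨conjAut P a (Subgroup.le_normalizer ha),
        autInducedBy_le hPS (conjAut_mem_autInducedBy _ (hPS ha))⟩
      have hha : ∀ q : Q, autFun ((αa : A) : MulAut P) ((q : W) : Ω) = a * ((q : W) : Ω) * a⁻¹ := fun q => by
        rw [autFun_apply_mem _ (hQP q)]; exact conjAut_apply _ _
      have hkey : ∀ q : Q, (((ρ αa * Q.normalizerMonoidHom ⟨h, hhn⟩ * (ρ αa)⁻¹) q : Q) : W) =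
          h' * q * h'⁻¹ := by
        intro q
        obtain ⟨q₀, rfl⟩ := (ρ αa).surjective q
        simp only [MulAut.mul_apply, MulAut.inv_apply_self]
        refine Subtype.ext ?_
        rw [hρ, hha]
        show _ = a * (h : Ω) * a⁻¹ * autFun (αa : MulAut P) ((q₀ : W) : Ω) * (a * (h : Ω) * a⁻¹)⁻¹
        rw [hha]
        show a * ((h : Ω) * ((q₀ : W) : Ω) * (h : Ω)⁻¹) * a⁻¹ = _
        group
      have hh'n : h' ∈ Subgroup.normalizer (Q : Set W) := mem_normalizer_of_maps_finite fun q hq => by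
        rw [← hkey ⟨q, hq⟩]; exact SetLike.coe_mem _
      refine ⟨h', ⟨⟨h', hh'n⟩, ?_, rfl⟩, rfl⟩
      show Q.normalizerMonoidHom ⟨h', hh'n⟩ ∈ T
      rw [show Q.normalizerMonoidHom ⟨h', hh'n⟩ = ρ αa * Q.normalizerMonoidHom ⟨h, hhn⟩ * (ρ αa)⁻¹ from
        MulEquiv.ext fun q => Subtype.ext (hkey q).symm]
      exact (Cfsg.Lib.MetaTwo.stab_normal Q).conj_mem _ hhT _
    · rintro _ ⟨_, ⟨⟨h, hhn⟩, hhT, rfl⟩, rfl⟩ hgn
      let β : A := ⟨conjAut P (h : Ω) hgn, autInducedBy_le hPS (conjAut_mem_autInducedBy hgn (hW.1 h.2))⟩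
      refine ⟨β, ⟨hA1conj _ h.2 hgn, ?_⟩, rfl⟩
      show ρ β ∈ T
      suffices e : ρ β = Q.normalizerMonoidHom ⟨h, hhn⟩ by rw [e]; exact hhT
      refine MulEquiv.ext fun q => Subtype.ext (Subtype.ext ?_)
      rw [hρ]
      show autFun (conjAut P _ hgn) _ = _
      rw [autFun_apply_mem _ (hQP q), conjAut_apply]
      rfl
  by_cases hii : ∀ g (hg0 : g ∈ W), ∀ hg : g ∈ Subgroup.normalizer (P : Set Ω),
      ρ ⟨conjAut P g hg, autInducedBy_le hPS (conjAut_mem_autInducedBy hg (hW.1 hg0))⟩ ∈ T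
  · exact le_of_radical' hS hW.1 (hPS.trans hnW) hPc hPr K hKp fun g hg hgn =>
      ⟨_, ⟨hA1conj g hg hgn, hii g hg hgn⟩, rfl⟩
  exfalso
  push Not at hii
  obtain ⟨g, hgW, hgn, hgT⟩ := hii
  have hgq : ∀ q : Q, (⟨g, hgW⟩ : W) * q * (⟨g, hgW⟩ : W)⁻¹ ∈ Q := fun q =>
    show g * ((q : W) : Ω) * g⁻¹ ∈ P from conj_mem_of_mem_normalizer hgn (hQP q)
  obtain ⟨y₀, hy₀⟩ := not_forall.mp hgT
  refine hns (Cfsg.Lib.MetaTwo.maxClass_of_odd_aut hWp hm Q (ρ α) ?_ hαT ?_ hgq (y₀ := y₀) ?_)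
  · refine (Nat.coprime_two_right.mp hαc).of_dvd_nat ?_
    rw [Subgroup.orderOf_coe]
    exact orderOf_map_dvd ρ α
  · intro h hh hhT
    haveI : Finite Q := inferInstance
    have hhn : h ∈ Subgroup.normalizer (Q : Set W) :=
      mem_normalizer_of_maps_finite fun q hq => hh ⟨q, hq⟩
    exact hHP ⟨h, ⟨⟨h, hhn⟩, fun q => hhT q, rfl⟩, rfl⟩
  · convert hy₀ using 3
    refine Subtype.ext (Subtype.ext ?_)
    rw [hρ]
    show _ = autFun (conjAut P g hgn) _
    rw [autFun_apply_mem _ (hQP y₀), conjAut_apply]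
    rfl

end Cfsg.Lib.Fusion
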