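import Cfsg.Agent.Fusion.ChainStab
import Cfsg.Agent.Fusion.CharAut
import Cfsg.Agent.PGroups.Basic

/-!
Strongly closed subgroups with few elements of order `p`, `p` odd.
-/

set_option autoImplicit false

namespace Cfsg.Lib.Fusion

open Cfsg Cfsg.FusionSystem

/-- Two transvections in general position on a group of exponent `p` give the inversion map. -/
theorem inv_mem_of_transvections {W : Type*} [Group W] (hc : ∀ a b : W, a * b = b * a)
    (A : Subgroup (MulAut W)) {t t' : MulAut W} (ht : t ∈ A) (ht' : t' ∈ A) {y z : W}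
    (h1 : t y = y * z) (h2 : t z = z) (h3 : t' z = z * y⁻¹) (h4 : t' y = y)
    (hgen : ∀ (P : Subgroup W), y ∈ P → z ∈ P → P = ⊤) :
    ∃ ι ∈ A, ∀ x : W, ι x = x⁻¹ := by
  letI : CommGroup W := { ‹Group W› with mul_comm := hc }
  set w := t * t' * t with hw
  have hwz : w z = y⁻¹ := by
    simp only [hw, MulAut.mul_apply, h2, h3, map_mul, map_inv, h1]
    simp [mul_comm, mul_assoc, mul_left_comm]
  have hwy : w y = z := by
    simp only [hw, MulAut.mul_apply, h1, map_mul, h3, h4, h2]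
    simp [h1, mul_inv, mul_comm, mul_assoc, mul_left_comm]
  refine ⟨w * w, A.mul_mem (A.mul_mem (A.mul_mem ht ht') ht) (A.mul_mem (A.mul_mem ht ht') ht), ?_⟩
  let P : Subgroup W :=
    { carrier := {x | (w * w) x = x⁻¹}
      one_mem' := by simp
      mul_mem' := fun {a b} (ha : (w * w) a = a⁻¹) (hb : (w * w) b = b⁻¹) => by
        show (w * w) (a * b) = (a * b)⁻¹
        rw [map_mul, ha, hb, mul_inv]
      inv_mem' := fun {a} (ha : (w * w) a = a⁻¹) => by
        show (w * w) a⁻¹ = a⁻¹⁻¹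
        rw [map_inv, ha] }
  intro x
  have hP : P = ⊤ := hgen P (by show (w * w) y = y⁻¹; rw [MulAut.mul_apply, hwy, hwz])
    (by show (w * w) z = z⁻¹; rw [MulAut.mul_apply, hwz, map_inv, hwy])
  exact (hP ▸ Subgroup.mem_top x : x ∈ P)

variable {Ω : Type*} [Group Ω] {S : Subgroup Ω} {F : FusionSystem S} {p : ℕ}

theorem stronglyClosed_omegaOne {P W : Subgroup Ω} (hP : F.StronglyClosed P) (hWP : W ≤ P)
    (hexp : ∀ w ∈ W, w ^ p = 1) (hall : ∀ x ∈ P, x ^ p = 1 → x ∈ W) : F.StronglyClosed W :=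
  stronglyClosed_of_apply (hWP.trans hP.1) fun R f hf x hx hxW =>
    hall _ (stronglyClosed_apply hP hf hx (hWP hxW)) (by rw [← hf.map_pow hx, hexp x hxW, hf.map_one])

/-- A `p'`-extension of the inversion map centralizes an element outside the centralizer. -/
theorem false_of_inv_extension [Finite S] [Fact p.Prime] (hS : IsPGroup p S) (hp2 : p ≠ 2)
    {P W : Subgroup Ω} (hP : F.StronglyClosed P) (hWP : W ≤ P) (hall : ∀ x ∈ P, x ^ p = 1 → x ∈ W)
    (hWn : S ≤ Subgroup.normalizer (W : Set Ω))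
    {φ : MulAut S} (hφ : φ ∈ F.autGroup S) (hinv : ∀ w : S, (w : Ω) ∈ W → φ w = w⁻¹)
    {a : Ω} (ha : a ∈ P) (hne : ∃ w ∈ W, a * w * a⁻¹ ≠ w) : False := by
  classical
  haveI : Finite P := finite_of_le hP.1
  haveI : Finite (MulAut S) := Finite.of_injective (fun f : MulAut S => (f : S → S)) DFunLike.coe_injective
  -- make the order of `φ` a power of two
  obtain ⟨ψ, hψ, hψinv, b, hψo⟩ : ∃ ψ ∈ F.autGroup S, (∀ w : S, (w : Ω) ∈ W → ψ w = w⁻¹) ∧
      ∃ b : ℕ, ψ ^ 2 ^ b = 1 := by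
    have hn : orderOf φ ≠ 0 := (orderOf_pos φ).ne'
    refine ⟨φ ^ (ordCompl[2] (orderOf φ)), Subgroup.pow_mem _ hφ _, ?_, (orderOf φ).factorization 2, ?_⟩
    · have key : ∀ m : ℕ, ∀ w : S, (w : Ω) ∈ W → (φ ^ m) w = if Even m then w else w⁻¹ := by
        intro m
        induction m with
        | zero => intro w _; simp
        | succ m ih =>
          intro w hw
          rw [pow_succ, MulAut.mul_apply, hinv w hw, map_inv, ih w hw]
          rcases Nat.even_or_odd m with he | ho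
          · rw [if_pos he, if_neg (by simpa [Nat.even_add_one] using he)]
          · rw [if_neg (Nat.not_even_iff_odd.mpr ho),
              if_pos (by simpa [Nat.even_add_one] using Nat.not_even_iff_odd.mpr ho), inv_inv]
      intro w hw
      rw [key _ w hw, if_neg]
      intro he
      exact Nat.not_dvd_ordCompl Nat.prime_two hn (even_iff_two_dvd.mp he)
    · rw [← pow_mul, mul_comm, Nat.ordProj_mul_ordCompl_eq_self, pow_orderOf_eq_one]
  let X := {x : Ω // x ∈ P ∧ ∀ w ∈ W, x * w * x⁻¹ = a * w * a⁻¹}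
  have hψP : ∀ x : S, (x : Ω) ∈ P → ((ψ x : S) : Ω) ∈ P := fun x hx =>
    aut_mem_of_stronglyClosed hP le_rfl hψ hx
  have hstep : ∀ x : X, ((ψ ⟨x.1, hP.1 x.2.1⟩ : S) : Ω) ∈ P ∧
      ∀ w ∈ W, ((ψ ⟨x.1, hP.1 x.2.1⟩ : S) : Ω) * w * ((ψ ⟨x.1, hP.1 x.2.1⟩ : S) : Ω)⁻¹ = a * w * a⁻¹ := by
    intro x
    refine ⟨hψP _ x.2.1, fun w hw => ?_⟩
    have hwS : w ∈ S := hP.1 (hWP hw)
    have e := x.2.2 w hw
    set xs : S := ⟨x.1, hP.1 x.2.1⟩
    set ws : S := ⟨w, hwS⟩
    have hcw : ((xs * ws⁻¹ * xs⁻¹ : S) : Ω) ∈ W :=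
      conj_mem_of_mem_normalizer (hWn xs.2) (W.inv_mem hw)
    have h1 : ψ (xs * ws⁻¹ * xs⁻¹) = ψ xs * ws * (ψ xs)⁻¹ := by
      rw [map_mul, map_mul, map_inv, map_inv, hψinv ws hw, inv_inv]
    have h2 := hψinv _ hcw
    rw [h1] at h2
    have h3 := congrArg Subtype.val h2
    simp only [Subgroup.coe_mul, Subgroup.coe_inv] at h3
    rw [h3]
    show ((x.1 : Ω) * w⁻¹ * x.1⁻¹)⁻¹ = _
    rw [← e]; group
  haveI : Finite X := Finite.of_injective (fun x : X => (⟨x.1, x.2.1⟩ : P))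
    fun x y h => Subtype.ext (congrArg (fun z : P => (z : Ω)) h)
  letI := Fintype.ofFinite X
  let σ : Equiv.Perm X := Equiv.ofBijective
    (fun x => ⟨_, hstep x⟩) (Finite.injective_iff_bijective.mp fun x y h => by
      have h' : (ψ ⟨x.1, hP.1 x.2.1⟩ : S) = ψ ⟨y.1, hP.1 y.2.1⟩ :=
        Subtype.ext (congrArg (fun z : X => z.1) h)
      exact Subtype.ext (show x.1 = y.1 from congrArg (fun z : S => (z : Ω)) (ψ.injective h')))
  have hσ : σ ^ 2 ^ b = 1 := by
    have key : ∀ m : ℕ, ∀ x : X, ((σ ^ m) x).1 = ((ψ ^ m) ⟨x.1, hP.1 x.2.1⟩ : S).1 := by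
      intro m
      induction m with
      | zero => intro x; simp
      | succ m ih =>
        intro x
        rw [pow_succ', pow_succ', Equiv.Perm.mul_apply, MulAut.mul_apply]
        show ((ψ ⟨((σ ^ m) x).1, _⟩ : S) : Ω) = _
        congr 2
        exact Subtype.ext (ih x)
    refine Equiv.ext fun x => Subtype.ext ?_
    rw [key, hψo]; rfl
  let D : Subgroup Ω := P ⊓ Subgroup.centralizer (W : Set Ω)
  have hcard : Fintype.card X = Nat.card D := by
    rw [← Nat.card_eq_fintype_card]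
    refine Nat.card_congr
      { toFun := fun x => ⟨a⁻¹ * x.1, P.mul_mem (P.inv_mem ha) x.2.1,
          Subgroup.mem_centralizer_iff.mpr fun w hw => ?_⟩
        invFun := fun d => ⟨a * d.1, P.mul_mem ha d.2.1, fun w hw => ?_⟩
        left_inv := fun x => Subtype.ext (mul_inv_cancel_left _ _)
        right_inv := fun d => Subtype.ext (inv_mul_cancel_left _ _) }
    · have e := x.2.2 w hw
      calc w * (a⁻¹ * x.1) = a⁻¹ * (a * w * a⁻¹) * x.1 := by group
        _ = a⁻¹ * (x.1 * w * x.1⁻¹) * x.1 := by rw [e]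
        _ = a⁻¹ * x.1 * w := by group
    · have e := Subgroup.mem_centralizer_iff.mp d.2.2 w hw
      calc a * d.1 * w * (a * d.1)⁻¹ = a * (d.1 * w) * d.1⁻¹ * a⁻¹ := by group
        _ = a * (w * d.1) * d.1⁻¹ * a⁻¹ := by rw [e]
        _ = a * w * a⁻¹ := by group
  haveI : Fact (Nat.Prime 2) := ⟨Nat.prime_two⟩
  have hodd : ¬ 2 ∣ Fintype.card X := by
    have hDS : D ≤ S := inf_le_left.trans hP.1
    haveI : Finite D := finite_of_le hDS
    obtain ⟨k, hk⟩ := (IsPGroup.iff_card.mp (hS.of_injective _ (Subgroup.inclusion_injective hDS)))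
    rw [hcard, hk]
    intro h2
    exact hp2 ((Nat.prime_dvd_prime_iff_eq Nat.prime_two Fact.out).mp (Nat.prime_two.dvd_of_dvd_pow h2)).symm
  obtain ⟨x, hx⟩ := Equiv.Perm.exists_fixed_point_of_prime hodd hσ
  -- a power of order `p` of the fixed element
  obtain ⟨w₀, hw₀, hne⟩ := hne
  have hx1 : (⟨x.1, hP.1 x.2.1⟩ : S) ≠ 1 := by
    intro h
    have := congrArg Subtype.val h
    simp only [Subgroup.coe_one] at this
    apply hne
    rw [← x.2.2 w₀ hw₀, this]; simp
  set xs : S := ⟨x.1, hP.1 x.2.1⟩ with hxs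
  have hfix : ψ xs = xs := Subtype.ext (congrArg (fun z : X => z.1) hx)
  obtain ⟨k, hk⟩ := IsPGroup.iff_orderOf.1 hS xs
  have hk0 : k ≠ 0 := fun h => hx1 (orderOf_eq_one_iff.mp (by rw [hk, h, pow_zero]))
  set u : S := xs ^ p ^ (k - 1)
  have hup : u ^ p = 1 := by
    rw [← pow_mul, ← pow_succ, show k - 1 + 1 = k by omega, ← hk, pow_orderOf_eq_one]
  have hu1 : u ≠ 1 := by
    intro h
    have hd := orderOf_dvd_of_pow_eq_one h
    rw [hk, Nat.pow_dvd_pow_iff_le_right (Fact.out : p.Prime).one_lt] at hd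
    omega
  have huW : (u : Ω) ∈ W :=
    hall _ (Subgroup.coe_pow S xs _ ▸ P.pow_mem x.2.1 _) (by rw [← Subgroup.coe_pow, hup, Subgroup.coe_one])
  have h2 : u * u = 1 := by
    have := hψinv u huW
    rw [map_pow, hfix] at this
    exact eq_inv_iff_mul_eq_one.mp this
  apply hu1
  rcases (Nat.Prime.eq_two_or_odd (Fact.out : p.Prime)) with h | h
  · exact absurd h hp2
  · have h3 : u ^ p = u := by
      conv_lhs => rw [show p = 2 * (p / 2) + 1 by omega]
      rw [pow_succ, pow_mul, pow_two, h2, one_pow, one_mul]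
    rw [← h3, hup]

/-- The central part of a small `Ω₁` is strongly closed. -/
theorem stronglyClosed_inf_centralizer [Finite S] [Fact p.Prime] (hS : IsPGroup p S)
    (hF : F.IsSaturated p) (hp2 : p ≠ 2) {P W : Subgroup Ω} (hP : F.StronglyClosed P) (hWP : W ≤ P)
    (hexp : ∀ w ∈ W, w ^ p = 1) (hall : ∀ x ∈ P, x ^ p = 1 → x ∈ W) (hcard : Nat.card W ≤ p ^ 2)
    {a : Ω} (ha : a ∈ P) (hne : ∃ w ∈ W, a * w * a⁻¹ ≠ w) :
    F.StronglyClosed (W ⊓ Subgroup.centralizer (P : Set Ω)) ∧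
      ∀ w ∈ W, ∀ g ∈ P, w⁻¹ * (g * w * g⁻¹) ∈ W ⊓ Subgroup.centralizer (P : Set Ω) := by
  classical
  have hpp : p.Prime := Fact.out
  have hWc := stronglyClosed_omegaOne hP hWP hexp hall
  have hWS := hWc.1
  haveI : Finite W := finite_of_le hWS
  haveI : Finite P := finite_of_le hP.1
  have hWn := normalizes_of_stronglyClosed hWc
  have hWg : IsPGroup p W := hS.of_injective _ (Subgroup.inclusion_injective hWS)
  set Z1 := W ⊓ Subgroup.centralizer (P : Set Ω) with hZ1
  -- a central element of `S` in `W`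
  obtain ⟨z0, hz0W, hz0c, hz01⟩ : ∃ z ∈ W, (∀ s ∈ S, s * z = z * s) ∧ z ≠ 1 := by
    haveI : (W.subgroupOf S).Normal :=
      ⟨fun x hx g => Subgroup.mem_subgroupOf.mpr (conj_mem_of_mem_normalizer (hWn g.2) hx)⟩
    obtain ⟨w₀, hw₀, hne₀⟩ := hne
    have hbot : W.subgroupOf S ≠ ⊥ := by
      intro h
      have : (⟨w₀, hWS hw₀⟩ : S) ∈ W.subgroupOf S := hw₀
      rw [h, Subgroup.mem_bot] at this
      exact hne₀ (by rw [show w₀ = 1 from congrArg Subtype.val this]; simp)
    obtain ⟨z, hzW, hzc, hzo⟩ := Cfsg.Lib.PGroups.exists_mem_center_of_normal_ne_bot hS hbot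
    refine ⟨z, hzW, fun s hs => congrArg Subtype.val (Subgroup.mem_center_iff.mp hzc ⟨s, hs⟩), fun h => ?_⟩
    rw [show z = 1 from Subtype.ext h, orderOf_one] at hzo
    exact hpp.ne_one hzo.symm
  have hz0Z : z0 ∈ Z1 :=
    ⟨hz0W, Subgroup.mem_centralizer_iff.mpr fun g hg => hz0c g (hP.1 hg)⟩
  haveI : Finite Z1 := finite_of_le (inf_le_left.trans hWS)
  have hcards : Nat.card W = p ^ 2 ∧ Nat.card Z1 = p := by
    obtain ⟨i, hi⟩ := IsPGroup.iff_card.mp hWg
    obtain ⟨j, hj⟩ := IsPGroup.iff_card.mp (hS.of_injective _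
      (Subgroup.inclusion_injective (inf_le_left.trans hWS : Z1 ≤ S)))
    have hlt : Nat.card Z1 < Nat.card W := by
      refine lt_of_le_of_ne (Subgroup.card_le_of_le inf_le_left) fun h => ?_
      obtain ⟨w, hw, hne'⟩ := hne
      have := Subgroup.eq_of_le_of_card_ge (inf_le_left : Z1 ≤ W) h.ge
      rw [← this] at hw
      exact hne' (by rw [Subgroup.mem_centralizer_iff.mp hw.2 a ha, mul_inv_cancel_right])
    have hj1 : 1 ≤ j := by
      rcases Nat.eq_zero_or_pos j with h | h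
      · rw [h, pow_zero, Subgroup.card_eq_one] at hj
        exact absurd (Subgroup.mem_bot.mp (hj ▸ hz0Z)) hz01
      · exact h
    rw [hi, hj, Nat.pow_lt_pow_iff_right hpp.one_lt] at hlt
    rw [hi, Nat.pow_le_pow_iff_right hpp.one_lt] at hcard
    exact ⟨by rw [hi, show i = 2 by omega], by rw [hj, show j = 1 by omega, pow_one]⟩
  have hZgen : ∀ z ∈ Z1, z ≠ 1 → Subgroup.zpowers z = Z1 := fun z hz hz1 =>
    Subgroup.eq_of_le_of_card_ge (Subgroup.zpowers_le.mpr hz) (by
      rw [Nat.card_zpowers, orderOf_eq_prime (hexp z hz.1) hz1, hcards.2])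
  -- abelian
  have hab : ∀ u ∈ W, ∀ v ∈ W, u * v = v * u := fun u hu v hv => by
    letI := IsPGroup.commGroupOfCardEqPrimeSq (p := p) hcards.1
    exact congrArg Subtype.val (mul_comm (⟨u, hu⟩ : W) ⟨v, hv⟩)
  -- commutators into `Z1`
  have hdiff : ∀ w ∈ W, ∀ g ∈ P, w⁻¹ * (g * w * g⁻¹) ∈ Z1 := by
    haveI : (W.subgroupOf P).Normal :=
      ⟨fun x hx g => Subgroup.mem_subgroupOf.mpr (conj_mem_of_mem_normalizer (hWn (hP.1 g.2)) hx)⟩
    haveI : (Z1.subgroupOf P).Normal :=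
      ⟨fun x hx g => by
        have hx' : (x : Ω) ∈ Z1 := hx
        show ((g * x * g⁻¹ : P) : Ω) ∈ Z1
        simp only [Subgroup.coe_mul, Subgroup.coe_inv]
        rw [Subgroup.mem_centralizer_iff.mp hx'.2 g g.2, mul_inv_cancel_right]
        exact hx'⟩
    let q : P →* P ⧸ Z1.subgroupOf P := QuotientGroup.mk' _
    haveI : ((W.subgroupOf P).map q).Normal :=
      Subgroup.Normal.map inferInstance q (QuotientGroup.mk'_surjective _)
    have hPg : IsPGroup p P := hS.of_injective _ (Subgroup.inclusion_injective hP.1)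
    have hc : Nat.card ((W.subgroupOf P).map q) = p := by
      have h1 : Nat.card ((W.subgroupOf P).map q) = (Z1.subgroupOf P).relIndex (W.subgroupOf P) := by
        conv_rhs => rw [← QuotientGroup.ker_mk' (Z1.subgroupOf P)]
        rw [Subgroup.relIndex_ker]
      rw [h1, Subgroup.relIndex_subgroupOf hWP]
      have h2 := Subgroup.relIndex_mul_relIndex (⊥ : Subgroup Ω) Z1 W bot_le inf_le_left
      rw [Subgroup.relIndex_bot_left, Subgroup.relIndex_bot_left, hcards.1, hcards.2, pow_two] at h2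
      exact Nat.eq_of_mul_eq_mul_left hpp.pos h2
    have hz := Cfsg.Lib.PGroups.le_center_of_card_eq_prime
      (hPg.of_surjective q (QuotientGroup.mk'_surjective _)) hc
    intro w hw g hg
    have h := Subgroup.mem_center_iff.mp (hz ⟨⟨w, hWP hw⟩, hw, rfl⟩) (q ⟨g, hg⟩)
    have h' : q ((⟨w, hWP hw⟩ : P)⁻¹ * (⟨g, hg⟩ * ⟨w, hWP hw⟩ * ⟨g, hg⟩⁻¹)) = 1 := by
      rw [map_mul, map_mul, map_mul, map_inv, map_inv, h]; group
    exact Subgroup.mem_subgroupOf.mp ((QuotientGroup.eq_one_iff _).mp h')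
  refine ⟨stronglyClosed_of_apply (inf_le_left.trans hWS) fun R f hf z hz hzZ => ?_, hdiff⟩
  by_contra hout
  have hz1 : z ≠ 1 := fun h => hout (by rw [h, hf.map_one]; exact Z1.one_mem)
  set y := f z
  have hyW : y ∈ W := stronglyClosed_apply hWc hf hz hzZ.1
  have hzc : ∀ s ∈ S, s * z = z * s := fun s hs => by
    obtain ⟨i, hi⟩ : z ∈ Subgroup.zpowers z0 := by rw [hZgen z0 hz0Z hz01]; exact hzZ
    subst hi
    exact Commute.zpow_right (a := s) (b := z0) (hz0c s hs) i
  -- an automorphism of `W` moving `y` to `z`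
  obtain ⟨f', hf', hf'i, hf'f, -⟩ := (hf.mono (Subgroup.zpowers_le.mpr hz)).exists_inv
  have hzS : Subgroup.zpowers z ≤ S := Subgroup.zpowers_le.mpr (hWS hzZ.1)
  have hzfc : F.IsFullyCentralized (Subgroup.zpowers z) := by
    refine ⟨hzS, fun R _ => Nat.le_of_dvd ?_ (Subgroup.card_dvd_of_le (le_inf inf_le_left fun s hs => ?_))⟩
    · haveI : Finite (centralizerIn S (Subgroup.zpowers z)) := finite_of_le inf_le_left
      exact Nat.card_pos
    · rw [Subgroup.mem_centralizer_iff]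
      rintro _ ⟨i, rfl⟩
      exact (Commute.zpow_right (a := s) (b := z) (hzc s hs.1) i).symm
  have hf'i' : img (img (Subgroup.zpowers z) f) f' = Subgroup.zpowers z := hf'i
  obtain ⟨k, hk, hkag⟩ := receptive_extend (receptive_of_fullyCentralized hS hF hzfc) hf' hf'i'
  have hky : k y = z := by
    rw [hkag y (IsMap.apply_mem_img (Subgroup.mem_zpowers z)), hf'f z (Subgroup.mem_zpowers z)]
  have hWext : W ≤ extSub S (img (Subgroup.zpowers z) f) f' := by
    refine le_trans ?_ (centralizerIn_le_extSub _ _)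
    intro u hu
    refine mem_centralizerIn.mpr ⟨hWS hu, fun v hv => ?_⟩
    rw [hab u hu v (?_ : v ∈ W), mul_inv_cancel_right]
    exact (IsMap.img_le_iff.mpr fun x hx => by
      exact stronglyClosed_apply hWc (hf.mono (Subgroup.zpowers_le.mpr hz)) hx
        ((Subgroup.zpowers_le.mpr hzZ.1) hx)) hv
  have hkW := hk.mono hWext
  obtain ⟨β, hβ, hβe⟩ := hkW.exists_aut (img_eq_of_apply hkW le_rfl fun u hu =>
    stronglyClosed_apply hWc hkW hu hu)
  set yW : W := ⟨y, hyW⟩
  set zW : W := ⟨z, hzZ.1⟩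
  have hβy : β yW = zW := Subtype.ext (by rw [← autFun_apply β yW, hβe y hyW, hky])
  have hyZ : (yW : Ω) ∉ Z1 := hout
  -- the transvection of `a`
  have hT : ∀ g ∈ P, ∃ t ∈ F.autGroup W, ∀ u : W, ((t u : W) : Ω) = g * u * g⁻¹ := fun g hg =>
    ⟨conjAut W g (hWn (hP.1 hg)), autInducedBy_le hWS (conjAut_mem_autInducedBy _ (hP.1 hg)),
      fun u => conjAut_apply _ u⟩
  obtain ⟨t, ht, hte⟩ := hT a ha
  have htZ : ∀ u : W, (u : Ω) ∈ Z1 → t u = u := fun u hu => Subtype.ext (by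
    rw [hte, Subgroup.mem_centralizer_iff.mp hu.2 a ha, mul_inv_cancel_right])
  have hgen : ∀ Q : Subgroup W, yW ∈ Q → zW ∈ Q → Q = ⊤ := by
    intro Q h1 h2
    apply Subgroup.eq_top_of_card_eq
    obtain ⟨i, hi⟩ := IsPGroup.iff_card.mp (hWg.to_subgroup Q)
    have hd := Subgroup.card_subgroup_dvd_card Q
    rw [hi, hcards.1, Nat.pow_dvd_pow_iff_le_right hpp.one_lt] at hd
    have hsub : Z1.subgroupOf W ≤ Q := by
      intro u hu
      obtain ⟨n, hn⟩ : (u : Ω) ∈ Subgroup.zpowers z := by rw [hZgen z hzZ hz1]; exact hu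
      rw [show u = zW ^ n from Subtype.ext (by simpa using hn.symm)]
      exact Q.zpow_mem h2 n
    have hlt : Z1.subgroupOf W < Q := lt_of_le_of_ne hsub fun h => hyZ (Subgroup.mem_subgroupOf.mp (h ▸ h1))
    have h3 : p < Nat.card Q := by
      rw [← hcards.2, ← Nat.card_congr (Subgroup.subgroupOfEquivOfLe (inf_le_left : Z1 ≤ W)).toEquiv]
      exact lt_of_le_of_ne (Subgroup.card_le_of_le hlt.le)
        fun h => hlt.ne (Subgroup.eq_of_le_of_card_ge hlt.le h.ge)
    rw [hi] at h3 ⊢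
    rw [hcards.1]
    have : 1 < i := by
      by_contra h
      rcases Nat.le_one_iff_eq_zero_or_eq_one.mp (not_lt.mp h) with h | h <;> simp [h] at h3
      exact absurd h3 hpp.ne_zero
    rw [show i = 2 by omega]
  -- normalised powers
  set zz : W := yW⁻¹ * t yW
  have hzz : (zz : Ω) ∈ Z1 := by
    show (yW : Ω)⁻¹ * ((t yW : W) : Ω) ∈ Z1
    rw [hte]; exact hdiff y hyW a ha
  have hzz1 : zz ≠ 1 := by
    intro h
    have hty : t yW = yW := (inv_mul_eq_one.mp h).symm
    let Q : Subgroup W :=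
      { carrier := {u | t u = u}
        one_mem' := map_one t
        mul_mem' := fun {u v} (hu : t u = u) (hv : t v = v) => by
          show t (u * v) = u * v; rw [map_mul, hu, hv]
        inv_mem' := fun {u} (hu : t u = u) => by show t u⁻¹ = u⁻¹; rw [map_inv, hu] }
    obtain ⟨w, hw, hne'⟩ := hne
    have : (⟨w, hw⟩ : W) ∈ Q := hgen Q hty (htZ zW hzZ) ▸ Subgroup.mem_top _
    exact hne' ((hte ⟨w, hw⟩).symm.trans (congrArg Subtype.val this))
  have hgen' : ∀ Q : Subgroup W, yW ∈ Q → zz ∈ Q → Q = ⊤ := fun Q h1 h2 => hgen Q h1 (by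
    obtain ⟨n, hn⟩ : z ∈ Subgroup.zpowers (zz : Ω) := by
      rw [hZgen _ hzz (fun h => hzz1 (Subtype.ext h))]; exact hzZ
    rw [show zW = zz ^ n from Subtype.ext (by simpa using hn.symm)]
    exact Q.zpow_mem h2 n)
  -- conjugate transvection
  set t₂ := β⁻¹ * t * β
  have ht₂ : t₂ ∈ F.autGroup W :=
    Subgroup.mul_mem _ (Subgroup.mul_mem _ (Subgroup.inv_mem _ hβ) ht) hβ
  have ht₂y : t₂ yW = yW := by
    rw [MulAut.mul_apply, MulAut.mul_apply, hβy, htZ zW hzZ, ← hβy]
    exact β.symm_apply_apply yW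
  set yy := zz⁻¹ * t₂ zz
  have hyy : yy ∈ Subgroup.zpowers yW := by
    have h := hdiff _ (β zz).2 a ha
    rw [← hte] at h
    obtain ⟨n, hn⟩ : (((β zz)⁻¹ * t (β zz) : W) : Ω) ∈ Subgroup.zpowers z := by
      rw [hZgen z hzZ hz1]; simpa using h
    have h2 : (β zz)⁻¹ * t (β zz) = β (yW ^ n) := by
      rw [map_zpow, hβy]; exact Subtype.ext (by simpa using hn.symm)
    have h3 : β.symm ((β zz)⁻¹ * t (β zz)) = yW ^ n := by rw [h2, MulEquiv.symm_apply_apply]
    rw [map_mul, map_inv, MulEquiv.symm_apply_apply] at h3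
    exact ⟨n, h3.symm⟩
  have hyy1 : yy ≠ 1 := by
    intro h
    have h2 : t₂ zz = zz := (inv_mul_eq_one.mp h).symm
    let Q : Subgroup W :=
      { carrier := {u | t₂ u = u}
        one_mem' := map_one t₂
        mul_mem' := fun {u v} (hu : t₂ u = u) (hv : t₂ v = v) => by
          show t₂ (u * v) = u * v; rw [map_mul, hu, hv]
        inv_mem' := fun {u} (hu : t₂ u = u) => by show t₂ u⁻¹ = u⁻¹; rw [map_inv, hu] }
    have hQ := hgen' Q ht₂y h2
    obtain ⟨w, hw, hne'⟩ := hne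
    have : t₂ (β.symm ⟨w, hw⟩) = β.symm ⟨w, hw⟩ := (hQ ▸ Subgroup.mem_top _ : β.symm ⟨w, hw⟩ ∈ Q)
    rw [MulAut.mul_apply, MulAut.mul_apply, MulEquiv.apply_symm_apply] at this
    exact hne' ((hte ⟨w, hw⟩).symm.trans (congrArg Subtype.val (β.symm.injective this)))
  obtain ⟨m, hm⟩ : yW⁻¹ ∈ Subgroup.zpowers yy := by
    have hy1 : yW ≠ 1 := fun h => hyZ (by rw [h]; exact Z1.one_mem)
    have ho : orderOf yW = p := orderOf_eq_prime (Subtype.ext (by simpa using hexp y hyW)) hy1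
    have : Subgroup.zpowers yy = Subgroup.zpowers yW := Subgroup.eq_of_le_of_card_ge
      (Subgroup.zpowers_le.mpr hyy) (by
        rw [Nat.card_zpowers, Nat.card_zpowers, ho,
          orderOf_eq_prime (Subtype.ext (by simpa using hexp _ yy.2)) hyy1])
    rw [this]; exact Subgroup.inv_mem _ (Subgroup.mem_zpowers _)
  have ht₂m : (t₂ ^ m) zz = zz * yy ^ m := by
    have hfixy : ∀ n : ℤ, t₂ (yy ^ n) = yy ^ n := fun n => by
      obtain ⟨i, hi⟩ := hyy
      rw [map_zpow, ← hi, map_zpow, ht₂y]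
    have hnat : ∀ n : ℕ, (t₂ ^ n) zz = zz * yy ^ n := by
      intro n
      induction n with
      | zero => simp
      | succ n ih =>
        rw [pow_succ', MulAut.mul_apply, ih, map_mul, ← zpow_natCast yy n, hfixy,
          show t₂ zz = zz * yy from (mul_inv_cancel_left zz _).symm, mul_assoc, ← zpow_one_add,
          ← zpow_natCast yy (n + 1)]
        push_cast; rw [add_comm]
    rcases Int.eq_nat_or_neg m with ⟨n, rfl | rfl⟩
    · rw [zpow_natCast, zpow_natCast, hnat]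
    · rw [zpow_neg, zpow_natCast, MulAut.inv_apply, MulEquiv.symm_apply_eq, map_mul, hnat]
      have hfn : ∀ n' : ℕ, (t₂ ^ n') (yy ^ (-(n : ℤ))) = yy ^ (-(n : ℤ)) := by
        intro n'
        induction n' with
        | zero => simp
        | succ n' ih => rw [pow_succ', MulAut.mul_apply, ih, hfixy]
      rw [hfn, mul_assoc, ← zpow_natCast yy n, ← zpow_add, add_neg_cancel, zpow_zero, mul_one]
  have htmy : ∀ n : ℤ, (t₂ ^ n) yW = yW := fun n => by
    let Q : Subgroup (MulAut W) :=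
      { carrier := {u | u yW = yW}
        one_mem' := rfl
        mul_mem' := fun {u v} (hu : u yW = yW) (hv : v yW = yW) => by
          show (u * v) yW = yW; rw [MulAut.mul_apply, hv, hu]
        inv_mem' := fun {u} (hu : u yW = yW) => by
          show u⁻¹ yW = yW; conv_lhs => rw [← hu]
          exact u.symm_apply_apply yW }
    exact Q.zpow_mem ht₂y n
  obtain ⟨ι, hι, hιe⟩ := inv_mem_of_transvections (fun u v => Subtype.ext (hab u u.2 v v.2))
    (F.autGroup W) ht (Subgroup.zpow_mem _ ht₂ m) (y := yW) (z := zz)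
    (mul_inv_cancel_left yW _).symm (htZ zz hzz) (by rw [ht₂m, show yy ^ m = yW⁻¹ from hm]) (htmy m) hgen'
  -- extend the inversion to `S`
  have hιm := (isMap_autFun hWS).mpr hι
  have hrec := (fullyNormalized_props hS hF (fullyNormalized_of_normalized hWS hWn)).2.2
  obtain ⟨g, hg, hgag⟩ := receptive_extend hrec hιm (img_autFun ι)
  have hιW : ∀ u ∈ W, autFun ι u = u⁻¹ := fun u hu => by
    rw [autFun_apply_mem ι hu, hιe]; rfl
  have hSext : S ≤ extSub S W (autFun ι) := fun s hs => mem_extSub.mpr ⟨hs, hWn hs, s, hs, fun u hu => by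
    rw [hιW _ (conj_mem_of_mem_normalizer (hWn hs) hu), hιW u hu]; group⟩
  have hgS := hg.mono hSext
  obtain ⟨φ, hφ, hφe⟩ := hgS.exists_aut (img_eq_of_apply hgS le_rfl fun u hu => hgS.mem_S hu)
  refine false_of_inv_extension hS hp2 hP hWP hall hWn hφ (fun u hu => Subtype.ext ?_) ha hne
  rw [← autFun_apply φ u, hφe _ u.2, hgag _ hu, hιW _ hu]; rfl

end Cfsg.Lib.Fusion
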