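import Cfsg.Agent.PGroups.MetacyclicChain
import Cfsg.Agent.Fusion.MetacyclicTwo
import Cfsg.Agent.Fusion.PullSystem
import Cfsg.Agent.S5234
import Cfsg.Agent.S0115

/-!
Saturated systems over a metacyclic group outside the exceptional shapes are supersoluble.
-/

set_option autoImplicit false

namespace Cfsg.Lib.Fusion

open Cfsg Cfsg.FusionSystem Cfsg.Lib.MetaChain

variable {Ω : Type*} [Group Ω] {S : Subgroup Ω} {p : ℕ} [Fact p.Prime]

/-- The exceptional shapes. -/
def MetaExceptional (p : ℕ) (X : Type*) [Group X] : Prop :=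
  (∃ n : ℕ, 0 < n ∧ Nonempty (X ≃* Multiplicative (ZMod (p ^ n)) × Multiplicative (ZMod (p ^ n)))) ∨
    (p = 2 ∧ ((∃ n : ℕ, 2 ≤ n ∧ Nonempty (X ≃* DihedralGroup n)) ∨ Cfsg.IsQuasiDihedral X ∨
      (∃ n : ℕ, 2 ≤ n ∧ Nonempty (X ≃* QuaternionGroup n))))

theorem reach_top_of_not_exceptional {X : Type*} [Group X] [Finite X] (hX : IsPGroup p X)
    (hm : Cfsg.IsMetacyclic X) (hx : ¬ MetaExceptional p X) : Reach (Set.univ : Set (MulAut X)) ⊤ := by
  have htop : Inv (Set.univ : Set (MulAut X)) (⊤ : Subgroup X) := fun _ _ _ _ => Subgroup.mem_top _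
  by_cases hc : IsCyclic X
  · obtain ⟨g, hg⟩ := isCyclic_iff_exists_zpowers_eq_top.mp hc
    exact reach_step (reach_bot _) htop bot_le ⟨g, by rw [bot_sup_eq, hg]⟩
  rcases exists_char_max hX hm hc with ⟨M, hMi, hM⟩ | h | ⟨hp, hi⟩
  · exact reach_of_invariant_max hX hm _ _ ⊤ M le_rfl htop hM le_top (by rw [Subgroup.relIndex_top_right, hMi])
  · exact absurd (Or.inl h) hx
  exfalso
  subst hp
  obtain ⟨n, hn⟩ := IsPGroup.iff_card.mp hX
  have h4 := hn ▸ (commutator X).card_mul_index
  rw [hi] at h4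
  refine hx (Or.inr ⟨rfl, ?_⟩)
  rcases Nat.lt_or_ge n 3 with h3 | h3
  · have hn2 : Nat.card X = 4 := by
      have h5 : 4 ∣ 2 ^ n := ⟨_, by rw [← h4, mul_comm]⟩
      rw [hn]
      interval_cases n <;> norm_num at *
    haveI : IsKleinFour X := by
      refine ⟨hn2, ?_⟩
      have hd := Monoid.exponent_dvd_of_forall_pow_eq_one (G := X) (n := 4) fun x => hn2 ▸ pow_card_eq_one'
      obtain ⟨k, hk, he⟩ := (Nat.dvd_prime_pow Nat.prime_two).mp (show Monoid.exponent X ∣ 2 ^ 2 from hd)
      interval_cases k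
      · exfalso
        haveI : Subsingleton X := Monoid.exp_eq_one_iff.mp he
        exact hc isCyclic_of_subsingleton
      · exact he
      · exfalso
        refine hc ?_
        letI : CommGroup X := IsPGroup.commGroupOfCardEqPrimeSq (p := 2) (by rw [hn2]; norm_num)
        exact IsCyclic.of_exponent_eq_card (he.trans (by rw [hn2]; norm_num))
    exact Or.inl ⟨2, le_rfl, IsKleinFour.nonempty_mulEquiv⟩
  · haveI : Group.IsNilpotent X := hX.isNilpotent
    exact Cfsg.Lib.MetaTwo.shape_of_maxClass hn h3 (Cfsg.Agent.S0115.of_index_four n X hn h3 hi)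

theorem superChain_of_not_exceptional [Finite S] (hS : IsPGroup p S) (hm : Cfsg.IsMetacyclic S)
    (hx : ¬ MetaExceptional p S) (F : FusionSystem S) (hF : F.IsSaturated p) : HasSuperChain F := by
  have hSc : F.StronglyClosed S := ⟨le_rfl, fun _ _ φ hφ x => (F.le_of_mem hφ).2 x⟩
  have hN : F.IsNormal S := by
    by_cases hp : p = 2
    · subst hp
      rcases isNormal_or_shape_of_metacyclic hS hF hSc hm with h | h
      · exact h
      · exact absurd (Or.inr ⟨rfl, h⟩) hx
    · exact Cfsg.Agent.S5234.result p hS F hF S hSc hp hm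
  obtain ⟨m, c, h0, hlast, hinv, hstep⟩ := reach_top_of_not_exceptional hS hm hx
  refine ⟨m, fun i => (c i).map S.subtype, ?_, ?_, fun i => ?_, fun i => ?_⟩
  · show (c 0).map S.subtype = ⊥
    rw [h0, Subgroup.map_bot]
  · show (c (Fin.last m)).map S.subtype = S
    rw [hlast, ← MonoidHom.range_eq_map, Subgroup.range_subtype]
  · refine ⟨Subgroup.map_subtype_le _, fun R hR φ hφ x => ?_⟩
    obtain ⟨ψ, hψ, hag, -⟩ := hN.2 R φ hφ
    let a : S →* S := (ψ.comp (Subgroup.inclusion le_sup_right)).codRestrict S fun y => (F.le_of_mem hψ).2 _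
    have ha : Function.Injective a := fun y z h =>
      Subgroup.inclusion_injective _ (F.injective_of_mem hψ (congrArg Subtype.val h))
    obtain ⟨y, hy, hyx⟩ := hR x.2
    refine ⟨a y, hinv i (MulEquiv.ofBijective a (Finite.injective_iff_bijective.mp ha)) trivial y hy, ?_⟩
    show ψ (Subgroup.inclusion le_sup_right y) = φ x
    rw [← hag x]
    exact congrArg ψ (Subtype.ext hyx)
  · obtain ⟨hle, x, hx'⟩ := hstep i
    refine ⟨Subgroup.map_mono hle, x, x.2, ?_⟩
    show (c i.succ).map S.subtype = _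
    rw [hx', Subgroup.map_sup, MonoidHom.map_zpowers]
    rfl

end Cfsg.Lib.Fusion
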