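import Cfsg.Agent.Fusion.MetacyclicTwo
import Cfsg.Agent.Fusion.GTFamily

/-!
Saturated systems over metacyclic 2-groups.
-/

set_option autoImplicit false

namespace Cfsg.Lib.Fusion

open Cfsg Cfsg.FusionSystem
open scoped commutatorElement

/-- The automorphism group of a metacyclic 2-group is a 2-group unless it is homocyclic or of order eight. -/
theorem isPGroup_mulAut_metacyclic {D : Type*} [Group D] [Finite D] (hD : IsPGroup 2 D)
    (hm : Cfsg.IsMetacyclic D)
    (hh : ¬ ∃ k : ℕ, Nonempty (D ≃* Multiplicative (Fin 2 → ZMod (2 ^ k))))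
    (hns : ¬ ((∃ m : ℕ, 2 ≤ m ∧ Nonempty (D ≃* DihedralGroup m)) ∨ Cfsg.IsQuasiDihedral D ∨
      (∃ m : ℕ, 2 ≤ m ∧ Nonempty (D ≃* QuaternionGroup m)))) :
    IsPGroup 2 (MulAut D) := by
  haveI : Fact (Nat.Prime 2) := ⟨Nat.prime_two⟩
  haveI : Finite (MulAut D) := Finite.of_injective (fun f : MulAut D => (f : D → D)) DFunLike.coe_injective
  intro a
  obtain ⟨bp, bq, -, -, he, ⟨i, hi⟩, hcop⟩ := Cfsg.Lib.Transfer.exists_pPart 2 a
  have hodd : Odd (orderOf bq) := Nat.coprime_two_right.mp hcop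
  have hbq : bq = 1 := by
    by_cases hs : bq ∈ Cfsg.Lib.MetaTwo.stab D
    · exact Cfsg.Lib.MetaTwo.eq_one_of_mem_stab hD hodd hs
    exfalso
    rcases Cfsg.Lib.MetaTwo.odd_aut_structure hD hm bq hodd hs with ⟨-, h⟩ | ⟨h8, c, hc1, -, -, -, hzc, -⟩
    · exact hh h
    haveI : Group.IsNilpotent D := hD.isNilpotent
    have h3 : Nat.card D = 2 ^ 3 := by rw [h8]; rfl
    refine hns (Cfsg.Lib.MetaTwo.shape_of_maxClass h3 le_rfl ?_)
    have hle := Cfsg.Lib.MaxClass.class_le 3 D h3 (by omega)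
    by_contra hne
    have h1 : Group.nilpotencyClass D ≤ 1 := by omega
    have hab : ∀ a b : D, a * b = b * a := fun a b => by
      have h' := (Subgroup.lowerCentralSeries_eq_bot_iff_nilpotencyClass_le (G := D) (n := 1)).2 h1
      rw [Subgroup.top_lowerCentralSeries_one] at h'
      have h2 : ⁅a, b⁆ ∈ _root_.commutator D :=
        Subgroup.commutator_mem_commutator (Subgroup.mem_top a) (Subgroup.mem_top b)
      rw [h', Subgroup.mem_bot] at h2
      exact commutatorElement_eq_one_iff_mul_comm.1 h2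
    have hle2 : Nat.card D ≤ Nat.card Bool := by
      refine Nat.card_le_card_of_surjective (fun b : Bool => if b then c else 1) fun x => ?_
      rcases hzc x (hab x) with rfl | rfl
      · exact ⟨false, rfl⟩
      · exact ⟨true, rfl⟩
    rw [h8, Nat.card_eq_fintype_card, Fintype.card_bool] at hle2
    omega
  refine ⟨i, ?_⟩
  rw [← he, hbq, mul_one, ← hi]
  exact pow_orderOf_eq_one bp

/-- A saturated system whose Sylow group is normal with 2-group automizer is inner. -/
theorem isInner_of_isNormal_of_pGroup {Ω : Type*} [Group Ω] {S : Subgroup Ω} [Finite S] {p : ℕ}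
    [Fact p.Prime] (hS : IsPGroup p S) {F : FusionSystem S} (hF : F.IsSaturated p) (hSn : F.IsNormal S)
    (ha : IsPGroup p (F.autGroup S)) : IsInner F := by
  obtain ⟨-, hidx⟩ := (isFullyAutomized_iff hS).mp
    (fullyNormalized_props hS hF (fullyNormalized_of_isNormal hSn)).2.1
  haveI : Finite (F.autGroup S) := inferInstance
  have hle : F.autGroup S ≤ autInducedBy S S := by
    rw [← Subgroup.subgroupOf_eq_top, ← Subgroup.index_eq_one]
    obtain ⟨k, hk⟩ := ha.index ((autInducedBy S S).subgroupOf (F.autGroup S))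
    rcases k with _ | k
    · simpa using hk
    · exfalso
      refine hidx ?_
      rw [Subgroup.relIndex, hk]
      exact dvd_pow_self p k.succ_ne_zero
  intro P f hf
  obtain ⟨k, hk, hkf, hki⟩ := extend_of_isNormal hSn hf
  obtain ⟨α, hα, hαe⟩ := (hk.mono le_sup_right).exists_aut hki
  obtain ⟨g, hg, eg⟩ := mem_autInducedBy.mp (hle hα)
  refine ⟨g, hg, fun x hx => ?_⟩
  rw [← hkf x hx, ← hαe x (hf.le hx), autFun_apply_mem _ (hf.le hx)]
  exact eg ⟨x, hf.le hx⟩

end Cfsg.Lib.Fusion
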