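import Cfsg.Agent.Fusion.NormalCriteria
import Cfsg.Agent.Fusion.Puig

/-!
Every map of a saturated system agrees modulo a strongly closed subgroup `K` with a map whose source
contains `K`.
-/

set_option autoImplicit false

namespace Cfsg.Lib.Fusion

open Cfsg Cfsg.FusionSystem

variable {Ω : Type*} [Group Ω] {S : Subgroup Ω} {F : FusionSystem S} {p : ℕ}

/-- `f` agrees modulo `K` with a map defined on `P ⊔ K`. -/
def LiftsMod (F : FusionSystem S) (K P : Subgroup Ω) (f : Ω → Ω) : Prop :=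
  ∃ g, IsMap F (P ⊔ K) g ∧ ∀ x ∈ P, (f x)⁻¹ * g x ∈ K

theorem isMapClass_liftsMod [Finite S] {K : Subgroup Ω} (hK : F.StronglyClosed K) :
    IsMapClass F (LiftsMod F K) where
  conj P g hP hg := ⟨_, isMap_conj (sup_le hP hK.1) hg, fun x _ => by
    rw [inv_mul_cancel]; exact K.one_mem⟩
  congr := fun P f f' _ e ⟨g, hg, h⟩ => ⟨g, hg, fun x hx => e x hx ▸ h x hx⟩
  mono := fun P R f _ hR ⟨g, hg, h⟩ =>
    ⟨g, hg.mono (sup_le_sup_right hR K), fun x hx => h x (hR hx)⟩
  comp := by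
    rintro P Q f f' hf hf' hfQ ⟨g, hg, h⟩ ⟨g', hg', h'⟩
    have hgK : ∀ x ∈ P, g x ∈ Q ⊔ K := fun x hx => by
      have := Subgroup.mul_mem (Q ⊔ K) (Subgroup.mem_sup_left (hfQ x hx))
        (Subgroup.mem_sup_right (h x hx))
      rwa [mul_inv_cancel_left] at this
    have hle : ∀ y ∈ P ⊔ K, g y ∈ Q ⊔ K := by
      refine IsMap.img_le_iff.mp ?_
      rw [hg.img_sup]
      exact sup_le (IsMap.img_le_iff.mpr hgK) (IsMap.img_le_iff.mpr fun y hy =>
        Subgroup.mem_sup_right (stronglyClosed_apply hK hg (Subgroup.mem_sup_right hy) hy))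
    refine ⟨g' ∘ g, hg.comp hg' hle, fun x hx => ?_⟩
    show (f' (f x))⁻¹ * g' (g x) ∈ K
    have h1 : g' ((f x)⁻¹ * g x) ∈ K :=
      stronglyClosed_apply hK hg' (Subgroup.mem_sup_right (h x hx)) (h x hx)
    have h2 : g x = f x * ((f x)⁻¹ * g x) := by group
    rw [h2, hg'.map_mul (Subgroup.mem_sup_left (hfQ x hx)) (Subgroup.mem_sup_right (h x hx)),
      ← mul_assoc]
    exact K.mul_mem (h' _ (hfQ x hx)) h1
  inv := by
    rintro P f f' hf hf' hl ⟨g, hg, h⟩
    obtain ⟨k, hk, -, hkl, -⟩ := hg.exists_inv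
    have hKg : img K g = K :=
      img_eq_of_apply hg le_sup_right fun x hx =>
        stronglyClosed_apply hK hg (Subgroup.mem_sup_right hx) hx
    have himg : img P f ⊔ K = img (P ⊔ K) g := by
      rw [hg.img_sup, hKg]
      refine le_antisymm (sup_le (IsMap.img_le_iff.mpr fun x hx => ?_) le_sup_right)
        (sup_le (IsMap.img_le_iff.mpr fun x hx => ?_) le_sup_right)
      · have := Subgroup.mul_mem (img P g ⊔ K)
          (Subgroup.mem_sup_left (IsMap.apply_mem_img hx))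
          (Subgroup.mem_sup_right (K.inv_mem (h x hx)))
        simpa [mul_assoc] using this
      · have := Subgroup.mul_mem (img P f ⊔ K)
          (Subgroup.mem_sup_left (IsMap.apply_mem_img hx)) (Subgroup.mem_sup_right (h x hx))
        rwa [mul_inv_cancel_left] at this
    refine ⟨k, himg ▸ hk, fun y hy => ?_⟩
    obtain ⟨x, hx, rfl⟩ := hf.mem_img.mp hy
    have hgx : g x ∈ img (P ⊔ K) g := IsMap.apply_mem_img (Subgroup.mem_sup_left hx)
    have hc : (f x)⁻¹ * g x ∈ img (P ⊔ K) g := by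
      rw [← himg]
      exact Subgroup.mem_sup_right (h x hx)
    have h1 : k ((f x)⁻¹ * g x) ∈ K := stronglyClosed_apply hK hk hc (h x hx)
    have h2 : f x = g x * ((f x)⁻¹ * g x)⁻¹ := by group
    rw [hl x hx]
    conv => enter [2, 2]; rw [h2]
    rw [hk.map_mul hgx (Subgroup.inv_mem _ hc), hk.map_inv hc, hkl x (Subgroup.mem_sup_left hx),
      inv_mul_cancel_left]
    exact K.inv_mem h1

/-- Every map agrees modulo a strongly closed subgroup with a map defined on it too. -/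
theorem liftsMod [Finite S] [Fact p.Prime] (hS : IsPGroup p S) (hF : F.IsSaturated p)
    {K : Subgroup Ω} (hK : F.StronglyClosed K) {P : Subgroup Ω} {f : Ω → Ω} (hf : IsMap F P f) :
    LiftsMod F K P f := by
  have hΦ := isMapClass_liftsMod (F := F) hK
  refine alperin_induction hS hF hΦ (fun g hg => ⟨g, by rwa [sup_eq_left.mpr hK.1], fun x _ => by
    rw [inv_mul_cancel]; exact K.one_mem⟩) ?_ hf
  intro Q hQS hQn hQc hIH α hα
  have hQ := hQn.1
  have hαm : IsMap F Q (autFun α) := (isMap_autFun hQ).mpr hα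
  by_cases hKQ : K ≤ Q
  · exact ⟨autFun α, by rwa [sup_eq_left.mpr hKQ], fun x _ => by
      rw [inv_mul_cancel]; exact K.one_mem⟩
  -- an element of `K` inducing an outer automorphism
  have hlt : Q < Q ⊔ K := lt_of_le_of_ne le_sup_left fun h => hKQ (h ▸ le_sup_right)
  obtain ⟨t, ⟨ht, htn⟩, htQ⟩ := SetLike.exists_of_lt (lt_inf_normalizer hS hlt (sup_le hQ hK.1))
  have hQK : Q ≤ Subgroup.normalizer (K : Set Ω) := hQ.trans (normalizes_of_stronglyClosed hK)
  have ht' : t ∈ ((Q ⊔ K : Subgroup Ω) : Set Ω) := ht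
  rw [Subgroup.coe_mul_of_left_le_normalizer_right _ _ hQK] at ht'
  obtain ⟨q, hq, c, hc, rfl⟩ := ht'
  have hcn : c ∈ Subgroup.normalizer (Q : Set Ω) := by
    have := Subgroup.mul_mem _ (Subgroup.inv_mem _ (Subgroup.le_normalizer hq)) htn
    rwa [inv_mul_cancel_left] at this
  have hcQ : c ∉ Q := fun h => htQ (Q.mul_mem hq h)
  let N : Subgroup (MulAut Q) :=
    { carrier := {β | ∀ x ∈ Q, x⁻¹ * autFun β x ∈ K}
      one_mem' := fun x hx => by rw [autFun_apply_mem _ hx]; simp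
      mul_mem' := fun {β γ} hβ hγ x hx => by
        rw [autFun_mul _ _ hx]
        have := K.mul_mem (hγ x hx) (hβ _ (autFun_mem γ hx))
        rwa [mul_assoc, mul_inv_cancel_left] at this
      inv_mem' := fun {β} hβ x hx => by
        have := K.inv_mem (hβ _ (autFun_mem β⁻¹ hx))
        rwa [autFun_inv_apply β hx, mul_inv_rev, inv_inv] at this }
  have hNn : ∀ γ ∈ F.autGroup Q, ∀ β ∈ N, γ * β * γ⁻¹ ∈ N := by
    intro γ hγ β hβ x hx
    have hm : IsMap F Q (autFun γ) := (isMap_autFun hQ).mpr hγ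
    set y := autFun γ⁻¹ x
    have hy : y ∈ Q := autFun_mem _ hx
    have h1 : y⁻¹ * autFun β y ∈ Q := Q.mul_mem (Q.inv_mem hy) (autFun_mem β hy)
    have h2 := stronglyClosed_apply hK hm h1 (hβ y hy)
    rw [hm.map_mul (Q.inv_mem hy) (autFun_mem β hy), hm.map_inv hy, autFun_inv_apply γ hx] at h2
    rwa [autFun_mul _ _ hx, autFun_mul _ _ (autFun_mem _ hx)]
  have hcS : c ∈ S := hK.1 hc
  have hβN : conjAut Q c hcn ∈ N := by
    intro x hx
    rw [autFun_apply_mem _ hx, conjAut_apply]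
    have h1 := K.mul_mem
      (conj_mem_of_mem_normalizer (Subgroup.inv_mem _ (hQK hx)) hc) (K.inv_mem hc)
    rw [inv_inv] at h1
    convert h1 using 1
    group
  have hβI : conjAut Q c hcn ∉ Inn Q := fun h =>
    hcQ (mem_of_inn (hQc.2 Q (isConj_refl hQ)) hcS hcn h hQ)
  obtain ⟨κ, hκ, hgood⟩ := site_reduce hS hF hΦ hQn hIH hNn
    (conjAut_mem_autInducedBy hcn hcS) hβN hβI α hα
  obtain ⟨-, g, hg, hgx⟩ := mem_goodAut.mp hgood
  refine ⟨g, hg, fun x hx => ?_⟩
  have h1 := hgx x hx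
  rw [autFun_mul _ _ hx] at h1
  have h2 := K.mul_mem (hκ.1 _ (autFun_mem α hx)) h1
  rwa [mul_assoc, mul_inv_cancel_left] at h2

theorem stronglyClosed_sup [Finite S] [Fact p.Prime] (hS : IsPGroup p S) (hF : F.IsSaturated p)
    {K U : Subgroup Ω} (hK : F.StronglyClosed K) (hU : U ≤ S)
    (h : ∀ (P : Subgroup Ω) (g : Ω → Ω), IsMap F P g → K ≤ P → ∀ u ∈ P, u ∈ U → g u ∈ K ⊔ U) :
    F.StronglyClosed (K ⊔ U) := by
  refine stronglyClosed_of_apply (sup_le hK.1 hU) fun P f hf x hx hxKU => ?_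
  obtain ⟨g, hg, hgx⟩ := liftsMod hS hF hK hf
  rw [← SetLike.mem_coe, Subgroup.coe_mul_of_right_le_normalizer_left _ _
    (hU.trans (normalizes_of_stronglyClosed hK))] at hxKU
  obtain ⟨k, hk, u, hu, rfl⟩ := hxKU
  have hkP : k ∈ P ⊔ K := Subgroup.mem_sup_right hk
  have huP : u ∈ P ⊔ K := by
    have := Subgroup.mul_mem _ (Subgroup.inv_mem _ hkP) (Subgroup.mem_sup_left (T := K) hx)
    rwa [inv_mul_cancel_left] at this
  have h1 : g (k * u) ∈ K ⊔ U := by
    rw [hg.map_mul hkP huP]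
    exact Subgroup.mul_mem _ (Subgroup.mem_sup_left (stronglyClosed_apply hK hg hkP hk))
      (h _ g hg le_sup_right u huP hu)
  have h2 := Subgroup.mul_mem _ h1 (Subgroup.mem_sup_left (K.inv_mem (hgx _ hx)) :
    _ ∈ K ⊔ U)
  simpa [mul_assoc] using h2

end Cfsg.Lib.Fusion
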