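import Cfsg.Agent.Fusion.Rigidity

/-!
Models: for a fully normalized centric subgroup `Q` there is a finite group containing `N_S(Q)` as
a Sylow subgroup, with `Q` normal and containing its centralizer, inducing exactly the maps of the
normalizer system of `Q`.

The group is a quotient of the monomial group on the cosets of `Aut_S(Q)` in `Aut_F(Q)` by the
kernel of the product map onto the centre of `Q`; `N_S(Q)` embeds into it by means of the
extensions of the coset representatives provided by saturation.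
-/

set_option autoImplicit false

namespace Cfsg.Lib.Fusion

open Cfsg Cfsg.FusionSystem
open scoped IsMulCommutative

universe u

variable {Ω : Type u} [Group Ω] {S : Subgroup Ω} {p : ℕ}

/-- The normalizer of `Q` in `S` as automorphisms of `Q` inside the automizer. -/
def toAutizer (F : FusionSystem S) {Q : Subgroup Ω} (hQ : Q ≤ S) :
    normalizerIn S Q →* F.autGroup Q :=
  (normalizerInHom S Q).codRestrict _ fun g =>
    autInducedBy_le hQ (range_normalizerInHom (S := S) Q ▸ ⟨g, rfl⟩)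

variable {F : FusionSystem S}

theorem toAutizer_apply {Q : Subgroup Ω} (hQ : Q ≤ S) (g : normalizerIn S Q) (x : Q) :
    ((((toAutizer F hQ g : F.autGroup Q) : MulAut Q) x : Q) : Ω) = g * x * (g : Ω)⁻¹ := rfl

theorem range_toAutizer {Q : Subgroup Ω} (hQ : Q ≤ S) :
    (toAutizer F hQ).range = (autInducedBy S Q).subgroupOf (F.autGroup Q) := by
  ext a
  rw [Subgroup.mem_subgroupOf, ← range_normalizerInHom (S := S) Q]
  exact ⟨fun ⟨g, hg⟩ => ⟨g, congrArg Subtype.val hg⟩, fun ⟨g, hg⟩ => ⟨g, Subtype.ext hg⟩⟩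

/-- The coset space of `Aut_S(Q)` in `Aut_F(Q)`. -/
abbrev AutCosets (F : FusionSystem S) {Q : Subgroup Ω} (hQ : Q ≤ S) : Type u :=
  F.autGroup Q ⧸ (toAutizer F hQ).range

theorem finite_autCosets [Finite S] {Q : Subgroup Ω} (hQ : Q ≤ S) : Finite (AutCosets F hQ) := by
  have := finite_of_le hQ
  exact Quotient.finite _

theorem extSub_aut_eq {Q : Subgroup Ω} (hQ : Q ≤ S) (t : F.autGroup Q) (s : normalizerIn S Q)
    (hs : toAutizer F hQ s • (QuotientGroup.mk t : AutCosets F hQ) = QuotientGroup.mk t) :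
    (s : Ω) ∈ extSub S Q (autFun ((t⁻¹ : F.autGroup Q) : MulAut Q)) := by
  change QuotientGroup.mk (toAutizer F hQ s * t) = QuotientGroup.mk t at hs
  rw [eq_comm, QuotientGroup.eq] at hs
  obtain ⟨h, hh⟩ := hs
  refine ⟨s.2.1, s.2.2, h, h.2.1, fun x hx => ?_⟩
  have hx' := autFun_mem ((t⁻¹ : F.autGroup Q) : MulAut Q) hx
  have h1 := congrArg (fun a : F.autGroup Q =>
    (((a : MulAut Q) ⟨_, hx'⟩ : Q) : Ω)) hh
  rw [toAutizer_apply] at h1
  simp only [autFun_apply_mem _ hx] at h1 ⊢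
  refine Eq.trans ?_ h1.symm
  rw [autFun_apply_mem _ (conj_mem_of_mem_normalizer s.2.2 hx)]
  show (((t⁻¹ : F.autGroup Q) : MulAut Q) ⟨(s : Ω) * x * (s : Ω)⁻¹, _⟩ : Ω) =
    (((t⁻¹ : F.autGroup Q) : MulAut Q) ((toAutizer F hQ s : MulAut Q) ((t : MulAut Q)
      ⟨(((t⁻¹ : F.autGroup Q) : MulAut Q) ⟨x, hx⟩ : Q), _⟩)) : Ω)
  have h2 : ((t : MulAut Q) ⟨(((t⁻¹ : F.autGroup Q) : MulAut Q) ⟨x, hx⟩ : Q), SetLike.coe_mem _⟩)
      = ⟨x, hx⟩ := MulAut.apply_inv_self Q (t : MulAut Q) ⟨x, hx⟩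
  rw [h2]
  congr 1

theorem toAutizer_eq_one_iff {Q : Subgroup Ω} (hQ : Q ≤ S) (z : normalizerIn S Q) :
    toAutizer F hQ z = 1 ↔ (z : Ω) ∈ centralizerIn S Q := by
  rw [mem_centralizerIn]
  constructor
  · intro h
    refine ⟨z.2.1, fun q hq => ?_⟩
    have := congrArg (fun a : F.autGroup Q => (((a : MulAut Q) ⟨q, hq⟩ : Q) : Ω)) h
    simpa [toAutizer_apply] using this
  · intro h
    refine Subtype.ext (MulEquiv.ext fun q => Subtype.ext ?_)
    rw [toAutizer_apply]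
    exact h.2 q q.2

theorem autCosets_smul_eq_iff {Q : Subgroup Ω} (hQ : Q ≤ S) (a t t' : F.autGroup Q) :
    a • (QuotientGroup.mk t : AutCosets F hQ) = QuotientGroup.mk t' ↔
      ∃ s : normalizerIn S Q, a * t = t' * toAutizer F hQ s := by
  change QuotientGroup.mk (a * t) = QuotientGroup.mk t' ↔ _
  rw [eq_comm, QuotientGroup.eq]
  exact ⟨fun ⟨s, hs⟩ => ⟨s, by rw [hs, mul_inv_cancel_left]⟩,
    fun ⟨s, hs⟩ => ⟨s, by rw [hs, inv_mul_cancel_left]⟩⟩

theorem smul_autCosets_of_mem {Q : Subgroup Ω} (hQ : Q ≤ S) (s : normalizerIn S Q)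
    (hs : (s : Ω) ∈ Q) (ω : AutCosets F hQ) : toAutizer F hQ s • ω = ω := by
  induction ω using QuotientGroup.induction_on with
  | H t =>
    rw [autCosets_smul_eq_iff]
    have hmem := autFun_mem ((t⁻¹ : F.autGroup Q) : MulAut Q) hs
    refine ⟨⟨_, le_normalizerIn hQ hmem⟩, Subtype.ext (MulEquiv.ext fun x => Subtype.ext ?_)⟩
    show ((toAutizer F hQ s : MulAut Q) ((t : MulAut Q) x) : Ω) =
      ((t : MulAut Q) ((toAutizer F hQ _ : MulAut Q) x) : Ω)
    rw [toAutizer_apply]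
    have : (toAutizer F hQ ⟨_, le_normalizerIn hQ hmem⟩ : MulAut Q) x =
        ⟨_, hmem⟩ * x * (⟨_, hmem⟩ : Q)⁻¹ := Subtype.ext (toAutizer_apply hQ _ x)
    rw [this, map_mul, map_mul, map_inv (t : MulAut Q), Subgroup.coe_mul, Subgroup.coe_mul]
    have h2 : (t : MulAut Q) ⟨_, hmem⟩ = ⟨(s : Ω), hs⟩ := by
      have e : (⟨_, hmem⟩ : Q) = ((t⁻¹ : F.autGroup Q) : MulAut Q) ⟨(s : Ω), hs⟩ :=
        Subtype.ext (autFun_apply_mem _ hs)
      exact (congrArg (fun z => (t : MulAut Q) z) e).trans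
        (MulAut.apply_inv_self Q (t : MulAut Q) _)
    rw [h2]
    rfl

/-- Orbit representatives with translating elements. -/
theorem exists_orbit_reps (G : Type*) [Group G] (α : Type*) [MulAction G α] :
    ∃ (rep : α → α) (u : α → G),
      (∀ ω, u ω • rep ω = ω) ∧ ∀ (g : G) ω, rep (g • ω) = rep ω := by
  let rep : α → α := fun ω => (Quotient.mk (MulAction.orbitRel G α) ω).out
  have hrep : ∀ ω, ω ∈ MulAction.orbit G (rep ω) := fun ω =>
    MulAction.orbitRel_apply.mp ((MulAction.orbitRel G α).iseqv.symm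
      (Quotient.mk_out (s := MulAction.orbitRel G α) ω))
  choose u hu using hrep
  exact ⟨rep, u, hu, fun g ω => congrArg Quotient.out
    (Quotient.sound (MulAction.orbitRel_apply.mpr ⟨g, rfl⟩))⟩

/-- The choices made in the construction. -/
structure ModelData (F : FusionSystem S) {Q : Subgroup Ω} (hQ : Q ≤ S) where
  /-- coset representatives -/
  t : AutCosets F hQ → F.autGroup Q
  ht : ∀ ω, QuotientGroup.mk (t ω) = ω
  /-- the cocycle -/
  f : normalizerIn S Q → AutCosets F hQ → normalizerIn S Q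
  hom : ∀ s s' ω, f (s * s') ω = f s (toAutizer F hQ s' • ω) * f s' ω
  cond : ∀ s ω, toAutizer F hQ s * t ω = t (toAutizer F hQ s • ω) * toAutizer F hQ (f s ω)
  /-- on `Q` the cocycle undoes the representative -/
  onQ : ∀ (s : normalizerIn S Q) ω, (s : Ω) ∈ Q →
    (f s ω : Ω) = autFun ((t ω)⁻¹ : F.autGroup Q).1 s
  /-- on a stabiliser the cocycle is a map of the system -/
  isMap : ∀ ω, ∃ (R : Subgroup Ω) (k : Ω → Ω), IsMap F R k ∧ ∀ s : normalizerIn S Q,
    toAutizer F hQ s • ω = ω → (s : Ω) ∈ R ∧ (f s ω : Ω) = k s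

theorem exists_modelData [Finite S] {Q : Subgroup Ω} (hQ : F.IsReceptive Q) :
    Nonempty (ModelData F hQ.1) := by
  classical
  set T := normalizerIn S Q
  set c := toAutizer F hQ.1 with hc
  let C := AutCosets F hQ.1
  letI : MulAction T C := MulAction.compHom C c
  let rep : C → C := fun ω =>
    (Quotient.mk (MulAction.orbitRel T C) ω).out
  have hrep : ∀ ω, ω ∈ MulAction.orbit T (rep ω) := fun ω =>
    MulAction.orbitRel_apply.mp ((MulAction.orbitRel T C).iseqv.symm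
      (Quotient.mk_out (s := MulAction.orbitRel T C) ω))
  choose uu huu' using hrep
  have huu : ∀ ω, uu ω • rep ω = ω := huu'
  have hrep_smul : ∀ (s : T) ω, rep (s • ω) = rep ω := fun s ω =>
    congrArg Quotient.out (Quotient.sound (MulAction.orbitRel_apply.mpr ⟨s, rfl⟩))
  let t0 : C → F.autGroup Q := fun ω => Quotient.out ω
  have ht0 : ∀ ω, QuotientGroup.mk (t0 ω) = ω := fun ω => QuotientGroup.out_eq' ω
  have hext : ∀ ω : C, ∃ k,
      IsMap F (extSub S Q (autFun ((t0 ω)⁻¹ : F.autGroup Q).1)) k ∧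
        ∀ x ∈ Q, k x = autFun ((t0 ω)⁻¹ : F.autGroup Q).1 x := fun ω =>
    receptive_extend hQ ((isMap_autFun hQ.1).mpr (SetLike.coe_mem _)) (img_autFun _)
  choose e he heag using hext
  have hstab : ∀ (s : T) ω, s • rep ω = rep ω →
      (s : Ω) ∈ extSub S Q (autFun ((t0 (rep ω))⁻¹ : F.autGroup Q).1) := fun s ω hs =>
    extSub_aut_eq hQ.1 _ s (by rw [ht0]; exact hs)
  let w : T → C → T := fun s ω => (uu (s • ω))⁻¹ * s * uu ω
  have hw : ∀ s ω, w s ω • rep ω = rep ω := by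
    intro s ω
    show ((uu (s • ω))⁻¹ * s * uu ω) • rep ω = rep ω
    rw [mul_smul, mul_smul, huu ω, inv_smul_eq_iff]
    have := huu (s • ω)
    rw [hrep_smul] at this
    exact this.symm
  have heT : ∀ (s : T) ω, s • rep ω = rep ω → e (rep ω) s ∈ T := by
    intro s ω hs
    have hm := he (rep ω)
    have hQi : img Q (e (rep ω)) = Q := (img_congr (heag _)).trans (img_autFun _)
    have h := hm.mem_normalizerIn
      (le_extSub ((isMap_autFun hQ.1).mpr (SetLike.coe_mem _))) (hstab s ω hs) s.2.2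
    rw [hQi] at h
    exact h
  let f : T → C → T := fun s ω => ⟨e (rep ω) (w s ω), heT _ ω (hw s ω)⟩
  refine ⟨⟨fun ω => c (uu ω) * t0 (rep ω), fun ω => ?_, f, ?_, ?_, ?_, ?_⟩⟩
  · show QuotientGroup.mk (c (uu ω) * t0 (rep ω)) = ω
    calc (QuotientGroup.mk (c (uu ω) * t0 (rep ω)) : C)
        = uu ω • (QuotientGroup.mk (t0 (rep ω)) : C) := rfl
      _ = ω := by rw [ht0]; exact huu ω
  · intro s s' ω
    apply Subtype.ext
    show e (rep ω) (w (s * s') ω) = e (rep (s' • ω)) (w s (s' • ω)) * e (rep ω) (w s' ω)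
    rw [hrep_smul]
    have h1 : w s (s' • ω) • rep ω = rep ω := by
      have := hw s (s' • ω)
      rwa [hrep_smul] at this
    rw [← (he (rep ω)).map_mul (hstab _ ω h1) (hstab _ ω (hw s' ω)), ← Subgroup.coe_mul]
    congr 2
    show (uu ((s * s') • ω))⁻¹ * (s * s') * uu ω =
      (uu (s • s' • ω))⁻¹ * s * uu (s' • ω) * ((uu (s' • ω))⁻¹ * s' * uu ω)
    rw [mul_smul]
    group
  · intro s ω
    have key : c (f s ω) = (t0 (rep ω))⁻¹ * c (w s ω) * t0 (rep ω) := by
      refine Subtype.ext (MulEquiv.ext fun x => Subtype.ext ?_)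
      obtain ⟨x, hx⟩ := x
      have hy : autFun ((t0 (rep ω) : F.autGroup Q) : MulAut Q) x ∈ Q := autFun_mem _ hx
      have h1 := hstab _ ω (hw s ω)
      have hQext := le_extSub (S := S) (F := F)
        ((isMap_autFun hQ.1).mpr (SetLike.coe_mem ((t0 (rep ω))⁻¹ : F.autGroup Q)))
      have h2 := (he (rep ω)).map_conj h1 (hQext hy)
      rw [heag _ _ hy, heag _ _ (conj_mem_of_mem_normalizer (w s ω).2.2 hy)] at h2
      have hback : autFun ((t0 (rep ω))⁻¹ : F.autGroup Q).1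
          (autFun ((t0 (rep ω) : F.autGroup Q) : MulAut Q) x) = x := by
        rw [← autFun_mul _ _ hx, ← Subgroup.coe_mul, inv_mul_cancel, autFun_apply_mem _ hx]
        rfl
      rw [hback] at h2
      show e (rep ω) (w s ω) * x * (e (rep ω) (w s ω))⁻¹ = _
      rw [← h2, autFun_apply_mem _ (conj_mem_of_mem_normalizer (w s ω).2.2 hy)]
      simp only [Subgroup.coe_mul, MulAut.mul_apply]
      congr 2
      refine Subtype.ext ?_
      rw [toAutizer_apply, ← autFun_apply]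
    show c s * (c (uu ω) * t0 (rep ω)) =
      c (uu (s • ω)) * t0 (rep (s • ω)) * c (f s ω)
    rw [hrep_smul, key]
    simp only [w, map_mul, map_inv]
    group
  · intro s ω hs
    have hfix : s • ω = ω := smul_autCosets_of_mem hQ.1 s hs ω
    have hmem : (uu ω : Ω)⁻¹ * s * (uu ω : Ω) ∈ Q := by
      simpa using conj_mem_of_mem_normalizer (inv_mem (uu ω).2.2) hs
    show e (rep ω) ((uu (s • ω))⁻¹ * s * uu ω : T) = _
    rw [hfix, Subgroup.coe_mul, Subgroup.coe_mul, Subgroup.coe_inv, heag _ _ hmem, mul_inv_rev,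
      Subgroup.coe_mul, autFun_mul _ _ hs]
    congr 1
    rw [autFun_apply_mem _ hs, ← map_inv, toAutizer_apply]
    simp
  · intro ω
    refine ⟨(extSub S Q (autFun ((t0 (rep ω))⁻¹ : F.autGroup Q).1)).map
      (MulAut.conj (uu ω : Ω)).toMonoidHom,
      fun x => e (rep ω) ((uu ω : Ω)⁻¹ * x * (uu ω : Ω)), ?_, ?_⟩
    · have hle : (extSub S Q (autFun ((t0 (rep ω))⁻¹ : F.autGroup Q).1)).map
          (MulAut.conj (uu ω : Ω)).toMonoidHom ≤ S :=
        map_le_of_conj fun x hx => S.mul_mem (S.mul_mem (uu ω).2.1 hx.1) (S.inv_mem (uu ω).2.1)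
      refine ((isMap_conj hle (S.inv_mem (uu ω).2.1)).comp (he (rep ω)) ?_).congr fun x hx => ?_
      · rintro _ ⟨y, hy, rfl⟩
        simpa [mul_assoc] using hy
      · simp
    · intro s hs
      have hs' : s • ω = ω := hs
      have h1 := hstab _ ω (hw s ω)
      have h2 : w s ω = (uu ω)⁻¹ * s * uu ω := by
        show (uu (s • ω))⁻¹ * s * uu ω = _
        rw [hs']
      refine ⟨⟨_, h1, ?_⟩, ?_⟩
      · rw [h2]
        show (uu ω : Ω) * ((uu ω : Ω)⁻¹ * s * uu ω) * (uu ω : Ω)⁻¹ = s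
        group
      · show e (rep ω) (w s ω) = _
        rw [h2]
        rfl
where
  map_le_of_conj {A B : Subgroup Ω} {g : Ω} (h : ∀ x ∈ A, g * x * g⁻¹ ∈ B) :
      A.map (MulAut.conj g).toMonoidHom ≤ B := by
    rintro _ ⟨x, hx, rfl⟩
    exact h x hx

namespace ModelData

variable {Q : Subgroup Ω} {hQ : Q ≤ S} (D : ModelData F hQ)

/-- The monomial group. -/
structure Mono where
  /-- the automorphism -/
  a : F.autGroup Q
  /-- the entries -/
  g : AutCosets F hQ → normalizerIn S Q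
  cond : ∀ ω, a * D.t ω = D.t (a • ω) * toAutizer F hQ (g ω)

variable {D}

theorem Mono.ext' {x y : D.Mono} (h1 : x.a = y.a) (h2 : x.g = y.g) : x = y := by
  cases x; cases y; cases h1; cases h2; rfl

instance : One D.Mono := ⟨⟨1, fun _ => 1, fun ω => by simp⟩⟩

instance : Mul D.Mono :=
  ⟨fun x y => ⟨x.a * y.a, fun ω => x.g (y.a • ω) * y.g ω, fun ω => by
    rw [mul_assoc, y.cond, ← mul_assoc, x.cond, mul_assoc, map_mul, mul_smul]⟩⟩

instance : Inv D.Mono :=
  ⟨fun x => ⟨x.a⁻¹, fun ω => (x.g (x.a⁻¹ • ω))⁻¹, fun ω => by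
    rw [map_inv, eq_mul_inv_iff_mul_eq, mul_assoc, inv_mul_eq_iff_eq_mul, x.cond, smul_inv_smul]⟩⟩

instance : Group D.Mono := Group.ofLeftAxioms
  (fun x y z => Mono.ext' (mul_assoc x.a y.a z.a) (funext fun ω => by
    show x.g (y.a • z.a • ω) * y.g (z.a • ω) * z.g ω = _
    rw [← mul_smul, mul_assoc (x.g _)]
    rfl))
  (fun x => Mono.ext' (one_mul x.a) (funext fun ω => one_mul (x.g ω)))
  (fun x => Mono.ext' (inv_mul_cancel x.a) (funext fun ω => by
    show (x.g (x.a⁻¹ • x.a • ω))⁻¹ * x.g ω = 1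
    rw [inv_smul_smul, inv_mul_cancel]))

theorem Mono.mul_a (x y : D.Mono) : (x * y).a = x.a * y.a := rfl

theorem Mono.mul_g (x y : D.Mono) (ω : AutCosets F hQ) :
    (x * y).g ω = x.g (y.a • ω) * y.g ω := rfl

instance [Finite S] : Finite (AutCosets F hQ) := finite_autCosets hQ

instance [Finite S] : Finite D.Mono := by
  have := finite_of_le hQ
  have : Finite (normalizerIn S Q) := finite_of_le inf_le_left
  exact Finite.of_injective (fun x : D.Mono => (x.a, x.g))
    fun x y h => Mono.ext' (congrArg Prod.fst h) (congrArg Prod.snd h)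

variable (D)

/-- The automorphism of an element. -/
def proj : D.Mono →* F.autGroup Q where
  toFun x := x.a
  map_one' := rfl
  map_mul' _ _ := rfl

/-- The embedding of the normalizer. -/
def emb : normalizerIn S Q →* D.Mono where
  toFun s := ⟨toAutizer F hQ s, D.f s, D.cond s⟩
  map_one' := Mono.ext' (map_one _) (funext fun ω => by
    have h := D.hom 1 1 ω
    rw [mul_one, map_one, one_smul] at h
    exact mul_eq_left.mp h.symm)
  map_mul' s s' := Mono.ext' (map_mul _ s s') (funext fun ω => D.hom s s' ω)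

theorem exists_proj_eq (a : F.autGroup Q) : ∃ x : D.Mono, x.a = a := by
  have : ∀ ω, ∃ s, a * D.t ω = D.t (a • ω) * toAutizer F hQ s := fun ω =>
    (autCosets_smul_eq_iff hQ a (D.t ω) (D.t (a • ω))).mp (by rw [D.ht, D.ht])
  choose g hg using this
  exact ⟨⟨a, g, hg⟩, rfl⟩

theorem toAutizer_f (s : normalizerIn S Q) (hs : (s : Ω) ∈ Q) (ω : AutCosets F hQ) :
    toAutizer F hQ (D.f s ω) = (D.t ω)⁻¹ * toAutizer F hQ s * D.t ω := by
  rw [mul_assoc, D.cond, smul_autCosets_of_mem hQ s hs ω, inv_mul_cancel_left]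

/-- Conjugation on the image of `Q`. -/
theorem conj_emb (y : D.Mono) (s s' : normalizerIn S Q) (hs : (s : Ω) ∈ Q)
    (h : (s' : Ω) = autFun (y.a : MulAut Q) s) : y * D.emb s = D.emb s' * y := by
  have hs' : (s' : Ω) ∈ Q := h ▸ autFun_mem _ hs
  have ha : y.a * toAutizer F hQ s = toAutizer F hQ s' * y.a := by
    refine Subtype.ext (MulEquiv.ext fun x => Subtype.ext ?_)
    show ((y.a : MulAut Q) ((toAutizer F hQ s : MulAut Q) x) : Ω) =
      ((toAutizer F hQ s' : MulAut Q) ((y.a : MulAut Q) x) : Ω)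
    rw [toAutizer_apply, h, autFun_apply_mem _ hs]
    have : (toAutizer F hQ s : MulAut Q) x = ⟨_, hs⟩ * x * (⟨_, hs⟩ : Q)⁻¹ :=
      Subtype.ext (toAutizer_apply hQ s x)
    rw [this, map_mul, map_mul, map_inv]
    rfl
  refine Mono.ext' ha (funext fun ω => Subtype.ext ?_)
  show (y.g (toAutizer F hQ s • ω) * D.f s ω : normalizerIn S Q) =
    ((D.f s' (y.a • ω) * y.g ω : normalizerIn S Q) : Ω)
  rw [smul_autCosets_of_mem hQ s hs ω, Subgroup.coe_mul, Subgroup.coe_mul, D.onQ s ω hs,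
    D.onQ s' _ hs', h, ← autFun_mul _ _ hs]
  have hc := congrArg (fun a : F.autGroup Q => (a : MulAut Q)) (show toAutizer F hQ (y.g ω) *
    (D.t ω)⁻¹ = (D.t (y.a • ω))⁻¹ * y.a by
      rw [mul_inv_eq_iff_eq_mul, mul_assoc, y.cond, inv_mul_cancel_left])
  have hm := autFun_mem ((D.t ω)⁻¹ : F.autGroup Q).1 hs
  have key : (y.g ω : Ω) * autFun ((D.t ω)⁻¹ : F.autGroup Q).1 s * (y.g ω : Ω)⁻¹ =
      autFun (((D.t (y.a • ω))⁻¹ : F.autGroup Q).1 * (y.a : MulAut Q)) s := by
    rw [← Subgroup.coe_mul, ← show ((toAutizer F hQ (y.g ω) * (D.t ω)⁻¹ : F.autGroup Q) : MulAut Q)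
      = _ from hc, Subgroup.coe_mul, autFun_mul _ _ hs, autFun_apply_mem _ hm, toAutizer_apply]
  rw [← key]
  group

section kernel

variable (hC : centralizerIn S Q ≤ Q)

/-- The kernel of the conjugation map, inside the centre of `Q`. -/
def kerCenter : (toAutizer F hQ).ker →* Subgroup.center Q where
  toFun z := ⟨⟨(z : normalizerIn S Q).1, hC ((toAutizer_eq_one_iff hQ _).mp z.2)⟩,
    Subgroup.mem_center_iff.mpr fun q => Subtype.ext (by
      have h := (mem_centralizerIn.mp ((toAutizer_eq_one_iff hQ z.1).mp z.2)).2 q q.2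
      exact (mul_inv_eq_iff_eq_mul.mp h).symm)⟩
  map_one' := rfl
  map_mul' _ _ := rfl

theorem kerCenter_coe (z : (toAutizer F hQ).ker) :
    (((kerCenter (hQ := hQ) hC z : Subgroup.center Q) : Q) : Ω) = (z : normalizerIn S Q).1 := rfl

/-- The action on the centre. -/
def actCenter (a : MulAut Q) : Subgroup.center Q →* Subgroup.center Q where
  toFun z := ⟨a z.1, Subgroup.mem_center_iff.mpr fun q => by
    obtain ⟨q, rfl⟩ := a.surjective q
    rw [← map_mul, ← map_mul, Subgroup.mem_center_iff.mp z.2 q]⟩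
  map_one' := Subtype.ext (map_one a)
  map_mul' x y := Subtype.ext (map_mul a x.1 y.1)

theorem g_mem_ker (x : D.proj.ker) (ω : AutCosets F hQ) :
    x.1.g ω ∈ (toAutizer F hQ).ker := by
  have h := x.1.cond ω
  rw [show x.1.a = 1 from x.2, one_mul, one_smul] at h
  exact MonoidHom.mem_ker.mpr (left_eq_mul.mp h)

variable [Finite S]

/-- The product map onto the centre of `Q`. -/
noncomputable def zeta : D.proj.ker →* Subgroup.center Q :=
  letI := Fintype.ofFinite (AutCosets F hQ)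
  { toFun := fun x => ∏ ω, actCenter (D.t ω : MulAut Q) (kerCenter hC ⟨_, D.g_mem_ker x ω⟩)
    map_one' := Finset.prod_eq_one fun ω _ => by
      rw [← map_one (actCenter (D.t ω : MulAut Q)), ← map_one (kerCenter (hQ := hQ) hC)]
      rfl
    map_mul' := fun x y => by
      rw [← Finset.prod_mul_distrib]
      refine Finset.prod_congr rfl fun ω _ => ?_
      rw [← map_mul, ← map_mul]
      congr 2
      refine Subtype.ext ?_
      show x.1.g (y.1.a • ω) * y.1.g ω = _
      rw [show y.1.a = 1 from y.2, one_smul]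
      rfl }

theorem zeta_conj (y : D.Mono) (x : D.proj.ker) (hx : y * x.1 * y⁻¹ ∈ D.proj.ker) :
    D.zeta hC ⟨_, hx⟩ = actCenter (y.a : MulAut Q) (D.zeta hC x) := by
  letI := Fintype.ofFinite (AutCosets F hQ)
  show ∏ ω, _ = actCenter (y.a : MulAut Q) (∏ ω, _)
  rw [map_prod]
  refine (Fintype.prod_equiv (MulAction.toPerm y.a) _ _ fun ω => ?_).symm
  refine Subtype.ext (Subtype.ext ?_)
  show ((y.a : MulAut Q) ((D.t ω : MulAut Q) (kerCenter hC ⟨_, D.g_mem_ker x ω⟩ : Subgroup.center Q).1) : Ω) =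
    ((D.t (y.a • ω) : MulAut Q) (kerCenter hC ⟨_, D.g_mem_ker ⟨_, hx⟩ (y.a • ω)⟩ : Subgroup.center Q).1 : Ω)
  have h1 : (y * x.1 * y⁻¹).g (y.a • ω) = y.g ω * x.1.g ω * (y.g ω)⁻¹ := by
    show y.g (x.1.a • y.a⁻¹ • y.a • ω) * x.1.g (y.a⁻¹ • y.a • ω) * (y.g (y.a⁻¹ • y.a • ω))⁻¹ = _
    rw [show x.1.a = 1 from x.2, inv_smul_smul, one_smul]
  have h2 : (toAutizer F hQ (y.g ω) : MulAut Q) (kerCenter hC ⟨_, D.g_mem_ker x ω⟩).1 =
      (kerCenter hC ⟨_, D.g_mem_ker ⟨_, hx⟩ (y.a • ω)⟩).1 := by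
    refine Subtype.ext ?_
    rw [toAutizer_apply, kerCenter_coe, kerCenter_coe]
    show _ = ((y * x.1 * y⁻¹).g (y.a • ω) : Ω)
    rw [h1]
    rfl
  rw [← h2]
  exact congrArg (fun b : F.autGroup Q =>
    (((b : MulAut Q) (kerCenter hC ⟨_, D.g_mem_ker x ω⟩).1 : Q) : Ω)) (y.cond ω)

/-- The subgroup divided out. -/
noncomputable def small : Subgroup D.Mono := (D.zeta hC).ker.map D.proj.ker.subtype

instance small_normal : (D.small hC).Normal := by
  refine ⟨fun x hx y => ?_⟩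
  obtain ⟨x, hx, rfl⟩ := hx
  have hk : y * x.1 * y⁻¹ ∈ D.proj.ker := Subgroup.Normal.conj_mem inferInstance _ x.2 y
  refine ⟨⟨_, hk⟩, ?_, rfl⟩
  show D.zeta hC ⟨_, hk⟩ = 1
  rw [D.zeta_conj hC y x hk, show D.zeta hC x = 1 from hx, map_one]

theorem small_le : D.small hC ≤ D.proj.ker := Subgroup.map_subtype_le _

/-- The model. -/
abbrev Model : Type u := D.Mono ⧸ D.small hC

/-- The embedding into the model. -/
noncomputable def iota : normalizerIn S Q →* D.Model hC := (QuotientGroup.mk' _).comp D.emb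

/-- The automorphism of `Q` given by an element of the model. -/
noncomputable def mproj : D.Model hC →* F.autGroup Q :=
  QuotientGroup.lift _ D.proj (D.small_le hC)

theorem mproj_mk (y : D.Mono) : D.mproj hC (QuotientGroup.mk y) = y.a := rfl

theorem mproj_iota (s : normalizerIn S Q) : D.mproj hC (D.iota hC s) = toAutizer F hQ s := rfl

theorem zeta_emb (z : (toAutizer F hQ).ker) (hz : D.emb z.1 ∈ D.proj.ker) :
    D.zeta hC ⟨_, hz⟩ = kerCenter hC z ^ Nat.card (AutCosets F hQ) := by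
  letI := Fintype.ofFinite (AutCosets F hQ)
  rw [Nat.card_eq_fintype_card, ← Finset.card_univ, ← Finset.prod_const]
  refine Finset.prod_congr rfl fun ω _ => Subtype.ext (Subtype.ext ?_)
  have hzQ : ((z : normalizerIn S Q) : Ω) ∈ Q := hC ((toAutizer_eq_one_iff hQ _).mp z.2)
  show ((D.t ω : MulAut Q) (kerCenter hC ⟨_, D.g_mem_ker ⟨_, hz⟩ ω⟩).1 : Ω) = _
  rw [← autFun_apply, kerCenter_coe, kerCenter_coe]
  show autFun (D.t ω : MulAut Q) (D.f z.1 ω) = _
  rw [D.onQ _ _ hzQ, ← autFun_mul _ _ hzQ, ← Subgroup.coe_mul, mul_inv_cancel,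
    autFun_apply_mem _ hzQ]
  rfl

theorem coprime_card_center (hS : IsPGroup p S) [Fact p.Prime]
    (hp : ¬ p ∣ Nat.card (AutCosets F hQ)) :
    (Nat.card (Subgroup.center Q)).Coprime (Nat.card (AutCosets F hQ)) := by
  have := finite_of_le hQ
  obtain ⟨n, hn⟩ := IsPGroup.iff_card.mp
    ((hS.of_injective _ (Subgroup.inclusion_injective hQ)).to_subgroup (Subgroup.center Q))
  rw [hn]
  exact Nat.Coprime.pow_left n ((Nat.Prime.coprime_iff_not_dvd Fact.out).mpr hp)

variable (hS : IsPGroup p S) [Fact p.Prime] (hp : ¬ p ∣ Nat.card (AutCosets F hQ))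
include hS hp

theorem iota_injective : Function.Injective (D.iota hC) := by
  rw [injective_iff_map_eq_one]
  intro z hz
  obtain ⟨x, hx, hxe⟩ := (QuotientGroup.eq_one_iff _).mp hz
  have hker : D.emb z ∈ D.proj.ker := hxe ▸ x.2
  have hzc : z ∈ (toAutizer F hQ).ker := hker
  have h1 : D.zeta hC ⟨_, hker⟩ = 1 := by
    have : (⟨_, hker⟩ : D.proj.ker) = x := Subtype.ext hxe.symm
    rw [this]
    exact hx
  rw [D.zeta_emb hC ⟨z, hzc⟩ hker] at h1
  have h2 : kerCenter hC ⟨z, hzc⟩ = 1 :=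
    (powCoprime (coprime_card_center hS hp)).injective (h1.trans (one_pow _).symm)
  exact Subtype.ext (congrArg (fun a : Subgroup.center Q => ((a : Q) : Ω)) h2)

theorem mproj_eq_one_iff (y : D.Model hC) :
    D.mproj hC y = 1 ↔ ∃ z : normalizerIn S Q, (z : Ω) ∈ centralizerIn S Q ∧ y = D.iota hC z := by
  refine ⟨fun h => ?_, fun ⟨z, hz, e⟩ => e ▸ (toAutizer_eq_one_iff hQ z).mpr hz⟩
  induction y using QuotientGroup.induction_on with
  | H x =>
    have hx : x ∈ D.proj.ker := h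
    obtain ⟨w, hw⟩ := (powCoprime (coprime_card_center hS hp)).surjective (D.zeta hC ⟨x, hx⟩)
    have hwc : ((w.1 : Q) : Ω) ∈ centralizerIn S Q := mem_centralizerIn.mpr
      ⟨hQ w.1.2, fun q hq => by
        rw [mul_inv_eq_iff_eq_mul]
        exact congrArg Subtype.val (Subgroup.mem_center_iff.mp w.2 ⟨q, hq⟩).symm⟩
    have hwN : ((w.1 : Q) : Ω) ∈ normalizerIn S Q := le_normalizerIn hQ w.1.2
    refine ⟨⟨_, hwN⟩, hwc, ?_⟩
    have hzc : (⟨_, hwN⟩ : normalizerIn S Q) ∈ (toAutizer F hQ).ker :=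
      (toAutizer_eq_one_iff hQ _).mpr hwc
    have he : D.emb ⟨_, hwN⟩ ∈ D.proj.ker := hzc
    refine QuotientGroup.eq.mpr ⟨⟨x, hx⟩⁻¹ * ⟨_, he⟩, ?_, rfl⟩
    show D.zeta hC (⟨x, hx⟩⁻¹ * ⟨_, he⟩) = 1
    rw [map_mul, map_inv, D.zeta_emb hC ⟨_, hzc⟩ he, inv_mul_eq_one, ← hw]
    rfl

theorem centralizer_le (y : D.Model hC)
    (h : ∀ s : normalizerIn S Q, (s : Ω) ∈ Q → y * D.iota hC s = D.iota hC s * y) :
    ∃ z : normalizerIn S Q, (z : Ω) ∈ Q ∧ y = D.iota hC z := by
  suffices D.mproj hC y = 1 by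
    obtain ⟨z, hz, e⟩ := (D.mproj_eq_one_iff hC hS hp y).mp this
    exact ⟨z, hC hz, e⟩
  induction y using QuotientGroup.induction_on with
  | H x =>
    refine Subtype.ext (MulEquiv.ext fun q => Subtype.ext ?_)
    have h1 := h ⟨q, le_normalizerIn hQ q.2⟩ q.2
    have hq' := autFun_mem (x.a : MulAut Q) q.2
    have h2 : (QuotientGroup.mk x : D.Model hC) * D.iota hC ⟨q, le_normalizerIn hQ q.2⟩ =
        D.iota hC ⟨_, le_normalizerIn hQ hq'⟩ * QuotientGroup.mk x :=
      congrArg (QuotientGroup.mk' (D.small hC)) (D.conj_emb x _ ⟨_, le_normalizerIn hQ hq'⟩ q.2 rfl)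
    have h3 := D.iota_injective hC hS hp (mul_right_cancel (h2.symm.trans h1))
    show ((x.a : MulAut Q) q : Ω) = q
    rw [← autFun_apply]
    exact congrArg Subtype.val h3

theorem not_dvd_index : ¬ p ∣ (D.iota hC).range.index := by
  have hi := D.iota_injective hC hS hp
  have hT : Finite (normalizerIn S Q) := finite_of_le inf_le_left
  have hker : (D.mproj hC).ker ≤ (D.iota hC).range := fun y hy => by
    obtain ⟨z, -, rfl⟩ := (D.mproj_eq_one_iff hC hS hp y).mp hy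
    exact ⟨z, rfl⟩
  have hsurj : Function.Surjective (D.mproj hC) := fun a => by
    obtain ⟨x, hx⟩ := D.exists_proj_eq a
    exact ⟨QuotientGroup.mk x, hx⟩
  rw [← Subgroup.index_map_eq (D.iota hC).range hsurj hker, MonoidHom.map_range]
  exact hp

end kernel

/-- Every map of the system normalizing `Q` is induced by the monomial group. -/
theorem exists_mono [Finite S] [Fact p.Prime] (hS : IsPGroup p S) (hF : F.IsSaturated p)
    (hc : F.IsCentric Q) {P : Subgroup Ω} (hQP : Q ≤ P) (hPT : P ≤ normalizerIn S Q)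
    {φ : Ω → Ω} (hφ : IsMap F P φ) (hi : img Q φ = Q) :
    ∃ y : D.Mono, ∀ (x : normalizerIn S Q), (x : Ω) ∈ P → ∀ x' : normalizerIn S Q,
      (x' : Ω) = φ x → y * D.emb x = D.emb x' * y := by
  classical
  obtain ⟨a0, ha0, hae⟩ := (hφ.mono hQP).exists_aut hi
  set a : F.autGroup Q := ⟨a0, ha0⟩
  have himg : ∀ x ∈ P, φ x ∈ normalizerIn S Q := fun x hx => by
    have h := hφ.mem_normalizerIn hQP hx (hPT hx).2
    rwa [hi] at h
  let Pt : Subgroup (normalizerIn S Q) := P.subgroupOf _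
  let φt : Pt →* normalizerIn S Q :=
    { toFun := fun x => ⟨φ x.1, himg _ x.2⟩
      map_one' := Subtype.ext hφ.map_one
      map_mul' := fun x y => Subtype.ext (hφ.map_mul x.2 y.2) }
  have hax : ∀ x : Pt, a * toAutizer F hQ x.1 = toAutizer F hQ (φt x) * a := by
    intro x
    refine Subtype.ext (MulEquiv.ext fun q => Subtype.ext ?_)
    show (a0 ((toAutizer F hQ x.1 : MulAut Q) q) : Ω) =
      ((toAutizer F hQ (φt x) : MulAut Q) (a0 q) : Ω)
    rw [← autFun_apply a0, hae _ (SetLike.coe_mem _), toAutizer_apply, toAutizer_apply,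
      ← autFun_apply a0, hae _ q.2]
    exact hφ.map_conj x.2 (hQP q.2)
  letI : MulAction Pt (AutCosets F hQ) :=
    MulAction.compHom _ ((toAutizer F hQ).comp Pt.subtype)
  obtain ⟨rep, u, hu, hrep⟩ := exists_orbit_reps Pt (AutCosets F hQ)
  have hsm : ∀ (x : Pt) (ω : AutCosets F hQ), toAutizer F hQ (φt x) • a • ω = a • (x • ω) := fun x ω => by
    rw [← mul_smul, ← hax, mul_smul]
    rfl
  have hfix : ∀ ρ : AutCosets F hQ, ∃ g : normalizerIn S Q,
      a * D.t ρ = D.t (a • ρ) * toAutizer F hQ g ∧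
      ∀ s : Pt, s • ρ = ρ → D.f (φt s) (a • ρ) * g = g * D.f s.1 ρ := by
    intro ρ
    obtain ⟨y, hy⟩ := D.exists_proj_eq a
    have hg := y.cond ρ
    rw [hy] at hg
    set g := y.g ρ
    let St : Subgroup Ω := (MulAction.stabilizer Pt ρ).map ((normalizerIn S Q).subtype.comp Pt.subtype)
    have hStP : St ≤ P := by rintro _ ⟨x, -, rfl⟩; exact x.2
    have hQSt : Q ≤ St := fun q hq =>
      ⟨⟨⟨q, le_normalizerIn hQ hq⟩, hQP hq⟩, smul_autCosets_of_mem hQ _ hq ρ, rfl⟩
    obtain ⟨R, k, hk, hkm⟩ := D.isMap ρ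
    obtain ⟨R', k', hk', hkm'⟩ := D.isMap (a • ρ)
    have hStR : ∀ x ∈ St, x ∈ R ∧ φ x ∈ R' := by
      rintro _ ⟨x, hx, rfl⟩
      exact ⟨(hkm x.1 hx).1, (hkm' (φt x) (by rw [hsm, hx])).1⟩
    have hm2 : IsMap F St k := hk.mono fun x hx => (hStR x hx).1
    have hm1 : IsMap F St (fun x => (g : Ω)⁻¹ * k' (φ x) * g) := by
      have h1 := (hφ.mono hStP).comp hk' fun x hx => (hStR x hx).2
      refine (h1.comp (isMap_conj (P := img St (k' ∘ φ)) h1.img_le (S.inv_mem g.2.1))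
        fun x hx => IsMap.apply_mem_img hx).congr fun x _ => ?_
      simp
    have hag : ∀ q ∈ Q, (fun x => (g : Ω)⁻¹ * k' (φ x) * g) q = k q := by
      intro q hq
      have hqT : q ∈ normalizerIn S Q := le_normalizerIn hQ hq
      have hfq : φ q ∈ Q := hi ▸ IsMap.apply_mem_img hq
      have e1 := (hkm ⟨q, hqT⟩ (smul_autCosets_of_mem hQ _ hq ρ)).2
      have e2 := (hkm' ⟨φ q, himg q (hQP hq)⟩ (smul_autCosets_of_mem hQ _ hfq _)).2
      have hconj := congrArg (fun z : D.Mono => (z.g ρ : Ω))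
        (D.conj_emb y ⟨q, hqT⟩ ⟨φ q, himg q (hQP hq)⟩ hq (by rw [hy]; exact (hae q hq).symm))
      simp only [Mono.mul_g] at hconj
      show (g : Ω)⁻¹ * k' (φ q) * g = k q
      rw [← e1, ← e2]
      have : (g : Ω) * (D.f ⟨q, hqT⟩ ρ : Ω) = (D.f ⟨φ q, himg q (hQP hq)⟩ (a • ρ) : Ω) * g := by
        have h' : (y.g ((D.emb ⟨q, hqT⟩).a • ρ) * D.f ⟨q, hqT⟩ ρ : normalizerIn S Q) =
            ((D.f ⟨φ q, himg q (hQP hq)⟩ (y.a • ρ) * y.g ρ : normalizerIn S Q) : Ω) := hconj
        rw [show (D.emb ⟨q, hqT⟩).a = toAutizer F hQ ⟨q, hqT⟩ from rfl,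
          smul_autCosets_of_mem hQ _ hq, hy] at h'
        exact h'
      rw [mul_assoc, ← this, inv_mul_cancel_left]
    obtain ⟨z, hz, hzQ, hze⟩ := rigidity hS hF hQSt
      (fun x hx q hq => conj_mem_of_mem_normalizer (hPT (hStP hx)).2 hq) hc hm1 hm2 hag
    have hzT : z ∈ normalizerIn S Q := le_normalizerIn hQ hzQ
    obtain ⟨m, hm⟩ : ∃ m : normalizerIn S Q, (m : Ω) = (g : Ω)⁻¹ * k' (φ z) * g :=
      ⟨⟨_, le_normalizerIn hQ (show (g : Ω)⁻¹ * k' (φ z) * g ∈ Q by
        have h1 := hag z hzQ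
        simp only at h1
        rw [h1, ← (hkm ⟨z, hzT⟩ (smul_autCosets_of_mem hQ _ hzQ ρ)).2, D.onQ _ _ hzQ]
        exact autFun_mem _ hzQ)⟩, rfl⟩
    have hmC : (m : Ω) ∈ centralizerIn S Q := by
      refine mem_centralizerIn.mpr ⟨m.2.1, fun q hq => ?_⟩
      obtain ⟨q', hq', rfl⟩ : ∃ q' ∈ Q, q = (fun x => (g : Ω)⁻¹ * k' (φ x) * g) q' := by
        refine ⟨autFun (D.t ρ : MulAut Q) q, autFun_mem _ hq, ?_⟩
        rw [hag _ (autFun_mem _ hq), ← (hkm ⟨_, le_normalizerIn hQ (autFun_mem _ hq)⟩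
          (smul_autCosets_of_mem hQ _ (autFun_mem _ hq) ρ)).2, D.onQ _ _ (autFun_mem _ hq),
          ← autFun_mul _ _ hq, ← Subgroup.coe_mul, inv_mul_cancel, autFun_apply_mem _ hq]
        rfl
      rw [hm]
      have := hm1.map_conj (hQSt hzQ) (hQSt hq')
      rw [← this, (mem_centralizerIn.mp hz).2 q' hq']
    refine ⟨g * m⁻¹, ?_, fun s hs => ?_⟩
    · rw [map_mul, map_inv, (toAutizer_eq_one_iff hQ m).mpr hmC, inv_one, mul_one]
      exact hg
    · apply Subtype.ext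
      have hsSt : ((s.1 : normalizerIn S Q) : Ω) ∈ St := ⟨s, hs, rfl⟩
      have e1 := (hkm s.1 hs).2
      have e2 := (hkm' (φt s) (by rw [hsm, hs])).2
      have e3 := hze _ hsSt
      rw [hm1.map_mul (St.mul_mem (hQSt hzQ) hsSt) (St.inv_mem (hQSt hzQ)),
        hm1.map_mul (hQSt hzQ) hsSt, hm1.map_inv (hQSt hzQ), ← hm] at e3
      simp only [Subgroup.coe_mul, Subgroup.coe_inv]
      rw [e1, e2, e3]
      show k' (φ _) * _ = _
      group
  choose gr hgr hgrs using hfix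
  let G : AutCosets F hQ → normalizerIn S Q := fun ω =>
    D.f (φt (u ω)) (a • rep ω) * gr (rep ω) * (D.f (u ω).1 (rep ω))⁻¹
  have hG : ∀ ω, a * D.t ω = D.t (a • ω) * toAutizer F hQ (G ω) := by
    intro ω
    have e1 := D.cond (φt (u ω)) (a • rep ω)
    rw [hsm, hu] at e1
    have e2 : toAutizer F hQ (u ω).1 * D.t (rep ω) =
        D.t ω * toAutizer F hQ (D.f (u ω).1 (rep ω)) := by
      have e2 := D.cond (u ω).1 (rep ω)
      rwa [show toAutizer F hQ (u ω).1 • rep ω = ω from hu ω] at e2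
    rw [map_mul, map_mul, map_inv, ← mul_assoc, ← mul_assoc, ← e1, mul_assoc (toAutizer F hQ _),
      ← hgr, ← mul_assoc, ← hax, eq_mul_inv_iff_mul_eq, mul_assoc a, ← e2, mul_assoc]
  refine ⟨⟨a, G, hG⟩, fun x hx x' hx' => ?_⟩
  set xp : Pt := ⟨x, hx⟩
  obtain rfl : x' = φt xp := Subtype.ext hx'
  refine Mono.ext' (hax xp) (funext fun ω => ?_)
  show G (xp • ω) * D.f x ω = D.f (φt xp) (a • ω) * G ω
  have hs : ((u (xp • ω))⁻¹ * xp * u ω) • rep ω = rep ω := by
    rw [mul_smul, mul_smul, hu, inv_smul_eq_iff]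
    have h1 := hu (xp • ω)
    rw [hrep] at h1
    exact h1.symm
  set s := (u (xp • ω))⁻¹ * xp * u ω
  have hus : u (xp • ω) * s = xp * u ω := by simp only [s]; group
  have k1 : D.f (φt xp) (a • ω) * D.f (φt (u ω)) (a • rep ω) =
      D.f (φt (u (xp • ω))) (a • rep ω) * D.f (φt s) (a • rep ω) := by
    have h1 := D.hom (φt xp) (φt (u ω)) (a • rep ω)
    rw [hsm, hu, ← map_mul, ← hus, map_mul, D.hom, hsm, hs] at h1
    exact h1.symm
  have k2 : D.f x ω * D.f (u ω).1 (rep ω) =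
      D.f (u (xp • ω)).1 (rep ω) * D.f s.1 (rep ω) := by
    have h1 := D.hom x (u ω).1 (rep ω)
    rw [show toAutizer F hQ (u ω).1 • rep ω = ω from hu ω,
      show x * (u ω).1 = (u (xp • ω)).1 * s.1 from congrArg Subtype.val hus.symm, D.hom,
      show toAutizer F hQ s.1 • rep ω = rep ω from hs] at h1
    exact h1.symm
  simp only [G]
  rw [hrep, ← mul_assoc (D.f (φt xp) _), ← mul_assoc (D.f (φt xp) _), k1,
    mul_assoc (D.f (φt (u (xp • ω))) (a • rep ω)) (D.f (φt s) _) (gr _), hgrs _ s hs,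
    eq_mul_inv_iff_mul_eq]
  simp only [mul_assoc]
  rw [k2]
  simp only [inv_mul_cancel_left]

end ModelData

/-- The model of the normalizer of a fully normalized centric subgroup. -/
theorem exists_model [Finite S] [Fact p.Prime] (hS : IsPGroup p S) (hF : F.IsSaturated p)
    {Q : Subgroup Ω} (hc : F.IsCentric Q) (hn : F.IsFullyNormalized Q) :
    ∃ (L : Type u) (_ : Group L) (_ : Finite L) (ι : normalizerIn S Q →* L),
      Function.Injective ι ∧ ¬ p ∣ ι.range.index ∧ ((Q.subgroupOf _).map ι).Normal ∧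
      Subgroup.centralizer (((Q.subgroupOf _).map ι : Subgroup L) : Set L) ≤
        (Q.subgroupOf _).map ι ∧
      (∀ P : Subgroup Ω, Q ≤ P → P ≤ normalizerIn S Q → ∀ φ : Ω → Ω, IsMap F P φ →
        img Q φ = Q → ∃ g : L, ∀ x : normalizerIn S Q, (x : Ω) ∈ P → ∀ x' : normalizerIn S Q,
          (x' : Ω) = φ x → ι x' = g * ι x * g⁻¹) ∧
      (∀ P : Subgroup Ω, Q ≤ P → P ≤ normalizerIn S Q → ∀ g : L,
        (∀ x : normalizerIn S Q, (x : Ω) ∈ P → g * ι x * g⁻¹ ∈ ι.range) →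
          ∃ φ : Ω → Ω, IsMap F P φ ∧ img Q φ = Q ∧ ∀ x : normalizerIn S Q, (x : Ω) ∈ P →
            ∀ x' : normalizerIn S Q, ι x' = g * ι x * g⁻¹ → (x' : Ω) = φ x) := by
  obtain ⟨-, hfa, hrec⟩ := fullyNormalized_props hS hF hn
  obtain ⟨D⟩ := exists_modelData hrec
  have hQ := hc.1
  have hC : centralizerIn S Q ≤ Q := hc.2 Q (isConj_refl hQ)
  have hp : ¬ p ∣ Nat.card (AutCosets F hrec.1) := by
    have h := ((isFullyAutomized_iff hS).mp hfa).2
    rwa [Subgroup.relIndex, ← range_toAutizer hrec.1, Subgroup.index_eq_card] at h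
  have hinj := D.iota_injective hC hS hp
  have hconj : ∀ (g : D.Model hC) (s s' : normalizerIn S Q), (s : Ω) ∈ Q →
      (s' : Ω) = autFun (D.mproj hC g : MulAut Q) s → g * D.iota hC s * g⁻¹ = D.iota hC s' := by
    intro g
    induction g using QuotientGroup.induction_on with
    | H y =>
      intro s s' hs h
      rw [mul_inv_eq_iff_eq_mul]
      exact congrArg (QuotientGroup.mk' (D.small hC)) (D.conj_emb y s s' hs h)
  have hB : ∀ P : Subgroup Ω, Q ≤ P → P ≤ normalizerIn S Q → ∀ φ : Ω → Ω, IsMap F P φ →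
      img Q φ = Q → ∃ g : D.Model hC, ∀ x : normalizerIn S Q, (x : Ω) ∈ P →
        ∀ x' : normalizerIn S Q, (x' : Ω) = φ x → D.iota hC x' = g * D.iota hC x * g⁻¹ := by
    intro P hQP hPT φ hφ hi
    obtain ⟨y, hy⟩ := D.exists_mono hS hF hc hQP hPT hφ hi
    refine ⟨QuotientGroup.mk y, fun x hx x' hx' => ?_⟩
    rw [eq_mul_inv_iff_mul_eq]
    exact (congrArg (QuotientGroup.mk' (D.small hC)) (hy x hx x' hx')).symm
  refine ⟨D.Model hC, inferInstance, inferInstance, D.iota hC, hinj, D.not_dvd_index hC hS hp,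
    ⟨fun _ ⟨s, hs, e⟩ g => ?_⟩, fun y hy => ?_, hB, fun P hQP hPT g hg => ?_⟩
  · subst e
    have hm := autFun_mem (D.mproj hC g : MulAut Q) hs
    exact ⟨⟨_, le_normalizerIn hQ hm⟩, hm, (hconj g s _ hs rfl).symm⟩
  · obtain ⟨z, hz, rfl⟩ := D.centralizer_le hC hS hp y fun s hs =>
      (Subgroup.mem_centralizer_iff.mp hy _ ⟨s, hs, rfl⟩).symm
    exact ⟨z, hz, rfl⟩
  · set a := D.mproj hC g
    have ha : IsMap F Q (autFun (a : MulAut Q)) := (isMap_autFun hQ).mpr a.2
    have hle : P ≤ extSub S Q (autFun (a : MulAut Q)) := by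
      intro x hx
      obtain ⟨x', hx'⟩ := hg ⟨x, hPT hx⟩ hx
      refine ⟨(hPT hx).1, (hPT hx).2, x', x'.2.1, fun q hq => ?_⟩
      have hq' := conj_mem_of_mem_normalizer (hPT hx).2 hq
      have e1 := hconj g ⟨q, le_normalizerIn hQ hq⟩
        ⟨_, le_normalizerIn hQ (autFun_mem _ hq)⟩ hq rfl
      have e2 := hconj g (⟨x, hPT hx⟩ * ⟨q, le_normalizerIn hQ hq⟩ * ⟨x, hPT hx⟩⁻¹)
        ⟨_, le_normalizerIn hQ (autFun_mem _ hq')⟩ hq' rfl
      have e3 : D.iota hC ⟨_, le_normalizerIn hQ (autFun_mem (a : MulAut Q) hq')⟩ =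
          D.iota hC (x' * ⟨_, le_normalizerIn hQ (autFun_mem (a : MulAut Q) hq)⟩ * x'⁻¹) := by
        rw [← e2]
        simp only [map_mul, map_inv]
        rw [← e1, hx']
        group
      exact congrArg Subtype.val (hinj e3)
    obtain ⟨φ, hφ, hφe⟩ := receptive_extend hrec ha (img_autFun _)
    have hi : img Q φ = Q := (img_congr hφe).trans (img_autFun _)
    obtain ⟨g', hg'⟩ := hB P hQP hPT φ (hφ.mono hle) hi
    -- the two elements differ by an element of the centre of `Q`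
    have hga : D.mproj hC g' = a := by
      refine Subtype.ext (MulEquiv.ext fun q => Subtype.ext ?_)
      rw [← autFun_apply, ← autFun_apply]
      have hm := autFun_mem (D.mproj hC g' : MulAut Q) q.2
      have hm' : φ q ∈ Q := by
        have h := IsMap.apply_mem_img (f := φ) q.2
        rwa [hi] at h
      have e1 := hconj g' ⟨q, le_normalizerIn hQ q.2⟩ ⟨_, le_normalizerIn hQ hm⟩ q.2 rfl
      have e2 := hg' ⟨q, le_normalizerIn hQ q.2⟩ (hQP q.2) ⟨_, le_normalizerIn hQ hm'⟩ rfl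
      rw [← hφe q q.2]
      exact congrArg Subtype.val (hinj (e1.symm.trans e2.symm))
    obtain ⟨z, hz, hze⟩ := (D.mproj_eq_one_iff hC hS hp (g'⁻¹ * g)).mp
      (by rw [map_mul, map_inv, hga, inv_mul_cancel])
    have hzP : (z : Ω) ∈ P := hQP (hC hz)
    have hzc : IsMap F P (fun x => (z : Ω) * x * (z : Ω)⁻¹) :=
      isMap_conj (hPT.trans inf_le_left) z.2.1
    refine ⟨fun x => φ ((z : Ω) * x * (z : Ω)⁻¹),
      hzc.comp (hφ.mono hle) fun x hx => P.mul_mem (P.mul_mem hzP hx) (P.inv_mem hzP),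
      ?_, fun x hx x' hx' => ?_⟩
    · refine (img_congr fun q hq => ?_).trans hi
      show φ ((z : Ω) * q * (z : Ω)⁻¹) = φ q
      rw [(mem_centralizerIn.mp hz).2 q hq]
    · have hx2 : (z : Ω) * x * (z : Ω)⁻¹ ∈ P := P.mul_mem (P.mul_mem hzP hx) (P.inv_mem hzP)
      have himg : φ ((z : Ω) * x * (z : Ω)⁻¹) ∈ normalizerIn S Q := by
        have h := hφ.mem_normalizerIn (hQP.trans hle) (hle hx2) (hPT hx2).2
        rwa [hi] at h
      have e := hg' (z * x * z⁻¹) hx2 ⟨_, himg⟩ rfl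
      refine congrArg Subtype.val (hinj (hx'.trans (Eq.trans ?_ e.symm)))
      rw [map_mul, map_mul, map_inv, ← hze]
      group

end Cfsg.Lib.Fusion
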