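import Cfsg.Agent.Fusion.NormalCriteria
import Cfsg.Agent.Fusion.ModelTools
import Cfsg.Agent.Components.Cores

/-!
Models of a constrained system are unique: averaging over the cosets of a Sylow subgroup a
system of representatives equivariant on both sides.
-/

set_option autoImplicit false

namespace Cfsg.Lib.Fusion

open Cfsg Cfsg.FusionSystem
open scoped IsMulCommutative

variable {Ω : Type*} [Group Ω] {S : Subgroup Ω} {F : FusionSystem S} {p : ℕ}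
  {G G₁ G₂ : Type*} [Group G] [Group G₁] [Group G₂]

/-- The image of a part `V` of `S` in a group containing `S` through `ι`. -/
def modelImage (ι : S →* G) (V : Subgroup Ω) : Subgroup G := (V.subgroupOf S).map ι

theorem mem_modelImage {ι : S →* G} (hι : Function.Injective ι) {V : Subgroup Ω} {s : S} :
    ι s ∈ modelImage ι V ↔ (s : Ω) ∈ V :=
  ⟨fun ⟨_, ht, e⟩ => hι e ▸ ht, fun h => ⟨s, h, rfl⟩⟩

theorem modelImage_le_range (ι : S →* G) (V : Subgroup Ω) : modelImage ι V ≤ ι.range :=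
  Subgroup.map_le_range _ _

/-- In a model the image of the core is normal and contains its centralizer. -/
theorem modelImage_core [Finite S] [Fact p.Prime] {ι : S →* G} (h : F.IsModel p G ι) :
    (modelImage ι F.core).Normal ∧
      Subgroup.centralizer (modelImage ι F.core : Set G) ≤ modelImage ι F.core := by
  obtain ⟨hfin, hreal, hsyl, hcen⟩ := h
  have hinj := hreal.1
  set O := pCore p G
  haveI : O.Normal := Cfsg.Lib.Components.pCore_normal' p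
  have hOr : O ≤ ι.range := pCore_le_range hsyl
  set W := (O.comap ι).map S.subtype with hWdef
  have hW : ∀ s : S, ι s ∈ O ↔ (s : Ω) ∈ W := fun s =>
    ⟨fun hs => ⟨s, hs, rfl⟩, fun ⟨t, ht, e⟩ => Subtype.ext e ▸ ht⟩
  have hWS : W ≤ S := Subgroup.map_subtype_le _
  have hWimg : O ≤ modelImage ι W := by
    intro x hx
    obtain ⟨s, rfl⟩ := hOr hx
    exact ⟨s, (hW s).mp hx, rfl⟩
  have hWn : F.IsNormal W := isNormal_of_extendsWith hWS fun P f hf => by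
    obtain ⟨g, hg⟩ := exists_elt_of_isMap hreal hf
    have hPW : P ⊔ W ≤ S := sup_le hf.le hWS
    have hle : P ⊔ W ≤ (ι.range.comap ((MulAut.conj g).toMonoidHom.comp ι)).map S.subtype := by
      refine sup_le (fun x hx => ⟨⟨x, hf.le hx⟩, ?_, rfl⟩) fun x hx => ⟨⟨x, hWS hx⟩, ?_, rfl⟩
      · exact ⟨⟨f x, hf.mem_S hx⟩, hg ⟨x, hf.le hx⟩ hx ⟨f x, hf.mem_S hx⟩ rfl⟩
      · exact hOr ((inferInstance : O.Normal).conj_mem _ ((hW ⟨x, hWS hx⟩).mpr hx) g)
    obtain ⟨k, hk, hkS, hke⟩ := exists_isMap_of_elt hreal hPW g fun x hx => by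
      obtain ⟨y, hy, e⟩ := hle hx
      obtain rfl : y = x := Subtype.ext e
      exact hy
    refine ⟨k, hk, fun x hx => ?_, img_eq_of_apply hk le_sup_right fun x hx => ?_⟩
    · exact ((hke ⟨x, hf.le hx⟩ (Subgroup.mem_sup_left hx) ⟨f x, hf.mem_S hx⟩).mpr
        (hg ⟨x, hf.le hx⟩ hx _ rfl)).symm
    · refine (hW ⟨k x, hkS x (Subgroup.mem_sup_right hx)⟩).mp ?_
      rw [(hke ⟨x, hWS hx⟩ (Subgroup.mem_sup_right hx) _).mp rfl]
      exact (inferInstance : O.Normal).conj_mem _ ((hW ⟨x, hWS hx⟩).mpr hx) g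
  set V := F.core
  have hV : F.IsNormal V := isNormal_core
  have hWV : W ≤ V := le_sSup hWn
  have hOV : O ≤ modelImage ι V := hWimg.trans (Subgroup.map_mono (Subgroup.comap_mono hWV))
  refine ⟨⟨fun n hn g => ?_⟩,
    (Subgroup.centralizer_le (fun x hx => hOV hx)).trans (hcen.trans hOV)⟩
  obtain ⟨v, hv, rfl⟩ := hn
  obtain ⟨f, hf, hfS, hfe⟩ := exists_isMap_of_elt hreal hWS g fun x hx =>
    hOr ((inferInstance : O.Normal).conj_mem _ ((hW x).mpr hx) g)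
  obtain ⟨k, hk, hkf, hki⟩ := extend_of_isNormal hV hf
  obtain ⟨g', hg'⟩ := exists_elt_of_isMap hreal hk
  have hdiff : g'⁻¹ * g ∈ Subgroup.centralizer (O : Set G) := by
    refine Subgroup.mem_centralizer_iff.mpr fun y hy => ?_
    obtain ⟨w, rfl⟩ := hOr hy
    have hwW := (hW w).mp hy
    have h1 := (hfe w hwW ⟨f w, hfS w hwW⟩).mp rfl
    have h2 := hg' w (Subgroup.mem_sup_left hwW) ⟨f w, hfS w hwW⟩ (hkf w hwW).symm
    rw [h1] at h2
    calc ι w * (g'⁻¹ * g) = g'⁻¹ * (g' * ι w * g'⁻¹) * g := by group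
      _ = g'⁻¹ * g * ι w := by rw [← h2]; group
  obtain ⟨z, hz, hze⟩ := hOV (hcen hdiff)
  have hu : ((z * v * z⁻¹ : S) : Ω) ∈ V := V.mul_mem (V.mul_mem hz hv) (V.inv_mem hz)
  refine ⟨⟨k ((z * v * z⁻¹ : S) : Ω), hk.mem_S (Subgroup.mem_sup_right hu)⟩,
    IsMap.img_le_iff.mp hki.le _ hu, ?_⟩
  rw [hg' (z * v * z⁻¹) (Subgroup.mem_sup_right hu) _ rfl, map_mul, map_mul, map_inv, hze]
  group

/-! ### Corresponding elements of two models -/

/-- `g ∈ G₁` and `y ∈ G₂` act alike on `V`. -/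
def SameAction (ι₁ : S →* G₁) (ι₂ : S →* G₂) (V : Subgroup Ω) (g : G₁) (y : G₂) : Prop :=
  ∀ v w : S, (v : Ω) ∈ V → ι₁ w = g * ι₁ v * g⁻¹ → ι₂ w = y * ι₂ v * y⁻¹

theorem SameAction.mul {ι₁ : S →* G₁} {ι₂ : S →* G₂} {V : Subgroup Ω}
    (hinj : Function.Injective ι₁) [hn : (modelImage ι₁ V).Normal] {g h : G₁} {y z : G₂}
    (hg : SameAction ι₁ ι₂ V g y) (hh : SameAction ι₁ ι₂ V h z) :
    SameAction ι₁ ι₂ V (g * h) (y * z) := by
  intro v w hv hw
  obtain ⟨u, hu, hue⟩ := hn.conj_mem _ ((mem_modelImage hinj).mpr hv) h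
  rw [hg u w hu (by rw [hw, hue]; group), hh v u hv hue]
  group

theorem sameAction_range {ι₁ : S →* G₁} {ι₂ : S →* G₂} {V : Subgroup Ω}
    (hinj : Function.Injective ι₁) (s : S) : SameAction ι₁ ι₂ V (ι₁ s) (ι₂ s) := by
  intro v w _ hw
  rw [← map_inv, ← map_mul, ← map_mul] at hw ⊢
  rw [hinj hw]

theorem SameAction.quot_mem {ι₁ : S →* G₁} {ι₂ : S →* G₂} {V : Subgroup Ω}
    (hinj : Function.Injective ι₁) [hn : (modelImage ι₁ V).Normal] [hn₂ : (modelImage ι₂ V).Normal]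
    {g : G₁} {y y' : G₂} (hy : SameAction ι₁ ι₂ V g y) (hy' : SameAction ι₁ ι₂ V g y') :
    y' * y⁻¹ ∈ Subgroup.centralizer (modelImage ι₂ V : Set G₂) := by
  have h1 : y⁻¹ * y' ∈ Subgroup.centralizer (modelImage ι₂ V : Set G₂) := by
    refine Subgroup.mem_centralizer_iff.mpr ?_
    rintro _ ⟨v, hv, rfl⟩
    obtain ⟨w, hw, hwe⟩ := hn.conj_mem _ ((mem_modelImage hinj).mpr hv) g
    have h := (hy v w hv hwe).symm.trans (hy' v w hv hwe)
    calc ι₂ v * (y⁻¹ * y') = y⁻¹ * (y * ι₂ v * y⁻¹) * y' := by group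
      _ = y⁻¹ * y' * ι₂ v := by rw [h]; group
  have h2 := (inferInstance : (Subgroup.centralizer (modelImage ι₂ V : Set G₂)).Normal).conj_mem _ h1 y
  simpa [mul_assoc] using h2

theorem SameAction.central {ι₁ : S →* G₁} {ι₂ : S →* G₂} {V : Subgroup Ω}
    (hinj : Function.Injective ι₁) (hinj₂ : Function.Injective ι₂) [hn : (modelImage ι₁ V).Normal]
    [(modelImage ι₂ V).Normal] {g : G₁} {y a : G₂}
    (hy : SameAction ι₁ ι₂ V g y) (ha : a ∈ Subgroup.centralizer (modelImage ι₂ V : Set G₂)) :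
    SameAction ι₁ ι₂ V g (a * y) := by
  intro v w hv hw
  obtain ⟨w', hw', he⟩ := hn.conj_mem _ ((mem_modelImage hinj).mpr hv) g
  obtain rfl : w = w' := hinj (hw.trans he.symm)
  have hc := Subgroup.mem_centralizer_iff.mp ha _ ((mem_modelImage hinj₂).mpr hw')
  calc ι₂ w = a * ι₂ w * a⁻¹ := by rw [← hc, mul_inv_cancel_right]
    _ = a * y * ι₂ v * (a * y)⁻¹ := by rw [hy v w hv hw]; group

/-! ### Averaging -/

variable [Finite S] [Fact p.Prime]

theorem exists_root {V : Subgroup Ω} (hS : IsPGroup p S) {ι₁ : S →* G₁} {ι₂ : S →* G₂} [Finite G₁]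
    (hsyl : ∃ T : Sylow p G₁, (T : Subgroup G₁) = ι₁.range)
    {A : Subgroup G₂} (hA : A ≤ modelImage ι₂ V) [IsMulCommutative A] :
    ∃ ρ : A →* A, ∀ a, ρ (a ^ Nat.card (G₁ ⧸ ι₁.range)) = a := by
  have hAr : A ≤ ι₂.range := hA.trans (modelImage_le_range ι₂ V)
  have hrp : IsPGroup p ι₂.range := hS.of_surjective _ ι₂.rangeRestrict_surjective
  haveI : Finite ι₂.range := Finite.of_surjective _ ι₂.rangeRestrict_surjective
  haveI : Finite A := Finite.of_injective _ (Subgroup.inclusion_injective hAr)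
  obtain ⟨n, hn⟩ := (hrp.to_le hAr).exists_card_eq
  obtain ⟨T, hT⟩ := hsyl
  have hidx : ¬ p ∣ ι₁.range.index := hT ▸ T.not_dvd_index
  have hcop : (Nat.card A).Coprime (Nat.card (G₁ ⧸ ι₁.range)) := by
    rw [hn, ← Subgroup.index_eq_card]
    exact Nat.Coprime.pow_left n ((Nat.Prime.coprime_iff_not_dvd Fact.out).mpr hidx)
  refine ⟨zpowGroupHom ((Nat.card A).gcdB (Nat.card (G₁ ⧸ ι₁.range))), fun a => ?_⟩
  exact (powCoprime hcop).symm_apply_apply a

theorem isMulCommutative_centralizer {N : Subgroup G} (h : Subgroup.centralizer (N : Set G) ≤ N) :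
    IsMulCommutative (Subgroup.centralizer (N : Set G)) :=
  ⟨⟨fun a b => Subtype.ext (Subgroup.mem_centralizer_iff.mp b.2 a (h a.2))⟩⟩

/-- A double coset relation. -/
def biCosetSetoid (H : Subgroup G) : Setoid G where
  r g h := ∃ a ∈ H, ∃ b ∈ H, h = a * g * b
  iseqv :=
    ⟨fun g => ⟨1, H.one_mem, 1, H.one_mem, by simp⟩,
     fun ⟨a, ha, b, hb, e⟩ => ⟨a⁻¹, H.inv_mem ha, b⁻¹, H.inv_mem hb, by rw [e]; group⟩,
     fun ⟨a, ha, b, hb, e⟩ ⟨c, hc, d, hd, e'⟩ =>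
      ⟨c * a, H.mul_mem hc ha, b * d, H.mul_mem hb hd, by rw [e', e]; group⟩⟩

theorem exists_equivariant {ι₁ : S →* G₁} {ι₂ : S →* G₂} {V : Subgroup Ω} (hV : V ≤ S)
    [hn : (modelImage ι₁ V).Normal] (h₁ : F.IsRealizedBy ι₁) (h₂ : F.IsRealizedBy ι₂) :
    ∃ σ : G₁ → G₂, (∀ g, SameAction ι₁ ι₂ V g (σ g)) ∧ (∀ s, σ (ι₁ s) = ι₂ s) ∧
      ∀ s g t, σ (ι₁ s * g * ι₁ t) = ι₂ s * σ g * ι₂ t := by
  classical
  -- elements realizing the same map on the largest possible source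
  have hex : ∀ g : G₁, ∃ y : G₂, SameAction ι₁ ι₂ V g y ∧ (∀ s, g = ι₁ s → y = ι₂ s) ∧
      ∀ t u : S, ι₁ u = g * ι₁ t * g⁻¹ → ι₂ u = y * ι₂ t * y⁻¹ := by
    intro g
    by_cases hg : ∃ s, g = ι₁ s
    · obtain ⟨s, rfl⟩ := hg
      refine ⟨ι₂ s, sameAction_range h₁.1 s, fun t e => by rw [h₁.1 e], fun t u hu => ?_⟩
      rw [← map_inv, ← map_mul, ← map_mul] at hu ⊢
      rw [h₁.1 hu]
    set R := (ι₁.range.comap ((MulAut.conj g).toMonoidHom.comp ι₁)).map S.subtype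
    have hR : R ≤ S := Subgroup.map_subtype_le _
    obtain ⟨f, hf, hfS, hfe⟩ := exists_isMap_of_elt h₁ hR g fun x hx => by
      obtain ⟨y, hy, e⟩ := hx
      obtain rfl : y = x := Subtype.ext e
      exact hy
    obtain ⟨y, hy⟩ := exists_elt_of_isMap h₂ hf
    have key : ∀ t u : S, ι₁ u = g * ι₁ t * g⁻¹ → ι₂ u = y * ι₂ t * y⁻¹ := fun t u hu => by
      have htR : (t : Ω) ∈ R := ⟨t, ⟨u, hu⟩, rfl⟩
      exact hy t htR u ((hfe t htR u).mpr hu)
    exact ⟨y, fun v w _ hw => key v w hw, fun s e => absurd ⟨s, e⟩ hg, key⟩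
  choose y hy hys hyk using hex
  let st := biCosetSetoid ι₁.range
  let r : G₁ → G₁ := fun g => (Quotient.mk st g).out
  have hr : ∀ g, ∃ s t : S, g = ι₁ s * r g * ι₁ t := fun g => by
    obtain ⟨_, ⟨s, rfl⟩, _, ⟨t, rfl⟩, e⟩ : st.r (r g) g := Quotient.mk_out (s := st) g
    exact ⟨s, t, e⟩
  choose a b hab using hr
  have hwd : ∀ (s t : S) g, ι₂ s * y (r g) * ι₂ t = ι₂ (a (ι₁ s * r g * ι₁ t)) *
      y (r (ι₁ s * r g * ι₁ t)) * ι₂ (b (ι₁ s * r g * ι₁ t)) := by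
    intro s t g
    set g' := ι₁ s * r g * ι₁ t
    have hrr : r g' = r g := by
      show (Quotient.mk st g').out = (Quotient.mk st g).out
      rw [show Quotient.mk st g' = Quotient.mk st g from ?_]
      refine Quotient.sound (st.trans ?_ (Quotient.mk_out (s := st) g))
      exact st.symm ⟨ι₁ s, ⟨s, rfl⟩, ι₁ t, ⟨t, rfl⟩, rfl⟩
    rw [hrr]
    have e : ι₁ s * r g * ι₁ t = ι₁ (a g') * r g * ι₁ (b g') := by
      conv_lhs => rw [show ι₁ s * r g * ι₁ t = g' from rfl, hab g', hrr]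
    set a' := a g'
    set b' := b g'
    have h1 : ι₁ (a'⁻¹ * s) = r g * ι₁ (b' * t⁻¹) * (r g)⁻¹ := by
      rw [map_mul, map_mul, map_inv, map_inv]
      calc (ι₁ a')⁻¹ * ι₁ s = (ι₁ a')⁻¹ * (ι₁ s * r g * ι₁ t) * (ι₁ t)⁻¹ * (r g)⁻¹ := by group
        _ = _ := by rw [e]; group
    have h2 := hyk _ _ _ h1
    rw [map_mul, map_mul, map_inv, map_inv] at h2
    calc ι₂ s * y (r g) * ι₂ t = ι₂ a' * ((ι₂ a')⁻¹ * ι₂ s) * y (r g) * ι₂ t := by group
      _ = _ := by rw [h2]; group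
  refine ⟨fun g => ι₂ (a g) * y (r g) * ι₂ (b g), fun g => ?_, fun s => ?_, fun s g t => ?_⟩
  · have h := ((sameAction_range (V := V) h₁.1 (a g)).mul h₁.1 (hy (r g))).mul h₁.1
      (sameAction_range (ι₂ := ι₂) h₁.1 (b g))
    rwa [← hab g] at h
  · obtain ⟨u, hu⟩ : ∃ u, r (ι₁ s) = ι₁ u :=
      ⟨(a (ι₁ s))⁻¹ * s * (b (ι₁ s))⁻¹, by
        rw [map_mul, map_mul, map_inv, map_inv]
        calc r (ι₁ s) = (ι₁ (a (ι₁ s)))⁻¹ * (ι₁ (a (ι₁ s)) * r (ι₁ s) * ι₁ (b (ι₁ s))) *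
              (ι₁ (b (ι₁ s)))⁻¹ := by group
          _ = _ := by rw [← hab (ι₁ s)]⟩
    show ι₂ _ * y _ * ι₂ _ = ι₂ s
    rw [hys _ u hu, ← map_mul, ← map_mul]
    exact congrArg ι₂ (h₁.1 (by rw [map_mul, map_mul, ← hu, ← hab]))
  · show ι₂ _ * y _ * ι₂ _ = ι₂ s * (ι₂ _ * y _ * ι₂ _) * ι₂ t
    have e : ι₁ s * g * ι₁ t = ι₁ (s * a g) * r g * ι₁ (b g * t) := by
      conv_lhs => rw [hab g]
      rw [map_mul, map_mul]
      group
    rw [e, ← hwd (s * a g) (b g * t) g, map_mul, map_mul]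
    group

theorem exists_model_hom (hS : IsPGroup p S) {ι₁ : S →* G₁} {ι₂ : S →* G₂}
    (h₁ : F.IsModel p G₁ ι₁) (h₂ : F.IsModel p G₂ ι₂) :
    ∃ φ : G₁ →* G₂, Function.Injective φ ∧ ∀ x, φ (ι₁ x) = ι₂ x := by
  classical
  obtain ⟨hN₁, hC₁⟩ := modelImage_core h₁
  obtain ⟨hN₂, hC₂⟩ := modelImage_core h₂
  haveI := h₁.1
  set V := F.core
  have hV : F.IsNormal V := isNormal_core
  obtain ⟨σ, hσ, hσS, hσe⟩ := exists_equivariant hV.1 h₁.2.1 h₂.2.1
  set A := Subgroup.centralizer (modelImage ι₂ V : Set G₂) with hA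
  haveI : IsMulCommutative A := isMulCommutative_centralizer hC₂
  haveI : A.Normal := by rw [hA]; infer_instance
  let c : G₁ → G₁ → A := fun g h => ⟨σ g * σ h * (σ (g * h))⁻¹,
    SameAction.quot_mem h₁.2.1.1 (hσ (g * h)) ((hσ g).mul h₁.2.1.1 (hσ h))⟩
  let γ : G₁ → A →* A := fun g =>
    (MulAut.conjNormal (H := A) (σ g)).toMonoidHom
  have hc : ∀ g h x, c g h * c (g * h) x = γ g (c h x) * c g (h * x) := fun g h x => Subtype.ext (by
    show σ g * σ h * (σ (g * h))⁻¹ * (σ (g * h) * σ x * (σ (g * h * x))⁻¹) =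
      σ g * (σ h * σ x * (σ (h * x))⁻¹) * (σ g)⁻¹ * (σ g * σ (h * x) * (σ (g * (h * x)))⁻¹)
    rw [mul_assoc g h x]
    group)
  have hright : ∀ g x (s : S), c g (x * ι₁ s) = c g x := fun g x s => Subtype.ext (by
    show σ g * σ (x * ι₁ s) * (σ (g * (x * ι₁ s)))⁻¹ = σ g * σ x * (σ (g * x))⁻¹
    have e1 := hσe 1 x s
    have e2 := hσe 1 (g * x) s
    rw [map_one, map_one, one_mul, one_mul] at e1 e2
    rw [← mul_assoc g, e1, e2]
    group)
  haveI : Finite (G₁ ⧸ ι₁.range) := Quotient.finite _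
  haveI := Fintype.ofFinite (G₁ ⧸ ι₁.range)
  have hout : ∀ g x, c g (QuotientGroup.mk (s := ι₁.range) x).out = c g x := fun g x => by
    obtain ⟨⟨_, s, rfl⟩, e⟩ := QuotientGroup.mk_out_eq_mul ι₁.range x
    rw [e, hright]
  let a : G₁ → A := fun g => ∏ q : G₁ ⧸ ι₁.range, c g q.out
  have hsum : ∀ g h, c g h ^ Nat.card (G₁ ⧸ ι₁.range) * a (g * h) = γ g (a h) * a g := by
    intro g h
    simp only [a]
    rw [map_prod, ← Equiv.prod_comp (MulAction.toPerm h : Equiv.Perm (G₁ ⧸ ι₁.range))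
      (fun q => c g q.out), ← Finset.prod_mul_distrib, Nat.card_eq_fintype_card, ← Finset.card_univ,
      ← Finset.prod_const, ← Finset.prod_mul_distrib]
    refine Finset.prod_congr rfl fun q _ => ?_
    rw [hc g h q.out]
    congr 1
    rw [← hout g (h * q.out)]
    congr 2
    show QuotientGroup.mk (h * q.out) = h • q
    conv_rhs => rw [← QuotientGroup.out_eq' q]
    rfl
  obtain ⟨ρ, hρ⟩ := exists_root (V := V) hS h₁.2.2.1 (A := A) hC₂
  have hu : ∀ g h, c g h * ρ (a (g * h)) = γ g (ρ (a h)) * ρ (a g) := fun g h => by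
    have hρexp : ∀ z : A, γ g (ρ z) = ρ (γ g z) := fun z => by
      have h1 := hρ (γ g (ρ z))
      rw [← map_pow, ← map_pow, hρ] at h1
      exact h1.symm
    rw [hρexp, ← map_mul, ← hsum, map_mul, hρ]
  let φf : G₁ → G₂ := fun g => ((ρ (a g) : A) : G₂)⁻¹ * σ g
  have hmul : ∀ g h, φf (g * h) = φf g * φf h := fun g h => by
    set U := ρ (a g)
    set W := ρ (a h)
    set X := ρ (a (g * h))
    have e : X⁻¹ = U⁻¹ * (γ g W)⁻¹ * c g h := by
      have h1 := hu g h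
      rw [← mul_inv_rev, ← h1, mul_inv_rev, inv_mul_cancel_right]
    show ((X : A) : G₂)⁻¹ * σ (g * h) = ((U : A) : G₂)⁻¹ * σ g * (((W : A) : G₂)⁻¹ * σ h)
    rw [← Subgroup.coe_inv, e]
    show ((U : A) : G₂)⁻¹ * (σ g * ((W : A) : G₂) * (σ g)⁻¹)⁻¹ * (σ g * σ h * (σ (g * h))⁻¹) *
      σ (g * h) = _
    group
  refine ⟨MonoidHom.mk' φf hmul, ?_, fun s => ?_⟩
  · refine (injective_iff_map_eq_one _).mpr fun g hg => ?_
    have h1 : SameAction ι₁ ι₂ V g (1 : G₂) := by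
      have := (hσ g).central h₁.2.1.1 h₂.2.1.1 (A.inv_mem (ρ (a g)).2)
      rwa [show ((ρ (a g) : A) : G₂)⁻¹ * σ g = 1 from hg] at this
    have h2 : g ∈ modelImage ι₁ V := hC₁ (Subgroup.mem_centralizer_iff.mpr (by
      rintro _ ⟨v, hv, rfl⟩
      obtain ⟨w, hw, hwe⟩ := hN₁.conj_mem _ ⟨v, hv, rfl⟩ g
      have h3 := h1 v w hv hwe
      rw [one_mul, inv_one, mul_one] at h3
      obtain rfl := h₂.2.1.1 h3
      exact (eq_mul_inv_iff_mul_eq.mp hwe)))
    obtain ⟨s, -, rfl⟩ := h2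
    have h3 : φf (ι₁ s) = ι₂ s := by
      have ha : a (ι₁ s) = 1 := Finset.prod_eq_one fun q _ => Subtype.ext (by
        show σ (ι₁ s) * σ q.out * (σ (ι₁ s * q.out))⁻¹ = 1
        have e := hσe s q.out 1
        rw [map_one, map_one, mul_one, mul_one] at e
        rw [e, hσS, mul_inv_cancel])
      show ((ρ (a (ι₁ s)) : A) : G₂)⁻¹ * σ (ι₁ s) = ι₂ s
      rw [ha, map_one, hσS]
      simp
    have h4 : ι₂ s = 1 := h3.symm.trans hg
    rw [h₂.2.1.1 (h4.trans (map_one ι₂).symm), map_one]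
  · have ha : a (ι₁ s) = 1 := Finset.prod_eq_one fun q _ => Subtype.ext (by
      show σ (ι₁ s) * σ q.out * (σ (ι₁ s * q.out))⁻¹ = 1
      have e := hσe s q.out 1
      rw [map_one, map_one, mul_one, mul_one] at e
      rw [e, hσS, mul_inv_cancel])
    show ((ρ (a (ι₁ s)) : A) : G₂)⁻¹ * σ (ι₁ s) = ι₂ s
    rw [ha, map_one, hσS]
    simp

/-- Any two models are isomorphic over `S`. -/
theorem model_unique (hS : IsPGroup p S) {ι₁ : S →* G₁} {ι₂ : S →* G₂}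
    (h₁ : F.IsModel p G₁ ι₁) (h₂ : F.IsModel p G₂ ι₂) :
    ∃ φ : G₁ ≃* G₂, ∀ x, φ (ι₁ x) = ι₂ x := by
  obtain ⟨φ, hφ, hφS⟩ := exists_model_hom hS h₁ h₂
  obtain ⟨ψ, hψ, -⟩ := exists_model_hom hS h₂ h₁
  haveI := h₁.1
  haveI := h₂.1
  have hb : Function.Bijective φ :=
    hφ.bijective_of_nat_card_le (Nat.card_le_card_of_injective ψ hψ)
  exact ⟨MulEquiv.ofBijective φ hb, hφS⟩

/-- An automorphism of a model fixing `S` is conjugation by a central element of `S`. -/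
theorem model_aut_fix (hS : IsPGroup p S) {ι : S →* G} (h : F.IsModel p G ι) (ψ : G ≃* G)
    (hψ : ∀ x, ψ (ι x) = ι x) :
    ∃ z : S, z ∈ Subgroup.center S ∧ ∀ g : G, ψ g = ι z * g * (ι z)⁻¹ := by
  classical
  obtain ⟨hN, hC⟩ := modelImage_core h
  haveI := h.1
  set V := F.core
  set A := Subgroup.centralizer (modelImage ι V : Set G) with hA
  haveI : IsMulCommutative A := isMulCommutative_centralizer hC
  haveI : A.Normal := by rw [hA]; infer_instance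
  have hfixV : ∀ n ∈ modelImage ι V, ψ n = n := by
    rintro _ ⟨v, -, rfl⟩
    exact hψ v
  have hd : ∀ g, ψ g * g⁻¹ ∈ A := fun g => by
    refine Subgroup.mem_centralizer_iff.mpr fun n hn => ?_
    have h1 : ψ (g⁻¹ * n * g) = g⁻¹ * n * g := by
      refine hfixV _ ?_
      have := hN.conj_mem n hn g⁻¹
      rwa [inv_inv] at this
    rw [map_mul, map_mul, map_inv, hfixV n hn] at h1
    calc n * (ψ g * g⁻¹) = ψ g * ((ψ g)⁻¹ * n * ψ g) * g⁻¹ := by group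
      _ = ψ g * g⁻¹ * n := by rw [h1]; group
  let d : G → A := fun g => ⟨ψ g * g⁻¹, hd g⟩
  let γ : G → A →* A := fun g => (MulAut.conjNormal (H := A) g).toMonoidHom
  have hcr : ∀ g x, d (g * x) = d g * γ g (d x) := fun g x => Subtype.ext (by
    show ψ (g * x) * (g * x)⁻¹ = ψ g * g⁻¹ * (g * (ψ x * x⁻¹) * g⁻¹)
    rw [map_mul]
    group)
  haveI : Finite (G ⧸ ι.range) := Quotient.finite _
  haveI := Fintype.ofFinite (G ⧸ ι.range)
  have hout : ∀ x, d (QuotientGroup.mk (s := ι.range) x).out = d x := fun x => by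
    obtain ⟨⟨_, s, rfl⟩, e⟩ := QuotientGroup.mk_out_eq_mul ι.range x
    refine Subtype.ext ?_
    show ψ _ * _⁻¹ = ψ x * x⁻¹
    rw [e, map_mul, hψ]
    group
  let a : A := ∏ q : G ⧸ ι.range, d q.out
  have hsum : ∀ g, a = d g ^ Nat.card (G ⧸ ι.range) * γ g a := fun g => by
    simp only [a]
    conv_lhs => rw [← Equiv.prod_comp (MulAction.toPerm g : Equiv.Perm (G ⧸ ι.range))
      (fun q => d q.out)]
    rw [map_prod, Nat.card_eq_fintype_card, ← Finset.card_univ, ← Finset.prod_const,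
      ← Finset.prod_mul_distrib]
    refine Finset.prod_congr rfl fun q _ => ?_
    rw [← hcr g q.out, ← hout (g * q.out)]
    congr 2
    show g • q = QuotientGroup.mk (g * q.out)
    conv_lhs => rw [← QuotientGroup.out_eq' q]
    rfl
  obtain ⟨ρ, hρ⟩ := exists_root (V := V) hS h.2.2.1 (A := A) hC
  set z₀ := ρ a
  have hz : ∀ g, ψ g = (z₀ : G) * g * (z₀ : G)⁻¹ := fun g => by
    have h1 := congrArg ρ (hsum g)
    have h2 : ρ (γ g a) = γ g (ρ a) := by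
      have h3 := hρ (γ g (ρ a))
      rwa [← map_pow, ← map_pow, hρ] at h3
    rw [map_mul, hρ, h2] at h1
    have h3 : (z₀ : G) = ψ g * g⁻¹ * (g * (z₀ : G) * g⁻¹) := congrArg Subtype.val h1
    calc ψ g = (ψ g * g⁻¹ * (g * (z₀ : G) * g⁻¹)) * g * (z₀ : G)⁻¹ := by group
      _ = _ := by rw [← h3]
  obtain ⟨z, -, hze⟩ := hC z₀.2
  refine ⟨z, Subgroup.mem_center_iff.mpr fun s => h.2.1.1 ?_, fun g => hze ▸ hz g⟩
  have h1 := hz (ι s)
  rw [hψ, ← hze, eq_mul_inv_iff_mul_eq] at h1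
  rw [map_mul, map_mul, h1]

end Cfsg.Lib.Fusion
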