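import Cfsg.Agent.Fusion.ModClosed
import Cfsg.Agent.Fusion.Factor
import Cfsg.Agent.S5134

/-!
Solvable systems are those with a strongly closed chain with abelian factors; they are constrained.
-/

set_option autoImplicit false

namespace Cfsg.Lib.Fusion

open Cfsg Cfsg.FusionSystem
open scoped commutatorElement

variable {Ω : Type*} [Group Ω] {S : Subgroup Ω} {F : FusionSystem S} {p : ℕ}

/-- A strongly closed chain with abelian factors from `R` up to `S`. -/
def AbTower (F : FusionSystem S) (R : Subgroup Ω) : Prop :=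
  ∃ (n : ℕ) (T : ℕ → Subgroup Ω), T 0 = R ∧ T n = S ∧
    ∀ i < n, T i ≤ T (i + 1) ∧ F.StronglyClosed (T (i + 1)) ∧ ⁅T (i + 1), T (i + 1)⁆ ≤ T i

theorem AbTower.cons {R U : Subgroup Ω} (h : AbTower F U) (hle : R ≤ U) (hU : F.StronglyClosed U)
    (hc : ⁅U, U⁆ ≤ R) : AbTower F R := by
  obtain ⟨n, T, h0, hn, hT⟩ := h
  refine ⟨n + 1, fun i => if i = 0 then R else T (i - 1), rfl, by simpa using hn, fun i hi => ?_⟩
  rcases i with _ | j
  · simp only [zero_add, one_ne_zero, ↓reduceIte, Nat.sub_self]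
    rw [h0]
    exact ⟨hle, hU, hc⟩
  · simpa using hT j (by omega)

theorem exists_factor_of_range [Finite S] {Ω' : Type*} [Group Ω'] {θ : S →* Ω'}
    (hθ : KerClosed F θ) {K : Subgroup Ω} (hKS : K ≤ S)
    (hker : ∀ s : S, θ s = 1 ↔ (s : Ω) ∈ K) {T : Subgroup Ω'} (hT : θ.range = T) :
    ∃ E : FusionSystem T, F.IsFactorSystem K θ E := by
  subst hT
  exact ⟨_, isFactorSystem_factorSystem hθ hKS hker⟩

theorem finite_of_range [Finite S] {Ω' : Type*} [Group Ω'] {θ : S →* Ω'} {S' : Subgroup Ω'}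
    (h : θ.range = S') : Finite S' := by
  subst h
  exact Finite.of_surjective θ.rangeRestrict θ.rangeRestrict_surjective

theorem abTower_of_solvable [Finite S] [Fact p.Prime] (hS : IsPGroup p S) (hF : F.IsSaturated p)
    (hsol : F.IsSolvableSystem) {R : Subgroup Ω} (hR : F.StronglyClosed R) : AbTower F R := by
  generalize hn : Nat.card S - Nat.card R = n
  induction n using Nat.strong_induction_on generalizing R with
  | _ n ih =>
  by_cases hRS : R = S
  · exact ⟨0, fun _ => R, rfl, hRS, fun i hi => absurd hi (Nat.not_lt_zero i)⟩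
  haveI hnor : (R.subgroupOf S).Normal :=
    ⟨fun x hx g => conj_mem_of_mem_normalizer (g := (g : Ω)) (x := (x : Ω))
      (normalizes_of_stronglyClosed hR g.2) hx⟩
  set θ := QuotientGroup.mk' (R.subgroupOf S)
  have hker : ∀ s : S, θ s = 1 ↔ (s : Ω) ∈ R := fun s =>
    (QuotientGroup.eq_one_iff s).trans Subgroup.mem_subgroupOf
  obtain ⟨E, hE⟩ := exists_factor_of_range (kerClosed_of_stronglyClosed hR hker) hR.1 hker
    (MonoidHom.range_eq_top.mpr (QuotientGroup.mk'_surjective (R.subgroupOf S)))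
  have hne := hsol R hR hRS E hE
  have hmor := (Cfsg.Agent.S5134.result p hS F hF R hR θ E hE).1
  haveI : Finite (⊤ : Subgroup (S ⧸ R.subgroupOf S)) := finite_of_range hE.2.2.1
  have hTp : IsPGroup p (⊤ : Subgroup (S ⧸ R.subgroupOf S)) :=
    (hS.to_quotient _).of_injective (Subgroup.subtype _) Subtype.val_injective
  set V := E.core
  have hV : E.IsNormal V := isNormal_core
  set W := (Subgroup.center V).map V.subtype
  have hWV : W ≤ V := Subgroup.map_subtype_le _
  have hWn : E.IsNormal W := isNormal_of_characteristic hV hWV (by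
    show (((Subgroup.center V).map V.subtype).comap V.subtype).Characteristic
    rw [Subgroup.comap_map_eq_self_of_injective V.subtype_injective]
    infer_instance)
  have hWne : W ≠ ⊥ := by
    intro h
    haveI : Finite V := finite_of_le hV.1
    haveI : Nontrivial V := V.nontrivial_iff_ne_bot.mpr hne
    have hVp : IsPGroup p V := hTp.of_injective _ (Subgroup.inclusion_injective hV.1)
    have := hVp.center_nontrivial
    obtain ⟨z, hz⟩ := exists_ne (1 : Subgroup.center V)
    exact hz (Subtype.ext (Subtype.ext (Subgroup.mem_bot.mp (h.le ⟨_, z.2, rfl⟩))))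
  set U := preimageAlong θ W
  have hRU : R ≤ U := fun x hx =>
    ⟨⟨x, hR.1 hx⟩, show θ ⟨x, hR.1 hx⟩ ∈ W from
      ((hker ⟨x, hR.1 hx⟩).mpr hx).symm ▸ W.one_mem, rfl⟩
  have hWsc := stronglyClosed_of_isNormal hWn
  have hUsc : F.StronglyClosed U := by
    refine stronglyClosed_of_apply (preimageAlong_le W) fun P f hf x hx hxU => ?_
    obtain ⟨φ, hφ, e⟩ := hf
    obtain ⟨φ', hφ', hP, hφS, hP', hind⟩ := hmor.2 P φ hφ
    obtain ⟨hxS, hxW⟩ := mem_preimageAlong.mp hxU
    rw [qmap_apply hxS] at hxW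
    have h1 := stronglyClosed_apply hWsc (isMap_of_mem hφ') (hP' ⟨x, hx⟩) hxW
    rw [toFun'_apply_mem φ' (hP' ⟨x, hx⟩), hind] at h1
    refine mem_preimageAlong.mpr ⟨e ⟨x, hx⟩ ▸ hφS _, ?_⟩
    rw [qmap_apply (e ⟨x, hx⟩ ▸ hφS _)]
    convert h1 using 2
    exact Subtype.ext (e ⟨x, hx⟩).symm
  have hUab : ⁅U, U⁆ ≤ R := by
    refine Subgroup.commutator_le.mpr ?_
    rintro _ ⟨a, ha, rfl⟩ _ ⟨b, hb, rfl⟩
    refine (hker ⁅a, b⁆).mp ?_
    rw [map_commutatorElement, commutatorElement_eq_one_iff_mul_comm]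
    obtain ⟨za, hza, ea⟩ := (Subgroup.mem_comap.mp ha : θ a ∈ W)
    obtain ⟨zb, -, eb⟩ := (Subgroup.mem_comap.mp hb : θ b ∈ W)
    rw [← ea, ← eb]
    exact congrArg Subtype.val (Subgroup.mem_center_iff.mp hza zb).symm
  have hlt : R < U := by
    refine lt_of_le_of_ne hRU fun h => hWne ?_
    refine le_bot_iff.mp fun w hw => ?_
    obtain ⟨s, rfl⟩ := QuotientGroup.mk'_surjective (R.subgroupOf S) w
    have hs : (s : Ω) ∈ U := ⟨s, hw, rfl⟩
    exact Subgroup.mem_bot.mpr ((hker s).mpr (h.symm ▸ hs))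
  refine (ih _ ?_ hUsc rfl).cons hRU hUsc hUab
  haveI := finite_of_le hUsc.1
  have h1 : Nat.card R < Nat.card U := lt_of_le_of_ne (Subgroup.card_le_of_le hlt.le) fun h =>
    hlt.ne (Subgroup.eq_of_le_of_card_ge hlt.le h.ge)
  have := Subgroup.card_le_of_le hUsc.1
  omega

theorem exists_first_not_le {V : Subgroup Ω} {n : ℕ} {T : ℕ → Subgroup Ω} (h0 : T 0 ≤ V)
    (hn : ¬ T n ≤ V) : ∃ i < n, T i ≤ V ∧ ¬ T (i + 1) ≤ V := by
  by_contra h
  push Not at h
  exact hn (Nat.rec (motive := fun i => i ≤ n → T i ≤ V) (fun _ => h0)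
    (fun i ih hi => h i hi (ih (by omega))) n le_rfl)

theorem solvable_of_abTower [Finite S] [Fact p.Prime] (hS : IsPGroup p S) (hF : F.IsSaturated p)
    (h : AbTower F ⊥) : F.IsSolvableSystem := by
  intro R hR hRS _ E hE
  obtain ⟨n, T, h0, hn, hT⟩ := h
  obtain ⟨i, hi, hle, hnle⟩ := exists_first_not_le (V := R) (T := T) (n := n) (by simp [h0])
    fun hle => hRS (le_antisymm hR.1 (hn ▸ hle))
  set θ := QuotientGroup.mk' (R.subgroupOf S)
  have hker := hE.2.1
  have hq := isQuot_of_isFactorSystem hR hE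
  haveI : Finite (⊤ : Subgroup (S ⧸ R.subgroupOf S)) := finite_of_range hE.2.2.1
  have hTp : IsPGroup p (⊤ : Subgroup (S ⧸ R.subgroupOf S)) :=
    (hS.to_quotient _).of_injective (Subgroup.subtype _) Subtype.val_injective
  obtain ⟨-, hsc, hcomm⟩ := hT i hi
  set W := imageAlong θ (T (i + 1))
  have hWsc : E.StronglyClosed W := by
    refine stronglyClosed_of_apply le_top fun P' f' hf' w hw hwW => ?_
    obtain ⟨f, hf, hff⟩ := hq.exists_lift hf'
    obtain ⟨s, hs, rfl⟩ := hwW
    have hsP : (s : Ω) ∈ preimageAlong θ P' := ⟨s, hw, rfl⟩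
    have h1 := hff s hsP
    rw [qmap_apply s.2, qmap_apply (hf.mem_S hsP)] at h1
    rw [h1]
    exact ⟨⟨f s, hf.mem_S hsP⟩, stronglyClosed_apply hsc hf hsP hs, rfl⟩
  have hWab : ⁅W, W⁆ ≤ ⊥ := by
    refine Subgroup.commutator_le.mpr ?_
    rintro _ ⟨a, ha, rfl⟩ _ ⟨b, hb, rfl⟩
    rw [Subgroup.mem_bot, ← map_commutatorElement]
    exact (hker _).mpr (hle (hcomm (Subgroup.commutator_mem_commutator ha hb)))
  have hWn : E.IsNormal W := isNormal_of_chain hTp (hq.saturated hS hF) hWsc 1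
    (fun j => if j = 0 then ⊥ else W) rfl (by simp)
    (fun j hj => by obtain rfl : j = 0 := (by omega); simpa using hWsc)
    (fun j hj => by obtain rfl : j = 0 := (by omega); simpa using hWab)
  intro hc
  refine hnle fun x hx => ?_
  have h1 : θ ⟨x, hsc.1 hx⟩ ∈ E.core :=
    (le_sSup hWn : W ≤ E.core) ⟨⟨x, hsc.1 hx⟩, hx, rfl⟩
  rw [hc, Subgroup.mem_bot] at h1
  exact (hker _).mp h1

theorem constrained_of_solvable [Finite S] [Fact p.Prime] (hS : IsPGroup p S) (hF : F.IsSaturated p)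
    (hsol : F.IsSolvableSystem) : F.IsConstrained p := by
  obtain ⟨n, T, h0, hn, hT⟩ := abTower_of_solvable hS hF hsol
    (stronglyClosed_of_isNormal (isNormal_bot' : F.IsNormal ⊥))
  set V := F.core
  have hV : F.IsNormal V := isNormal_core
  refine ⟨hF, V, hV, centric_of_fullyCentralized hS hF
    (fullyNormalized_props hS hF (fullyNormalized_of_isNormal hV)).1 ?_⟩
  set C := centralizerIn S V
  by_contra hC
  have hCsc : F.StronglyClosed C := by
    refine stronglyClosed_of_apply inf_le_left fun P f hf x hx hxC => ?_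
    obtain ⟨k, hk, hkf, hki⟩ := extend_of_isNormal hV hf
    rw [← hkf x hx]
    refine mem_centralizerIn.mpr ⟨hk.mem_S (Subgroup.mem_sup_left hx), fun y hy => ?_⟩
    obtain ⟨z, hz, rfl⟩ := (hk.mono le_sup_right).mem_img.mp (hki.symm ▸ hy)
    rw [← hk.map_conj (Subgroup.mem_sup_left hx) (Subgroup.mem_sup_right hz),
      (mem_centralizerIn.mp hxC).2 z hz]
  obtain ⟨i, hi, hle, hnle⟩ := exists_first_not_le (V := V) (T := fun i => T i ⊓ C) (n := n)
    (by simp [h0]) fun h => hC (fun x hx => h ⟨hn ▸ hx.1, hx⟩)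
  obtain ⟨-, hsc, hcomm⟩ := hT i hi
  set X := T (i + 1) ⊓ C
  have hX : F.StronglyClosed X := stronglyClosed_of_apply (inf_le_right.trans inf_le_left)
    fun P f hf x hx hxX =>
      ⟨stronglyClosed_apply hsc hf hx hxX.1, stronglyClosed_apply hCsc hf hx hxX.2⟩
  have hXV : F.StronglyClosed (X ⊓ V) := stronglyClosed_of_apply (inf_le_right.trans hV.1)
    fun P f hf x hx hxX => ⟨stronglyClosed_apply hX hf hx hxX.1,
      stronglyClosed_apply (stronglyClosed_of_isNormal hV) hf hx hxX.2⟩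
  refine hnle (le_sSup (isNormal_of_chain hS hF hX 2
    (fun j => if j = 0 then ⊥ else if j = 1 then X ⊓ V else X) rfl (by simp)
    (fun j hj => ?_) fun j hj => ?_) : X ≤ V)
  · interval_cases j
    · simpa using hXV
    · simpa using hX
  · interval_cases j
    · simp only [zero_add, one_ne_zero, ↓reduceIte]
      refine Subgroup.commutator_le.mpr fun a ha b hb => ?_
      rw [Subgroup.mem_bot, commutatorElement_eq_one_iff_mul_comm]
      exact Subgroup.mem_centralizer_iff.mp hb.2.2 a ha.2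
    · simp only [OfNat.ofNat_ne_zero, one_add_one_eq_two, OfNat.ofNat_ne_one, ↓reduceIte, one_ne_zero]
      refine Subgroup.commutator_le.mpr fun a ha b hb => ⟨?_, hle ⟨?_, ?_⟩⟩
      · rw [commutatorElement_def]
        exact X.mul_mem (X.mul_mem (X.mul_mem ha hb) (X.inv_mem ha)) (X.inv_mem hb)
      · exact hcomm (Subgroup.commutator_mem_commutator ha.1 hb.1)
      · rw [commutatorElement_def]
        exact C.mul_mem (C.mul_mem (C.mul_mem ha.2 hb.2) (C.inv_mem ha.2)) (C.inv_mem hb.2)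

end Cfsg.Lib.Fusion
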