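import Cfsg.Agent.Fusion.SimpleGroup
import Cfsg.Agent.PGroups.Basic

/-!
A group with one class of involutions whose involution centraliser has a self-centralising normal
2-subgroup, and is generated by 2-elements, has a simple 2-fusion system.
-/

set_option autoImplicit false

namespace Cfsg.Lib.Fusion

open Cfsg Cfsg.FusionSystem Subgroup

theorem isSimple_of_one_class {L : Type*} [Group L] [Finite L] {t : L} (Q : Subgroup L) (S₀ S : Sylow 2 L)
    (htne : t ≠ 1) (hQS : Q ≤ (S₀ : Subgroup L)) (htQ : t ∈ Q)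
    (hSC : ∀ x ∈ (S₀ : Subgroup L), Commute x t)
    (hcen : ∀ x ∈ (S₀ : Subgroup L), (∀ q ∈ Q, Commute x q) → x = 1 ∨ x = t)
    (hnorm : ∀ c : L, Commute c t → c ∈ normalizer (Q : Set L))
    (hconj : ∀ x : L, x * x = 1 → x ≠ 1 → ∃ g : L, g * t * g⁻¹ = x)
    (hgenS : (S₀ : Subgroup L) ≤ closure {x | x ∈ (S₀ : Subgroup L) ∧ x * x = 1})
    (hgenC : ∀ c : L, Commute c t → c ∈ closure {x | Commute x t ∧ ∃ k : ℕ, x ^ 2 ^ k = 1}) :
    (groupFusionSystem (S : Subgroup L)).IsSimple 2 := by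
  haveI : Fact (Nat.Prime 2) := ⟨Nat.prime_two⟩
  have htS : t ∈ (S₀ : Subgroup L) := hQS htQ
  refine isSimple_of_normalResidual S₀ S (fun h => htne (mem_bot.1 (h ▸ htS))) (fun T hT => ?_) ?_
  · by_cases hb : T = ⊥
    · exact Or.inl hb
    refine Or.inr (le_antisymm hT.1 ?_)
    have hcl : ∀ g x : L, x ∈ T → g * x * g⁻¹ ∈ (S₀ : Subgroup L) → g * x * g⁻¹ ∈ T := fun g x hx hgx => by
      have hm : IsMap (groupFusionSystem (S₀ : Subgroup L)) (zpowers x) (fun y => g * y * g⁻¹) := by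
        refine isMap_group_iff.mpr ⟨zpowers_le.2 (hT.1 hx), fun y hy => ?_, g, fun _ _ => rfl⟩
        obtain ⟨i, rfl⟩ := hy
        show g * x ^ i * g⁻¹ ∈ _
        rw [← _root_.conj_zpow]
        exact zpow_mem hgx i
      exact stronglyClosed_apply hT hm (mem_zpowers x) hx
    have hn : (T.subgroupOf (S₀ : Subgroup L)).Normal := ⟨fun x hx s =>
      mem_subgroupOf.2 (by
        simpa using hcl s x (mem_subgroupOf.1 hx) (by simpa using (s * x * s⁻¹).2))⟩
    obtain ⟨⟨g, hgS⟩, hgT, hgc, hg2⟩ := Cfsg.Lib.PGroups.exists_mem_center_of_normal_ne_bot S₀.2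
      (N := T.subgroupOf (S₀ : Subgroup L)) (by
        rw [Ne, subgroupOf_eq_bot, disjoint_iff, inf_eq_left.2 hT.1]; exact hb)
    have hgt : g = t := by
      refine (hcen g hgS fun q hq => ?_).resolve_left ?_
      · exact (congrArg Subtype.val (mem_center_iff.1 hgc ⟨q, hQS hq⟩)).symm
      · rintro rfl
        rw [show (⟨1, hgS⟩ : (S₀ : Subgroup L)) = 1 from rfl, orderOf_one] at hg2
        omega
    have htT : t ∈ T := hgt ▸ mem_subgroupOf.1 hgT
    refine hgenS.trans ((closure_le _).2 ?_)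
    rintro x ⟨hxS, hxx⟩
    by_cases hx1 : x = 1
    · rw [hx1]; exact one_mem T
    obtain ⟨a, ha⟩ := hconj x hxx hx1
    rw [← ha]
    exact hcl a t htT (ha ▸ hxS)
  · intro x hx
    have hxC : Commute x t := by
      have hS' : x * t * x⁻¹ ∈ (S₀ : Subgroup L) := (mem_normalizer_iff.1 hx t).1 htS
      have hcomm : ∀ q ∈ Q, Commute (x * t * x⁻¹) q := by
        intro q hq
        have h1 : x⁻¹ * q * x ∈ (S₀ : Subgroup L) := (mem_normalizer_iff.1 hx _).2 (by
          rw [show x * (x⁻¹ * q * x) * x⁻¹ = q by group]; exact hQS hq)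
        have h2 : x⁻¹ * q * x * t = t * (x⁻¹ * q * x) := (hSC _ h1).eq
        show x * t * x⁻¹ * q = q * (x * t * x⁻¹)
        calc x * t * x⁻¹ * q = x * (t * (x⁻¹ * q * x)) * x⁻¹ := by group
          _ = x * (x⁻¹ * q * x * t) * x⁻¹ := by rw [h2]
          _ = _ := by group
      rcases hcen _ hS' hcomm with e | e
      · exact absurd (conj_eq_one_iff.1 e) htne
      · exact mul_inv_eq_iff_eq_mul.1 e
    refine subset_closure (Or.inl (Or.inl ⟨hx, Q, hQS, fun s hs => hnorm s (hSC s hs), ?_, ?_⟩))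
    · rintro y ⟨hy, hyc⟩
      rcases hcen y hy fun q hq => (mem_centralizer_iff.1 hyc q hq).symm with e | e
      · rw [e]; exact one_mem Q
      · rw [e]; exact htQ
    · refine closure_mono ?_ (hgenC x hxC)
      rintro y ⟨hy, hk⟩
      exact ⟨hnorm y hy, hk⟩

end Cfsg.Lib.Fusion
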