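import Cfsg.Agent.Fusion.CharacterSub
import Cfsg.Agent.Fusion.Hyperfocal
import Cfsg.Agent.Transfer.Basic

/-!
Normal subsystems of `p`-power index contain the normal subsystems below them.
-/

set_option autoImplicit false
set_option linter.unusedSectionVars false
set_option linter.style.haveILetI false

namespace Cfsg.Lib.Fusion.PPower

open Cfsg Cfsg.FusionSystem Cfsg.Lib.Fusion

universe u

variable {Ω : Type u} [Group Ω] {S T U : Subgroup Ω} {F : FusionSystem S} {E : FusionSystem T}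
  {F₀ : FusionSystem U} {p : ℕ}

/-- Automizers of an invariant subsystem are normal. -/
theorem conj_mem_autGroup (hE : F₀.IsInvariantIn F) {R : Subgroup Ω} (hR : R ≤ U)
    {β γ : MulAut R} (hβ : β ∈ F.autGroup R) (hγ : γ ∈ F₀.autGroup R) :
    β * γ * β⁻¹ ∈ F₀.autGroup R := by
  have hβm := (isMap_autFun (F := F) (hR.trans hE.2.1.1)).mpr hβ
  have hγm := (isMap_autFun hR).mpr hγ
  obtain ⟨α, hα, b, hb, hbe⟩ := CharSub.frattiniT hE hR hβm
  obtain ⟨d, hd, -, hdl, -⟩ := hb.exists_inv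
  have hdR : ∀ y ∈ img R b, d y ∈ R := fun y hy => by
    obtain ⟨x, hx, rfl⟩ := hb.mem_img.mp hy
    rwa [hdl x hx]
  have h1 : IsMap F₀ (img R b) (b ∘ (autFun γ ∘ d)) :=
    (hd.comp hγm hdR).comp hb fun y hy => autFun_mem γ (hdR y hy)
  have h2 := CharSub.transT hE h1 hα
  have hle : R ≤ img (img R b) (autFun α) := fun y hy => by
    have hy' : autFun β (autFun β⁻¹ y) = y := autFun_inv_apply β hy
    rw [← hy', hbe _ (autFun_mem _ hy)]
    exact IsMap.apply_mem_img (IsMap.apply_mem_img (autFun_mem _ hy))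
  refine (isMap_autFun hR).mp ((h2.mono hle).congr fun y hy => ?_)
  have hx := autFun_mem β⁻¹ hy
  have hy' : autFun β (autFun β⁻¹ y) = y := autFun_inv_apply β hy
  have e1 : autFun α⁻¹ y = b (autFun β⁻¹ y) := by
    conv_lhs => rw [← hy', hbe _ hx]
    exact autFun_inv_apply' α (hb.mem_S hx)
  show autFun (β * γ * β⁻¹) y = autFun α (b (autFun γ (d (autFun α⁻¹ y))))
  rw [e1, hdl _ hx, autFun_mul _ _ hy, autFun_mul _ _ hx, hbe _ (autFun_mem γ hx)]

/-- The main theorem. -/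
theorem le_of_contains [Finite S] [Fact p.Prime] (hS : IsPGroup p S) (hT : T ≤ S)
    (hE : E.IsSaturated p) (hs : E.IsSubsystemOf F) (hF₀ : F₀.IsInvariantIn F) (hTU : T ≤ U)
    (hidx : F₀.HasPPowerIndexIn F p) : E.IsSubsystemOf F₀ := by
  haveI := finite_of_le hT
  have hTp : IsPGroup p T := hS.of_injective _ (Subgroup.inclusion_injective hT)
  have hcls : IsMapClass E (IsMap F₀) :=
    { conj := fun P g hP hg => isMap_conj (hP.trans hTU) (hTU hg)
      congr := fun P f f' _ e h => h.congr e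
      mono := fun P R f _ hR h => h.mono hR
      comp := fun P Q f g _ _ hfQ hf hg => hf.comp hg hfQ
      inv := by
        intro P f g _ hg hl hf
        obtain ⟨k, hk, -, hkl, -⟩ := hf.exists_inv
        refine hk.congr fun y hy => ?_
        obtain ⟨x, hx, rfl⟩ := hf.mem_img.mp hy
        rw [hl x hx, hkl x hx] }
  have hall : ∀ Q : Subgroup Ω, E.IsFullyNormalized Q → ∀ α ∈ E.autGroup Q,
      α ∈ F₀.autGroup Q := by
    intro Q hQn α hα
    have hQ := hQn.1
    haveI := finite_of_le hQ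
    have hle : E.autGroup Q ≤ F.autGroup Q := fun γ hγ => (isMap_autFun (hQ.trans hT)).mp
      (CharSub.isMap_of_sub hs ((isMap_autFun hQ).mpr hγ))
    obtain ⟨a, b, ha, hb, hab, ⟨k, hk⟩, hcop⟩ := Cfsg.Lib.Transfer.exists_pPart p α
    have haE := (Subgroup.zpowers_le.mpr hα) ha
    have hbE := (Subgroup.zpowers_le.mpr hα) hb
    rw [← hab]
    refine Subgroup.mul_mem _ ?_ (hidx.2.2 Q (hQ.trans hTU) ⟨⟨b, hle hbE⟩,
      Subgroup.subset_closure (by rw [Set.mem_ofPred_eq, Subgroup.orderOf_mk]; exact hcop), rfl⟩)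
    obtain ⟨χ, hχ, hχK⟩ := exists_conj_into_autS (fullyNormalized_props hTp hE hQn).2.1
      (IsPGroup.of_card (by rw [Nat.card_zpowers, hk]) : IsPGroup p (Subgroup.zpowers a))
      (Subgroup.zpowers_le.mpr haE)
    have h1 : χ * a * χ⁻¹ ∈ F₀.autGroup Q :=
      autInducedBy_le (hQ.trans hTU) (autInducedBy_mono hTU (hχK a (Subgroup.mem_zpowers a)))
    have h2 := conj_mem_autGroup hF₀ (hQ.trans hTU) ((F.autGroup Q).inv_mem (hle hχ)) h1
    rwa [show χ⁻¹ * (χ * a * χ⁻¹) * χ⁻¹⁻¹ = a by group] at h2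
  have hTn : E.IsFullyNormalized T := ⟨le_rfl, fun Q hQ => by
    obtain ⟨f, hf, rfl⟩ := isConj_iff.mp hQ
    rw [Subgroup.eq_of_le_of_card_ge hf.img_le hf.card_img.ge]⟩
  intro P φ hφ
  refine IsMap.mem_toFun' (alperin_radical hTp hE hcls (fun f hf => ?_)
    (fun Q _ hQn _ _ _ α hα => (isMap_autFun (hQn.1.trans hTU)).mpr (hall Q hQn α hα))
    (isMap_of_mem hφ))
  obtain ⟨α, hα, e⟩ := hf.exists_aut (Subgroup.eq_of_le_of_card_ge hf.img_le hf.card_img.ge)
  exact ((isMap_autFun hTU).mpr (hall T hTn α hα)).congr fun x hx => (e x hx).symm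

end Cfsg.Lib.Fusion.PPower
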