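import Cfsg.Agent.Fusion.SimpleGroup
import Cfsg.Agent.Known.AutPSLn.Sylow

/-!
The `p`-fusion system of `PSL n q`, `q` a power of `p`, `n ≥ 3`.
-/

set_option autoImplicit false

namespace Cfsg.Lib.Fusion.PSLn

open Matrix Cfsg.Lib.Known.AutPSLn Cfsg.Lib.Known.ThreeUnipotents
open Matrix.SpecialLinearGroup (transvection diag2n)

variable {F : Type*} [Field F] [Fintype F] {n : ℕ}

local notation "SLn" => Matrix.SpecialLinearGroup (Fin n) F
local notation "Pn" => Matrix.ProjectiveSpecialLinearGroup (Fin n) F

theorem coe_transvection {i j : Fin n} (h : i ≠ j) (c : F) :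
    ((transvection h c : SLn) : Matrix (Fin n) (Fin n) F) = Matrix.transvection i j c := rfl

theorem mul_transvection_apply (M : Matrix (Fin n) (Fin n) F) (i j r s : Fin n) (c : F) :
    (M * Matrix.transvection i j c) r s = M r s + (if s = j then c * M r i else 0) := by
  split_ifs with h
  · subst h; rw [Matrix.mul_transvection_apply_same]
  · rw [Matrix.mul_transvection_apply_of_ne _ _ _ _ h, add_zero]

theorem transvection_mul_apply (M : Matrix (Fin n) (Fin n) F) (i j r s : Fin n) (c : F) :
    (Matrix.transvection i j c * M) r s = M r s + (if r = i then c * M j s else 0) := by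
  split_ifs with h
  · subst h; rw [Matrix.transvection_mul_apply_same]
  · rw [Matrix.transvection_mul_apply_of_ne _ _ _ _ h, add_zero]

/-- The upper unitriangular group is generated by root elements. -/
theorem upperUni_le (H : Subgroup SLn)
    (h : ∀ (i j : Fin n) (hij : i < j) (c : F), transvection hij.ne c ∈ H) :
    upperUni ≤ H := by
  classical
  intro M
  induction hm : (Finset.univ.filter fun q : Fin n × Fin n =>
      q.1 < q.2 ∧ (M : Matrix (Fin n) (Fin n) F) q.1 q.2 ≠ 0).card
    using Nat.strong_induction_on generalizing M with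
  | _ m ih =>
  intro hM
  set D := Finset.univ.filter fun q : Fin n × Fin n =>
      q.1 < q.2 ∧ (M : Matrix (Fin n) (Fin n) F) q.1 q.2 ≠ 0
  rcases D.eq_empty_or_nonempty with hD | hD
  · suffices M = 1 from this ▸ H.one_mem
    refine Subtype.ext ?_
    ext r s
    rcases le_or_gt s r with hsr | hsr
    · rw [hM r s hsr]
      simp [Matrix.one_apply]
    · have h0 : (r, s) ∉ D := hD ▸ Finset.notMem_empty _
      simp only [D, Finset.mem_filter, Finset.mem_univ, true_and, hsr, ne_eq, not_not] at h0
      simp [h0, Matrix.one_apply_ne hsr.ne]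
  obtain ⟨⟨i, j⟩, hq, hmax⟩ := D.exists_max_image (fun q => q.1) hD
  simp only [D, Finset.mem_filter, Finset.mem_univ, true_and] at hq
  obtain ⟨hij, hne⟩ := hq
  set c := (M : Matrix (Fin n) (Fin n) F) i j
  have hrow : ∀ s, (M : Matrix (Fin n) (Fin n) F) j s = if j = s then 1 else 0 := fun s => by
    rcases le_or_gt s j with hs | hs
    · exact hM j s hs
    · rw [if_neg hs.ne]
      by_contra h0
      exact (hmax (j, s) (by simp [D, hs, h0])).not_gt hij
  set M' := transvection hij.ne (-c) * M
  have hM' : ∀ r s, (M' : Matrix (Fin n) (Fin n) F) r s =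
      if r = i ∧ s = j then 0 else (M : Matrix (Fin n) (Fin n) F) r s := fun r s => by
    show (((transvection hij.ne (-c) : SLn) : Matrix (Fin n) (Fin n) F) * M) r s = _
    rw [coe_transvection, transvection_mul_apply]
    by_cases hr : r = i
    · subst hr
      rw [hrow]
      by_cases hs : s = j
      · subst hs; simp [c]
      · simp [hs, Ne.symm hs]
    · simp [hr]
  have hlt : (Finset.univ.filter fun q : Fin n × Fin n =>
      q.1 < q.2 ∧ (M' : Matrix (Fin n) (Fin n) F) q.1 q.2 ≠ 0).card < m := by
    rw [← hm]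
    refine Finset.card_lt_card ((Finset.ssubset_iff_of_subset fun q => ?_).mpr
      ⟨(i, j), by simp [D, hij]; exact hne, by simp [hM']⟩)
    simp only [D, Finset.mem_filter, Finset.mem_univ, true_and, hM', ne_eq]
    split_ifs with hh
    · simp
    · exact id
  have h2 := ih _ hlt (M := M') rfl (upperUni.mul_mem (upperUni_transvection hij (-c)) hM)
  have h3 := H.mul_mem (H.inv_mem (h i j hij (-c))) h2
  rwa [show M' = transvection hij.ne (-c) * M from rfl, inv_mul_cancel_left] at h3

/-- Determinant-one diagonal matrices are generated by coroot elements. -/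
theorem diag_mem (H : Subgroup SLn)
    (h : ∀ (i j : Fin n) (hij : i.1 + 1 = j.1) (hne : i ≠ j) (a : F) (ha : a ≠ 0), diag2n hne a ha ∈ H) :
    ∀ (M : SLn) (d : Fin n → F), (M : Matrix (Fin n) (Fin n) F) = diagonal d → M ∈ H := by
  classical
  suffices key : ∀ (k : ℕ) (M : SLn) (d : Fin n → F), (M : Matrix (Fin n) (Fin n) F) = diagonal d →
      (∀ r : Fin n, k < r.1 → d r = 1) → M ∈ H from
    fun M d hd => key n M d hd fun r hr => absurd r.2 hr.le.not_gt
  intro k
  induction k with
  | zero =>
    intro M d hd h1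
    suffices M = 1 from this ▸ H.one_mem
    refine Subtype.ext ?_
    rw [hd]
    show diagonal d = 1
    rw [← diagonal_one, diagonal_eq_diagonal_iff]
    intro r
    rcases Nat.eq_zero_or_pos r.1 with hr | hr
    · have hdet : ∏ x, d x = 1 := by
        rw [← det_diagonal, ← hd]; exact M.2
      rwa [Finset.prod_eq_single r (fun x _ hx => h1 x (Nat.pos_of_ne_zero fun h0 =>
        hx (Fin.ext (h0.trans hr.symm)))) (by simp)] at hdet
    · exact h1 r hr
  | succ k ih =>
    intro M d hd h1
    rcases Nat.lt_or_ge (k + 1) n with hk | hk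
    swap
    · exact ih M d hd fun r hr => absurd r.2 (by omega)
    set i : Fin n := ⟨k, by omega⟩
    set j : Fin n := ⟨k + 1, hk⟩
    have hne : i ≠ j := by simp [i, j]
    have hdj : d j ≠ 0 := by
      intro h0
      have hdet : ∏ x, d x = 1 := by rw [← det_diagonal, ← hd]; exact M.2
      rw [Finset.prod_eq_zero (Finset.mem_univ j) h0] at hdet
      exact zero_ne_one hdet
    have h2 := ih (diag2n hne (d j) hdj * M) (fun r => (if r = i then d j else if r = j then (d j)⁻¹ else 1) * d r)
      (by
        show _ * (M : Matrix (Fin n) (Fin n) F) = _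
        rw [Matrix.SpecialLinearGroup.diag2n_coe, hd, diagonal_mul_diagonal])
      (fun r hr => by
        have hri : r ≠ i := fun e => by rw [e] at hr; exact lt_irrefl k hr
        rcases Nat.lt_or_ge (k + 1) r.1 with hr1 | hr1
        · have hrj : r ≠ j := fun e => by rw [e] at hr1; exact lt_irrefl (k + 1) hr1
          simp [hri, hrj, h1 r hr1]
        · have hrj : r = j := Fin.ext (show r.1 = k + 1 by omega)
          simp [hrj, hne.symm, hdj])
    have h3 := H.mul_mem (H.inv_mem (h i j rfl hne (d j) hdj)) h2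
    rwa [inv_mul_cancel_left] at h3

/-- The unipotent radical of a minimal parabolic. -/
noncomputable def radical (i j : Fin n) (hij : i.1 + 1 = j.1) : Subgroup SLn where
  carrier := {M | M ∈ upperUni (F := F) (n := n) ∧ (M : Matrix (Fin n) (Fin n) F) i j = 0}
  one_mem' := ⟨one_mem _, by simp [Matrix.one_apply_ne (show i ≠ j from fun e => by rw [e] at hij; omega)]⟩
  mul_mem' := by
    rintro M N ⟨hM, hM0⟩ ⟨hN, hN0⟩
    refine ⟨mul_mem hM hN, ?_⟩
    show ((M : Matrix (Fin n) (Fin n) F) * N) i j = 0
    rw [Matrix.mul_apply]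
    refine Finset.sum_eq_zero fun k _ => ?_
    rcases le_or_gt k i with hk | hk
    · rcases hk.lt_or_eq with hk | rfl
      · rw [hM i k hk.le, if_neg hk.ne', zero_mul]
      · rw [hN0, mul_zero]
    · rcases eq_or_ne k j with rfl | hkj
      · rw [hM0, zero_mul]
      · rw [hN k j (Fin.le_def.2 (by have := Fin.lt_def.1 hk; omega)), if_neg hkj, mul_zero]
  inv_mem' := by
    rintro M ⟨hM, hM0⟩
    have hMi := upperUni.inv_mem hM
    refine ⟨hMi, ?_⟩
    have h1 : ((M : Matrix (Fin n) (Fin n) F) * (M⁻¹ : SLn)) i j = 0 := by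
      rw [show (M : Matrix (Fin n) (Fin n) F) * (M⁻¹ : SLn) = 1 from congrArg Subtype.val (mul_inv_cancel M),
        Matrix.one_apply_ne (fun e => by rw [e] at hij; omega)]
    rw [Matrix.mul_apply, Finset.sum_eq_single i] at h1
    · rwa [hM i i le_rfl, if_pos rfl, one_mul] at h1
    · intro k _ hk
      rcases lt_or_gt_of_ne hk with hk' | hk'
      · rw [hM i k hk'.le, if_neg hk'.ne', zero_mul]
      · rcases eq_or_ne k j with rfl | hkj
        · rw [hM0, zero_mul]
        · rw [hMi k j (Fin.le_def.2 (by have := Fin.lt_def.1 hk'; omega)), if_neg hkj, mul_zero]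
    · simp

theorem conj_mem_radical {i j : Fin n} (hij : i.1 + 1 = j.1) (hne : j ≠ i) (a : F) {M : SLn}
    (hM : M ∈ radical i j hij) : transvection hne a * M * (transvection hne a)⁻¹ ∈ radical i j hij := by
  obtain ⟨hU, h0⟩ := hM
  have hlt : i < j := Fin.lt_def.2 (by omega)
  have key : ∀ r s, ((transvection hne a * M * (transvection hne a)⁻¹ : SLn) : Matrix (Fin n) (Fin n) F) r s =
      ((M : Matrix (Fin n) (Fin n) F) r s + if r = j then a * (M : Matrix (Fin n) (Fin n) F) i s else 0) +
        if s = i then -a * ((M : Matrix (Fin n) (Fin n) F) r j +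
          if r = j then a * (M : Matrix (Fin n) (Fin n) F) i j else 0) else 0 := fun r s => by
    rw [Matrix.SpecialLinearGroup.transvection_inv]
    rw [Matrix.SpecialLinearGroup.coe_mul, Matrix.SpecialLinearGroup.coe_mul,
      coe_transvection, coe_transvection, mul_transvection_apply, transvection_mul_apply,
      transvection_mul_apply]
  refine ⟨fun r s hsr => ?_, ?_⟩
  · rw [key, h0, mul_zero, ite_self, add_zero]
    rcases eq_or_ne r j with hr | hr
    · subst hr
      rcases eq_or_ne s i with rfl | hsi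
      · rw [hU r s hsr, if_neg hlt.ne', hU s s le_rfl, hU r r le_rfl]
        simp [hlt.ne']
      · have hz : (M : Matrix (Fin n) (Fin n) F) i s = 0 := by
          rcases le_or_gt s i with h1 | h1
          · rw [hU i s h1, if_neg hsi.symm]
          · rcases eq_or_ne s r with rfl | h2
            · exact h0
            · exact absurd (Fin.lt_def.1 h1) (by
                have := Fin.le_def.1 hsr
                have : s.1 ≠ r.1 := fun e => h2 (Fin.ext e)
                omega)
        rw [hz, mul_zero, if_neg hsi, hU r s hsr]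
        simp
    · rw [if_neg hr, add_zero, hU r s hsr]
      rcases eq_or_ne s i with rfl | hsi
      · rw [if_pos rfl]
        rcases eq_or_ne r s with rfl | hrs
        · rw [h0]; simp
        · rw [hU r j (Fin.le_def.2 (by
              have := Fin.le_def.1 hsr
              have : r.1 ≠ s.1 := fun e => hrs (Fin.ext e)
              omega)), if_neg hr]
          simp
      · simp [hsi]
  · rw [key, if_neg hlt.ne, if_neg hlt.ne', h0]
    simp

theorem conj_mem_radical_of_upperUni {i j : Fin n} (hij : i.1 + 1 = j.1) {u M : SLn}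
    (hu : u ∈ upperUni (F := F) (n := n)) (hM : M ∈ radical i j hij) : u * M * u⁻¹ ∈ radical i j hij := by
  refine ⟨mul_mem (mul_mem hu hM.1) (inv_mem hu), ?_⟩
  have hentry : ∀ A B : SLn, A ∈ upperUni (F := F) (n := n) → B ∈ upperUni (F := F) (n := n) →
      ((A * B : SLn) : Matrix (Fin n) (Fin n) F) i j =
        (A : Matrix (Fin n) (Fin n) F) i j + (B : Matrix (Fin n) (Fin n) F) i j := by
    intro A B hA hB
    have hne : i ≠ j := fun e => by rw [e] at hij; omega
    show ((A : Matrix (Fin n) (Fin n) F) * B) i j = _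
    rw [Matrix.mul_apply, ← Finset.sum_subset (Finset.subset_univ {i, j}), Finset.sum_pair hne,
      hA i i le_rfl, if_pos rfl, hB j j le_rfl, if_pos rfl, one_mul, mul_one, add_comm]
    intro k _ hk
    simp only [Finset.mem_insert, Finset.mem_singleton, not_or] at hk
    rcases lt_or_gt_of_ne hk.1 with h | h
    · rw [hA i k h.le, if_neg h.ne', zero_mul]
    · rw [hB k j (Fin.le_def.2 (by have := Fin.lt_def.1 h; omega)), if_neg hk.2, mul_zero]
  rw [hentry _ _ (mul_mem hu hM.1) (inv_mem hu), hentry _ _ hu hM.1, hM.2, add_zero,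
    ← hentry _ _ hu (inv_mem hu), mul_inv_cancel]
  exact Matrix.one_apply_ne fun e => by rw [e] at hij; omega

theorem radical_centralizer {i j : Fin n} (hij : i.1 + 1 = j.1) (hn : 3 ≤ n) {u : SLn}
    (hu : u ∈ upperUni (F := F) (n := n))
    (hc : ∀ r ∈ radical (F := F) i j hij, u * r = r * u) : u ∈ radical i j hij := by
  refine ⟨hu, ?_⟩
  by_contra ha
  have hne : i ≠ j := fun e => by rw [e] at hij; omega
  by_cases hj : j.1 + 1 < n
  · set k : Fin n := ⟨j.1 + 1, hj⟩
    have hjk : j < k := Fin.lt_def.2 (Nat.lt_succ_self _)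
    have hr : transvection hjk.ne (1 : F) ∈ radical i j hij := ⟨upperUni_transvection hjk 1, by
      rw [coe_transvection, Matrix.transvection, Matrix.add_apply, Matrix.one_apply_ne hne,
        Matrix.single_apply]
      simp [hne.symm]⟩
    have h1 := congrArg (fun x : SLn => (x : Matrix (Fin n) (Fin n) F) i k) (hc _ hr)
    simp only [Matrix.SpecialLinearGroup.coe_mul, coe_transvection, mul_transvection_apply,
      transvection_mul_apply] at h1
    simp [hne] at h1
    exact ha h1
  · have hi : 1 ≤ i.1 := by have := j.2; omega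
    set k : Fin n := ⟨i.1 - 1, by omega⟩
    have hki : k < i := Fin.lt_def.2 (show i.1 - 1 < i.1 by omega)
    have hkj : k < j := Fin.lt_def.2 (show i.1 - 1 < j.1 by omega)
    have hr : transvection hki.ne (1 : F) ∈ radical i j hij := ⟨upperUni_transvection hki 1, by
      rw [coe_transvection, Matrix.transvection, Matrix.add_apply, Matrix.one_apply_ne hne,
        Matrix.single_apply]
      simp [hki.ne]⟩
    have h1 := congrArg (fun x : SLn => (x : Matrix (Fin n) (Fin n) F) k j) (hc _ hr)
    simp only [Matrix.SpecialLinearGroup.coe_mul, coe_transvection, mul_transvection_apply,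
      transvection_mul_apply] at h1
    simp [hne.symm] at h1
    exact ha h1

/-- Equal in `PSL` and upper unitriangular: equal. -/
theorem eq_of_π_eq (hn : 1 ≤ n) {M N : SLn} (hM : M ∈ upperUni (F := F) (n := n))
    (hN : N ∈ upperUni (F := F) (n := n)) (h : π M = π N) : M = N := by
  obtain ⟨c, hc⟩ := π_eq h
  have h0 := congrFun (congrFun hc ⟨0, hn⟩) ⟨0, hn⟩
  rw [hN _ _ le_rfl, Matrix.smul_apply, hM _ _ le_rfl, if_pos rfl, smul_eq_mul, mul_one] at h0
  exact Subtype.ext (by rw [hc, ← h0, one_smul])

theorem transvection_pow_card (p : ℕ) [CharP F p] {i j : Fin n} (h : i ≠ j) (c : F) :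
    (transvection h c : SLn) ^ p = 1 := by
  have key : ∀ m : ℕ, ((transvection h c : SLn) : Matrix (Fin n) (Fin n) F) ^ m =
      Matrix.transvection i j ((m : F) * c) := by
    intro m
    induction m with
    | zero => simp
    | succ m ih =>
      rw [pow_succ, ih, coe_transvection, Matrix.transvection_mul_transvection_same i j h]
      push_cast
      ring_nf
  refine Subtype.ext ?_
  rw [Matrix.SpecialLinearGroup.coe_pow, key, CharP.cast_eq_zero, zero_mul, Matrix.transvection_zero]
  rfl

/-- The normalizer of the image of the unitriangular group consists of upper triangular elements. -/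
theorem upper_of_normalize {M : SLn} (hn : 1 ≤ n)
    (h : ∀ u ∈ upperUni (F := F) (n := n), π (M⁻¹ * u * M) ∈ (upperUni (F := F) (n := n)).map π) :
    ∀ r s : Fin n, s < r → (M : Matrix (Fin n) (Fin n) F) r s = 0 := by
  classical
  suffices key : ∀ (s r : Fin n), s < r → (M : Matrix (Fin n) (Fin n) F) r s = 0 from fun r s => key s r
  intro s
  induction s using WellFoundedLT.induction with
  | _ s ih =>
  intro r hsr
  by_contra hne
  obtain ⟨r, hr, hmax⟩ := (Finset.univ.filter fun r : Fin n =>
    s < r ∧ (M : Matrix (Fin n) (Fin n) F) r s ≠ 0).exists_max_image id ⟨r, by simp [hsr, hne]⟩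
  simp only [Finset.mem_filter, Finset.mem_univ, true_and] at hr hmax
  set q : Fin n := ⟨r.1 - 1, by omega⟩
  have hrpos : s.1 < r.1 := hr.1
  have hqr : q < r := Fin.lt_def.2 (show r.1 - 1 < r.1 by omega)
  obtain ⟨u, hu, hue⟩ := h _ (upperUni_transvection hqr (1 : F))
  obtain ⟨c, hc⟩ := π_eq hue
  have hcc : ((M⁻¹ * transvection hqr.ne (1 : F) * M : SLn) : Matrix (Fin n) (Fin n) F) =
      c • (u : Matrix (Fin n) (Fin n) F) := hc
  set E := ((transvection hqr.ne (1 : F) : SLn) : Matrix (Fin n) (Fin n) F) with hE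
  set W : Matrix (Fin n) (Fin n) F := c • (u : Matrix (Fin n) (Fin n) F) with hW
  have hEM : E * (M : Matrix (Fin n) (Fin n) F) = (M : Matrix (Fin n) (Fin n) F) * W := by
    rw [← hcc, hE, ← Matrix.SpecialLinearGroup.coe_mul, ← Matrix.SpecialLinearGroup.coe_mul,
      mul_assoc M⁻¹, mul_inv_cancel_left]
  -- `c = 1`
  have hsq : (W - 1) * (W - 1) = 0 := by
    have h1 : (E - 1) * (E - 1) = 0 := by
      rw [hE, coe_transvection, Matrix.transvection, add_sub_cancel_left,
        Matrix.single_mul_single_of_ne (h := hqr.ne')]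
    have hMi : ((M⁻¹ : SLn) : Matrix (Fin n) (Fin n) F) * M = 1 := congrArg Subtype.val (inv_mul_cancel M)
    have h2 : W - 1 = ((M⁻¹ : SLn) : Matrix (Fin n) (Fin n) F) * (E - 1) * M := by
      rw [mul_sub, sub_mul, mul_assoc, hEM, ← mul_assoc, hMi, one_mul, mul_one, hMi]
    have hMi' : (M : Matrix (Fin n) (Fin n) F) * (M⁻¹ : SLn) = 1 := congrArg Subtype.val (mul_inv_cancel M)
    rw [h2]
    calc _ = ((M⁻¹ : SLn) : Matrix (Fin n) (Fin n) F) * (E - 1) *
          ((M : Matrix (Fin n) (Fin n) F) * (M⁻¹ : SLn)) * (E - 1) * M := by simp only [mul_assoc]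
      _ = 0 := by rw [hMi', mul_one, mul_assoc ((M⁻¹ : SLn) : Matrix (Fin n) (Fin n) F), h1, mul_zero, zero_mul]
  have hdiag : ∀ k, W k k = c := fun k => by
    rw [hW, Matrix.smul_apply, hu k k le_rfl, if_pos rfl, smul_eq_mul, mul_one]
  have hlow : ∀ k l, l < k → W k l = 0 := fun k l hkl => by
    rw [hW, Matrix.smul_apply, hu k l hkl.le, if_neg hkl.ne', smul_zero]
  have hc1 : c = 1 := by
    have h3 := congrFun (congrFun hsq ⟨0, hn⟩) ⟨0, hn⟩
    rw [Matrix.mul_apply, Finset.sum_eq_single ⟨0, hn⟩] at h3
    · rw [Matrix.sub_apply, hdiag, Matrix.one_apply_eq, Matrix.zero_apply, mul_self_eq_zero, sub_eq_zero] at h3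
      exact h3
    · intro k _ hk
      have : (⟨0, hn⟩ : Fin n) < k := Fin.lt_def.2 (Nat.pos_of_ne_zero fun e => hk (Fin.ext e))
      rw [Matrix.sub_apply, Matrix.sub_apply, hlow _ _ this, Matrix.one_apply_ne this.ne', sub_zero, mul_zero]
    · simp
  have h4 := congrFun (congrFun hEM q) s
  rw [hE, coe_transvection, transvection_mul_apply, if_pos rfl, one_mul, Matrix.mul_apply,
    Finset.sum_eq_single s, hdiag, hc1, mul_one, add_eq_left] at h4
  · exact hr.2 h4
  · intro k _ hk
    rcases lt_or_gt_of_ne hk with hlt | hgt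
    · rw [ih k hlt q (lt_of_lt_of_le hlt (Fin.le_def.2 (show s.1 ≤ r.1 - 1 by omega))), zero_mul]
    · rw [hlow k s hgt, mul_zero]
  · simp

variable (p : ℕ) [Fact p.Prime] [CharP F p]

theorem isSimple (hn : 3 ≤ n) (S : Sylow p Pn) :
    (Cfsg.groupFusionSystem (S : Subgroup Pn)).IsSimple p := by
  classical
  have hsurj : Function.Surjective (π (F := F) (n := n)) := QuotientGroup.mk'_surjective _
  obtain ⟨Q, hQ⟩ := exists_sylow_upperUni (F := F) (n := n) p
  set S' := S
  obtain ⟨S, hS⟩ : ∃ S : Sylow p Pn, (S : Subgroup Pn) = (upperUni (F := F) (n := n)).map π :=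
    ⟨Q.mapSurjective hsurj, by rw [Sylow.coe_mapSurjective, hQ]⟩
  haveI : Finite Pn := inferInstance
  set i0 : Fin n := ⟨0, by omega⟩
  set il : Fin n := ⟨n - 1, by omega⟩
  have h0l : i0 < il := Fin.lt_def.2 (show 0 < n - 1 by omega)
  have hmemS : ∀ M ∈ upperUni (F := F) (n := n), π M ∈ (S : Subgroup Pn) := fun M hM =>
    hS.symm ▸ Subgroup.mem_map_of_mem _ hM
  have hne : (S : Subgroup Pn) ≠ ⊥ := fun e => by
    have h1 := hmemS _ (upperUni_transvection h0l (1 : F))
    rw [e, Subgroup.mem_bot, ← map_one (π (F := F) (n := n))] at h1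
    have h2 := congrArg (fun x : SLn => (x : Matrix (Fin n) (Fin n) F) i0 il)
      (eq_of_π_eq (by omega) (upperUni_transvection h0l (1 : F)) (one_mem _) h1)
    simp [coe_transvection, Matrix.transvection, Matrix.one_apply_ne h0l.ne] at h2
  refine isSimple_of_normalResidual S S' hne (fun T hT => ?_) ?_
  · -- strongly closed subgroups
    refine or_iff_not_imp_left.mpr fun hT1 => le_antisymm hT.1 ?_
    have hTn : (T.subgroupOf (S : Subgroup Pn)).Normal :=
      (Subgroup.normal_subgroupOf_iff_le_normalizer hT.1).mpr (normalizes_of_stronglyClosed hT)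
    obtain ⟨z, hzT, hzC, hz1⟩ : ∃ z : (S : Subgroup Pn), z ∈ T.subgroupOf (S : Subgroup Pn) ∧
        z ∈ Subgroup.center (S : Subgroup Pn) ∧ z ≠ 1 := by
      obtain ⟨z, h1, h2, h3⟩ := Cfsg.Lib.PGroups.exists_mem_center_of_normal_ne_bot S.2
        (N := T.subgroupOf (S : Subgroup Pn)) (by
          rw [Ne, Subgroup.subgroupOf_eq_bot, disjoint_iff, inf_eq_left.mpr hT.1]
          exact hT1)
      exact ⟨z, h1, h2, fun h4 => by
        rw [h4, orderOf_one] at h3
        exact (Fact.out : p.Prime).ne_one h3.symm⟩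
    have hgen : ∀ U : Subgroup Pn, U = (S : Subgroup Pn) → (z : Pn) ∈ (Subgroup.center U).map U.subtype := by
      rintro U rfl; exact ⟨z, hzC, rfl⟩
    have hzmem := hgen _ hS.symm
    rw [center_upperUni hn] at hzmem
    obtain ⟨x, hx⟩ := hzmem
    have hd : Pi.single il (1 : F) ⬝ᵥ Pi.single i0 1 = 0 := by simp [h0l.ne]
    have hz' : (z : Pn) = π (rankOne (Pi.single i0 1) (Pi.single il 1) hd x.toAdd) := hx.symm
    have ha : x.toAdd ≠ 0 := fun e => hz1 (Subtype.ext (by
      rw [hz', e, show rankOne (Pi.single i0 1) (Pi.single il 1) hd (0 : F) = 1 from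
        Subtype.ext (by simp [coe_rankOne]), map_one]
      rfl))
    have hroot : ∀ (i j : Fin n) (hij : i < j) (b : F), π (transvection hij.ne b) ∈ T := by
      intro i j hij b
      by_cases hb : b = 0
      · rw [hb, show (transvection hij.ne (0 : F) : SLn) = 1 from
          Subtype.ext (by simp [coe_transvection]), map_one]
        exact one_mem T
      obtain ⟨g, c, hc, hg1, hg2⟩ := exists_conj_standard hn (v := Pi.single i (1 : F))
        (ψ := Pi.single j (1 : F)) (by simp) (by simp) (by simp [hij.ne])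
      obtain ⟨k, hki, hkj⟩ := Cfsg.Lib.Classical.exists_third (ι := Fin n) (by simpa using hn) i j
      have hg : g * rankOne (Pi.single i0 1) (Pi.single il 1) hd x.toAdd * g⁻¹ =
          transvection hij.ne (x.toAdd / c) := by
        refine Subtype.ext ?_
        have hgi : (g : Matrix (Fin n) (Fin n) F) * (g⁻¹ : SLn) = 1 := congrArg Subtype.val (mul_inv_cancel g)
        have h2 : Pi.single il (1 : F) ᵥ* ((g⁻¹ : SLn) : Matrix (Fin n) (Fin n) F) = c⁻¹ • Pi.single j 1 := by
          rw [eq_inv_smul_iff₀ hc, ← smul_vecMul, ← hg2, vecMul_vecMul, hgi, vecMul_one]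
        rw [transv_eq]
        show (g : Matrix (Fin n) (Fin n) F) * (1 + x.toAdd • vecMulVec (Pi.single i0 1) (Pi.single il 1)) *
          ((g⁻¹ : SLn) : Matrix (Fin n) (Fin n) F) = _
        rw [mul_add, mul_one, add_mul, hgi, mul_smul_comm, smul_mul_assoc, mul_vecMulVec, vecMulVec_mul,
          hg1, h2, vecMulVec_smul, smul_smul, div_eq_mul_inv]
      set t := b / (x.toAdd / c)
      have ht : t ≠ 0 := div_ne_zero hb (div_ne_zero ha hc)
      have hconj : diag2n hki.symm t ht * transvection hij.ne (x.toAdd / c) * (diag2n hki.symm t ht)⁻¹ =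
          transvection hij.ne b := by
        rw [mul_inv_eq_iff_eq_mul]
        refine Subtype.ext ?_
        show _ * _ = _ * _
        rw [Matrix.SpecialLinearGroup.diag2n_coe]
        ext r s
        rw [coe_transvection, coe_transvection, Matrix.diagonal_mul, Matrix.mul_diagonal,
          Matrix.transvection, Matrix.transvection, Matrix.add_apply, Matrix.add_apply,
          Matrix.single_apply, Matrix.single_apply]
        rcases eq_or_ne r s with rfl | hrs
        · have : ¬ (i = r ∧ j = r) := fun e => hij.ne (e.1.trans e.2.symm)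
          simp [this]
        · rw [Matrix.one_apply_ne hrs]
          by_cases e : i = r ∧ j = s
          · obtain ⟨rfl, rfl⟩ := e
            simp [hij.ne', hkj.symm, t]
            field_simp
          · simp [e]
      set G := π (diag2n hki.symm t ht * g)
      have hGz : G * (z : Pn) * G⁻¹ = π (transvection hij.ne b) := by
        rw [hz', ← map_inv, ← map_mul, ← map_mul, _root_.mul_inv_rev, ← hconj, ← hg]
        simp only [mul_assoc]
      have hm : IsMap (Cfsg.groupFusionSystem (S : Subgroup Pn)) (Subgroup.zpowers (z : Pn))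
          (fun y => G * y * G⁻¹) := isMap_group_iff.mpr ⟨Subgroup.zpowers_le.mpr z.2, fun y hy => by
        obtain ⟨k, rfl⟩ := hy
        show G * (z : Pn) ^ k * G⁻¹ ∈ (S : Subgroup Pn)
        rw [← _root_.conj_zpow, hGz]
        exact zpow_mem (hmemS _ (upperUni_transvection hij b)) k, G, fun _ _ => rfl⟩
      have := stronglyClosed_apply hT hm (Subgroup.mem_zpowers _) (Subgroup.mem_subgroupOf.mp hzT)
      rwa [hGz] at this
    rw [hS]
    rintro _ ⟨M, hM, rfl⟩
    exact upperUni_le (T.comap π) (fun i j hij c => hroot i j hij c) hM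
  · -- the normalizer of `S`
    set K := Subgroup.closure (normalResidual p (S : Subgroup Pn) ∪ ((S : Subgroup Pn) : Set Pn) ∪
        Subgroup.centralizer ((S : Subgroup Pn) : Set Pn))
    have hcoroot : ∀ (i j : Fin n) (hij : i.1 + 1 = j.1) (hne : i ≠ j) (a : F) (ha : a ≠ 0),
        π (diag2n hne a ha) ∈ K := by
      intro i j hij hne a ha
      have hlt : i < j := Fin.lt_def.2 (by omega)
      refine Subgroup.subset_closure (Or.inl (Or.inl ⟨?_, (radical i j hij).map π, ?_⟩))
      · refine mem_normalizer_of_maps_finite ?_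
        rw [hS]
        rintro _ ⟨M, hM, rfl⟩
        refine ⟨diag2n hne a ha * M * (diag2n hne a ha)⁻¹, ?_, by simp⟩
        intro r s hsr
        rw [Matrix.SpecialLinearGroup.coe_mul, Matrix.SpecialLinearGroup.coe_mul,
          show (diag2n hne a ha)⁻¹ = diag2n hne a⁻¹ (inv_ne_zero ha) from ?_,
          Matrix.SpecialLinearGroup.diag2n_coe, Matrix.SpecialLinearGroup.diag2n_coe,
          Matrix.mul_diagonal, Matrix.diagonal_mul, hM r s hsr]
        · rcases eq_or_ne r s with rfl | hrs
          · simp only [if_true, mul_one]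
            split_ifs <;> simp [ha]
          · simp [hrs]
        · refine inv_eq_of_mul_eq_one_right (Subtype.ext ?_)
          show _ * _ = _
          rw [Matrix.SpecialLinearGroup.diag2n_coe, Matrix.SpecialLinearGroup.diag2n_coe,
            diagonal_mul_diagonal]
          show _ = (1 : Matrix (Fin n) (Fin n) F)
          rw [← diagonal_one, diagonal_eq_diagonal_iff]
          intro r
          split_ifs <;> simp [ha]
      have hRS : (radical i j hij).map π ≤ (S : Subgroup Pn) := by
        rintro _ ⟨M, hM, rfl⟩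
        exact hmemS _ hM.1
      refine ⟨hRS, (by
        intro g hg
        rw [hS] at hg
        obtain ⟨u, hu, rfl⟩ := hg
        refine mem_normalizer_of_maps_finite ?_
        rintro _ ⟨M, hM, rfl⟩
        exact ⟨u * M * u⁻¹, conj_mem_radical_of_upperUni hij hu hM, by simp⟩), (by
        rintro g ⟨hg, hgc⟩
        rw [hS] at hg
        obtain ⟨u, hu, rfl⟩ := hg
        refine ⟨u, radical_centralizer hij hn hu fun r hr => ?_, rfl⟩
        refine eq_of_π_eq (by omega) (mul_mem hu hr.1) (mul_mem hr.1 hu) ?_
        rw [map_mul, map_mul]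
        exact (Subgroup.mem_centralizer_iff.mp hgc _ ⟨r, hr, rfl⟩).symm), ?_⟩
      set L := Subgroup.closure {x : Pn | x ∈ Subgroup.normalizer (((radical (F := F) i j hij).map π : Subgroup Pn) : Set Pn) ∧
        ∃ k : ℕ, x ^ p ^ k = 1}
      have hroots : ∀ b : F, π (transvection hne b) ∈ L ∧ π (transvection hne.symm b) ∈ L := by
        intro b
        constructor
        · refine Subgroup.subset_closure ⟨mem_normalizer_of_maps_finite ?_, 1, by
            rw [pow_one, ← map_pow, transvection_pow_card p, map_one]⟩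
          rintro _ ⟨M, hM, rfl⟩
          exact ⟨_, conj_mem_radical_of_upperUni hij (upperUni_transvection hlt b) hM, by simp⟩
        · refine Subgroup.subset_closure ⟨mem_normalizer_of_maps_finite ?_, 1, by
            rw [pow_one, ← map_pow, transvection_pow_card p, map_one]⟩
          rintro _ ⟨M, hM, rfl⟩
          exact ⟨_, conj_mem_radical hij hne.symm b hM, by simp⟩
      rw [Cfsg.Lib.Classical.diag2n_eq_prod hne a ha]
      simp only [map_mul]
      exact mul_mem (mul_mem (mul_mem (mul_mem (mul_mem (hroots _).1 (hroots _).2) (hroots _).1)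
        (hroots _).1) (hroots _).2) (hroots _).1
    intro g hg
    obtain ⟨M, rfl⟩ := hsurj g
    have hup : ∀ r s : Fin n, s < r → (M : Matrix (Fin n) (Fin n) F) r s = 0 :=
      upper_of_normalize (by omega) fun u hu => by
        rw [← hS, map_mul, map_mul, map_inv]
        have h1 := Subgroup.inv_mem _ hg
        have := conj_mem_of_mem_normalizer h1 (hmemS u hu)
        rwa [inv_inv] at this
    set d : Fin n → F := fun r => (M : Matrix (Fin n) (Fin n) F) r r
    have hdet : ∏ r, d r = 1 := by
      rw [← Matrix.det_of_isUpperTriangular (M := (M : Matrix (Fin n) (Fin n) F)) fun r s hrs => hup r s hrs]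
      exact M.2
    let D : SLn := ⟨diagonal d, by rw [det_diagonal, hdet]⟩
    have hd0 : ∀ r, d r ≠ 0 := fun r h0 => zero_ne_one <| by
      rw [← hdet, Finset.prod_eq_zero (Finset.mem_univ r) h0]
    let D' : SLn := ⟨diagonal fun r => (d r)⁻¹, by rw [det_diagonal, Finset.prod_inv_distrib, hdet, inv_one]⟩
    have hU : D' * M ∈ upperUni (F := F) (n := n) := fun r s hsr => by
      rw [Matrix.SpecialLinearGroup.coe_mul, Matrix.diagonal_mul]
      rcases eq_or_ne r s with rfl | hrs
      · rw [if_pos rfl, inv_mul_cancel₀ (hd0 r)]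
      · rw [if_neg hrs, hup r s (lt_of_le_of_ne hsr hrs.symm), mul_zero]
    have hDD : D * D' = 1 := Subtype.ext (by
      show diagonal d * diagonal _ = (1 : Matrix (Fin n) (Fin n) F)
      rw [diagonal_mul_diagonal, ← diagonal_one, diagonal_eq_diagonal_iff]
      exact fun r => mul_inv_cancel₀ (hd0 r))
    have hD : π D ∈ K := diag_mem (K.comap π) hcoroot D d rfl
    have h3 : π (D' * M) ∈ K := Subgroup.subset_closure (Or.inl (Or.inr (hmemS _ hU)))
    have h4 := K.mul_mem hD h3
    rwa [← map_mul, ← mul_assoc, hDD, one_mul] at h4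

end Cfsg.Lib.Fusion.PSLn
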