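import Cfsg.Agent.Fusion.ModelUnique
import Cfsg.Agent.Fusion.Realized
import Cfsg.Agent.PLocal.StableClosureApps
import Cfsg.Agent.PLocal.Constrained
import Cfsg.Agent.Components.PComponents

/-!
Systems realized by `p`-solvable groups.
-/

set_option autoImplicit false

namespace Cfsg.Lib.Fusion

open Cfsg Cfsg.FusionSystem

universe u

/-- An extension of a `p`-solvable group by a `p`-group is `p`-solvable. -/
theorem isPSolvable_of_pGroup_ker {G H : Type*} [Group G] [Group H] [Finite G] {p : ℕ}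
    [Fact p.Prime] {f : G →* H} (hf : Function.Surjective f) (hker : IsPGroup p f.ker)
    (h : IsPSolvable p H) : IsPSolvable p G := by
  obtain ⟨n, C, h0, hn, hmono, hnor, hidx⟩ := h
  let D : Fin (n + 1 + 1) → Subgroup G := Fin.cons ⊥ fun i => (C i).comap f
  refine ⟨n + 1, D, rfl, ?_, ?_, fun i => ?_, fun i => ?_⟩
  · show D (Fin.last (n + 1)) = ⊤
    rw [← Fin.succ_last]
    simp [D, hn]
  · refine Fin.monotone_iff_le_succ.mpr fun i => ?_
    induction i using Fin.cases with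
    | zero => simp [D]
    | succ j =>
      rw [← Fin.succ_castSucc]
      simp only [D, Fin.cons_succ]
      exact Subgroup.comap_mono (hmono (Fin.castSucc_le_succ j))
  · induction i using Fin.cases with
    | zero => exact (inferInstance : (⊥ : Subgroup G).Normal)
    | succ j =>
      simp only [D, Fin.cons_succ]
      exact (hnor j).comap f
  · induction i using Fin.cases with
    | zero =>
      left
      simp only [D, Fin.castSucc_zero, Fin.cons_zero, Fin.cons_succ, h0, MonoidHom.comap_bot,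
        Subgroup.relIndex_bot_left]
      exact hker.exists_card_eq
    | succ j =>
      rw [← Fin.succ_castSucc]
      simp only [D, Fin.cons_succ]
      rw [Subgroup.relIndex_comap, Subgroup.map_comap_eq_self_of_surjective hf]
      exact hidx j

variable {Ω : Type u} [Group Ω] {S : Subgroup Ω} {F : FusionSystem S} {p : ℕ}

/-- The automizer of the core as a quotient of a model. -/
theorem exists_core_hom [Finite S] [Fact p.Prime] {G : Type*} [Group G] {ι : S →* G}
    (h : F.IsModel p G ι) (hS : IsPGroup p S) :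
    ∃ Θ : G →* F.autGroup F.core, Function.Surjective Θ ∧ IsPGroup p Θ.ker := by
  obtain ⟨hN, hC⟩ := modelImage_core h
  obtain ⟨-, hreal, -, -⟩ := h
  set V := F.core
  have hV : F.IsNormal V := isNormal_core
  let e : V ≃* modelImage ι V :=
    (Subgroup.subgroupOfEquivOfLe hV.1).symm.trans ((V.subgroupOf S).equivMapOfInjective ι hreal.1)
  have he : ∀ v : V, ((e v : modelImage ι V) : G) = ι ⟨v, hV.1 v.2⟩ := fun v => rfl
  let Θ₀ : G →* MulAut V := (MulAut.congr e.symm).toMonoidHom.comp MulAut.conjNormal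
  have hΘ : ∀ (g : G) (v : V),
      ι ⟨(Θ₀ g v : V), hV.1 (Θ₀ g v).2⟩ = g * ι ⟨v, hV.1 v.2⟩ * g⁻¹ := fun g v => by
    rw [← he (Θ₀ g v)]
    show ((e (e.symm (MulAut.conjNormal g (e v))) : modelImage ι V) : G) = _
    rw [MulEquiv.apply_symm_apply, MulAut.conjNormal_apply, he]
  have hmem : ∀ g, Θ₀ g ∈ F.autGroup V := fun g => by
    obtain ⟨f, hf, hfS, hfe⟩ := exists_isMap_of_elt hreal hV.1 g fun x hx => by
      obtain ⟨w, -, hw⟩ := hN.conj_mem _ ((mem_modelImage hreal.1).mpr hx) g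
      exact ⟨w, hw⟩
    refine (isMap_autFun hV.1).mp (hf.congr fun x hx => ?_)
    rw [autFun_apply_mem _ hx]
    exact (hfe ⟨x, hV.1 hx⟩ hx ⟨_, hV.1 (Θ₀ g ⟨x, hx⟩).2⟩).mpr (hΘ g ⟨x, hx⟩)
  refine ⟨Θ₀.codRestrict _ hmem, fun α => ?_, ?_⟩
  · obtain ⟨g, hg⟩ := exists_elt_of_isMap hreal ((isMap_autFun hV.1).mpr α.2)
    refine ⟨g, Subtype.ext (MulEquiv.ext fun v => Subtype.ext ?_)⟩
    have h1 := hg ⟨v, hV.1 v.2⟩ v.2 ⟨_, hV.1 ((α : MulAut V) v).2⟩ (autFun_apply _ v).symm
    rw [← hΘ g v] at h1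
    exact (congrArg Subtype.val (hreal.1 h1)).symm
  · have hle : (Θ₀.codRestrict _ hmem).ker ≤ ι.range := by
      refine le_trans ?_ (hC.trans (modelImage_le_range ι V))
      intro g hg
      refine Subgroup.mem_centralizer_iff.mpr ?_
      rintro _ ⟨v, hv, rfl⟩
      have h1 : Θ₀ g = 1 := congrArg Subtype.val (MonoidHom.mem_ker.mp hg)
      have h2 := hΘ g ⟨(v : Ω), hv⟩
      simp only [h1, MulAut.one_apply] at h2
      exact eq_mul_inv_iff_mul_eq.mp h2
    exact (hS.of_surjective _ ι.rangeRestrict_surjective).to_le hle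

/-- Dividing out a normal subgroup of order prime to `p`. -/
theorem realizedBy_quotient [Finite S] [Fact p.Prime] {G : Type*} [Group G] [Finite G] {ι : S →* G}
    (hreal : F.IsRealizedBy ι) (hsyl : ∃ T : Sylow p G, (T : Subgroup G) = ι.range)
    (N : Subgroup G) [N.Normal] (hN : (Nat.card N).Coprime p) :
    F.IsRealizedBy ((QuotientGroup.mk' N).comp ι) ∧
      ∃ T : Sylow p (G ⧸ N), (T : Subgroup (G ⧸ N)) = ((QuotientGroup.mk' N).comp ι).range := by
  obtain ⟨T, hT⟩ := hsyl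
  set π := QuotientGroup.mk' N
  have hinter : ∀ s : S, ι s ∈ N → s = 1 := by
    intro s hs
    obtain ⟨k, hk⟩ := T.isPGroup' ⟨ι s, hT.ge ⟨s, rfl⟩⟩
    refine hreal.1 ?_
    rw [map_one]
    exact orderOf_eq_one_iff.mp (Nat.eq_one_of_dvd_coprimes (hN.pow_right k)
      (by rw [← Subgroup.orderOf_mk (ι s) hs]; exact orderOf_dvd_natCard _)
      (orderOf_dvd_of_pow_eq_one (congrArg Subtype.val hk)))
  have hinj : Function.Injective (π.comp ι) := (injective_iff_map_eq_one _).mpr fun s hs =>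
    hinter s ((QuotientGroup.eq_one_iff _).mp hs)
  refine ⟨⟨hinj, fun P hP φ hφ => ⟨fun hm => ?_, ?_⟩⟩, ?_⟩
  · obtain ⟨g, hg⟩ := (hreal.2 P hP φ hφ).mp hm
    refine ⟨π g, fun x => ?_⟩
    show π (ι _) = π g * π (ι _) * (π g)⁻¹
    rw [← map_inv, ← map_mul, ← map_mul, hg]
  · rintro ⟨gb, hgb⟩
    obtain ⟨g, rfl⟩ := QuotientGroup.mk'_surjective N gb
    refine (hreal.2 P hP φ hφ).mpr ?_
    have hmax : IsMaxPIn p (T : Subgroup G) ((T : Subgroup G) ⊔ N) :=
      ⟨le_sup_left, T.isPGroup', fun U _ hUp hle => T.is_maximal' hUp hle⟩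
    set U := ((P.subgroupOf S).map ι).map (MulAut.conj g).toMonoidHom
    have hU : U ≤ (T : Subgroup G) ⊔ N := by
      rintro _ ⟨_, ⟨x, hx, rfl⟩, rfl⟩
      have e := hgb ⟨x, hx⟩
      rw [MonoidHom.comp_apply, MonoidHom.comp_apply, ← map_inv, ← map_mul, ← map_mul] at e
      have h1 := Subgroup.mul_mem _
        (Subgroup.mem_sup_left (hT.ge ⟨⟨φ ⟨x, hx⟩, hφ _⟩, rfl⟩) : _ ∈ (T : Subgroup G) ⊔ N)
        (Subgroup.mem_sup_right (QuotientGroup.eq.mp e))
      rwa [mul_inv_cancel_left] at h1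
    have hUp : IsPGroup p U :=
      ((T.isPGroup'.to_le (le_of_le_of_eq (Subgroup.map_le_range ι _) hT.symm)).map _)
    obtain ⟨m, hm, hmT⟩ := hmax.exists_conj_le hU hUp
    rw [← SetLike.mem_coe, Subgroup.mul_normal] at hm
    obtain ⟨t, ht, n, hn, rfl⟩ := hm
    refine ⟨n * g, fun x => ?_⟩
    have hxU : g * ι ⟨x, hP x.2⟩ * g⁻¹ ∈ U := ⟨_, ⟨⟨x, hP x.2⟩, x.2, rfl⟩, rfl⟩
    have h1 := Subgroup.mul_mem _ (Subgroup.mul_mem _ ((T : Subgroup G).inv_mem ht) (hmT _ hxU)) ht
    obtain ⟨y, hy⟩ := hT.le h1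
    have h2 : ι y = n * g * ι ⟨x, hP x.2⟩ * (n * g)⁻¹ := by rw [hy]; group
    rw [← h2]
    have h3 := hgb x
    have hn1 : π n = 1 := (QuotientGroup.eq_one_iff n).mpr hn
    refine congrArg ι (hinj ?_)
    rw [h3, MonoidHom.comp_apply, MonoidHom.comp_apply, h2, map_mul, map_mul, map_inv, map_mul, hn1,
      one_mul]
  · refine ⟨T.mapSurjective (QuotientGroup.mk'_surjective N), ?_⟩
    rw [Sylow.coe_mapSurjective, hT, MonoidHom.range_comp]

theorem pSolvable_realizable_iff [Finite S] [Fact p.Prime] (hS : IsPGroup p S)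
    (hF : F.IsSaturated p) :
    (∃ (G : Type u) (_ : Group G) (_ : Finite G) (ι : S →* G), IsPSolvable p G ∧ F.IsRealizedBy ι ∧
        ∃ T : Sylow p G, (T : Subgroup G) = ι.range) ↔
      (F.IsConstrained p ∧ IsPSolvable p ↥(F.autGroup F.core)) := by
  constructor
  · rintro ⟨G, _, _, ι, hsol, hreal, hsyl⟩
    set N := pPrimeCore p G
    haveI : N.Normal := Cfsg.Lib.Components.pPrimeCore_normal' p
    have hNc : (Nat.card N).Coprime p := Cfsg.Lib.Components.coprime_card_pPrimeCore p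
    obtain ⟨hreal', hsyl'⟩ := realizedBy_quotient hreal hsyl N hNc
    have hsol' := Cfsg.Lib.Constraint.isPSolvable_of_surjective (QuotientGroup.mk'_surjective N) hsol
    have hM : F.IsModel p (G ⧸ N) ((QuotientGroup.mk' N).comp ι) :=
      ⟨inferInstance, hreal', hsyl',
        Cfsg.Lib.StableClosure.centralizer_pCore_le_of_pSolvable hsol' (Cfsg.Lib.Components.pPrimeCore_quotient_eq_bot)⟩
    refine ⟨constrained_of_model hS hM, ?_⟩
    obtain ⟨Θ, hΘ, -⟩ := exists_core_hom hM hS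
    exact Cfsg.Lib.Constraint.isPSolvable_of_surjective hΘ hsol'
  · rintro ⟨⟨-, Q, hQ, hQc⟩, hsol⟩
    obtain ⟨G, _, ι, hM, -, -⟩ := exists_isModel hS hF hQ hQc
    haveI := hM.1
    obtain ⟨Θ, hΘ, hker⟩ := exists_core_hom hM hS
    exact ⟨G, inferInstance, hM.1, ι, isPSolvable_of_pGroup_ker hΘ hker hsol, hM.2.1, hM.2.2.1⟩

end Cfsg.Lib.Fusion
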