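import Cfsg.Agent.Fusion.CenterIndex
import Cfsg.Agent.Fusion.SmallOmega
import Cfsg.Agent.Quadratic.BaerSuzuki

/-!
An involution inverting the centre of a transvection, from two conjugates that do not generate a
`p`-group.
-/

set_option autoImplicit false

namespace Cfsg.Lib.Fusion

variable {W : Type*} [Group W] {p : ℕ}

/-- `t` is a transvection with axis `Z` and centre generated by `d`. -/
structure IsTransv (t : MulAut W) (Z : Subgroup W) (d : W) : Prop where
  comm : ∀ a b : W, a * b = b * a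
  d_mem : d ∈ Z
  fix : ∀ z ∈ Z, t z = z
  diff : ∀ q : W, q⁻¹ * t q ∈ Subgroup.zpowers d
  moves : ∀ q : W, q ∉ Z → t q ≠ q
  span : ∀ v : W, v ∉ Z → ∀ q : W, ∃ z ∈ Z, ∃ i : ℤ, q = z * v ^ i

/-- Two transvections in a position where they generate a `p`-group. -/
theorem isPGroup_pair [Finite W] [hp : Fact p.Prime] (hexp : ∀ x : W, x ^ p = 1) {t : MulAut W}
    {Z : Subgroup W} {d : W} (ht : IsTransv t Z d) {g : MulAut W} (hg : g d ∈ Z) :
    IsPGroup p ↥(Subgroup.zpowers t ⊔ Subgroup.zpowers (g * t * g⁻¹)) := by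
  classical
  letI : CommGroup W := { (inferInstance : Group W) with mul_comm := ht.comm }
  set e := g d with he
  let V := Subgroup.zpowers d ⊔ Subgroup.zpowers e
  have hVZ : V ≤ Z := sup_le (Subgroup.zpowers_le.mpr ht.d_mem) (Subgroup.zpowers_le.mpr hg)
  let H : Subgroup (MulAut W) :=
    { carrier := {α | (∀ q : W, q⁻¹ * α q ∈ V) ∧ (∀ v ∈ V, v⁻¹ * α v ∈ Subgroup.zpowers e) ∧
        ∀ v ∈ Subgroup.zpowers e, α v = v}
      one_mem' := ⟨fun q => by simp, fun v _ => by simp, fun v _ => rfl⟩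
      mul_mem' := by
        rintro α β ⟨a1, a2, a3⟩ ⟨b1, b2, b3⟩
        refine ⟨fun q => ?_, fun v hv => ?_, fun v hv => by rw [MulAut.mul_apply, b3 v hv, a3 v hv]⟩
        · have := V.mul_mem (b1 q) (a1 (β q))
          rw [mul_assoc, mul_inv_cancel_left] at this
          exact this
        · have hb : β v ∈ V := by
            simpa using V.mul_mem hv (Subgroup.mem_sup_right (b2 v hv))
          have := Subgroup.mul_mem _ (b2 v hv) (a2 (β v) hb)
          rw [mul_assoc, mul_inv_cancel_left] at this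
          exact this
      inv_mem' := by
        rintro α ⟨a1, a2, a3⟩
        have hinv : ∀ q : W, α (α⁻¹ q) = q := fun q => α.apply_symm_apply q
        refine ⟨fun q => ?_, fun v hv => ?_, fun v hv => ?_⟩
        · have := V.inv_mem (a1 (α⁻¹ q))
          rw [hinv, mul_inv_rev, inv_inv] at this
          rw [mul_comm]
          rw [mul_comm] at this
          exact this
        · have hb : α⁻¹ v ∈ V := by
            have := V.mul_mem (V.inv_mem (a1 (α⁻¹ v))) hv
            rw [hinv] at this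
            simpa [mul_assoc, mul_comm, mul_left_comm] using this
          have := Subgroup.inv_mem _ (a2 _ hb)
          rw [hinv, mul_inv_rev, inv_inv] at this
          rw [mul_comm]
          rw [mul_comm] at this
          exact this
        · conv_lhs => rw [← a3 v hv]
          exact α.symm_apply_apply v }
  have hHp : IsPGroup p H := by
    rintro ⟨α, a1, a2, a3⟩
    refine ⟨2, Subtype.ext (MulEquiv.ext fun q => ?_)⟩
    have hstep : ∀ v ∈ V, ∀ n : ℕ, (α ^ n) v = v * (v⁻¹ * α v) ^ n := fun v hv n => by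
      induction n with
      | zero => simp
      | succ n ih =>
        rw [pow_succ', MulAut.mul_apply, ih, map_mul, map_pow, a3 _ (a2 v hv), pow_succ' (v⁻¹ * α v),
          ← mul_assoc v, mul_inv_cancel_left]
    have hfixV : ∀ v ∈ V, (α ^ p) v = v := fun v hv => by rw [hstep v hv, hexp, mul_one]
    have hdiff : ∀ n : ℕ, q⁻¹ * (α ^ n) q ∈ V := fun n => by
      induction n with
      | zero => simp
      | succ n ih =>
        have := V.mul_mem ih (a1 ((α ^ n) q))
        rw [mul_assoc, mul_inv_cancel_left] at this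
        rw [pow_succ', MulAut.mul_apply]
        exact this
    set u := q⁻¹ * (α ^ p) q
    have hiter : ∀ n : ℕ, ((α ^ p) ^ n) q = q * u ^ n := fun n => by
      induction n with
      | zero => simp
      | succ n ih =>
        rw [pow_succ', MulAut.mul_apply, ih, map_mul, map_pow, hfixV u (hdiff p), pow_succ' u,
          ← mul_assoc q, mul_inv_cancel_left]
    rw [Subgroup.coe_pow, Subgroup.coe_one, MulAut.one_apply, pow_two, pow_mul, hiter,
      hexp u, mul_one]
  have hgg : ∀ q : W, g (g⁻¹ q) = q := fun q => g.apply_symm_apply q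
  have hk : ∀ q : W, q⁻¹ * (g * t * g⁻¹) q ∈ Subgroup.zpowers e := fun q => by
    obtain ⟨i, hi⟩ := ht.diff (g⁻¹ q)
    refine ⟨i, ?_⟩
    show e ^ i = _
    rw [he, ← map_zpow, show d ^ i = _ from hi, map_mul, map_inv, hgg]
    rfl
  refine hHp.to_le (sup_le (Subgroup.zpowers_le.mpr ⟨fun q => Subgroup.mem_sup_left (ht.diff q),
    fun v hv => by rw [ht.fix v (hVZ hv), inv_mul_cancel]; exact Subgroup.one_mem _,
    fun v hv => ht.fix v (hVZ (Subgroup.mem_sup_right hv))⟩)
    (Subgroup.zpowers_le.mpr ⟨fun q => Subgroup.mem_sup_right (hk q), fun v _ => hk v, ?_⟩))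
  rintro _ ⟨i, rfl⟩
  show (g * t * g⁻¹) (e ^ i) = e ^ i
  rw [map_zpow]
  congr 1
  rw [MulAut.mul_apply, MulAut.mul_apply, he, show g⁻¹ (g d) = d from g.symm_apply_apply d,
    ht.fix d ht.d_mem]

/-- The involution. -/
theorem exists_inv_of_pair [Finite W] [hp : Fact p.Prime] (hexp : ∀ x : W, x ^ p = 1) {t : MulAut W}
    {Z : Subgroup W} {d : W} (ht : IsTransv t Z d) (hd1 : d ≠ 1) (A : Subgroup (MulAut W)) (htA : t ∈ A)
    {g : MulAut W} (hgA : g ∈ A) (hgd : g d ∉ Z) (hgd' : g⁻¹ d ∉ Z) :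
    ∃ τ ∈ A, τ d = d⁻¹ ∧ τ * τ = 1 ∧ τ * t = t * τ := by
  classical
  letI : CommGroup W := { (inferInstance : Group W) with mul_comm := ht.comm }
  set e := g d with he
  have hgg : ∀ q : W, g (g⁻¹ q) = q := fun q => g.apply_symm_apply q
  have hgg' : ∀ q : W, g⁻¹ (g q) = q := fun q => g.symm_apply_apply q
  have hzp : ∀ {x y : W}, x ≠ 1 → y ∈ Subgroup.zpowers x → y ≠ 1 → Subgroup.zpowers y = Subgroup.zpowers x := by
    intro x y hx hy hy1
    refine Subgroup.eq_of_le_of_card_ge (Subgroup.zpowers_le.mpr hy) ?_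
    rw [Nat.card_zpowers, Nat.card_zpowers, orderOf_eq_prime (hexp x) hx, orderOf_eq_prime (hexp y) hy1]
  have he1 : e ≠ 1 := fun h => hgd (by rw [h]; exact Z.one_mem)
  set b := g * t * g⁻¹ with hb
  have hbe : b e = e := by simp only [hb, MulAut.mul_apply, he, hgg', ht.fix d ht.d_mem]
  -- `d` is the difference of `t` at `e`
  set δ := e⁻¹ * t e with hδ
  have hδ1 : δ ≠ 1 := fun h => ht.moves e hgd (inv_mul_eq_one.mp h).symm
  have hte : t e = e * δ := (mul_inv_cancel_left e _).symm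
  have hδZ : δ ∈ Z := (Subgroup.zpowers_le.mpr ht.d_mem) (ht.diff e)
  have htδ : t δ = δ := ht.fix δ hδZ
  have hdδ : d ∈ Subgroup.zpowers δ := by
    rw [hzp hd1 (ht.diff e) hδ1]; exact Subgroup.mem_zpowers d
  have hguZ : g⁻¹ δ ∉ Z := by
    intro h
    obtain ⟨i, hi⟩ := hdδ
    exact hgd' (by rw [← hi, map_zpow]; exact Z.zpow_mem h i)
  set ε := δ⁻¹ * b δ with hε
  have hεe : ε ∈ Subgroup.zpowers e := by
    obtain ⟨i, hi⟩ := ht.diff (g⁻¹ δ)
    refine ⟨i, ?_⟩
    show e ^ i = _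
    rw [he, ← map_zpow, show d ^ i = _ from hi, map_mul, map_inv, hgg]
    rfl
  have hε1 : ε ≠ 1 := by
    intro h
    apply ht.moves _ hguZ
    have h2 : g (t (g⁻¹ δ)) = δ := (inv_mul_eq_one.mp h).symm
    have h3 := congrArg g.symm h2
    rw [MulEquiv.symm_apply_apply] at h3
    exact h3
  obtain ⟨m, hm⟩ : ∃ m : ℕ, ε ^ m = e⁻¹ := Submonoid.mem_powers_iff _ _ |>.mp
    (mem_powers_iff_mem_zpowers.mpr ((hzp he1 hεe hε1).symm ▸ Subgroup.inv_mem _ (Subgroup.mem_zpowers e)))
  have hbε : b ε = ε := by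
    obtain ⟨i, hi⟩ := hεe
    rw [← hi, map_zpow, hbe]
  have hbn : ∀ n : ℕ, (b ^ n) δ = δ * ε ^ n ∧ (b ^ n) e = e := fun n => by
    induction n with
    | zero => simp
    | succ n ih =>
      refine ⟨?_, by rw [pow_succ', MulAut.mul_apply, ih.2, hbe]⟩
      rw [pow_succ', MulAut.mul_apply, ih.1, map_mul, map_pow, hbε, pow_succ' ε,
        show b δ = δ * ε from (mul_inv_cancel_left δ _).symm, mul_assoc]
  set w := t * b ^ m * t with hw
  have hwA : w ∈ A := A.mul_mem (A.mul_mem htA (A.pow_mem (A.mul_mem (A.mul_mem hgA htA) (A.inv_mem hgA)) m)) htA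
  have hwd : w δ = e⁻¹ := by
    simp only [hw, MulAut.mul_apply, htδ, (hbn m).1, hm, map_mul, map_inv, hte]
    simp [mul_comm, mul_left_comm]
  have hwe : w e = δ := by
    simp only [hw, MulAut.mul_apply, hte, map_mul, (hbn m).1, (hbn m).2, hm, map_inv, htδ]
    simp [mul_comm, mul_left_comm]
  set τ := w * w with hτ
  have hτd : τ δ = δ⁻¹ := by rw [hτ, MulAut.mul_apply, hwd, map_inv, hwe]
  have hτe : τ e = e⁻¹ := by rw [hτ, MulAut.mul_apply, hwe, hwd]
  have hbfix : ∀ x : W, g⁻¹ x ∈ Z → b x = x := fun x hx => by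
    simp only [hb, MulAut.mul_apply, ht.fix _ hx, hgg]
  have hτfix : ∀ x ∈ Z, g⁻¹ x ∈ Z → τ x = x := fun x hx hx' => by
    have hbm : ∀ n : ℕ, (b ^ n) x = x := fun n => by
      induction n with
      | zero => simp
      | succ n ih => rw [pow_succ', MulAut.mul_apply, ih, hbfix x hx']
    have hwx : w x = x := by simp only [hw, MulAut.mul_apply, ht.fix _ hx, hbm]
    rw [hτ, MulAut.mul_apply, hwx, hwx]
  -- every element is `c δ^i e^j`
  have hdecomp : ∀ q : W, ∃ c ∈ Z, g⁻¹ c ∈ Z ∧ ∃ i j : ℤ, q = c * δ ^ i * e ^ j := by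
    intro q
    obtain ⟨z, hz, j, rfl⟩ := ht.span e hgd q
    obtain ⟨z', hz', i, hi⟩ := ht.span _ hguZ (g⁻¹ z)
    refine ⟨z * δ ^ (-i), Z.mul_mem hz (Z.zpow_mem hδZ _), ?_, i, j, ?_⟩
    · rw [map_mul, map_zpow, hi, mul_assoc, ← zpow_add, add_neg_cancel, zpow_zero, mul_one]
      exact hz'
    · rw [mul_assoc z, ← zpow_add, neg_add_cancel, zpow_zero, mul_one]
  refine ⟨τ, A.mul_mem hwA hwA, ?_, MulEquiv.ext fun q => ?_, MulEquiv.ext fun q => ?_⟩
  · obtain ⟨i, hi⟩ := hdδ
    rw [← hi, map_zpow, hτd, inv_zpow]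
  · obtain ⟨c, hc, hc', i, j, rfl⟩ := hdecomp q
    simp only [MulAut.mul_apply, MulAut.one_apply, map_mul, map_zpow, map_inv, hτfix c hc hc', hτd, hτe,
      inv_inv]
  · obtain ⟨c, hc, hc', i, j, rfl⟩ := hdecomp q
    simp only [MulAut.mul_apply, map_mul, map_zpow, map_inv, hτfix c hc hc', hτd, hτe, ht.fix c hc, hte,
      htδ]
    simp [mul_zpow, mul_comm, mul_left_comm]

/-- A transvection outside every normal `p`-subgroup gives the involution. -/
theorem exists_inv_of_not_normal [Finite W] [hp : Fact p.Prime] (hexp : ∀ x : W, x ^ p = 1)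
    {t : MulAut W} {Z : Subgroup W} {d : W} (ht : IsTransv t Z d) (hd1 : d ≠ 1)
    (A : Subgroup (MulAut W)) (htA : t ∈ A)
    (hno : ∀ N : Subgroup A, N.Normal → IsPGroup p N → (⟨t, htA⟩ : A) ∉ N) :
    ∃ τ ∈ A, τ d = d⁻¹ ∧ τ * τ = 1 ∧ τ * t = t * τ := by
  haveI : Finite (MulAut W) := Finite.of_injective (fun f : MulAut W => (f : W → W)) DFunLike.coe_injective
  obtain ⟨g, hg⟩ : ∃ g : A, ¬ IsPGroup p ↥(Subgroup.zpowers (⟨t, htA⟩ : A) ⊔
      (Subgroup.zpowers (⟨t, htA⟩ : A)).map (MulAut.conj g).toMonoidHom) := by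
    by_contra hall
    push Not at hall
    obtain ⟨N, hN, hNp, hle⟩ := Cfsg.Lib.BaerSuzuki.baer_suzuki _ hall
    exact hno N hN hNp (hle (Subgroup.mem_zpowers _))
  have hmap : (Subgroup.zpowers (⟨t, htA⟩ : A) ⊔
      (Subgroup.zpowers (⟨t, htA⟩ : A)).map (MulAut.conj g).toMonoidHom).map A.subtype =
      Subgroup.zpowers t ⊔ Subgroup.zpowers ((g : MulAut W) * t * (g : MulAut W)⁻¹) := by
    rw [Subgroup.map_sup, Subgroup.map_map, MonoidHom.map_zpowers, MonoidHom.map_zpowers]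
    rfl
  have hnp : ¬ IsPGroup p ↥(Subgroup.zpowers t ⊔ Subgroup.zpowers ((g : MulAut W) * t * (g : MulAut W)⁻¹)) := by
    intro h
    rw [← hmap] at h
    exact hg (h.of_equiv (Subgroup.equivMapOfInjective _ A.subtype A.subtype_injective).symm)
  refine exists_inv_of_pair hexp ht hd1 A htA g.2 (fun h => hnp (isPGroup_pair hexp ht h)) fun h => ?_
  have h1 := isPGroup_pair hexp ht (g := (g : MulAut W)⁻¹) h
  apply hnp
  have h2 := h1.map (MulAut.conj (g : MulAut W)).toMonoidHom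
  rw [Subgroup.map_sup, MonoidHom.map_zpowers, MonoidHom.map_zpowers, sup_comm] at h2
  convert h2 using 5 <;> simp [MulAut.conj_apply] <;> group

end Cfsg.Lib.Fusion
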