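import Cfsg.Agent.Fusion.Pearl
import Cfsg.Agent.Fusion.RankTwo.Diag
import Cfsg.Agent.Fusion.RankTwo.Chain
import Cfsg.Agent.PGroups.MaxClassThree

/-!
A pearl in a `3`-group of order `27` forces exponent `3`.
-/

set_option autoImplicit false
set_option linter.style.haveILetI false

namespace Cfsg.Lib.Fusion.PearlThree

open Subgroup
open Cfsg Cfsg.FusionSystem Cfsg.Lib.Fusion
open scoped commutatorElement

universe u

variable {Ω : Type u} [Group Ω] {S : Subgroup Ω}

theorem order27 [Finite S] [hp : Fact (Nat.Prime 3)] (hS : IsPGroup 3 S) {F : FusionSystem S}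
    (hF : F.IsSaturated 3) {E : Subgroup Ω} (hE : F.IsEssential 3 E) (hc : Nat.card E = 3 ^ 2)
    (hexpE : ∀ x ∈ E, x ^ 3 = 1) (hcomE : IsMulCommutative E) {x : S}
    (D : Cfsg.Lib.PGroups.MaxClassRank.Data 3 3 x) :
    Cfsg.IsExtraspecial 3 S ∧ Monoid.exponent S = 3 := by
  haveI : Group.IsNilpotent S := hS.isNilpotent
  have hES := hE.1.1
  haveI := finite_of_le hES
  set A := E.subgroupOf S
  have hAc : Nat.card A = 3 ^ 2 := (Nat.card_congr (subgroupOfEquivOfLe hES).toEquiv).trans hc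
  have hAi : A.index = 3 := by
    have h := A.card_mul_index
    rw [hAc, D.card] at h
    omega
  haveI hAn : A.Normal := normal_of_index_eq_minFac_card (by rw [hAi, D.card]; norm_num)
  have hcen : centralizer (A : Set S) ≤ A := fun g hg => hE.1.2 E (isConj_refl hES)
    (mem_centralizerIn.mpr ⟨g.2, fun e he => by
      have h := congrArg Subtype.val (mem_centralizer_iff.1 hg ⟨e, hES he⟩ he)
      simp only [coe_mul] at h
      show (g : Ω) * e * (g : Ω)⁻¹ = e
      rw [← h, mul_inv_cancel_right]⟩)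
  have hAA : ∀ a ∈ A, ∀ b ∈ A, a * b = b * a := fun a ha b hb => Subtype.ext (by
    show (a : Ω) * b = b * a
    exact congrArg (fun w : E => (w : Ω)) (hcomE.is_comm.comm ⟨(a : Ω), ha⟩ ⟨(b : Ω), hb⟩))
  -- the centre
  set Z := center S
  have hZc : Nat.card Z = 3 := (Cfsg.Lib.MaxClass.center_facts 3 S D.card le_rfl D.cls).1
  have hZA : Z ≤ A := fun z hz => hcen (mem_centralizer_iff.2 fun a _ => mem_center_iff.1 hz a)
  have hderived : commutator S = Z := (eq_of_le_of_card_ge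
    (Cfsg.Lib.MaxClass.center_le_of_normal hS hZc (commutator S) (fun e => D.L_ne_bot (show 1 < 3 - 1 by norm_num)
      (top_lowerCentralSeries_one.trans e)))
    (le_of_eq (by
      rw [hZc, ← top_lowerCentralSeries_one, D.L_card le_rfl (by norm_num)]
      norm_num))).symm
  have hfr : frattini S = Z := by
    rw [Cfsg.Lib.MaxClass.frattini_eq_commutator 3 S D.card le_rfl D.cls, hderived]
  refine ⟨⟨⟨hS, hfr, hderived⟩, hZc⟩, ?_⟩
  have hcomm : ∀ a b : S, ⁅a, b⁆ ∈ Z := fun a b => hderived ▸ commutator_mem_commutator (mem_top a) (mem_top b)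
  have hZexp : ∀ z ∈ Z, z ^ 3 = 1 := fun z hz => Subtype.ext (by
    have := hexpE _ (show (z : Ω) ∈ E from hZA hz)
    simpa using this)
  have hhom : ∀ a b : S, (a * b) ^ 3 = a ^ 3 * b ^ 3 := fun a b => by
    rw [Cfsg.Lib.PGroups.mul_pow_of_central (hcomm b a), show Nat.choose 3 2 = 3 by decide,
      hZexp _ (hcomm b a), mul_one]
  suffices hall : ∀ g : S, g ^ 3 = 1 by
    rcases (Nat.dvd_prime hp.out).1 (Monoid.exponent_dvd_of_forall_pow_eq_one hall) with h | h
    · have := Monoid.exp_eq_one_iff.1 h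
      exact absurd (Subsingleton.elim x 1) D.x_ne_one
    · exact h
  intro g
  by_contra hg
  have hgA : g ∉ A := fun h => hg (Subtype.ext (by simpa using hexpE _ h))
  -- the automizer
  obtain ⟨z, hzZ, hz1⟩ : ∃ z ∈ Z, z ≠ (1 : S) := Z.bot_or_exists_ne_one.resolve_left fun e => by
    rw [e, card_bot] at hZc; omega
  set e0 : E := ⟨z, hZA hzZ⟩
  have he0 : e0 ≠ 1 := fun e => hz1 (Subtype.ext (congrArg (fun w : E => (w : Ω)) e))
  have hgN : (g : Ω) ∈ normalizer (E : Set Ω) := by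
    rw [mem_normalizer_iff]
    intro y
    refine ⟨fun hy => ?_, fun hy => ?_⟩
    · exact hAn.conj_mem ⟨y, hES hy⟩ hy g
    · have hyS : y ∈ S := by
        have := S.mul_mem (S.mul_mem (S.inv_mem g.2) (hES hy)) g.2
        simpa [mul_assoc] using this
      have := hAn.conj_mem (g * ⟨y, hyS⟩ * g⁻¹) hy g⁻¹
      simpa [mem_subgroupOf, A, mul_assoc] using this
  set a : MulAut E := conjAut E g hgN
  have ha : a ∈ F.autGroup E := autInducedBy_le hES (conjAut_mem_autInducedBy hgN g.2)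
  have hEp : IsPGroup 3 E := hS.to_le hES
  have hpa : ∃ k : ℕ, a ^ 3 ^ k = 1 := by
    obtain ⟨k, hk⟩ := isPGroup_autInducedBy hS E ⟨a, conjAut_mem_autInducedBy hgN g.2⟩
    exact ⟨k, congrArg Subtype.val hk⟩
  have ha1 : a ≠ 1 := fun e => hgA (hcen (mem_centralizer_iff.2 fun b hb => by
    have h := congrArg (fun f : MulAut E => ((f ⟨(b : Ω), hb⟩ : E) : Ω)) e
    simp only [a, conjAut_apply, MulAut.one_apply] at h
    refine Subtype.ext ?_
    show (b : Ω) * g = g * b
    exact (mul_inv_eq_iff_eq_mul.1 h).symm))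
  have hfix : a e0 = e0 := Subtype.ext (by
    rw [conjAut_apply]
    have h := congrArg Subtype.val (mem_center_iff.1 hzZ g)
    simp only [coe_mul] at h
    show (g : Ω) * z * (g : Ω)⁻¹ = z
    rw [h, mul_inv_cancel_right])
  have hcomE' : ∀ a b : E, a * b = b * a := fun a b => hcomE.is_comm.comm a b
  have hexpE' : ∀ y : E, y ^ 3 = 1 := fun y => Subtype.ext (by simpa using hexpE _ y.2)
  obtain ⟨β, hβ, hmove⟩ : ∃ β ∈ F.autGroup E, β e0 ∉ zpowers e0 := by
    by_contra hno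
    push Not at hno
    have hM : (zpowers e0).index = 3 := by
      have h := (zpowers e0).card_mul_index
      rw [Nat.card_zpowers, orderOf_eq_prime (hexpE' e0) he0, hc] at h
      omega
    have hinv : ∀ α ∈ F.autGroup E, ∀ q ∈ zpowers e0, α q ∈ zpowers e0 := by
      rintro α hα _ ⟨i, rfl⟩
      rw [map_zpow]
      exact (zpowers e0).zpow_mem (hno α hα) i
    obtain ⟨R₁, R₂, hR⟩ := exists_two_sylow_of_essential hS hE
    haveI := subsingleton_sylow_aut_of_char hEp (hc ▸ (frattini E).index_dvd_card) (zpowers e0) hM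
      (F.autGroup E) hinv
    exact hR (Subsingleton.elim _ _)
  obtain ⟨ι, hι, e1, he1, hι0, hι1⟩ := RankTwo.exists_diag hcomE' hexpE' hc ha hβ he0 hfix ha1 hmove hpa
    (show ¬ 3 ∣ 2 by decide)
  have hsq : ∀ y : E, y ^ 2 = y⁻¹ := fun y => eq_inv_of_mul_eq_one_left (by rw [← pow_succ]; exact hexpE' y)
  have hinvE : ∀ y : E, ι y = y⁻¹ := by
    intro y
    obtain ⟨i, j, rfl⟩ := RankTwo.gen_two hcomE' hexpE' hc he0 he1 y
    have h1 : ι e1 = e1⁻¹ := by
      rw [hsq] at hι1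
      exact inv_eq_iff_eq_inv.1 hι1
    rw [map_mul, map_zpow, map_zpow, hι0, h1, hsq, inv_zpow, inv_zpow, ← mul_inv_rev, hcomE']
  -- its extension
  obtain ⟨k, hk, hke⟩ := RankTwo.exists_extension_of_normalizing hS hF hE.2.1
    (isPGroup_autInducedBy hS E) (autInducedBy_le hES) le_rfl hι (fun α hα => by
      have e : ι * α * ι⁻¹ = α := by
        refine MulEquiv.ext fun y => ?_
        obtain ⟨w, rfl⟩ := ι.surjective y
        rw [MulAut.mul_apply, MulAut.mul_apply, MulAut.inv_apply_self, hinvE, hinvE, map_inv]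
      rwa [e])
  have hSN : ∀ s : S, (s : Ω) ∈ normalizerIn S E := fun s => ⟨s.2, by
    show (s : Ω) ∈ normalizer (E : Set Ω)
    rw [mem_normalizer_iff]
    intro y
    refine ⟨fun hy => hAn.conj_mem ⟨y, hES hy⟩ hy s, fun hy => ?_⟩
    have hyS : y ∈ S := by
      have := S.mul_mem (S.mul_mem (S.inv_mem s.2) (hES hy)) s.2
      simpa [mul_assoc] using this
    have := hAn.conj_mem (s * ⟨y, hyS⟩ * s⁻¹) hy s⁻¹
    simpa [mem_subgroupOf, A, mul_assoc] using this⟩
  let φ : S →* S := MonoidHom.mk' (fun s => ⟨k s, hk.mem_S (hSN s)⟩)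
    fun s t => Subtype.ext (hk.map_mul (hSN s) (hSN t))
  have hφA : ∀ b ∈ A, φ b = b⁻¹ := fun b hb => Subtype.ext (by
    show k b = (b : Ω)⁻¹
    rw [hke (b : Ω) hb, autFun_apply_mem ι (x := (b : Ω)) hb, hinvE]
    rfl)
  -- the two congruences
  set π := QuotientGroup.mk' A
  have hgen : zpowers (π g) = ⊤ := eq_top_of_card_eq _ (by
    have hq : Nat.card (S ⧸ A) = 3 := by rw [← index_eq_card, hAi]
    have hd : orderOf (π g) ∣ 3 := hq ▸ orderOf_dvd_natCard _
    rw [Nat.card_zpowers, hq]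
    exact ((Nat.dvd_prime hp.out).1 hd).resolve_left fun e =>
      hgA ((QuotientGroup.eq_one_iff g).1 (orderOf_eq_one_iff.1 e)))
  obtain ⟨j, hj⟩ := hgen.ge (mem_top (π (φ g)))
  change π g ^ j = π (φ g) at hj
  rw [← map_zpow] at hj
  have hw := QuotientGroup.eq.1 hj
  set w := (g ^ j)⁻¹ * φ g
  have hφg : φ g = g ^ j * w := (mul_inv_cancel_left _ _).symm
  have hg3Z : g ^ 3 ∈ Z := hfr ▸ Cfsg.Lib.PGroups.pow_mem_frattini hS g
  have hj1 : (3 : ℤ) ∣ j + 1 := by
    have h1 := hφA _ (hZA hg3Z)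
    rw [map_pow, hφg, hhom, show w ^ 3 = 1 from Subtype.ext (by simpa using hexpE _ hw), mul_one,
      ← zpow_natCast, ← zpow_mul, mul_comm, zpow_mul, zpow_natCast] at h1
    refine RankTwo.dvd_of_zpow_eq_one (hZexp _ hg3Z) hg ?_
    rw [zpow_add, zpow_one, h1, inv_mul_cancel]
  obtain ⟨b, hbA, hb⟩ : ∃ b ∈ A, g * b ≠ b * g := by
    by_contra hno
    push Not at hno
    exact hgA (hcen (mem_centralizer_iff.2 fun b hb => (hno b hb).symm))
  set c := ⁅b, g⁆
  have hc1 : c ≠ 1 := fun e => hb (commutatorElement_eq_one_iff_mul_comm.1 e).symm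
  have hcZ : c ∈ Z := hcomm b g
  have hcC : ∀ s : S, Commute c s := fun s => (mem_center_iff.1 hcZ s).symm
  have hj2 : (3 : ℤ) ∣ j - 1 := by
    refine RankTwo.dvd_of_zpow_eq_one (hZexp _ hcZ) hc1 ?_
    have h1 := hφA _ (hZA hcZ)
    have e : φ c = (c ^ j)⁻¹ := by
      have hbg : b * g * b⁻¹ = c * g := by simp only [c, commutatorElement_def, inv_mul_cancel_right]
      have hbg' : b⁻¹ * g * b = c⁻¹ * g := by
        calc b⁻¹ * g * b = b⁻¹ * (c⁻¹ * (b * g * b⁻¹)) * b := by rw [hbg, inv_mul_cancel_left]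
          _ = _ := by rw [((hcC b⁻¹).inv_left).symm.left_comm]; group
      have hwb : w * b = b * w := hAA w hw b hbA
      rw [show φ c = ⁅φ b, φ g⁆ from map_commutatorElement φ b g, hφA b hbA, hφg]
      calc ⁅b⁻¹, g ^ j * w⁆ = b⁻¹ * g ^ j * (w * b) * w⁻¹ * (g ^ j)⁻¹ := by
            rw [commutatorElement_def]; group
        _ = (b⁻¹ * g * b) ^ j * (g ^ j)⁻¹ := by
            rw [hwb, show b⁻¹ * g * b = b⁻¹ * g * b⁻¹⁻¹ by rw [inv_inv], conj_zpow]; group
        _ = _ := by rw [hbg', ((hcC g).inv_left).mul_zpow, mul_inv_cancel_right, inv_zpow]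
    rw [e, inv_inj] at h1
    rw [zpow_sub_one, h1, mul_inv_cancel]
  omega

end Cfsg.Lib.Fusion.PearlThree
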