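import Cfsg.Prelude.Def_HallClasses
import Mathlib

/-!
# Fusion in π-homogeneous groups with a dominating π-subgroup

If every π-subgroup of `G` is conjugate into the π-subgroup `W`, and every element normalizing a
π-subgroup `E` induces on it an automorphism of π-order, then `W` controls the fusion of its elements.
For the p-subgroups this is an Alperin style downward induction; for general elements one peels off
one p-part at a time, both hypotheses passing to centralizers.
-/

set_option autoImplicit false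

open Subgroup
open scoped Pointwise

namespace Cfsg.Lib.PiHomogeneous

universe u

variable {G : Type u} [Group G]

/-- No element outside `C(E)` induces an automorphism of prime order outside `π` on the π-subgroup `E`. -/
def Homog (π : Set ℕ) (G : Type u) [Group G] : Prop :=
  ∀ E : Subgroup G, IsPiSubgroup π E → E ≠ ⊥ → ∀ g ∈ normalizer (E : Set G),
    ∀ q : ℕ, q.Prime → q ∉ π → g ^ q ∈ centralizer (E : Set G) → g ∈ centralizer (E : Set G)

/-- Every π-subgroup is conjugate into `W`. -/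
def Covers (π : Set ℕ) (W : Subgroup G) : Prop :=
  ∀ X : Subgroup G, IsPiSubgroup π X → ∃ u : G, ∀ x ∈ X, u * x * u⁻¹ ∈ W

/-- Conjugation by any element agrees on `D` with conjugation by an element of `W`, whenever it maps `D` into `W`. -/
def Ctl (W D : Subgroup G) : Prop :=
  ∀ g : G, (∀ d ∈ D, g * d * g⁻¹ ∈ W) → ∃ w ∈ W, ∀ d ∈ D, w * d * w⁻¹ = g * d * g⁻¹

theorem mem_cj {D : Subgroup G} {g x : G} :
    x ∈ D.map (MulAut.conj g).toMonoidHom ↔ g⁻¹ * x * g ∈ D := by
  constructor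
  · rintro ⟨d, hd, rfl⟩
    simpa [mul_assoc] using hd
  · intro h
    exact ⟨_, h, by simp [mul_assoc]⟩

theorem cj_mem {D : Subgroup G} {g d : G} (hd : d ∈ D) : g * d * g⁻¹ ∈ D.map (MulAut.conj g).toMonoidHom :=
  ⟨d, hd, by simp⟩

theorem card_cj (D : Subgroup G) (g : G) : Nat.card (D.map (MulAut.conj g).toMonoidHom) = Nat.card D :=
  Subgroup.card_map_of_injective (MulEquiv.injective _)

theorem isPiSubgroup_of_isPGroup {π : Set ℕ} {p : ℕ} [Fact p.Prime] [Finite G] (hp : p ∈ π) {D : Subgroup G}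
    (hD : IsPGroup p D) : IsPiSubgroup π D := by
  intro q hq hqd
  obtain ⟨n, hn⟩ := IsPGroup.iff_card.mp hD
  rw [hn] at hqd
  rwa [(Nat.prime_dvd_prime_iff_eq hq Fact.out).mp (hq.dvd_of_dvd_pow hqd)]

/-- A normal subgroup with no extra roots of prime order outside `π` has a π-supplement. -/
theorem exists_supplement {π : Set ℕ} {N : Type u} [Group N] [Finite N] (K : Subgroup N) [K.Normal]
    (h : ∀ g : N, ∀ q : ℕ, q.Prime → q ∉ π → g ^ q ∈ K → g ∈ K) :
    ∃ L : Subgroup N, L ⊔ K = ⊤ ∧ IsPiSubgroup π L := by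
  classical
  have hex : ∃ n : ℕ, ∃ L : Subgroup N, Nat.card L = n ∧ L ⊔ K = ⊤ := ⟨_, ⊤, rfl, top_sup_eq _⟩
  obtain ⟨L, hLn, hL⟩ := Nat.find_spec hex
  have hmin : ∀ L' : Subgroup N, L' ≤ L → L' ⊔ K = ⊤ → L' = L := fun L' hle hL' =>
    Subgroup.eq_of_le_of_card_ge hle (hLn ▸ Nat.find_min' hex ⟨L', rfl, hL'⟩)
  refine ⟨L, hL, fun q hq hqd => ?_⟩
  by_contra hqπ
  haveI := Fact.mk hq
  obtain ⟨R⟩ : Nonempty (Sylow q L) := inferInstance
  have hroot : ∀ i : ℕ, ∀ g : N, g ^ (q ^ i) = 1 → g ∈ K := by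
    intro i
    induction i with
    | zero => intro g hg; rw [pow_zero, pow_one] at hg; rw [hg]; exact one_mem _
    | succ i ih =>
      intro g hg
      rw [pow_succ', pow_mul] at hg
      exact h g q hq hqπ (ih _ hg)
  set K' := K.subgroupOf L
  have hRK : (R : Subgroup L) ≤ K' := by
    intro r hr
    obtain ⟨i, hi⟩ := R.2 ⟨r, hr⟩
    exact hroot i _ (by simpa using congrArg (fun z : ↥(R : Subgroup L) => ((z : L) : N)) hi)
  have hsupp : ∀ H : Subgroup L, H ⊔ K' = ⊤ → H = ⊤ := by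
    intro H hH
    have h1 : L ≤ H.map L.subtype ⊔ K := by
      intro l hl
      have : (⟨l, hl⟩ : L) ∈ H ⊔ K' := hH ▸ mem_top _
      have h2 : (H ⊔ K').map L.subtype ≤ H.map L.subtype ⊔ K := by
        rw [Subgroup.map_sup]
        exact sup_le_sup_left (by rintro _ ⟨z, hz, rfl⟩; exact hz) _
      exact h2 ⟨⟨l, hl⟩, this, rfl⟩
    have h2 : H.map L.subtype ⊔ K = ⊤ := top_le_iff.mp (hL ▸ sup_le h1 le_sup_right)
    have h3 := hmin _ (map_subtype_le H) h2
    rw [eq_top_iff]
    intro x _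
    obtain ⟨y, hy, hyx⟩ := (h3.symm ▸ x.2 : (x : N) ∈ H.map L.subtype)
    exact (Subtype.ext hyx : y = x) ▸ hy
  have hRn : (R : Subgroup L).Normal :=
    Subgroup.normalizer_eq_top_iff.mp (hsupp _ (Sylow.normalizer_sup_eq_top' R hRK))
  obtain ⟨H, hH⟩ := Subgroup.exists_left_complement'_of_coprime (N := (R : Subgroup L)) R.card_coprime_index
  have hHtop := hsupp H (top_le_iff.mp (hH.sup_eq_top ▸ sup_le_sup_left hRK _))
  subst hHtop
  have hbot : (R : Subgroup L) = ⊥ := Subgroup.isComplement'_top_left.mp hH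
  exact R.ne_bot_of_dvd_card hqd hbot

theorem sylow_full {π : Set ℕ} {p : ℕ} [Fact p.Prime] [Finite G] {W : Subgroup G}
    (hcov : Covers π W) (hp : p ∈ π) (Q : Sylow p W) (T : Subgroup G) (hT : IsPGroup p T) :
    Nat.card T ≤ Nat.card (Q : Subgroup W) := by
  obtain ⟨u, hu⟩ := hcov T (isPiSubgroup_of_isPGroup hp hT)
  have hle : T.map (MulAut.conj u).toMonoidHom ≤ W := by
    rintro _ ⟨t, ht, rfl⟩
    simpa using hu t ht
  have hT' : IsPGroup p ↥((T.map (MulAut.conj u).toMonoidHom).subgroupOf W) :=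
    (hT.map _).of_equiv (Subgroup.subgroupOfEquivOfLe hle).symm
  obtain ⟨n, hn⟩ := IsPGroup.iff_card.mp hT'
  rw [← card_cj T u, ← Nat.card_congr (Subgroup.subgroupOfEquivOfLe hle).toEquiv, hn, Q.card_eq_multiplicity]
  refine Nat.pow_le_pow_right (Nat.Prime.pos Fact.out) ?_
  rw [← (Fact.out : p.Prime).pow_dvd_iff_le_factorization Nat.card_pos.ne', ← hn]
  exact Subgroup.card_subgroup_dvd_card _

/-- The downward induction step. -/
theorem ctl_step {π : Set ℕ} {p : ℕ} [Fact p.Prime] [Finite G] {W : Subgroup G}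
    (hhom : Homog π G) (hcov : Covers π W) (hp : p ∈ π) (D : Subgroup G) (hDW : D ≤ W) (hD : IsPGroup p D)
    (IH : ∀ D' : Subgroup G, D' ≤ W → IsPGroup p D' → Nat.card D < Nat.card D' → Ctl W D') : Ctl W D := by
  classical
  intro g hg
  rcases eq_or_ne D ⊥ with rfl | hDne
  · exact ⟨1, one_mem _, fun d hd => by simp [Subgroup.mem_bot.mp hd]⟩
  obtain ⟨R⟩ : Nonempty (Sylow p (normalizer (D : Set G))) := inferInstance
  set Rm := (R : Subgroup (normalizer (D : Set G))).map (normalizer (D : Set G)).subtype with hRmdef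
  have hRmp : IsPGroup p Rm := R.2.map _
  obtain ⟨u, hu⟩ := hcov Rm (isPiSubgroup_of_isPGroup hp hRmp)
  set E := D.map (MulAut.conj u).toMonoidHom with hEdef
  set S := Rm.map (MulAut.conj u).toMonoidHom with hSdef
  have hSp : IsPGroup p S := hRmp.map _
  have hSW : S ≤ W := by
    rintro _ ⟨r, hr, rfl⟩
    simpa using hu r hr
  have hcardE : Nat.card E = Nat.card D := card_cj D u
  have hEp : IsPGroup p E := hD.map _
  have hEne : E ≠ ⊥ := fun h => hDne ((Subgroup.map_eq_bot_iff_of_injective _ (MulEquiv.injective _)).mp h)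
  have hNconj : ∀ x : G, x ∈ normalizer (E : Set G) ↔ u⁻¹ * x * u ∈ normalizer (D : Set G) := by
    intro x
    simp only [Subgroup.mem_normalizer_iff, hEdef, mem_cj]
    constructor
    · intro h d
      have := h (u * d * u⁻¹)
      simpa [mul_assoc] using this
    · intro h e
      have := h (u⁻¹ * e * u)
      simpa [mul_assoc] using this
  have hSN : S ≤ normalizer (E : Set G) := by
    intro s hs
    rw [hNconj]
    obtain ⟨r, -, hr⟩ := mem_cj.mp hs
    rw [← hr]
    exact r.2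
  have hSmax : ∀ T : Subgroup G, T ≤ normalizer (E : Set G) → IsPGroup p T →
      ∃ n ∈ normalizer (E : Set G), ∀ t ∈ T, n * t * n⁻¹ ∈ S := by
    intro T hT hTp
    set T' := T.map (MulAut.conj u⁻¹).toMonoidHom with hT'def
    have hT' : T' ≤ normalizer (D : Set G) := by
      rintro _ ⟨t, ht, rfl⟩
      simpa using (hNconj t).mp (hT ht)
    obtain ⟨Q, hQ⟩ := IsPGroup.exists_le_sylow
      (P := T'.subgroupOf (normalizer (D : Set G)))
      ((hTp.map _).of_equiv (Subgroup.subgroupOfEquivOfLe hT').symm)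
    obtain ⟨m, hm⟩ := MulAction.exists_smul_eq (normalizer (D : Set G)) Q R
    refine ⟨u * m * u⁻¹, ?_, fun t ht => ?_⟩
    · rw [hNconj]
      simpa [mul_assoc] using m.2
    · have h1 : u⁻¹ * t * u ∈ T' := by
        rw [hT'def, mem_cj]
        simpa [mul_assoc] using ht
      have h2 : (⟨_, hT' h1⟩ : normalizer (D : Set G)) ∈ (Q : Subgroup _) :=
        hQ (by rw [Subgroup.mem_subgroupOf]; exact h1)
      have h3 : m * ⟨_, hT' h1⟩ * m⁻¹ ∈ (R : Subgroup _) := by
        rw [← hm, Sylow.coe_subgroup_smul]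
        exact ⟨_, h2, by simp [MulAut.smul_def]⟩
      rw [hSdef, mem_cj, hRmdef]
      refine ⟨_, h3, ?_⟩
      simp [mul_assoc]
  have hScard : ∀ T : Subgroup G, T ≤ normalizer (E : Set G) → IsPGroup p T → Nat.card T ≤ Nat.card S := by
    intro T hT hTp
    obtain ⟨n, -, hn⟩ := hSmax T hT hTp
    rw [← card_cj T n]
    exact Subgroup.card_le_of_le (by rintro _ ⟨t, ht, rfl⟩; simpa using hn t ht)
  have hES : E ≤ S := by
    obtain ⟨n, hn, hnS⟩ := hSmax E le_normalizer hEp
    intro e he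
    have h1 : n⁻¹ * e * n ∈ E := by
      simpa using (Subgroup.mem_normalizer_iff.mp (inv_mem hn) e).mp he
    simpa [mul_assoc] using hnS _ h1
  have hEW : E ≤ W := hES.trans hSW
  obtain ⟨QW⟩ : Nonempty (Sylow p W) := inferInstance
  -- a `p`-subgroup of `W` with no proper overgroup in its normalizer is a Sylow subgroup
  have hfull : ∀ F : Subgroup G, F ≤ W → IsPGroup p F →
      (∀ T : Subgroup G, T ≤ W ⊓ normalizer (F : Set G) → IsPGroup p T → Nat.card T ≤ Nat.card F) →
      ∃ Q : Sylow p W, (Q : Subgroup W) = F.subgroupOf W := by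
    intro F hF hFp hmax
    obtain ⟨Q, hQ⟩ := IsPGroup.exists_le_sylow (P := F.subgroupOf W)
      (hFp.of_equiv (Subgroup.subgroupOfEquivOfLe hF).symm)
    refine ⟨Q, ?_⟩
    by_contra hne
    haveI : Group.IsNilpotent (Q : Subgroup W) := Q.2.isNilpotent
    have hlt : (F.subgroupOf W).subgroupOf (Q : Subgroup W) < ⊤ := by
      rw [lt_top_iff_ne_top]
      intro h
      exact hne (le_antisymm (Subgroup.subgroupOf_eq_top.mp h) hQ)
    have hnc := Group.normalizerCondition_of_isNilpotent (G := (Q : Subgroup W)) _ hlt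
    set T := ((normalizer (((F.subgroupOf W).subgroupOf (Q : Subgroup W) : Subgroup _) : Set (Q : Subgroup W))).map
      (Q : Subgroup W).subtype).map W.subtype with hTdef
    have hTp : IsPGroup p T := ((Q.2.to_subgroup _).map _).map _
    have hTle : T ≤ W ⊓ normalizer (F : Set G) := by
      rintro _ ⟨y, ⟨z, hz, rfl⟩, rfl⟩
      refine ⟨((z : W)).2, Subgroup.mem_normalizer_iff.mpr fun f => ?_⟩
      have key : ∀ z : (Q : Subgroup W),
          z ∈ normalizer (((F.subgroupOf W).subgroupOf (Q : Subgroup W) : Subgroup _) : Set (Q : Subgroup W)) →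
          ∀ f : G, f ∈ F → ((z : W) : G) * f * ((z : W) : G)⁻¹ ∈ F := by
        intro z hz f hf
        have := (Subgroup.mem_normalizer_iff.mp hz ⟨⟨f, hF hf⟩, hQ hf⟩).mp hf
        exact this
      constructor
      · exact key z hz f
      · intro h
        have := key z⁻¹ (inv_mem hz) _ h
        simpa [mul_assoc] using this
    have h1 : Nat.card F < Nat.card T := by
      rw [hTdef, Subgroup.card_map_of_injective W.subtype_injective,
        Subgroup.card_map_of_injective (Q : Subgroup W).subtype_injective]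
      have e : Nat.card F = Nat.card ((F.subgroupOf W).subgroupOf (Q : Subgroup W)) :=
        ((Nat.card_congr (Subgroup.subgroupOfEquivOfLe hQ).toEquiv).trans
          (Nat.card_congr (Subgroup.subgroupOfEquivOfLe hF).toEquiv)).symm
      rw [e]
      exact lt_of_le_of_ne (Subgroup.card_le_of_le hnc.le)
        fun h => hnc.ne (Subgroup.eq_of_le_of_card_ge hnc.le h.ge)
    exact absurd (hmax T hTle hTp) h1.not_ge
  have hconjSylow : ∀ (Q₁ Q₂ : Sylow p W) (F₁ F₂ : Subgroup G), F₁ ≤ W → F₂ ≤ W →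
      (Q₁ : Subgroup W) = F₁.subgroupOf W → (Q₂ : Subgroup W) = F₂.subgroupOf W →
      ∃ w ∈ W, F₁.map (MulAut.conj w).toMonoidHom = F₂ := by
    intro Q₁ Q₂ F₁ F₂ hF₁ hF₂ h₁ h₂
    obtain ⟨w, hw⟩ := MulAction.exists_smul_eq W Q₁ Q₂
    refine ⟨w, w.2, ?_⟩
    have := congrArg (fun Q : Sylow p W => (Q : Subgroup W)) hw
    simp only [Sylow.coe_subgroup_smul, h₁, h₂] at this
    ext x
    rw [mem_cj]
    constructor
    · intro hx
      have h3 : w * (⟨_, hF₁ hx⟩ : W) * w⁻¹ ∈ F₂.subgroupOf W := this ▸ ⟨⟨_, hF₁ hx⟩, hx, by simp [MulAut.smul_def]⟩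
      simpa [Subgroup.mem_subgroupOf, mul_assoc] using h3
    · intro hx
      have h3 : (⟨x, hF₂ hx⟩ : W) ∈ MulAut.conj w • F₁.subgroupOf W := by rw [this]; exact hx
      obtain ⟨y, hy, hyx⟩ := h3
      have : (y : G) = (w : G)⁻¹ * x * w := by
        have := congrArg (fun z : W => (z : G)) hyx
        simp [MulAut.smul_def] at this
        rw [← this]; group
      exact this ▸ hy
  -- automizers of `E`
  have hA : ∀ n ∈ normalizer (E : Set G), ∃ w ∈ W, ∀ e ∈ E, w * e * w⁻¹ = n * e * n⁻¹ := by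
    intro n hn
    have hpi := isPiSubgroup_of_isPGroup hp hEp
    set C := centralizer (E : Set G) with hCdef
    have hCn : ∀ m ∈ normalizer (E : Set G), ∀ c ∈ C, m * c * m⁻¹ ∈ C := by
      intro m hm c hc
      rw [hCdef, Subgroup.mem_centralizer_iff] at hc ⊢
      intro e he
      have h1 : m⁻¹ * e * m ∈ E := by
        simpa using (Subgroup.mem_normalizer_iff.mp (inv_mem hm) e).mp he
      have h2 := hc _ h1
      calc e * (m * c * m⁻¹) = m * ((m⁻¹ * e * m) * c) * m⁻¹ := by group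
        _ = m * (c * (m⁻¹ * e * m)) * m⁻¹ := by rw [h2]
        _ = m * c * m⁻¹ * e := by group
    have hCN : C ≤ normalizer (E : Set G) := centralizer_le_normalizer _
    set Sc := S ⊓ C with hScdef
    obtain ⟨Z⟩ : Nonempty (Sylow p C) := inferInstance
    have hScC : Sc ≤ C := inf_le_right
    have hScp : IsPGroup p (Sc.subgroupOf C) :=
      (hSp.to_le inf_le_left).of_equiv (Subgroup.subgroupOfEquivOfLe hScC).symm
    have hScmax : ∃ ZS : Sylow p C, (ZS : Subgroup C) = Sc.subgroupOf C := by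
      obtain ⟨Q, hQ⟩ := hScp.exists_le_sylow
      refine ⟨Q, (Subgroup.eq_of_le_of_card_ge hQ ?_).symm⟩
      obtain ⟨m, hm, hmS⟩ := hSmax ((Q : Subgroup C).map C.subtype) ((map_subtype_le _).trans hCN) (Q.2.map _)
      rw [Nat.card_congr (Subgroup.subgroupOfEquivOfLe hScC).toEquiv,
        ← Subgroup.card_map_of_injective (K := (Q : Subgroup C)) C.subtype_injective,
        ← card_cj ((Q : Subgroup C).map C.subtype) m]
      refine Subgroup.card_le_of_le ?_
      rintro _ ⟨_, ⟨q, hq, rfl⟩, rfl⟩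
      exact ⟨by simpa using hmS _ ⟨q, hq, rfl⟩, by simpa using hCn m hm _ q.2⟩
    obtain ⟨ZS, hZS⟩ := hScmax
    by_cases hsc : Sc ≤ E
    · -- centric case
      set N := normalizer (E : Set G)
      set K := C.subgroupOf N with hKdef
      haveI : K.Normal := ⟨fun c hc m => hCn m m.2 c hc⟩
      set EN := E.subgroupOf N with hENdef
      haveI : EN.Normal := ⟨fun e he m => (Subgroup.mem_normalizer_iff.mp m.2 e).mp he⟩
      obtain ⟨L, hLK, hLπ⟩ := exists_supplement (π := π) K
        fun m q hq hqπ hm => hhom E hpi hEne m m.2 q hq hqπ hm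
      set L₁ := L ⊔ EN with hL₁def
      have hL₁π : IsPiSubgroup π L₁ := by
        intro q hq hqd
        have h1 : Nat.card L₁ = Nat.card EN * EN.relIndex L₁ :=
          ((Subgroup.relIndex_bot_left EN).symm ▸ Subgroup.relIndex_bot_left L₁ ▸
            (Subgroup.relIndex_mul_relIndex ⊥ EN L₁ bot_le le_sup_right).symm)
        rw [h1, hL₁def, sup_comm, Subgroup.relIndex_sup_left] at hqd
        rcases hq.dvd_mul.mp hqd with h2 | h2
        · exact hpi q hq (by rwa [Nat.card_congr (Subgroup.subgroupOfEquivOfLe le_normalizer).toEquiv] at h2)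
        · exact hLπ q hq (h2.trans (Subgroup.relIndex_dvd_card EN L))
      have hL₁K : L₁ ⊔ K = ⊤ := top_le_iff.mp (hLK ▸ sup_le_sup_right le_sup_left _)
      have hidx : ¬ p ∣ L₁.index := by
        have h1 : Nat.card (L₁ ⊓ K : Subgroup N) * K.index = Nat.card L₁ := by
          have h2 : (L₁ ⊓ K).relIndex L₁ = K.index := by
            rw [Subgroup.inf_relIndex_left]
            rw [← Subgroup.relIndex_sup_right L₁ K, hL₁K, Subgroup.relIndex_top_right]
          rw [← h2, ← Subgroup.relIndex_bot_left (L₁ ⊓ K), ← Subgroup.relIndex_bot_left L₁]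
          exact Subgroup.relIndex_mul_relIndex _ _ _ bot_le inf_le_left
        have h3 : Nat.card (L₁ ⊓ K : Subgroup N) * (L₁ ⊓ K).relIndex K = Nat.card K := by
          rw [← Subgroup.relIndex_bot_left (L₁ ⊓ K), ← Subgroup.relIndex_bot_left K]
          exact Subgroup.relIndex_mul_relIndex _ _ _ bot_le inf_le_right
        have h4 : L₁.index = (L₁ ⊓ K).relIndex K := by
          have e1 := L₁.card_mul_index
          have e2 := K.card_mul_index
          have hpos : 0 < Nat.card (L₁ ⊓ K : Subgroup N) * K.index := h1 ▸ Nat.card_pos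
          apply Nat.eq_of_mul_eq_mul_left hpos
          rw [h1, e1, ← e2, ← h3, ← h1]
          ring
        rw [h4]
        intro hd
        have h5 : Sc.subgroupOf N ≤ L₁ ⊓ K := le_inf
          (le_sup_right.trans' fun x hx => hsc hx) (fun x hx => hScC hx)
        have h6 := hd.trans (Subgroup.relIndex_dvd_of_le_left K h5)
        rw [hKdef, Subgroup.relIndex_subgroupOf hCN] at h6
        exact ZS.not_dvd_index' (Subgroup.FiniteIndex.index_ne_zero) (by rw [hZS]; exact h6)
      obtain ⟨Q⟩ : Nonempty (Sylow p L₁) := inferInstance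
      obtain ⟨Qn, hQn⟩ := (Q.2.map L₁.subtype).exists_le_sylow
      have hSNp : IsPGroup p (S.subgroupOf N) := hSp.of_equiv (Subgroup.subgroupOfEquivOfLe hSN).symm
      obtain ⟨QS, hQS⟩ := hSNp.exists_le_sylow
      obtain ⟨m, hm⟩ := MulAction.exists_smul_eq N Qn QS
      set L₂ := L₁.map (MulAut.conj m).toMonoidHom with hL₂def
      have hcardQ : Nat.card (Qn : Subgroup N) = Nat.card ((Q : Subgroup L₁).map L₁.subtype) := by
        rw [Subgroup.card_map_of_injective L₁.subtype_injective, Qn.card_eq_multiplicity, Q.card_eq_multiplicity,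
          ← L₁.card_mul_index, Nat.factorization_mul Nat.card_pos.ne' Subgroup.FiniteIndex.index_ne_zero,
          Finsupp.add_apply, Nat.factorization_eq_zero_of_not_dvd hidx, add_zero]
      have hQneq := Subgroup.eq_of_le_of_card_ge hQn hcardQ.le
      have hSL₂ : ∀ s ∈ S, ∃ l ∈ L₂, (l : G) = s := by
        intro s hs
        refine ⟨⟨s, hSN hs⟩, ?_, rfl⟩
        have h1 : (⟨s, hSN hs⟩ : N) ∈ ((m • Qn : Sylow p N) : Subgroup N) := hm ▸ hQS hs
        rw [Sylow.coe_subgroup_smul] at h1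
        obtain ⟨y, hy, hys⟩ := h1
        rw [← hys]
        refine ⟨y, ?_, by simp [MulAut.smul_def]⟩
        have : y ∈ (Q : Subgroup L₁).map L₁.subtype := hQneq ▸ hy
        exact map_subtype_le _ this
      have hsupp : ∀ z ∈ N, ∃ l ∈ L₂, (l : G)⁻¹ * z ∈ C := by
        intro z hz
        have h1 : m⁻¹ * ⟨z, hz⟩ * m ∈ L₁ ⊔ K := hL₁K ▸ mem_top _
        rw [← SetLike.mem_coe, Subgroup.mul_normal] at h1
        obtain ⟨l, hl, k, hk, hlk⟩ := h1
        refine ⟨m * l * m⁻¹, ⟨l, hl, by simp⟩, ?_⟩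
        have h2 := congrArg (fun y : N => (y : G)) hlk
        simp only [Subgroup.coe_mul, Subgroup.coe_inv] at h2
        have h3 : ((m * l * m⁻¹ : N) : G)⁻¹ * z = (m : G) * (k : G) * (m : G)⁻¹ := by
          simp only [Subgroup.coe_mul, Subgroup.coe_inv]
          have : (k : G) = (l : G)⁻¹ * ((m : G)⁻¹ * z * m) := by rw [← h2]; group
          rw [this]; group
        rw [h3]
        exact hCn m m.2 _ hk
      obtain ⟨v, hv⟩ := hcov (L₂.map N.subtype) (by
        intro q hq hqd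
        rw [Subgroup.card_map_of_injective N.subtype_injective, hL₂def,
          Subgroup.card_map_of_injective (MulEquiv.injective _)] at hqd
        exact hL₁π q hq hqd)
      -- an element of `N(E)` conjugating `L₂` into `W`
      have hz : ∃ z ∈ N, ∀ l ∈ L₂, z * (l : G) * z⁻¹ ∈ W := by
        rcases lt_or_ge (Nat.card E) (Nat.card S) with hlt | hge
        · obtain ⟨w, hw, hwS⟩ := IH S hSW hSp (hcardE ▸ hlt) v fun s hs => by
            obtain ⟨l, hl, rfl⟩ := hSL₂ s hs
            exact hv _ ⟨l, hl, rfl⟩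
          refine ⟨w⁻¹ * v, hCN (Subgroup.mem_centralizer_iff.mpr fun e he => ?_), fun l hl => ?_⟩
          · have h1 := hwS e (hES he)
            calc e * (w⁻¹ * v) = w⁻¹ * (w * e * w⁻¹) * v := by group
              _ = w⁻¹ * v * e := by rw [h1]; group
          · have h1 := mul_mem (mul_mem (inv_mem hw) (hv _ ⟨l, hl, rfl⟩)) hw
            simpa [mul_assoc] using h1
        · have hmax : ∀ T : Subgroup G, T ≤ W ⊓ normalizer (E : Set G) → IsPGroup p T →
              Nat.card T ≤ Nat.card E :=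
            fun T hT hTp => (hScard T (hT.trans inf_le_right) hTp).trans hge
          obtain ⟨Q₁, hQ₁⟩ := hfull E hEW hEp hmax
          have hEvW : E.map (MulAut.conj v).toMonoidHom ≤ W := by
            rintro _ ⟨e, he, rfl⟩
            obtain ⟨l, hl, rfl⟩ := hSL₂ e (hES he)
            simpa using hv _ ⟨l, hl, rfl⟩
          have hp2 : IsPGroup p ↥((E.map (MulAut.conj v).toMonoidHom).subgroupOf W) :=
            (hEp.map _).of_equiv (Subgroup.subgroupOfEquivOfLe hEvW).symm
          obtain ⟨Q₂, hQ₂⟩ := hp2.exists_le_sylow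
          have hQ₂' := Subgroup.eq_of_le_of_card_ge hQ₂ (by
            rw [Nat.card_congr (Subgroup.subgroupOfEquivOfLe hEvW).toEquiv, card_cj,
              ← Nat.card_congr (Subgroup.subgroupOfEquivOfLe hEW).toEquiv, ← hQ₁,
              Q₁.card_eq_multiplicity, Q₂.card_eq_multiplicity])
          obtain ⟨w, hw, hwE⟩ := hconjSylow Q₂ Q₁ _ E hEvW hEW hQ₂'.symm hQ₁
          refine ⟨w * v, ?_, fun l hl => ?_⟩
          · have e1 : ∀ x : G, x ∈ E ↔ (w * v)⁻¹ * x * (w * v) ∈ E := by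
              intro x
              conv_lhs => rw [← hwE]
              rw [mem_cj, mem_cj]
              simp [mul_assoc]
            rw [← inv_mem_iff]
            exact Subgroup.mem_normalizer_iff.mpr fun x => by simpa [mul_assoc] using e1 x
          · have h1 := mul_mem (mul_mem hw (hv _ ⟨l, hl, rfl⟩)) (inv_mem hw)
            simpa [mul_assoc] using h1
      obtain ⟨z, hzN, hzW⟩ := hz
      obtain ⟨l, hl, hlC⟩ := hsupp (z⁻¹ * n * z) (mul_mem (mul_mem (inv_mem hzN) hn) hzN)
      refine ⟨z * l * z⁻¹, hzW l hl, fun e he => ?_⟩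
      have h1 := hCn z hzN _ hlC
      rw [hCdef, Subgroup.mem_centralizer_iff] at h1
      have h2 := h1 e he
      calc z * (l : G) * z⁻¹ * e * (z * (l : G) * z⁻¹)⁻¹
          = z * (l : G) * z⁻¹ * (e * (z * ((l : G)⁻¹ * (z⁻¹ * n * z)) * z⁻¹)) * n⁻¹ := by group
        _ = z * (l : G) * z⁻¹ * ((z * ((l : G)⁻¹ * (z⁻¹ * n * z)) * z⁻¹) * e) * n⁻¹ := by rw [h2]
        _ = n * e * n⁻¹ := by group
    · -- Frattini argument at `C(E)`
      have hT : ∀ x ∈ Sc.map (MulAut.conj n).toMonoidHom, x ∈ C := by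
        rintro _ ⟨s, hs, rfl⟩
        simpa using hCn n hn s hs.2
      obtain ⟨Q, hQ⟩ := IsPGroup.exists_le_sylow (P := (Sc.map (MulAut.conj n).toMonoidHom).subgroupOf C)
        (((hSp.to_le inf_le_left).map _).of_equiv (Subgroup.subgroupOfEquivOfLe hT).symm)
      obtain ⟨c, hc⟩ := MulAction.exists_smul_eq C Q ZS
      set m := (c : G) * n with hmdef
      have hmN : m ∈ normalizer (E : Set G) := mul_mem (hCN c.2) hn
      have hmSc : ∀ s ∈ Sc, m * s * m⁻¹ ∈ Sc := by
        intro s hs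
        have h1 : (⟨n * s * n⁻¹, hT _ (cj_mem hs)⟩ : C) ∈ (Q : Subgroup C) := hQ (cj_mem hs)
        have h2 : c * ⟨n * s * n⁻¹, hT _ (cj_mem hs)⟩ * c⁻¹ ∈ (ZS : Subgroup C) := by
          rw [← hc, Sylow.coe_subgroup_smul]
          exact ⟨_, h1, by simp [MulAut.smul_def]⟩
        rw [hZS, Subgroup.mem_subgroupOf] at h2
        simpa [hmdef, mul_assoc] using h2
      have hle : E ⊔ Sc ≤ S := sup_le hES inf_le_left
      have hlt : Nat.card D < Nat.card (E ⊔ Sc : Subgroup G) := by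
        rw [← hcardE]
        refine lt_of_le_of_ne (Subgroup.card_le_of_le le_sup_left) fun h => hsc ?_
        have := Subgroup.eq_of_le_of_card_ge (le_sup_left : E ≤ E ⊔ Sc) h.ge
        exact this.symm ▸ le_sup_right
      have hmap : (E ⊔ Sc).map (MulAut.conj m).toMonoidHom ≤ S := by
        rw [Subgroup.map_sup]
        refine sup_le ?_ ?_
        · rintro _ ⟨e, he, rfl⟩
          exact hES (by simpa using (Subgroup.mem_normalizer_iff.mp hmN e).mp he)
        · rintro _ ⟨s, hs, rfl⟩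
          exact (by simpa using hmSc s hs : _ ∈ Sc).1
      obtain ⟨w, hw, hwm⟩ := IH _ (hle.trans hSW) (hSp.to_le hle) hlt m
        fun x hx => hSW (hmap (cj_mem hx))
      refine ⟨w, hw, fun e he => ?_⟩
      have h1 : n * e * n⁻¹ ∈ E := (Subgroup.mem_normalizer_iff.mp hn e).mp he
      have h2 := Subgroup.mem_centralizer_iff.mp c.2 _ h1
      calc w * e * w⁻¹ = m * e * m⁻¹ := hwm e (mem_sup_left he)
        _ = (c : G) * (n * e * n⁻¹) * (c : G)⁻¹ := by rw [hmdef]; group
        _ = n * e * n⁻¹ := by rw [← h2]; group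
  -- every member of the class is moved to `E` inside `W`
  have hB : ∀ (F : Subgroup G) (h : G), F ≤ W → IsPGroup p F → F.map (MulAut.conj h).toMonoidHom = E →
      ∃ w ∈ W, ∀ f ∈ F, w * f * w⁻¹ = h * f * h⁻¹ := by
    intro F h hFW hFp hFE
    have hcardF : Nat.card F = Nat.card E := by rw [← hFE, card_cj]
    have hmove : ∀ x ∈ normalizer (F : Set G), h * x * h⁻¹ ∈ normalizer (E : Set G) := by
      intro x hx
      refine Subgroup.mem_normalizer_iff.mpr fun e => ?_
      rw [← hFE, mem_cj, mem_cj]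
      have := Subgroup.mem_normalizer_iff.mp hx (h⁻¹ * e * h)
      simpa [mul_assoc] using this
    by_cases hbig : ∃ T : Subgroup G, T ≤ W ⊓ normalizer (F : Set G) ∧ IsPGroup p T ∧ Nat.card F < Nat.card T
    · obtain ⟨T, hT, hTp, hlt⟩ := hbig
      have hFn : F.subgroupOf (W ⊓ normalizer (F : Set G)) |>.Normal :=
        ⟨fun f hf x => (Subgroup.mem_normalizer_iff.mp x.2.2 f).mp hf⟩
      set T' := F ⊔ T
      have hT'le : T' ≤ W ⊓ normalizer (F : Set G) := sup_le (le_inf hFW le_normalizer) hT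
      have hT'p : IsPGroup p T' := IsPGroup.to_sup_of_normal_left' hFp hTp (hT.trans inf_le_right)
      have hlt' : Nat.card D < Nat.card T' := by
        rw [← hcardE, ← hcardF]
        exact lt_of_lt_of_le hlt (Subgroup.card_le_of_le le_sup_right)
      obtain ⟨n, hn, hnS⟩ := hSmax (T'.map (MulAut.conj h).toMonoidHom)
        (by rintro _ ⟨t, ht, rfl⟩; simpa using hmove t (hT'le ht).2) (hT'p.map _)
      obtain ⟨w, hw, hwT⟩ := IH T' (hT'le.trans inf_le_left) hT'p hlt' (n * h) fun t ht => by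
        have := hSW (hnS _ (cj_mem ht))
        simpa [mul_assoc] using this
      obtain ⟨w₀, hw₀, hw₀E⟩ := hA n⁻¹ (inv_mem hn)
      refine ⟨w₀ * w, mul_mem hw₀ hw, fun f hf => ?_⟩
      have h1 := hwT f (mem_sup_left hf)
      have h2 : n * h * f * (n * h)⁻¹ ∈ E := by
        have := (Subgroup.mem_normalizer_iff.mp hn _).mp (hFE ▸ cj_mem hf : h * f * h⁻¹ ∈ E)
        simpa [mul_assoc] using this
      calc w₀ * w * f * (w₀ * w)⁻¹ = w₀ * (w * f * w⁻¹) * w₀⁻¹ := by group
        _ = n⁻¹ * (n * h * f * (n * h)⁻¹) * (n⁻¹)⁻¹ := by rw [h1, hw₀E _ h2]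
        _ = h * f * h⁻¹ := by group
    · have hmax : ∀ T : Subgroup G, T ≤ W ⊓ normalizer (F : Set G) → IsPGroup p T →
          Nat.card T ≤ Nat.card F := fun T hT hTp => not_lt.mp fun hlt => hbig ⟨T, hT, hTp, hlt⟩
      obtain ⟨Q₁, hQ₁⟩ := hfull F hFW hFp hmax
      obtain ⟨Q₂, hQ₂⟩ := IsPGroup.exists_le_sylow (P := E.subgroupOf W)
        (hEp.of_equiv (Subgroup.subgroupOfEquivOfLe hEW).symm)
      have hQ₂' := Subgroup.eq_of_le_of_card_ge hQ₂ (by
        rw [Nat.card_congr (Subgroup.subgroupOfEquivOfLe hEW).toEquiv, ← hcardF,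
          ← Nat.card_congr (Subgroup.subgroupOfEquivOfLe hFW).toEquiv, ← hQ₁,
          Q₁.card_eq_multiplicity, Q₂.card_eq_multiplicity])
      obtain ⟨w₁, hw₁, hw₁E⟩ := hconjSylow Q₁ Q₂ F E hFW hEW hQ₁ hQ₂'.symm
      have hn : h * w₁⁻¹ ∈ normalizer (E : Set G) := by
        rw [← inv_mem_iff]
        refine Subgroup.mem_normalizer_iff.mpr fun x => ?_
        have e1 : x ∈ E ↔ h⁻¹ * x * h ∈ F := by rw [← hFE, mem_cj]
        have e2 : (h * w₁⁻¹)⁻¹ * x * ((h * w₁⁻¹)⁻¹)⁻¹ ∈ E ↔ h⁻¹ * x * h ∈ F := by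
          rw [← hw₁E, mem_cj]; simp [mul_assoc]
        exact e1.trans e2.symm
      obtain ⟨w, hw, hwE⟩ := hA _ hn
      refine ⟨w * w₁, mul_mem hw hw₁, fun f hf => ?_⟩
      have h1 := hwE _ (hw₁E ▸ cj_mem hf)
      calc w * w₁ * f * (w * w₁)⁻¹ = w * (w₁ * f * w₁⁻¹) * w⁻¹ := by group
        _ = h * f * h⁻¹ := by rw [h1]; group
  obtain ⟨w₁, hw₁, h₁⟩ := hB D u hDW hD rfl
  obtain ⟨w₂, hw₂, h₂⟩ := hB (D.map (MulAut.conj g).toMonoidHom) (u * g⁻¹)
    (by rintro _ ⟨d, hd, rfl⟩; simpa using hg d hd) (hD.map _)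
    (by rw [hEdef, Subgroup.map_map]; congr 1; ext; simp [mul_assoc])
  refine ⟨w₂⁻¹ * w₁, mul_mem (inv_mem hw₂) hw₁, fun d hd => ?_⟩
  calc w₂⁻¹ * w₁ * d * (w₂⁻¹ * w₁)⁻¹ = w₂⁻¹ * (w₁ * d * w₁⁻¹) * w₂ := by group
    _ = w₂⁻¹ * (u * g⁻¹ * (g * d * g⁻¹) * (u * g⁻¹)⁻¹) * w₂ := by rw [h₁ d hd]; group
    _ = w₂⁻¹ * (w₂ * (g * d * g⁻¹) * w₂⁻¹) * w₂ := by rw [h₂ _ (cj_mem hd)]
    _ = g * d * g⁻¹ := by group

/-- `W` controls the fusion of its `p`-subgroups. -/
theorem ctl_pgroup {π : Set ℕ} {p : ℕ} [Fact p.Prime] [Finite G] {W : Subgroup G}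
    (hhom : Homog π G) (hcov : Covers π W) (hp : p ∈ π) (D : Subgroup G) (hDW : D ≤ W) (hD : IsPGroup p D) :
    Ctl W D :=
  ctl_step hhom hcov hp D hDW hD fun D' hD'W hD' _ => ctl_pgroup hhom hcov hp D' hD'W hD'
termination_by Nat.card G - Nat.card D
decreasing_by
  have := Subgroup.card_le_card_group D'
  omega

/-- `W` controls the fusion of its elements. -/
theorem ctl_element (π : Set ℕ) : ∀ (n : ℕ) (G : Type u) [Group G] [Finite G] (W : Subgroup G),
    Homog π G → Covers π W → IsPiSubgroup π W → ∀ x ∈ W, orderOf x = n → ∀ g : G, g * x * g⁻¹ ∈ W →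
      ∃ w ∈ W, w * x * w⁻¹ = g * x * g⁻¹ := by
  intro n
  induction n using Nat.strong_induction_on with
  | _ n IH =>
  intro G _ _ W hhom hcov hW x hx hn g hg
  rcases eq_or_ne n 1 with rfl | hn1
  · exact ⟨1, one_mem _, by simp [orderOf_eq_one_iff.mp hn]⟩
  have hn0 : n ≠ 0 := hn ▸ (orderOf_pos x).ne'
  set p := n.minFac with hpdef
  haveI : Fact p.Prime := ⟨Nat.minFac_prime hn1⟩
  have hpn : p ∣ n := Nat.minFac_dvd n
  have hp : p ∈ π := hW p Fact.out (hpn.trans (hn ▸ W.orderOf_dvd_natCard hx))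
  set m := p ^ n.factorization p with hmdef
  set r := n / p ^ n.factorization p with hrdef
  have hmr : m * r = n := Nat.ordProj_mul_ordCompl_eq_self n p
  have hcop : Nat.Coprime m r :=
    ((Nat.coprime_ordCompl Fact.out hn0).pow_left _)
  have hrlt : r < n := by
    have hm2 : 1 < m := Nat.one_lt_pow (((Fact.out : p.Prime).dvd_iff_one_le_factorization hn0).mp hpn |> fun h => by omega)
      (Fact.out : p.Prime).one_lt
    rw [← hmr]
    exact lt_mul_of_one_lt_left (Nat.div_pos (Nat.ordProj_le p hn0) (by positivity)) hm2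
  set i := (r : ℤ) * Nat.gcdB m r with hidef
  set j := (m : ℤ) * Nat.gcdA m r with hjdef
  have hij : i + j = 1 := by
    have := Nat.gcd_eq_gcd_ab m r
    rw [hcop.gcd_eq_one] at this
    simp only [hidef, hjdef]
    push_cast at this ⊢
    linarith
  set a := x ^ i with hadef
  set b := x ^ j with hbdef
  have hab : x = a * b := by rw [hadef, hbdef, ← zpow_add, hij, zpow_one]
  have ham : a ^ m = 1 := by
    rw [hadef, ← zpow_natCast, ← zpow_mul, hidef, show (r : ℤ) * Nat.gcdB m r * (m : ℤ) =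
      ((m * r : ℕ) : ℤ) * Nat.gcdB m r by push_cast; ring, zpow_mul, zpow_natCast, hmr, ← hn,
      pow_orderOf_eq_one, one_zpow]
  have hbr : b ^ r = 1 := by
    rw [hbdef, ← zpow_natCast, ← zpow_mul, hjdef, show (m : ℤ) * Nat.gcdA m r * (r : ℤ) =
      ((m * r : ℕ) : ℤ) * Nat.gcdA m r by push_cast; ring, zpow_mul, zpow_natCast, hmr, ← hn,
      pow_orderOf_eq_one, one_zpow]
  have haW : a ∈ W := zpow_mem hx _
  have hbW : b ∈ W := zpow_mem hx _
  have hap : IsPGroup p (zpowers a) := by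
    intro z
    refine ⟨n.factorization p, Subtype.ext ?_⟩
    obtain ⟨k, hk⟩ := Subgroup.mem_zpowers_iff.mp z.2
    rw [Subgroup.coe_pow, ← hk, ← zpow_natCast, ← zpow_mul, mul_comm, zpow_mul, zpow_natCast, ← hmdef,
      ham, one_zpow, Subgroup.coe_one]
  have hcj : ∀ (y : G) (k : ℤ), g * y ^ k * g⁻¹ = (g * y * g⁻¹) ^ k := fun y k => (conj_zpow).symm
  obtain ⟨w₁, hw₁, hw₁a⟩ := ctl_pgroup hhom hcov hp (zpowers a) (zpowers_le.mpr haW) hap g fun d hd => by
    obtain ⟨k, rfl⟩ := Subgroup.mem_zpowers_iff.mp hd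
    rw [hcj, hadef, hcj]
    exact zpow_mem (zpow_mem hg _) _
  set H := centralizer ({a} : Set G) with hHdef
  have hh : w₁⁻¹ * g ∈ H := by
    rw [hHdef, mem_centralizer_singleton_iff]
    have h1 := hw₁a a (mem_zpowers a)
    calc w₁⁻¹ * g * a = w₁⁻¹ * (g * a * g⁻¹) * g := by group
      _ = a * (w₁⁻¹ * g) := by rw [← h1]; group
  have hbH : b ∈ H := by
    rw [hHdef, mem_centralizer_singleton_iff, hadef, hbdef, ← zpow_add, ← zpow_add, add_comm]
  set WH := W.subgroupOf H with hWHdef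
  have hhomH : Homog π H := by
    intro E hE hEne e he q hq hqπ hec
    have h1 : IsPiSubgroup π (E.map H.subtype) := fun r hr hrd =>
      hE r hr (by rwa [Subgroup.card_map_of_injective H.subtype_injective] at hrd)
    have h2 : E.map H.subtype ≠ ⊥ :=
      fun h => hEne ((Subgroup.map_eq_bot_iff_of_injective _ H.subtype_injective).mp h)
    have h3 : (e : G) ∈ normalizer ((E.map H.subtype : Subgroup G) : Set G) := by
      refine Subgroup.mem_normalizer_iff.mpr fun y => ⟨?_, ?_⟩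
      · rintro ⟨z, hz, rfl⟩
        exact ⟨_, (Subgroup.mem_normalizer_iff.mp he z).mp hz, by simp⟩
      · rintro ⟨z, hz, hzy⟩
        refine ⟨e⁻¹ * z * e, ?_, ?_⟩
        · simpa using (Subgroup.mem_normalizer_iff.mp (inv_mem he) z).mp hz
        · simp only [Subgroup.coe_subtype, Subgroup.coe_mul, Subgroup.coe_inv] at hzy ⊢
          rw [hzy]; group
    have h4 : (e : G) ^ q ∈ centralizer ((E.map H.subtype : Subgroup G) : Set G) := by
      rw [Subgroup.mem_centralizer_iff]
      rintro _ ⟨z, hz, rfl⟩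
      exact congrArg Subtype.val (Subgroup.mem_centralizer_iff.mp hec z hz)
    have h5 := hhom _ h1 h2 _ h3 q hq hqπ h4
    rw [Subgroup.mem_centralizer_iff] at h5 ⊢
    exact fun z hz => Subtype.ext (h5 _ ⟨z, hz, rfl⟩)
  have hcovH : Covers π WH := by
    intro X hX
    have hnorm : X.map H.subtype ≤ centralizer ((zpowers a : Subgroup G) : Set G) := by
      rintro _ ⟨z, -, rfl⟩
      rw [Subgroup.mem_centralizer_iff]
      intro y hy
      obtain ⟨k, rfl⟩ := Subgroup.mem_zpowers_iff.mp hy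
      exact ((show Commute a (z : G) from (mem_centralizer_singleton_iff.mp z.2).symm).zpow_left k).eq
    have hpiA : IsPiSubgroup π (zpowers a) := isPiSubgroup_of_isPGroup hp hap
    have hY : IsPiSubgroup π (zpowers a ⊔ X.map H.subtype) := by
      intro q hq hqd
      by_contra hqπ
      haveI := Fact.mk hq
      obtain ⟨y, hy⟩ := exists_prime_orderOf_dvd_card' (G := (zpowers a ⊔ X.map H.subtype : Subgroup G)) q hqd
      obtain ⟨y, hy'⟩ := y
      rw [Subgroup.orderOf_mk] at hy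
      have hnorm' : X.map H.subtype ≤ normalizer ((zpowers a : Subgroup G) : Set G) :=
        hnorm.trans (centralizer_le_normalizer _)
      rw [← SetLike.mem_coe, Subgroup.coe_mul_of_right_le_normalizer_left _ _ hnorm'] at hy'
      obtain ⟨c, hc, z, hz, rfl⟩ := hy'
      have hcz : Commute c z := (Subgroup.mem_centralizer_iff.mp (hnorm hz) c hc)
      have h1 : (c * z) ^ (Nat.card (zpowers a) * Nat.card (X.map H.subtype)) = 1 := by
        rw [hcz.mul_pow, pow_mul, mul_comm (Nat.card (zpowers a)), pow_mul,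
          orderOf_dvd_iff_pow_eq_one.mp (Subgroup.orderOf_dvd_natCard _ hc),
          orderOf_dvd_iff_pow_eq_one.mp (Subgroup.orderOf_dvd_natCard _ hz), one_pow, one_pow, one_mul]
      have h2 : q ∣ Nat.card (zpowers a) * Nat.card (X.map H.subtype) := hy ▸ orderOf_dvd_of_pow_eq_one h1
      rcases hq.dvd_mul.mp h2 with h3 | h3
      · exact hqπ (hpiA q hq h3)
      · exact hqπ (hX q hq (by rwa [Subgroup.card_map_of_injective H.subtype_injective] at h3))
    obtain ⟨v, hv⟩ := hcov _ hY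
    obtain ⟨w, hw, hwa⟩ := ctl_pgroup hhom hcov hp (zpowers a) (zpowers_le.mpr haW) hap v
      fun d hd => hv d (mem_sup_left hd)
    refine ⟨⟨w⁻¹ * v, ?_⟩, fun z hz => ?_⟩
    · rw [hHdef, mem_centralizer_singleton_iff]
      have h1 := hwa a (mem_zpowers a)
      calc w⁻¹ * v * a = w⁻¹ * (v * a * v⁻¹) * v := by group
        _ = a * (w⁻¹ * v) := by rw [← h1]; group
    · rw [hWHdef, Subgroup.mem_subgroupOf]
      have h1 := mul_mem (mul_mem (inv_mem hw) (hv _ (mem_sup_right ⟨z, hz, rfl⟩))) hw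
      simpa [mul_assoc] using h1
  have hWH : IsPiSubgroup π WH := by
    intro q hq hqd
    have h1 : Nat.card WH = Nat.card (W ⊓ H : Subgroup G) := by
      rw [hWHdef, ← Subgroup.card_map_of_injective H.subtype_injective, Subgroup.subgroupOf_map_subtype]
    exact hW q hq ((h1 ▸ hqd).trans (Subgroup.card_dvd_of_le inf_le_left))
  obtain ⟨⟨w₂, hw₂H⟩, hw₂, hw₂b⟩ := IH (orderOf b)
    (lt_of_le_of_lt (orderOf_le_of_pow_eq_one (Nat.pos_of_ne_zero fun h => by simp [h] at hmr; omega) hbr) hrlt)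
    H WH hhomH hcovH hWH ⟨b, hbH⟩ hbW (Subgroup.orderOf_mk b hbH) ⟨w₁⁻¹ * g, hh⟩ (by
      rw [hWHdef, Subgroup.mem_subgroupOf]
      have h1 : g * b * g⁻¹ ∈ W := by rw [hbdef, hcj]; exact zpow_mem hg _
      have h2 := mul_mem (mul_mem (inv_mem hw₁) h1) hw₁
      simpa [mul_assoc] using h2)
  refine ⟨w₁ * w₂, mul_mem hw₁ hw₂, ?_⟩
  have h1 := congrArg Subtype.val hw₂b
  simp only [Subgroup.coe_mul, Subgroup.coe_inv] at h1
  have h2 : w₂ * a * w₂⁻¹ = a := by rw [mem_centralizer_singleton_iff.mp hw₂H, mul_inv_cancel_right]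
  have h3 := hw₁a a (mem_zpowers a)
  calc w₁ * w₂ * x * (w₁ * w₂)⁻¹ = w₁ * ((w₂ * a * w₂⁻¹) * (w₂ * b * w₂⁻¹)) * w₁⁻¹ := by rw [hab]; group
    _ = (w₁ * a * w₁⁻¹) * (g * b * g⁻¹) := by rw [h2, h1]; group
    _ = g * x * g⁻¹ := by rw [h3, hab]; group

end Cfsg.Lib.PiHomogeneous
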