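import Cfsg.Agent.Fusion.PrimeToPIndex
import Cfsg.Agent.Fusion.Criterion.Main
import Cfsg.Agent.Fusion.Invariant

/-!
Subsystems of index prime to `p` from subgroups of the automizer of the whole group.
-/

set_option autoImplicit false
set_option linter.unusedSectionVars false
set_option linter.style.haveILetI false

namespace Cfsg.Lib.Fusion.PrimeIndex

open Cfsg Cfsg.FusionSystem Cfsg.Lib.Fusion

universe u

variable {Ω : Type u} [Group Ω] {S : Subgroup Ω} {F : FusionSystem S} {p : ℕ}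
  {ℋ : Set (Subgroup Ω)} {H : Subgroup (MulAut S)}

/-- Every automorphism of `S` agreeing with a generated map at a site lies in `H`. -/
def Forced (F : FusionSystem S) (p : ℕ) (ℋ : Set (Subgroup Ω)) (H : Subgroup (MulAut S)) : Prop :=
  ∀ δ ∈ F.autGroup S, ∀ R ∈ ℋ, ∀ g, IsMap F R g → Gen F p ℋ R g →
    (∀ x ∈ R, autFun δ x = g x) → δ ∈ H

theorem gen_id {P : Subgroup Ω} (hP : P ≤ S) : Gen F p ℋ P id :=
  isMapClass_gen.congr P _ id (isMap_conj hP S.one_mem) (fun x _ => by simp)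
    (isMapClass_gen.conj P 1 hP S.one_mem)

variable [Finite S] (hH : H ≤ F.autGroup S) (hℋ : SiteFam F p ℋ)

/-- Maps that are an element of `H` after a generated map. -/
def sub : FusionSystem S := Criterion.classSystem F (isMapClass_fact hH hℋ)

theorem sub_le : (sub hH hℋ).IsSubsystemOf F := fun _ _ h => h.1

theorem isMap_sub_iff {P : Subgroup Ω} {f : Ω → Ω} :
    IsMap (sub hH hℋ) P f ↔ IsMap F P f ∧ Fact' F p ℋ H P f := by
  constructor
  · rintro ⟨φ, ⟨hφ, h⟩, e⟩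
    exact ⟨⟨φ, hφ, e⟩, (isMapClass_fact hH hℋ).congr P _ f (isMap_of_mem hφ)
      (fun x hx => by rw [toFun'_apply_mem φ hx]; exact (e ⟨x, hx⟩).symm) h⟩
  · rintro ⟨⟨φ, hφ, e⟩, h⟩
    exact ⟨φ, ⟨hφ, (isMapClass_fact hH hℋ).congr P f _ ⟨φ, hφ, e⟩
      (fun x hx => by rw [toFun'_apply_mem φ hx]; exact e ⟨x, hx⟩) h⟩, e⟩

theorem isMap_sub_gen {P : Subgroup Ω} {f : Ω → Ω} (hf : IsMap F P f) (h : Gen F p ℋ P f) :
    IsMap (sub hH hℋ) P f :=
  (isMap_sub_iff hH hℋ).mpr ⟨hf, fact_of_gen hf h⟩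

theorem isMap_sub_top {δ : MulAut S} (hδ : δ ∈ H) : IsMap (sub hH hℋ) S (autFun δ) :=
  (isMap_sub_iff hH hℋ).mpr
    ⟨isMap_top (hH hδ), δ, hδ, id, isMap_id le_rfl, gen_id le_rfl, fun _ _ => rfl⟩

variable [Fact p.Prime]

theorem opGen_le_sub (hS : IsPGroup p S) (hF : F.IsSaturated p) {P : Subgroup Ω} (hP : P ≤ S) :
    opGen F p P ≤ (sub hH hℋ).autGroup P :=
  opGen_le_iff fun _ hu hk => (isMap_autFun hP).mp
    (isMap_sub_gen hH hℋ ((isMap_autFun hP).mpr hu) (gen_of_pElement hS hF hℋ hP hu hk))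

theorem sub_main (hS : IsPGroup p S) (hF : F.IsSaturated p) :
    (sub hH hℋ).HasPrimeToPIndexIn F p ∧
      (∀ (P : Subgroup Ω) (φ : P →* Ω), φ ∈ F.Hom P → ∃ α ∈ F.autGroup S,
        ∃ φ₀ ∈ (sub hH hℋ).Hom P, ∀ (x : P) (hx : φ₀ x ∈ S), φ x = ((α ⟨φ₀ x, hx⟩ : S) : Ω)) ∧
      ∀ P : Subgroup Ω, (sub hH hℋ).IsCentric P ↔ F.IsCentric P :=
  main hS hF (sub_le hH hℋ) fun _ hP => opGen_le_sub hH hℋ hS hF hP.1

/-- A map of `F` lies in the subsystem when its restriction to a site does. -/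
theorem isMap_sub_of_restrict (hS : IsPGroup p S) (hF : F.IsSaturated p)
    (hcl : Forced F p ℋ H) {P R : Subgroup Ω} {f : Ω → Ω} (hf : IsMap F P f) (hRP : R ≤ P)
    (hR : R ∈ ℋ) (h : IsMap (sub hH hℋ) R f) : IsMap (sub hH hℋ) P f := by
  obtain ⟨-, δ', hδ', g₀, hg₀, hG', he'⟩ := (isMap_sub_iff hH hℋ).mp h
  obtain ⟨δ, hδ, f₀, hf₀, hG, he⟩ := factor (p := p) hS hF hℋ hf
  obtain ⟨k, hk, -, hkl, -⟩ := hg₀.exists_inv
  have hkR : ∀ y ∈ img R g₀, k y ∈ P := fun y hy => by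
    obtain ⟨x, hx, rfl⟩ := hg₀.mem_img.mp hy
    rw [hkl x hx]; exact hRP hx
  have hmem := hcl (δ⁻¹ * δ') (Subgroup.mul_mem _ (Subgroup.inv_mem _ hδ) (hH hδ')) _
    (hℋ.conj R hR _ (isConj_iff.mpr ⟨g₀, hg₀, rfl⟩)) _ (hk.comp hf₀ hkR)
    (isMapClass_gen.comp _ _ k f₀ hk hf₀ hkR (isMapClass_gen.inv R g₀ k hg₀ hk hkl hG') hG)
    fun y hy => by
      obtain ⟨x, hx, rfl⟩ := hg₀.mem_img.mp hy
      show _ = f₀ (k (g₀ x))
      rw [hkl x hx, autFun_mul _ _ (hg₀.mem_S hx), ← he' x hx, he x (hRP hx),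
        autFun_inv_apply' δ (hf₀.mem_S (hRP hx))]
  refine (isMap_sub_iff hH hℋ).mpr ⟨hf, δ, ?_, f₀, hf₀, hG, he⟩
  have := H.mul_mem hδ' (H.inv_mem hmem)
  rwa [show δ' * (δ⁻¹ * δ')⁻¹ = δ by group] at this

/-- Every subgroup is conjugate in the subsystem to one fully normalized in `F`. -/
theorem exists_sub_conj_fullyNormalized (hS : IsPGroup p S) (hF : F.IsSaturated p)
    {P : Subgroup Ω} (hP : P ≤ S) :
    ∃ Q, (sub hH hℋ).IsConj P Q ∧ F.IsFullyNormalized Q := by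
  obtain ⟨Q, hPQ, hQ⟩ := exists_fullyNormalized (F := F) hP
  obtain ⟨f, hf, rfl⟩ := isConj_iff.mp hPQ
  obtain ⟨δ, hδ, f₀, hf₀, hG, he⟩ := factor (p := p) hS hF hℋ hf
  refine ⟨img P f₀, isConj_iff.mpr ⟨f₀, isMap_sub_gen hH hℋ hf₀ hG, rfl⟩, hf₀.img_le,
    fun R hR => ?_⟩
  have hcon : F.IsConj (img P f) R :=
    isConj_trans (isConj_symm hPQ) (isConj_trans (isConj_iff.mpr ⟨f₀, hf₀, rfl⟩) hR)
  refine (hQ.2 R hcon).trans (card_le_of_isMap (isMap_top_inv hδ) inf_le_left inf_le_left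
    fun t ht => ?_)
  have e : img (img P f) (autFun δ⁻¹) = img P f₀ := by
    rw [← img_comp hf ((isMap_top_inv hδ).mono hf.img_le)]
    refine img_congr fun x hx => ?_
    show autFun δ⁻¹ (f x) = f₀ x
    rw [he x hx, top_inv_apply hδ (hf₀.mem_S hx)]
  rw [← e]
  exact (isMap_top_inv hδ).mem_normalizerIn hf.img_le ht.1 ht.2

/-- The subsystem is saturated. -/
theorem sub_saturated (hS : IsPGroup p S) (hF : F.IsSaturated p) (hcl : Forced F p ℋ H) :
    (sub hH hℋ).IsSaturated p := by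
  have hs := sub_le hH hℋ
  obtain ⟨-, -, hcen⟩ := sub_main hH hℋ hS hF
  have hconj : ∀ {P Q : Subgroup Ω}, (sub hH hℋ).IsConj P Q → F.IsConj P Q := fun h => by
    obtain ⟨f, hf, hi⟩ := isConj_iff.mp h
    exact isConj_iff.mpr ⟨f, isMap_of_le hs hf, hi⟩
  refine Criterion.saturated_of_family (ℋ := ℋ) hS
    (fun P hP Q hQ => hℋ.conj P hP Q (hconj hQ)) (fun P hP => ?_) (fun D hD => ?_) (fun P hP hPℋ => ?_)
  · obtain ⟨Q, hPQ, hQn⟩ := exists_sub_conj_fullyNormalized hH hℋ hS hF (hℋ.centric P hP).1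
    obtain ⟨-, hfa, hrec⟩ := fullyNormalized_props hS hF hQn
    refine ⟨Q, hPQ, (isFullyAutomized_iff hS).mpr ⟨hQn.1, ?_⟩, receptive_of_extend hQn.1
      fun R f hf hfi => ?_⟩
    · intro hd
      refine ((isFullyAutomized_iff hS).mp hfa).2 ?_
      rw [← Subgroup.relIndex_mul_relIndex _ _ _ (autInducedBy_le (F := sub hH hℋ) hQn.1)
        (autGroup_le hs hQn.1)]
      exact dvd_mul_of_dvd_left hd _
    · obtain ⟨g, hg, hge⟩ := receptive_extend hrec (isMap_of_le hs hf) hfi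
      have hR : R ∈ ℋ := hℋ.conj P hP R
        (hconj (isConj_trans hPQ (isConj_symm (isConj_iff.mpr ⟨f, hf, hfi⟩))))
      exact ⟨g, isMap_sub_of_restrict hH hℋ hS hF hcl hg (le_extSub (isMap_of_le hs hf)) hR
        (hf.congr hge), hge⟩
  · have hbase : ∀ (T : Subgroup Ω) (g : Ω → Ω), T ∈ ℋ → IsMap (sub hH hℋ) T g → IsMap D T g := by
      rintro T g hT ⟨φ, hφ, e⟩
      exact ⟨φ, hD T hT hφ, e⟩
    have hcls : IsGenClass F p ℋ (IsMap D) := ⟨isMapClass_isMap F D, fun Q hQ α hα =>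
      hbase Q _ hQ ((isMap_autFun (hℋ.centric Q hQ).1).mpr
        (opGen_le_sub hH hℋ hS hF (hℋ.centric Q hQ).1 hα))⟩
    intro P φ hφ
    obtain ⟨-, δ, hδ, f₀, hf₀, hG, he⟩ := (isMap_sub_iff hH hℋ).mp (isMap_of_mem hφ)
    exact IsMap.mem_toFun' (((hG _ hcls).comp (hbase S _ hℋ.top (isMap_sub_top hH hℋ hδ))
      fun x hx => hf₀.mem_S hx).congr he)
  · obtain ⟨Q, hPQ, hQn⟩ := exists_sub_conj_fullyNormalized hH hℋ hS hF hP.1
    refine ⟨Q, hPQ, fun hle => ?_⟩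
    have hFP := (hcen P).mp hP
    have hFQ : F.IsCentric Q := centric_of_isConj hFP (hconj hPQ)
    have hQℋ : Q ∉ ℋ := fun h => hPℋ (hℋ.conj Q h P (isConj_symm (hconj hPQ)))
    refine hQℋ (hℋ.rad Q hFQ ⟨hQn.1, le_antisymm (fun β hβ => hle ⟨?_, ?_⟩)
      (Criterion.inn_le_opAut hS hQn.1)⟩)
    · haveI := finite_of_le hQn.1
      haveI := Cfsg.Lib.Components.pCore_normal' (G := F.autGroup Q) p
      obtain ⟨V, hV⟩ := (fullyNormalized_props hS hF hQn).2.1.2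
      obtain ⟨b, hb, rfl⟩ := hβ
      have := (Cfsg.Lib.Components.isPGroup_pCore p).le_sylow_of_normal V hb
      rw [hV] at this
      exact this
    · refine Criterion.le_opAut (K := Criterion.opAut F p Q) ?_ (Criterion.isPGroup_opAut hQn.1)
        (fun α hα _ hb => Criterion.opAut_normal hQn.1 (autGroup_le hs hQn.1 hα) hb) hβ
      intro γ hγ
      refine opGen_le_sub hH hℋ hS hF hQn.1 (mem_opGen (Criterion.opAut_le Q hγ) ?_)
      obtain ⟨k, hk⟩ := IsPGroup.iff_orderOf.mp (Criterion.isPGroup_opAut (F := F) hQn.1) ⟨γ, hγ⟩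
      exact ⟨k, (Subgroup.orderOf_mk γ hγ).symm.trans hk⟩

/-- The subsystem is normal when `H` is. -/
theorem sub_normal (hS : IsPGroup p S) (hF : F.IsSaturated p) (hcl : Forced F p ℋ H)
    (hn : ∀ α ∈ F.autGroup S, ∀ δ ∈ H, α * δ * α⁻¹ ∈ H) : (sub hH hℋ).IsNormalIn F p := by
  have hs := sub_le hH hℋ
  refine ⟨⟨sub_saturated hH hℋ hS hF hcl, hF, hs,
    stronglyClosed_of_apply le_rfl fun P f hf x hx _ => hf.mem_S hx, ?_,
    fun P _ φ hφ => (sub_main hH hℋ hS hF).2.1 P φ hφ⟩, ?_⟩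
  · intro P hP φ hφ α hα
    have hfm := isMap_of_mem hφ
    obtain ⟨hf, δ, hδ, f₀, hf₀, hG, he⟩ := (isMap_sub_iff hH hℋ).mp hfm
    have himg : img P (autFun α) = (P.subgroupOf S).map (S.subtype.comp α.toMonoidHom) := by
      refine le_antisymm (IsMap.img_le_iff.mpr fun x hx => ?_) ?_
      · rw [autFun_apply_mem _ (hP hx)]
        exact ⟨⟨x, hP hx⟩, hx, rfl⟩
      · rintro _ ⟨x, hx, rfl⟩
        rw [show S.subtype.comp α.toMonoidHom x = autFun α x from (autFun_apply α x).symm]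
        exact IsMap.apply_mem_img hx
    have hm : IsMap (sub hH hℋ) (img P (autFun α))
        (fun y => autFun α (toFun' φ (autFun α⁻¹ y))) := by
      refine (isMap_sub_iff hH hℋ).mpr ⟨isMap_transport hα hf, α * δ * α⁻¹, hn α hα δ hδ, _,
        isMap_transport hα hf₀, gen_transport hα hℋ hG, fun y hy => ?_⟩
      obtain ⟨x, hx, rfl⟩ := ((isMap_top hα).mono hP).mem_img.mp hy
      show autFun α (toFun' φ (autFun α⁻¹ (autFun α x))) =
        autFun (α * δ * α⁻¹) (autFun α (f₀ (autFun α⁻¹ (autFun α x))))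
      rw [top_inv_apply hα (hP hx), autFun_mul _ _ (autFun_mem _ (hf₀.mem_S hx)),
        top_inv_apply hα (hf₀.mem_S hx), autFun_mul _ _ (hf₀.mem_S hx), he x hx]
    obtain ⟨χ, hχ, e⟩ := hm
    rw [← himg]
    refine ⟨χ, hχ, fun x hφx hαx => ?_⟩
    rw [e]
    show autFun α (toFun' φ (autFun α⁻¹ ((α ⟨x, hP x.2⟩ : S) : Ω))) = _
    have h1 : ((α ⟨x, hP x.2⟩ : S) : Ω) = autFun α x := (autFun_apply α ⟨x, hP x.2⟩).symm
    rw [h1, top_inv_apply hα (hP x.2), toFun'_apply φ x]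
    exact autFun_apply α ⟨φ x, hφx⟩
  · intro α hα
    have hαF := autGroup_le hs le_rfl hα
    have key : ∀ (X : Subgroup Ω), X = S → ∀ hle : S ≤ X, ∃ β ∈ F.autGroup X,
        (∀ x : S, ((β (Subgroup.inclusion hle x) : X) : Ω) = ((α x : S) : Ω)) ∧
        ∀ c : X, (c : Ω) ∈ centralizerIn S S →
          (c : Ω)⁻¹ * ((β c : X) : Ω) ∈ S ⊓ Subgroup.centralizer (S : Set Ω) := by
      rintro X rfl hle
      refine ⟨α, hαF, fun x => rfl, fun c hc => ?_⟩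
      refine Subgroup.mul_mem _ (Subgroup.inv_mem _ hc) ?_
      rw [← autFun_apply α c]
      have := (isMap_top hαF).mem_centralizerIn le_rfl c.2 hc
      rwa [img_autFun] at this
    exact key _ (le_antisymm (sup_le le_rfl inf_le_left) le_sup_left) le_sup_left

end Cfsg.Lib.Fusion.PrimeIndex
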