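import Cfsg.Agent.Fusion.Essential
import Cfsg.Agent.Fusion.NormalCriteria

/-!
Subsystems containing the `p`-elements of the automizers of the centric subgroups.
-/

set_option autoImplicit false
set_option linter.unusedSectionVars false
set_option linter.style.haveILetI false

namespace Cfsg.Lib.Fusion.PrimeIndex

open Cfsg Cfsg.FusionSystem Cfsg.Lib.Fusion

universe u

variable {Ω : Type u} [Group Ω] {S : Subgroup Ω} {E F : FusionSystem S} {p : ℕ}
  {ℋ : Set (Subgroup Ω)}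

/-- The subgroup generated by the elements of `p`-power order. -/
def opGen (F : FusionSystem S) (p : ℕ) (P : Subgroup Ω) : Subgroup (MulAut P) :=
  (Subgroup.closure {α : F.autGroup P | ∃ k : ℕ, orderOf α = p ^ k}).map (F.autGroup P).subtype

theorem opGen_le (F : FusionSystem S) (p : ℕ) (P : Subgroup Ω) : opGen F p P ≤ F.autGroup P :=
  Subgroup.map_subtype_le _

theorem mem_opGen {P : Subgroup Ω} {α : MulAut P} (h : α ∈ F.autGroup P)
    (hk : ∃ k : ℕ, orderOf α = p ^ k) : α ∈ opGen F p P := by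
  obtain ⟨k, hk⟩ := hk
  exact ⟨⟨α, h⟩, Subgroup.subset_closure ⟨k, (Subgroup.orderOf_mk α h).trans hk⟩, rfl⟩

theorem opGen_le_iff {P : Subgroup Ω} {K : Subgroup (MulAut P)}
    (h : ∀ α ∈ F.autGroup P, (∃ k : ℕ, orderOf α = p ^ k) → α ∈ K) : opGen F p P ≤ K := by
  rw [opGen, Subgroup.map_le_iff_le_comap, Subgroup.closure_le]
  rintro α ⟨k, hk⟩
  exact h α α.2 ⟨k, (Subgroup.orderOf_coe α).trans hk⟩

/-- A family of centric sites: closed under conjugation, containing the top and every centric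
radical subgroup. -/
structure SiteFam (F : FusionSystem S) (p : ℕ) (ℋ : Set (Subgroup Ω)) : Prop where
  centric : ∀ Q ∈ ℋ, F.IsCentric Q
  conj : ∀ Q ∈ ℋ, ∀ R, F.IsConj Q R → R ∈ ℋ
  rad : ∀ Q, F.IsCentric Q → F.IsRadical p Q → Q ∈ ℋ
  top : S ∈ ℋ

/-- The family of all centric subgroups. -/
def centrics (F : FusionSystem S) : Set (Subgroup Ω) := {Q | F.IsCentric Q}

theorem siteFam_centrics [Finite S] : SiteFam F p (centrics F) where
  centric _ h := h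
  conj Q hQ R hR := ⟨(isConj_le hR).2, fun T hT => hQ.2 T (isConj_trans hR hT)⟩
  rad _ h _ := h
  top := ⟨le_rfl, fun Q hQ =>
    inf_le_left.trans (Subgroup.eq_of_le_of_card_ge (isConj_le hQ).2 (isConj_card hQ).ge).ge⟩

/-- A class of maps containing the `p`-elements at the sites. -/
structure IsGenClass (F : FusionSystem S) (p : ℕ) (ℋ : Set (Subgroup Ω))
    (Ψ : Subgroup Ω → (Ω → Ω) → Prop) : Prop where
  cls : IsMapClass F Ψ
  aut : ∀ Q ∈ ℋ, ∀ α ∈ opGen F p Q, Ψ Q (autFun α)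

/-- The maps in every such class. -/
def Gen (F : FusionSystem S) (p : ℕ) (ℋ : Set (Subgroup Ω)) (P : Subgroup Ω) (f : Ω → Ω) : Prop :=
  ∀ Ψ, IsGenClass F p ℋ Ψ → Ψ P f

theorem isMapClass_gen : IsMapClass F (Gen F p ℋ) where
  conj P g hP hg _ hΨ := hΨ.cls.conj P g hP hg
  congr P f f' hf e h Ψ hΨ := hΨ.cls.congr P f f' hf e (h Ψ hΨ)
  mono P R f hf hR h Ψ hΨ := hΨ.cls.mono P R f hf hR (h Ψ hΨ)
  comp P Q f g hf hg hfQ h h' Ψ hΨ := hΨ.cls.comp P Q f g hf hg hfQ (h Ψ hΨ) (h' Ψ hΨ)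
  inv P f g hf hg hl h Ψ hΨ := hΨ.cls.inv P f g hf hg hl (h Ψ hΨ)

section Transport

variable [Finite S] {δ : MulAut S} (hδ : δ ∈ F.autGroup S)
include hδ

theorem isMap_top : IsMap F S (autFun δ) := (isMap_autFun le_rfl).mpr hδ

theorem isMap_top_inv : IsMap F S (autFun δ⁻¹) :=
  (isMap_autFun le_rfl).mpr (Subgroup.inv_mem _ hδ)

theorem isMap_transport {P : Subgroup Ω} {f : Ω → Ω} (hf : IsMap F P f) :
    IsMap F (img P (autFun δ)) (fun y => autFun δ (f (autFun δ⁻¹ y))) := by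
  have ha := (isMap_top hδ).mono hf.le
  have hb := (isMap_top_inv hδ).mono ha.img_le
  have hbmem : ∀ y ∈ img P (autFun δ), autFun δ⁻¹ y ∈ P := fun y hy => by
    obtain ⟨x, hx, rfl⟩ := ha.mem_img.mp hy
    rwa [← autFun_mul _ _ (hf.le hx), inv_mul_cancel, autFun_apply_mem _ (hf.le hx)]
  exact (hb.comp hf hbmem).comp (isMap_top hδ) fun y hy => hf.mem_S (hbmem y hy)

theorem top_inv_apply {x : Ω} (hx : x ∈ S) : autFun δ⁻¹ (autFun δ x) = x := by
  rw [← autFun_mul _ _ hx, inv_mul_cancel, autFun_apply_mem _ hx]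
  rfl

theorem img_transport {P : Subgroup Ω} {f : Ω → Ω} (hf : IsMap F P f) :
    img (img P (autFun δ)) (fun y => autFun δ (f (autFun δ⁻¹ y))) = img (img P f) (autFun δ) := by
  rw [← img_comp ((isMap_top hδ).mono hf.le) (isMap_transport hδ hf),
    ← img_comp hf ((isMap_top hδ).mono hf.img_le)]
  refine img_congr fun x hx => ?_
  show autFun δ (f (autFun δ⁻¹ (autFun δ x))) = autFun δ (f x)
  rw [top_inv_apply hδ (hf.le hx)]

/-- Transport of a class along an automorphism of `S`. -/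
theorem gen_transport (hℋ : SiteFam F p ℋ) {P : Subgroup Ω} {f : Ω → Ω} (h : Gen F p ℋ P f) :
    Gen F p ℋ (img P (autFun δ)) (fun y => autFun δ (f (autFun δ⁻¹ y))) := by
  intro Ψ hΨ
  refine h (fun R g => Ψ (img R (autFun δ)) (fun y => autFun δ (g (autFun δ⁻¹ y)))) ⟨⟨?_, ?_, ?_, ?_, ?_⟩, ?_⟩
  · intro R g hR hg
    have ha := (isMap_top hδ).mono hR
    refine hΨ.cls.congr _ (fun y => autFun δ g * y * (autFun δ g)⁻¹) _
      (isMap_conj ha.img_le (autFun_mem δ hg)) (fun y hy => ?_)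
      (hΨ.cls.conj _ _ ha.img_le (autFun_mem δ hg))
    obtain ⟨x, hx, rfl⟩ := ha.mem_img.mp hy
    show autFun δ (g * autFun δ⁻¹ (autFun δ x) * g⁻¹) = autFun δ g * autFun δ x * (autFun δ g)⁻¹
    rw [top_inv_apply hδ (hR hx), (isMap_top hδ).map_conj hg (hR hx)]
  · intro R g g' hg e h
    refine hΨ.cls.congr _ _ _ (isMap_transport hδ hg) (fun y hy => ?_) h
    obtain ⟨x, hx, rfl⟩ := ((isMap_top hδ).mono hg.le).mem_img.mp hy
    show autFun δ (g' (autFun δ⁻¹ (autFun δ x))) = autFun δ (g (autFun δ⁻¹ (autFun δ x)))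
    rw [top_inv_apply hδ (hg.le hx), e x hx]
  · intro R R' g hg hR h
    exact hΨ.cls.mono _ _ _ (isMap_transport hδ hg) (img_mono hR _) h
  · intro R Q g k hg hk hgQ h h'
    have hmem : ∀ y ∈ img R (autFun δ), autFun δ (g (autFun δ⁻¹ y)) ∈ img Q (autFun δ) := by
      intro y hy
      obtain ⟨x, hx, rfl⟩ := ((isMap_top hδ).mono hg.le).mem_img.mp hy
      rw [top_inv_apply hδ (hg.le hx)]
      exact IsMap.apply_mem_img (hgQ x hx)
    refine hΨ.cls.congr _ _ _ ((isMap_transport hδ hg).comp (isMap_transport hδ hk) hmem)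
      (fun y hy => ?_) (hΨ.cls.comp _ _ _ _ (isMap_transport hδ hg) (isMap_transport hδ hk) hmem h h')
    obtain ⟨x, hx, rfl⟩ := ((isMap_top hδ).mono hg.le).mem_img.mp hy
    show autFun δ (k (g (autFun δ⁻¹ (autFun δ x)))) =
      autFun δ (k (autFun δ⁻¹ (autFun δ (g (autFun δ⁻¹ (autFun δ x))))))
    rw [top_inv_apply hδ (hg.le hx), top_inv_apply hδ (hg.mem_S hx)]
  · intro R g k hg hk hl h
    have e := img_transport hδ hg
    rw [← e]
    refine hΨ.cls.inv _ _ _ (isMap_transport hδ hg) ?_ (fun y hy => ?_) h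
    · rw [e]
      exact isMap_transport hδ hk
    · obtain ⟨x, hx, rfl⟩ := ((isMap_top hδ).mono hg.le).mem_img.mp hy
      show autFun δ (k (autFun δ⁻¹ (autFun δ (g (autFun δ⁻¹ (autFun δ x)))))) = autFun δ x
      rw [top_inv_apply hδ (hg.le hx), top_inv_apply hδ (hg.mem_S hx), hl x hx]
  · intro Q hQℋ α hα
    have hQ := hℋ.centric Q hQℋ
    have ha := (isMap_top hδ).mono hQ.1
    haveI := finite_of_le hQ.1
    have hcon : F.IsConj Q (img Q (autFun δ)) := isConj_iff.mpr ⟨_, ha, rfl⟩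
    have hc : img Q (autFun δ) ∈ ℋ := hℋ.conj Q hQℋ _ hcon
    set θ := (MulAut.congr (ha.equiv rfl)).toMonoidHom
    have hle : opGen F p Q ≤ (opGen F p (img Q (autFun δ))).comap θ := opGen_le_iff fun β hβ hk =>
      Subgroup.mem_comap.mpr (mem_opGen (congr_mem_autGroup ha rfl hβ)
        (by rwa [orderOf_injective θ (MulAut.congr (ha.equiv rfl)).injective]))
    refine hΨ.cls.congr _ _ _ ((isMap_autFun ha.img_le).mpr (congr_mem_autGroup ha rfl
      (opGen_le F p Q hα))) (fun y hy => ?_) (hΨ.aut _ hc _ (hle hα))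
    obtain ⟨x, hx, rfl⟩ := ha.mem_img.mp hy
    rw [congr_equiv_spec ha rfl α hx]
    show autFun δ (autFun α (autFun δ⁻¹ (autFun δ x))) = autFun δ (autFun α x)
    rw [top_inv_apply hδ (hQ.1 hx)]

/-- Transport back. -/
theorem gen_transport' (hℋ : SiteFam F p ℋ) {P : Subgroup Ω} {f : Ω → Ω} (h : Gen F p ℋ P f) :
    Gen F p ℋ (img P (autFun δ⁻¹)) (fun y => autFun δ⁻¹ (f (autFun δ y))) := by
  have := gen_transport (Subgroup.inv_mem _ hδ) hℋ h
  rwa [inv_inv] at this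

end Transport

/-- An automorphism of `S` composed with a generated map. -/
def Fact' (F : FusionSystem S) (p : ℕ) (ℋ : Set (Subgroup Ω)) (H : Subgroup (MulAut S)) (P : Subgroup Ω) (f : Ω → Ω) : Prop :=
  ∃ δ ∈ H, ∃ f₀, IsMap F P f₀ ∧ Gen F p ℋ P f₀ ∧ ∀ x ∈ P, f x = autFun δ (f₀ x)

theorem fact_of_gen {H : Subgroup (MulAut S)} {P : Subgroup Ω} {f : Ω → Ω} (hf : IsMap F P f) (h : Gen F p ℋ P f) :
    Fact' F p ℋ H P f :=
  ⟨1, Subgroup.one_mem _, f, hf, h, fun x hx => by rw [autFun_apply_mem _ (hf.mem_S hx)]; rfl⟩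

theorem isMapClass_fact [Finite S] {H : Subgroup (MulAut S)} (hH : H ≤ F.autGroup S)
    (hℋ : SiteFam F p ℋ) : IsMapClass F (Fact' F p ℋ H) where
  conj P g hP hg := fact_of_gen (isMap_conj hP hg) (isMapClass_gen.conj P g hP hg)
  congr P f f' _ e := fun ⟨δ, hδ, f₀, hf₀, hg, he⟩ =>
    ⟨δ, hδ, f₀, hf₀, hg, fun x hx => (e x hx).trans (he x hx)⟩
  mono P R f _ hR := fun ⟨δ, hδ, f₀, hf₀, hg, he⟩ =>
    ⟨δ, hδ, f₀, hf₀.mono hR, isMapClass_gen.mono P R f₀ hf₀ hR hg, fun x hx => he x (hR hx)⟩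
  comp P Q f g _ _ hfQ := by
    rintro ⟨δ, hδH, f₀, hf₀, hG, he⟩ ⟨δ', hδ', g₀, hg₀, hG', he'⟩
    have hδ := hH hδH
    have hδi := Subgroup.inv_mem _ hδ
    have hk : IsMap F (img Q (autFun δ⁻¹)) (fun y => autFun δ⁻¹ (g₀ (autFun δ y))) := by
      have := isMap_transport hδi hg₀
      rwa [inv_inv] at this
    have hmem : ∀ x ∈ P, f₀ x ∈ img Q (autFun δ⁻¹) := fun x hx => by
      rw [← top_inv_apply hδ (hf₀.mem_S hx), ← he x hx]
      exact IsMap.apply_mem_img (hfQ x hx)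
    refine ⟨δ' * δ, Subgroup.mul_mem _ hδ' hδH, _, hf₀.comp hk hmem,
      isMapClass_gen.comp _ _ _ _ hf₀ hk hmem hG (gen_transport' hδ hℋ hG'), fun x hx => ?_⟩
    show g (f x) = autFun (δ' * δ) (autFun δ⁻¹ (g₀ (autFun δ (f₀ x))))
    have hy : g₀ (f x) ∈ S := hg₀.mem_S (hfQ x hx)
    rw [autFun_mul _ _ (autFun_mem _ (he x hx ▸ hy)), ← he x hx, autFun_inv_apply δ hy,
      he' _ (hfQ x hx)]
  inv P f g hf hg hl := by
    rintro ⟨δ, hδH, f₀, hf₀, hG, he⟩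
    have hδ := hH hδH
    obtain ⟨k, hk, -, hkl, -⟩ := hf₀.exists_inv
    have hkG : Gen F p ℋ (img P f₀) k := isMapClass_gen.inv P f₀ k hf₀ hk hkl hG
    have e : img (img P f₀) (autFun δ) = img P f := by
      rw [← img_comp hf₀ ((isMap_top hδ).mono hf₀.img_le)]
      exact img_congr fun x hx => (he x hx).symm
    refine ⟨δ⁻¹, Subgroup.inv_mem _ hδH, fun y => autFun δ (k (autFun δ⁻¹ y)),
      e ▸ isMap_transport hδ hk, e ▸ gen_transport hδ hℋ hkG, fun y hy => ?_⟩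
    obtain ⟨x, hx, rfl⟩ := hf.mem_img.mp hy
    show g (f x) = autFun δ⁻¹ (autFun δ (k (autFun δ⁻¹ (f x))))
    rw [hl x hx, he x hx, top_inv_apply hδ (hf₀.mem_S hx), hkl x hx, top_inv_apply hδ (hf.le hx)]

/-- Every map is an automorphism of `S` after a generated map. -/
theorem factor [Finite S] [Fact p.Prime] (hS : IsPGroup p S) (hF : F.IsSaturated p)
    (hℋ : SiteFam F p ℋ)
    {P : Subgroup Ω} {f : Ω → Ω} (hf : IsMap F P f) : Fact' F p ℋ (F.autGroup S) P f := by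
  refine alperin_radical hS hF (isMapClass_fact le_rfl hℋ) (fun g hg => ?_)
    (fun Q hQS hQn hQc hQr hIH α hα => ?_) hf
  · obtain ⟨δ, hδ, hδg⟩ := hg.exists_aut (Subgroup.eq_of_le_of_card_ge hg.img_le hg.card_img.ge)
    refine ⟨δ, hδ, fun x => (1 : Ω) * x * 1⁻¹, isMap_conj le_rfl S.one_mem,
      isMapClass_gen.conj S 1 le_rfl S.one_mem, fun x hx => ?_⟩
    show g x = autFun δ (1 * x * 1⁻¹)
    rw [one_mul, inv_one, mul_one, hδg x hx]
  obtain ⟨-, hfa, hrec⟩ := fullyNormalized_props hS hF hQn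
  have hQ := hQn.1
  haveI := finite_of_le hQ
  obtain ⟨R, hR⟩ := hfa.2
  set N : Subgroup (F.autGroup Q) := (opGen F p Q).subgroupOf (F.autGroup Q)
  haveI hN : N.Normal := ⟨fun x hx g => by
    have hle : opGen F p Q ≤ (opGen F p Q).comap (MulAut.conj (g : MulAut Q)).toMonoidHom :=
      opGen_le_iff fun β hβ hk => by
        refine Subgroup.mem_comap.mpr (mem_opGen ?_ ?_)
        · exact Subgroup.mul_mem _ (Subgroup.mul_mem _ g.2 hβ) (Subgroup.inv_mem _ g.2)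
        · rwa [orderOf_injective _ (MulAut.conj (g : MulAut Q)).injective]
    exact hle hx⟩
  have hRN : (R : Subgroup (F.autGroup Q)) ≤ N := fun x hx => by
    obtain ⟨k, hk⟩ := IsPGroup.iff_orderOf.mp R.2 ⟨x, hx⟩
    exact mem_opGen x.2 ⟨k, (Subgroup.orderOf_coe x).trans ((Subgroup.orderOf_mk x hx).symm.trans hk)⟩
  have hmem : (⟨α, hα⟩ : F.autGroup Q) ∈ Subgroup.normalizer ((R : Subgroup (F.autGroup Q)) : Set (F.autGroup Q)) ⊔ N := by
    have h0 : Subgroup.normalizer ((R : Subgroup (F.autGroup Q)) : Set (F.autGroup Q)) ⊔ N = ⊤ :=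
      Sylow.normalizer_sup_eq_top' R hRN
    rw [h0]; exact Subgroup.mem_top _
  obtain ⟨γ, hγ, ν, hν, e⟩ := Subgroup.mem_sup_of_normal_right.mp hmem
  obtain ⟨β, hβ, hβI⟩ := exists_noninner hS hQS (hQc.2 Q (isConj_refl hQ))
  have hγc : (γ : MulAut Q) * β * (γ : MulAut Q)⁻¹ ∈ autInducedBy S Q := by
    have hb : (⟨β, autInducedBy_le hQ hβ⟩ : F.autGroup Q) ∈ (R : Subgroup (F.autGroup Q)) := by rw [hR]; exact hβ
    have h := (Subgroup.mem_normalizer_iff.mp hγ _).mp hb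
    rw [hR] at h
    exact h
  have hγG := good_of_conj (p := p) (isMapClass_fact le_rfl hℋ) hQ hrec hIH γ.2 hβ hβI hγc
  have hνG : (ν : MulAut Q) ∈ goodAut F (Fact' F p ℋ (F.autGroup S)) (isMapClass_fact le_rfl hℋ) Q hQ :=
    ⟨ν.2, fact_of_gen ((isMap_autFun hQ).mpr ν.2) fun Ψ hΨ => hΨ.aut Q (hℋ.rad Q hQc hQr) _ hν⟩
  have := Subgroup.mul_mem _ hγG hνG
  rw [← Subgroup.coe_mul, e] at this
  exact this.2

/-- Conjugating a generated self-map by a map. -/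
theorem gen_conj [Finite S] [Fact p.Prime] (hS : IsPGroup p S) (hF : F.IsSaturated p)
    (hℋ : SiteFam F p ℋ)
    {P : Subgroup Ω} {f g w : Ω → Ω} (hf : IsMap F P f) (hg : IsMap F (img P f) g)
    (hl : ∀ x ∈ P, g (f x) = x) (hw : IsMap F (img P f) w)
    (hwm : ∀ y ∈ img P f, w y ∈ img P f) (hG : Gen F p ℋ (img P f) w) :
    Gen F p ℋ P (fun x => g (w (f x))) := by
  obtain ⟨δ, hδ, f₀, hf₀, hG₀, he⟩ := factor (p := p) hS hF hℋ hf
  obtain ⟨k, hk, -, hkl, -⟩ := hf₀.exists_inv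
  have hkG : Gen F p ℋ (img P f₀) k := isMapClass_gen.inv P f₀ k hf₀ hk hkl hG₀
  have e : img (img P f) (autFun δ⁻¹) = img P f₀ := by
    rw [← img_comp hf ((isMap_top_inv hδ).mono hf.img_le)]
    refine img_congr fun x hx => ?_
    show autFun δ⁻¹ (f x) = f₀ x
    rw [he x hx, top_inv_apply hδ (hf₀.mem_S hx)]
  have hm : IsMap F (img P f₀) (fun y => autFun δ⁻¹ (w (autFun δ y))) := by
    have := isMap_transport (Subgroup.inv_mem _ hδ) hw
    rw [inv_inv, e] at this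
    exact this
  have hmG : Gen F p ℋ (img P f₀) (fun y => autFun δ⁻¹ (w (autFun δ y))) := e ▸ gen_transport' hδ hℋ hG
  have h2 : ∀ z ∈ img P f₀, autFun δ⁻¹ (w (autFun δ z)) ∈ img P f₀ := by
    intro z hz
    obtain ⟨x, hx, rfl⟩ := hf₀.mem_img.mp hz
    rw [← e, ← he x hx]
    exact IsMap.apply_mem_img (hwm _ (IsMap.apply_mem_img hx))
  have h1 : ∀ x ∈ P, f₀ x ∈ img P f₀ := fun x hx => IsMap.apply_mem_img hx
  have h3 : ∀ x ∈ P, ((fun y => autFun δ⁻¹ (w (autFun δ y))) ∘ f₀) x ∈ img P f₀ :=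
    fun x hx => h2 _ (h1 x hx)
  refine isMapClass_gen.congr P _ _ ((hf₀.comp hm h1).comp hk h3) (fun x hx => ?_)
    (isMapClass_gen.comp P _ _ k (hf₀.comp hm h1) hk h3
      (isMapClass_gen.comp P _ f₀ _ hf₀ hm h1 hG₀ hmG) hkG)
  show g (w (f x)) = k (autFun δ⁻¹ (w (autFun δ (f₀ x))))
  rw [← he x hx]
  obtain ⟨x', hx', e'⟩ := hf.mem_img.mp (hwm _ (IsMap.apply_mem_img hx))
  rw [← e', hl x' hx', he x' hx', top_inv_apply hδ (hf₀.mem_S hx'), hkl x' hx']

/-- At a fully normalized subgroup the elements of `p`-power order are generated. -/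
theorem gen_of_fullyNormalized [Finite S] [Fact p.Prime] (hS : IsPGroup p S) (hF : F.IsSaturated p)
    (hℋ : SiteFam F p ℋ)
    {Q : Subgroup Ω} (hQn : F.IsFullyNormalized Q) {u : MulAut Q} (hu : u ∈ F.autGroup Q)
    (hk : ∃ k : ℕ, orderOf u = p ^ k) : Gen F p ℋ Q (autFun u) := by
  have hQ := hQn.1
  haveI := finite_of_le hQ
  have hp : IsPGroup p (Subgroup.zpowers u) := by
    obtain ⟨k, hk⟩ := hk
    exact IsPGroup.of_card (by rw [Nat.card_zpowers, hk])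
  obtain ⟨χ, hχ, hχS⟩ := exists_conj_into_autS (fullyNormalized_props hS hF hQn).2.1 hp
    (Subgroup.zpowers_le.mpr hu)
  have hm := hχS u (Subgroup.mem_zpowers u)
  obtain ⟨s, hs, es⟩ := mem_autInducedBy.mp hm
  have hw : IsMap F Q (autFun (χ * u * χ⁻¹)) := (isMap_autFun hQ).mpr (autInducedBy_le hQ hm)
  have hwG : Gen F p ℋ Q (autFun (χ * u * χ⁻¹)) :=
    isMapClass_gen.congr Q _ _ (isMap_conj hQ hs)
      (fun x hx => (autFun_apply _ ⟨x, hx⟩).trans (es ⟨x, hx⟩)) (isMapClass_gen.conj Q s hQ hs)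
  have hc := (isMap_autFun hQ).mpr hχ
  have hci := (isMap_autFun hQ).mpr (Subgroup.inv_mem _ hχ)
  have := gen_conj (p := p) hS hF hℋ hc (g := autFun χ⁻¹) (by rwa [img_autFun])
    (fun x hx => autFun_inv_left' χ hx) (w := autFun (χ * u * χ⁻¹)) (by rwa [img_autFun])
    (fun y hy => by rw [img_autFun] at hy ⊢; exact autFun_mem _ hy) (by rwa [img_autFun])
  refine isMapClass_gen.congr Q _ _ ((hc.comp hw fun x hx => autFun_mem _ hx).comp hci
    fun x hx => autFun_mem _ (autFun_mem _ hx)) (fun x hx => ?_) this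
  show autFun u x = autFun χ⁻¹ (autFun (χ * u * χ⁻¹) (autFun χ x))
  rw [← autFun_mul _ _ hx, ← autFun_mul _ _ hx, show χ⁻¹ * (χ * u * χ⁻¹ * χ) = u by group]
where
  autFun_inv_left' {P : Subgroup Ω} (α : MulAut P) {x : Ω} (hx : x ∈ P) :
      autFun α⁻¹ (autFun α x) = x := by
    have := autFun_inv_apply α⁻¹ hx
    rwa [inv_inv] at this

theorem gen_of_pElement [Finite S] [Fact p.Prime] (hS : IsPGroup p S) (hF : F.IsSaturated p)
    (hℋ : SiteFam F p ℋ)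
    {P : Subgroup Ω} (hP : P ≤ S) {u : MulAut P} (hu : u ∈ F.autGroup P)
    (hk : ∃ k : ℕ, orderOf u = p ^ k) : Gen F p ℋ P (autFun u) := by
  obtain ⟨Q, hPQ, hQn⟩ := exists_fullyNormalized (F := F) hP
  obtain ⟨c, hc, rfl⟩ := isConj_iff.mp hPQ
  obtain ⟨g, hg, hgi, hgl, -⟩ := hc.exists_inv
  set u' := MulAut.congr (hc.equiv rfl) u
  have hu' : u' ∈ F.autGroup (img P c) := congr_mem_autGroup hc rfl hu
  have hk' : ∃ k : ℕ, orderOf u' = p ^ k := by
    obtain ⟨k, hk⟩ := hk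
    exact ⟨k, (orderOf_injective (MulAut.congr (hc.equiv rfl)).toMonoidHom
      (MulAut.congr (hc.equiv rfl)).injective u).trans hk⟩
  have hw := (isMap_autFun hQn.1).mpr hu'
  have := gen_conj (p := p) hS hF hℋ hc hg hgl hw (fun y hy => autFun_mem _ hy)
    (gen_of_fullyNormalized hS hF hℋ hQn hu' hk')
  refine isMapClass_gen.congr P _ _ ((hc.comp hw fun x hx => IsMap.apply_mem_img hx).comp hg
    fun x hx => autFun_mem _ (IsMap.apply_mem_img hx)) (fun x hx => ?_) this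
  show autFun u x = g (autFun u' (c x))
  rw [congr_equiv_spec hc rfl u hx, hgl _ (autFun_mem u hx)]

/-- The conclusions. -/
theorem main [Finite S] [Fact p.Prime] (hS : IsPGroup p S) (hF : F.IsSaturated p)
    (hEF : E.IsSubsystemOf F) (h : ∀ P : Subgroup Ω, F.IsCentric P → opGen F p P ≤ E.autGroup P) :
    E.HasPrimeToPIndexIn F p ∧
      (∀ (P : Subgroup Ω) (φ : P →* Ω), φ ∈ F.Hom P → ∃ α ∈ F.autGroup S, ∃ φ₀ ∈ E.Hom P,
        ∀ (x : P) (hx : φ₀ x ∈ S), φ x = ((α ⟨φ₀ x, hx⟩ : S) : Ω)) ∧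
      ∀ P : Subgroup Ω, E.IsCentric P ↔ F.IsCentric P := by
  have hℋ : SiteFam F p (centrics F) := siteFam_centrics
  have hcls : IsGenClass F p (centrics F) (IsMap E) := ⟨isMapClass_isMap F E, fun Q hQ α hα =>
    (isMap_autFun hQ.1).mpr (h Q hQ hα)⟩
  refine ⟨⟨hEF, fun P hP => opGen_le_iff fun u hu hk =>
    (isMap_autFun hP).mp (gen_of_pElement hS hF hℋ hP hu hk _ hcls)⟩, fun P φ hφ => ?_, fun P => ?_⟩
  · obtain ⟨δ, hδ, f₀, -, hG, he⟩ := factor (p := p) hS hF hℋ (isMap_of_mem hφ)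
    obtain ⟨φ₀, hφ₀, e₀⟩ := hG _ hcls
    refine ⟨δ, hδ, φ₀, hφ₀, fun x hx => ?_⟩
    rw [← autFun_apply δ ⟨φ₀ x, hx⟩]
    show φ x = autFun δ (φ₀ x)
    rw [e₀ x, ← he x x.2, toFun'_apply φ x]
  · constructor
    · rintro ⟨hP, hc⟩
      refine ⟨hP, fun Q hQ => ?_⟩
      obtain ⟨f, hf, rfl⟩ := isConj_iff.mp hQ
      obtain ⟨δ, hδ, f₀, hf₀, hG, he⟩ := factor (p := p) hS hF hℋ hf
      have hc₀ := hc (img P f₀) (isConj_iff.mpr ⟨f₀, hG _ hcls, rfl⟩)
      intro y hy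
      obtain ⟨hyS, hyc⟩ := mem_centralizerIn.mp hy
      have hyi : autFun δ (autFun δ⁻¹ y) = y := autFun_inv_apply δ hyS
      have hmem : autFun δ⁻¹ y ∈ centralizerIn S (img P f₀) :=
        mem_centralizerIn.mpr ⟨autFun_mem _ hyS, fun z hz => by
          obtain ⟨x, hx, rfl⟩ := hf₀.mem_img.mp hz
          rw [← top_inv_apply hδ (hf₀.mem_S hx), ← he x hx,
            ← (isMap_top_inv hδ).map_conj hyS (hf.mem_S hx), hyc _ (IsMap.apply_mem_img hx)]⟩
      obtain ⟨x, hx, e⟩ := hf₀.mem_img.mp (hc₀ hmem)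
      rw [← hyi, ← e, ← he x hx]
      exact IsMap.apply_mem_img hx
    · rintro ⟨hP, hc⟩
      refine ⟨hP, fun Q hQ => hc Q ?_⟩
      obtain ⟨f, ⟨φ, hφ, e⟩, rfl⟩ := isConj_iff.mp hQ
      exact isConj_iff.mpr ⟨f, ⟨φ, hEF P hφ, e⟩, rfl⟩

end Cfsg.Lib.Fusion.PrimeIndex
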