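import Cfsg.Agent.Fusion.ModelTools
import Cfsg.Agent.Fusion.GTEngine
import Cfsg.Prelude.Def_PLocal

/-!
A quadratic element centralizes the `p`-th powers of an abelian normal subgroup; consequently a
`p`-th power of a central element of a Sylow subgroup is central as soon as the normalizers of the
larger subgroups centralize it.
-/

set_option autoImplicit false

namespace Cfsg.Lib.Fusion

open Cfsg
open scoped commutatorElement

variable {L : Type*} [Group L] {p : ℕ}

theorem conj_pow_eq_self_of_quadratic {M : Subgroup L} (hM : M.Normal)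
    (hab : IsMulCommutative M) {g : L}
    (hq : ⁅⁅M, Subgroup.zpowers g⁆, Subgroup.zpowers g⁆ = ⊥) {h : L}
    (hh : h ∈ Subgroup.zpowers g) (hhp : ∀ m ∈ M, h ^ p * m * (h ^ p)⁻¹ = m) {m : L} (hm : m ∈ M) :
    h * m ^ p * h⁻¹ = m ^ p := by
  set e := ⁅m⁻¹, h⁆ with he
  have heM : e ∈ M := by
    rw [he, commutatorElement_def, inv_inv, mul_assoc, mul_assoc]
    exact M.mul_mem (M.inv_mem hm) (by rw [← mul_assoc]; exact hM.conj_mem m hm h)
  have hc : h * e = e * h := by
    have h1 : ⁅e, h⁆ = 1 := by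
      rw [← Subgroup.mem_bot, ← hq]
      exact Subgroup.commutator_mem_commutator
        (Subgroup.commutator_mem_commutator (M.inv_mem hm) hh) hh
    exact (commutatorElement_eq_one_iff_mul_comm.mp h1).symm
  have hstep : h * m * h⁻¹ = m * e := by rw [he, commutatorElement_def]; group
  have hpow : ∀ n : ℕ, h ^ n * m * (h ^ n)⁻¹ = m * e ^ n := by
    intro n
    induction n with
    | zero => simp
    | succ n ih =>
      calc h ^ (n + 1) * m * (h ^ (n + 1))⁻¹ = h * (h ^ n * m * (h ^ n)⁻¹) * h⁻¹ := by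
            rw [pow_succ']; group
        _ = (h * m * h⁻¹) * (h * e ^ n * h⁻¹) := by rw [ih]; group
        _ = m * e * e ^ n := by
            rw [hstep, (Commute.pow_right (show Commute h e from hc) n).eq, mul_inv_cancel_right]
        _ = m * e ^ (n + 1) := by rw [pow_succ', mul_assoc]
  have hep : e ^ p = 1 := by
    have := hhp m hm
    rw [hpow p] at this
    exact mul_eq_left.mp this
  haveI := hab
  have hcomm : Commute m e :=
    congrArg Subtype.val (IsMulCommutative.is_comm.comm (⟨m, hm⟩ : M) ⟨e, heM⟩)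
  rw [← conj_pow, hstep, hcomm.mul_pow, hep, mul_one]

/-- The group step. -/
theorem centralizes_power [Finite L] [Fact p.Prime] (U : Sylow p L) {y : L}
    (hyU : y ∈ (U : Subgroup L)) (hy : ∀ u ∈ (U : Subgroup L), u * y = y * u)
    (hcen : Subgroup.centralizer ((pCore p L : Subgroup L) : Set L) ≤ pCore p L)
    {g : L} (hgU : g ∈ (U : Subgroup L)) (hgn : g ∉ pCore p L)
    (hq : ⁅⁅(Subgroup.center ↥(pCore p L)).map (pCore p L).subtype, Subgroup.zpowers g⁆,
      Subgroup.zpowers g⁆ = ⊥)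
    (hD : ∀ D : Subgroup L, D ≤ (U : Subgroup L) → pCore p L < D →
      (U : Subgroup L) ≤ Subgroup.normalizer (D : Set L) →
      ∀ l ∈ Subgroup.normalizer (D : Set L), l * y ^ p * l⁻¹ = y ^ p) :
    ∀ l : L, l * y ^ p * l⁻¹ = y ^ p := by
  haveI hQn := Cfsg.Lib.Components.pCore_normal' (G := L) p
  set Q := pCore p L with hQdef
  have hQU : Q ≤ (U : Subgroup L) :=
    by
      obtain ⟨R, hR⟩ := (Cfsg.Lib.Components.isPGroup_pCore (G := L) p).exists_le_sylow
      obtain ⟨a, rfl⟩ := MulAction.exists_smul_eq L R U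
      intro x hx
      rw [Sylow.coe_subgroup_smul, Subgroup.mem_smul_pointwise_iff_exists]
      exact ⟨a⁻¹ * x * a, hR (by simpa using hQn.conj_mem x hx a⁻¹), by
        show a * (a⁻¹ * x * a) * a⁻¹ = x
        group⟩
  set M := (Subgroup.center ↥Q).map Q.subtype with hMdef
  have hMmem : ∀ m, m ∈ M ↔ m ∈ Q ∧ ∀ q ∈ Q, q * m = m * q := by
    intro m
    constructor
    · rintro ⟨m, hm, rfl⟩
      exact ⟨m.2, fun q hq => congrArg Subtype.val (Subgroup.mem_center_iff.mp hm ⟨q, hq⟩)⟩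
    · rintro ⟨h1, h2⟩
      exact ⟨⟨m, h1⟩, Subgroup.mem_center_iff.mpr fun q => Subtype.ext (h2 q q.2), rfl⟩
  have hM : M.Normal := ⟨fun m hm a => by
    rw [hMmem] at hm ⊢
    refine ⟨hQn.conj_mem m hm.1 a, fun q hq => ?_⟩
    have h1 := hm.2 (a⁻¹ * q * a) (by simpa using hQn.conj_mem q hq a⁻¹)
    calc q * (a * m * a⁻¹) = a * (a⁻¹ * q * a * m) * a⁻¹ := by group
      _ = _ := by rw [h1]; group⟩
  have hab : IsMulCommutative M :=
    ⟨⟨fun a b => Subtype.ext (((hMmem b).mp b.2).2 a ((hMmem a).mp a.2).1)⟩⟩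
  have hyQ : y ∈ Q := hcen (Subgroup.mem_centralizer_iff.mpr fun q hq => hy q (hQU hq))
  have hyM : y ∈ M := (hMmem y).mpr ⟨hyQ, fun q hq => hy q (hQU hq)⟩
  -- the centralizer of the powers
  let C : Subgroup L :=
    { carrier := {c | ∀ m ∈ M, c * m ^ p * c⁻¹ = m ^ p}
      one_mem' := fun m _ => by simp
      mul_mem' := fun {a b} ha hb m hm => by
        calc a * b * m ^ p * (a * b)⁻¹ = a * (b * m ^ p * b⁻¹) * a⁻¹ := by group
          _ = m ^ p := by rw [hb m hm, ha m hm]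
      inv_mem' := fun {a} ha m hm => by
        calc a⁻¹ * m ^ p * a⁻¹⁻¹ = a⁻¹ * (a * m ^ p * a⁻¹) * a := by rw [ha m hm]; group
          _ = m ^ p := by group }
  haveI hCn : C.Normal := ⟨fun c hc a m hm => by
    have h2 := hc (a⁻¹ * m * a) (by simpa using hM.conj_mem m hm a⁻¹)
    have e : (a⁻¹ * m * a) ^ p = a⁻¹ * m ^ p * a := by
      rw [show a⁻¹ * m * a = a⁻¹ * m * a⁻¹⁻¹ by group, conj_pow]; group
    rw [e] at h2
    calc a * c * a⁻¹ * m ^ p * (a * c * a⁻¹)⁻¹ = a * (c * (a⁻¹ * m ^ p * a) * c⁻¹) * a⁻¹ := by group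
      _ = m ^ p := by rw [h2]; group⟩
  have hQC : Q ≤ C := fun q hq m hm => by
    rw [← conj_pow, ((hMmem m).mp hm).2 q hq, mul_inv_cancel_right]
  -- a power of `g` of order `p` modulo `Q`
  obtain ⟨i, hi⟩ : ∃ i, g ^ p ^ i ∉ Q ∧ g ^ p ^ (i + 1) ∈ Q := by
    classical
    obtain ⟨k, hk⟩ := U.2 ⟨g, hgU⟩
    have hex : ∃ j, g ^ p ^ j ∈ Q := ⟨k, by rw [show g ^ p ^ k = 1 from congrArg Subtype.val hk]; exact Q.one_mem⟩
    obtain ⟨i, hi⟩ : ∃ i, Nat.find hex = i + 1 := by
      refine ⟨Nat.find hex - 1, (Nat.succ_pred_eq_of_ne_zero fun h0 => hgn ?_).symm⟩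
      have := Nat.find_spec hex
      rwa [h0, pow_zero, pow_one] at this
    exact ⟨i, Nat.find_min hex (by omega), hi ▸ Nat.find_spec hex⟩
  set h := g ^ p ^ i
  have hhC : h ∈ C := fun m hm => conj_pow_eq_self_of_quadratic hM hab hq
    (Subgroup.pow_mem _ (Subgroup.mem_zpowers g) _) (fun n hn => by
      have hhp : h ^ p ∈ Q := by rw [← pow_mul, ← pow_succ]; exact hi.2
      rw [((hMmem n).mp hn).2 _ hhp, mul_inv_cancel_right]) hm
  -- Frattini
  set D := C ⊓ (U : Subgroup L) with hDdef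
  have hDU : D ≤ (U : Subgroup L) := inf_le_right
  have hQD : Q < D := lt_of_le_of_ne (le_inf hQC hQU) fun e =>
    hi.1 (e.ge ⟨hhC, Subgroup.pow_mem _ hgU _⟩)
  have hnD : (U : Subgroup L) ≤ Subgroup.normalizer (D : Set L) := fun u hu => by
    rw [Subgroup.mem_normalizer_iff]
    intro x
    have key : ∀ v ∈ (U : Subgroup L), ∀ z ∈ D, v * z * v⁻¹ ∈ D := fun v hv z hz =>
      ⟨hCn.conj_mem z hz.1 v, (U : Subgroup L).mul_mem ((U : Subgroup L).mul_mem hv hz.2) ((U : Subgroup L).inv_mem hv)⟩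
    refine ⟨key u hu x, fun hx => ?_⟩
    have h2 := key u⁻¹ ((U : Subgroup L).inv_mem hu) _ hx
    rwa [show u⁻¹ * (u * x * u⁻¹) * u⁻¹⁻¹ = x by group] at h2
  have hDp : IsPGroup p (D.subgroupOf C) := (U.2.to_le hDU).comap_of_injective C.subtype C.subtype_injective
  obtain ⟨P, hP⟩ := hDp.exists_le_sylow
  have hPD : (P : Subgroup C).map C.subtype = D := by
    have hle : D ≤ (P : Subgroup C).map C.subtype := fun x hx =>
      ⟨⟨x, (hx : x ∈ C ⊓ (U : Subgroup L)).1⟩, hP (Subgroup.mem_subgroupOf.mpr hx), rfl⟩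
    refine (Subgroup.eq_of_le_of_card_ge hle ?_).symm
    obtain ⟨R, hR⟩ := (P.2.map C.subtype).exists_le_sylow
    obtain ⟨a, rfl⟩ := MulAction.exists_smul_eq L R U
    refine Nat.card_le_card_of_injective (fun x => (⟨a * x * a⁻¹, hCn.conj_mem _ ?_ a, ?_⟩ : D))
      fun x z e => Subtype.ext (mul_left_cancel (mul_right_cancel (congrArg Subtype.val e)))
    · obtain ⟨w, -, e⟩ := x.2
      exact e ▸ w.2
    · show a * (x : L) * a⁻¹ ∈ ((a • R : Sylow p L) : Subgroup L)
      rw [Sylow.coe_subgroup_smul, Subgroup.mem_smul_pointwise_iff_exists]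
      exact ⟨x, hR x.2, rfl⟩
  have hF := Sylow.normalizer_sup_eq_top P
  rw [hPD] at hF
  have hle : Subgroup.normalizer (D : Set L) ⊔ C ≤ Subgroup.centralizer ({y ^ p} : Set L) := by
    refine sup_le (fun l hl => ?_) (fun c hc => ?_)
    · refine Subgroup.mem_centralizer_iff.mpr fun x hx => ?_
      rw [Set.mem_singleton_iff.mp hx]
      exact (mul_inv_eq_iff_eq_mul.mp (hD D hDU hQD hnD l hl)).symm
    · refine Subgroup.mem_centralizer_iff.mpr fun x hx => ?_
      rw [Set.mem_singleton_iff.mp hx]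
      exact (mul_inv_eq_iff_eq_mul.mp (hc y hyM)).symm
  rw [hF] at hle
  intro l
  have := Subgroup.mem_centralizer_iff.mp (hle (Subgroup.mem_top l)) _ rfl
  rw [← this, mul_inv_cancel_right]

end Cfsg.Lib.Fusion
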