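import Cfsg.Agent.Fusion.Replacement

/-!
More about the Glauberman replacement: normalizers and exponents.
-/

set_option autoImplicit false

namespace Cfsg.Lib.Fusion

open scoped commutatorElement

variable {G : Type*} [Group G]

theorem pow_mul_of_central_comm {x y c : G} (hc : x * y = c * (y * x)) (hcx : Commute c x)
    (hcy : Commute c y) (n : ℕ) : (y * x) ^ n = c ^ n.choose 2 * (y ^ n * x ^ n) := by
  have h1 : ∀ m : ℕ, x ^ m * y = c ^ m * (y * x ^ m) := by
    intro m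
    induction m with
    | zero => simp
    | succ m ih =>
      calc x ^ (m + 1) * y = x ^ m * (x * y) := by rw [pow_succ, mul_assoc]
        _ = x ^ m * c * (y * x) := by rw [hc, mul_assoc]
        _ = c * x ^ m * (y * x) := by rw [(hcx.pow_right m).eq]
        _ = c * (x ^ m * y) * x := by group
        _ = c * (c ^ m * (y * x ^ m)) * x := by rw [ih]
        _ = c ^ (m + 1) * (y * x ^ (m + 1)) := by rw [pow_succ', pow_succ]; group
  induction n with
  | zero => simp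
  | succ n ih =>
    calc (y * x) ^ (n + 1) = c ^ n.choose 2 * (y ^ n * x ^ n) * (y * x) := by rw [pow_succ, ih]
      _ = c ^ n.choose 2 * y ^ n * (x ^ n * y) * x := by group
      _ = c ^ n.choose 2 * (y ^ n * c ^ n) * (y * x ^ n) * x := by rw [h1]; group
      _ = c ^ n.choose 2 * (c ^ n * y ^ n) * (y * x ^ n) * x := by
        rw [((hcy.pow_pow n n).symm).eq]
      _ = c ^ (n.choose 2 + n) * (y ^ (n + 1) * x ^ (n + 1)) := by
        rw [pow_succ, pow_succ, pow_add]; group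
      _ = _ := by
        rw [show (n + 1).choose 2 = n.choose 2 + n by
          rw [Nat.choose_succ_succ' n 1, Nat.choose_one_right, add_comm]]

namespace ReplSetup

variable {p : ℕ} {A B : Subgroup G} {b : G} (h : ReplSetup p A B b)
include h

/-- what lies in `A ⊓ B` lies in the replaced subgroup -/
theorem mem_D_of_mem_inf {x : G} (hx : x ∈ A) (hxB : x ∈ B) :
    x ∈ A ⊓ A.map (MulAut.conj b).toMonoidHom := by
  refine ⟨hx, h.mem_map.mpr ?_⟩
  have h1 := h.derived (Subgroup.commutator_mem_commutator (B.inv_mem h.mem) hxB)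
  have : b⁻¹ * x * b = ⁅b⁻¹, x⁆ * x := by simp only [commutatorElement_def]; group
  rw [this]
  exact A.mul_mem h1 hx

theorem mem_normalizer_replaceBy_self [Finite G] :
    b ∈ Subgroup.normalizer (replaceBy A b : Set G) := by
  refine mem_normalizer_of_maps fun x hx => ?_
  obtain ⟨a, ha, d, hd, rfl⟩ := h.exists_rep hx
  have hv := h.diff_mem_B ha
  have e : b * (d * (a⁻¹ * (b * a * b⁻¹))) * b⁻¹ =
      (d * (d⁻¹ * (b * d * b⁻¹))) *
        (⁅b, a⁻¹ * (b * a * b⁻¹)⁆ * (a⁻¹ * (b * a * b⁻¹))) := by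
    simp only [commutatorElement_def]; group
  rw [e]
  exact Subgroup.mul_mem _ (h.rep_mem hd.1 hd)
    (h.rep_mem ha (h.derived_le (Subgroup.commutator_mem_commutator h.mem hv)))

theorem normalizer_le [Finite G] [hBn : B.Normal]
    (hbN : b ∈ Subgroup.normalizer ((Subgroup.normalizer (A : Set G)) : Set G)) :
    Subgroup.normalizer (A : Set G) ≤ Subgroup.normalizer (replaceBy A b : Set G) := by
  intro n hn
  refine mem_normalizer_of_maps fun x hx => ?_
  obtain ⟨a, ha, d, hd, rfl⟩ := h.exists_rep hx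
  have hn' := Subgroup.mem_normalizer_iff.mp hn
  have hbn : b⁻¹ * n * b ∈ Subgroup.normalizer (A : Set G) := by
    have := (Subgroup.mem_normalizer_iff.mp (Subgroup.inv_mem _ hbN) n).mp hn
    simpa using this
  have hd' : n * d * n⁻¹ ∈ A ⊓ A.map (MulAut.conj b).toMonoidHom := by
    refine ⟨(hn' d).mp hd.1, h.mem_map.mpr ?_⟩
    rw [show b⁻¹ * (n * d * n⁻¹) * b = (b⁻¹ * n * b) * (b⁻¹ * d * b) * (b⁻¹ * n * b)⁻¹ by group]
    exact (Subgroup.mem_normalizer_iff.mp hbn _).mp (h.mem_map.mp hd.2)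
  -- `n b n⁻¹ = b m` with `m` in `B` normalizing `A`
  set m := b⁻¹ * (n * b * n⁻¹) with hm
  have hmB : m ∈ B := B.mul_mem (B.inv_mem h.mem) (hBn.conj_mem b h.mem n)
  have hmN : m ∈ Subgroup.normalizer (A : Set G) := by
    rw [hm, show b⁻¹ * (n * b * n⁻¹) = (b⁻¹ * n * b) * n⁻¹ by group]
    exact Subgroup.mul_mem _ hbn (Subgroup.inv_mem _ hn)
  set a1 := n * a * n⁻¹ with ha1
  have ha1A : a1 ∈ A := (hn' a).mp ha
  set a2 := m * a1 * m⁻¹ with ha2
  have ha2A : a2 ∈ A := (Subgroup.mem_normalizer_iff.mp hmN a1).mp ha1A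
  have hc : a1⁻¹ * a2 ∈ A ⊓ A.map (MulAut.conj b).toMonoidHom := by
    refine h.mem_D_of_mem_inf (A.mul_mem (A.inv_mem ha1A) ha2A) ?_
    rw [ha2, show a1⁻¹ * (m * a1 * m⁻¹) = (a1⁻¹ * m * a1⁻¹⁻¹) * m⁻¹ by group]
    exact B.mul_mem (hBn.conj_mem m hmB _) (B.inv_mem hmB)
  have e : n * (d * (a⁻¹ * (b * a * b⁻¹))) * n⁻¹ =
      ((n * d * n⁻¹) * (a1⁻¹ * a2)) * (a2⁻¹ * (b * a2 * b⁻¹)) := by
    rw [ha2, ha1, hm]; group
  rw [e]
  exact h.rep_mem ha2A (Subgroup.mul_mem _ hd' hc)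

theorem exponent_dvd [Finite G] (hp : p ≠ 2) :
    Monoid.exponent (replaceBy A b) ∣ Monoid.exponent A := by
  rw [Monoid.exponent_dvd_iff_forall_pow_eq_one]
  rintro ⟨x, hx⟩
  refine Subtype.ext ?_
  show x ^ Monoid.exponent A = 1
  obtain ⟨a, ha, d, hd, rfl⟩ := h.exists_rep hx
  set e := Monoid.exponent A with he
  have hA : ∀ y ∈ A, y ^ e = 1 := fun y hy =>
    congrArg Subtype.val (Monoid.pow_exponent_eq_one (⟨y, hy⟩ : A))
  have hodd : Odd e := by
    haveI : Fact p.Prime := ⟨h.prime⟩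
    obtain ⟨k, hk⟩ := IsPGroup.iff_card.mp h.pA
    obtain ⟨j, -, hj⟩ := (Nat.dvd_prime_pow h.prime).1
      ((Group.exponent_dvd_nat_card (G := A)).trans hk.dvd)
    rw [he, hj]
    exact (h.prime.odd_of_ne_two hp).pow
  have hE := h.e_mem (A.inv_mem ha) ha
  have hc : a⁻¹ * (b * a * b⁻¹) =
      ⁅a⁻¹, b * a * b⁻¹⁆ * ((b * a * b⁻¹) * a⁻¹) := by
    simp only [commutatorElement_def]; group
  have hpow := pow_mul_of_central_comm (x := a⁻¹) (y := b * a * b⁻¹)
    (c := ⁅a⁻¹, b * a * b⁻¹⁆) hc (h.commute_left hE (A.inv_mem ha)).symm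
    (h.commute_right hE ha).symm
  have hdiv : ∀ y ∈ A, y ^ e.choose 2 = 1 := by
    intro y hy
    obtain ⟨t, ht⟩ := hodd
    have : e.choose 2 = e * t := by
      rw [Nat.choose_two_right, ht, show 2 * t + 1 - 1 = 2 * t by omega,
        show (2 * t + 1) * (2 * t) = 2 * ((2 * t + 1) * t) by ring,
        Nat.mul_div_cancel_left _ (by norm_num)]
    rw [this, pow_mul, hA y hy, one_pow]
  have h1 : ((b * a * b⁻¹) * a⁻¹) ^ e = 1 := by
    rw [hpow e, hdiv _ hE.1, one_mul, conj_pow, hA a ha, hA _ (A.inv_mem ha)]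
    simp
  have h2 : (a⁻¹ * (b * a * b⁻¹)) ^ e = 1 := by
    rw [show a⁻¹ * (b * a * b⁻¹) = a⁻¹ * ((b * a * b⁻¹) * a⁻¹) * a⁻¹⁻¹ by group, conj_pow, h1]
    simp
  rw [(h.commute_diff hd ha).symm.mul_pow, hA d hd.1, h2, one_mul]

end ReplSetup

/-- The statement of the replacement is phrased with the inverse element. -/
theorem replaceBy_inv_eq (A : Subgroup G) (b : G) :
    (A ⊓ A.map (MulAut.conj b⁻¹).toMonoidHom) ⊔
        Subgroup.closure {g : G | ∃ a ∈ A, g = a * b⁻¹ * a⁻¹ * b} = replaceBy A b⁻¹ := by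
  unfold replaceBy
  congr 2
  ext g
  constructor
  · rintro ⟨a, ha, rfl⟩
    exact ⟨a⁻¹, A.inv_mem ha, by group⟩
  · rintro ⟨a, ha, rfl⟩
    exact ⟨a⁻¹, A.inv_mem ha, by group⟩


/-- The subgroups with property `P` of largest order below `T`. -/
def maxP (P : Subgroup G → Prop) (T : Subgroup G) : Set (Subgroup G) :=
  {A | A ≤ T ∧ P A ∧ ∀ A' : Subgroup G, A' ≤ T → P A' → Nat.card A' ≤ Nat.card A}

/-- Glauberman's replacement for a class of abelian subgroups closed under the replacement. -/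
theorem exists_maxP_normalized [Finite G] {p : ℕ} [Fact p.Prime] {T D B : Subgroup G}
    (P : Subgroup G → Prop) (hP : ∀ A, P A → IsMulCommutative A)
    (hrep : ∀ A b, ReplSetup p A B b → P A → P (replaceBy A b))
    (hp : p ≠ 2 ∨ IsMulCommutative B)
    (hT : IsPGroup p T) (hBT : B ≤ T) (hTB : T ≤ Subgroup.normalizer (B : Set G))
    (hDT : D ≤ T) (hTD : T ≤ Subgroup.normalizer (D : Set G))
    (h : ∃ A ∈ maxP P D, ⁅B, B⁆ ≤ A ∧ ¬ B ≤ A) :
    ∃ A ∈ maxP P D, ⁅B, B⁆ ≤ A ∧ ¬ B ≤ A ∧ B ≤ Subgroup.normalizer (A : Set G) := by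
  obtain ⟨A, ⟨hA, hder, hnle⟩, hmax⟩ := Set.exists_max_image
    {A | A ∈ maxP P D ∧ ⁅B, B⁆ ≤ A ∧ ¬ B ≤ A} (fun A => Nat.card ↥(A ⊓ B)) (Set.toFinite _)
    (let ⟨A, h1, h2⟩ := h; ⟨A, h1, h2⟩)
  refine ⟨A, hA, hder, hnle, ?_⟩
  by_contra hN
  -- an element of `B` normalizing the normalizer
  set N := T ⊓ Subgroup.normalizer (A : Set G)
  have hNB : N ≤ Subgroup.normalizer (B : Set G) := inf_le_left.trans hTB
  have hlt : N < B ⊔ N := lt_of_le_of_ne le_sup_right fun e => hN fun x hx =>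
    (show x ∈ N from e ▸ Subgroup.mem_sup_left hx).2
  obtain ⟨x, hx, hxN⟩ : ∃ x ∈ (B ⊔ N) ⊓ Subgroup.normalizer (N : Set G), x ∉ N := by
    set U := B ⊔ N
    have hUp : IsPGroup p U := hT.to_le (sup_le hBT inf_le_left)
    have := hUp.isNilpotent
    have hlt' : N.subgroupOf U < ⊤ := by
      rw [lt_top_iff_ne_top, ne_eq, Subgroup.subgroupOf_eq_top]
      exact hlt.not_ge
    obtain ⟨x, hx, hx'⟩ := SetLike.exists_of_lt (Group.normalizerCondition_of_isNilpotent _ hlt')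
    refine ⟨x, ⟨x.2, ?_⟩, fun h => hx' h⟩
    rw [Subgroup.mem_normalizer_iff] at hx
    refine Subgroup.mem_normalizer_iff.mpr ?_
    intro y
    constructor
    · intro hy
      exact (hx ⟨y, Subgroup.mem_sup_right hy⟩).mp hy
    · intro hy
      have hyU : y ∈ U := by
        have h1 := Subgroup.mem_sup_right (S := B) hy
        simpa [mul_assoc] using U.mul_mem (U.mul_mem (U.inv_mem x.2) h1) x.2
      exact (hx ⟨y, hyU⟩).mpr hy
  have hxset : x ∈ ((B ⊔ N : Subgroup G) : Set G) := hx.1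
  rw [Subgroup.coe_mul_of_right_le_normalizer_left B N hNB] at hxset
  obtain ⟨b, hb, n, hn, rfl⟩ := hxset
  have hbN : b ∈ Subgroup.normalizer (N : Set G) := by
    simpa using Subgroup.mul_mem _ hx.2 (Subgroup.inv_mem _ (Subgroup.le_normalizer hn))
  have hbA : b ∉ Subgroup.normalizer (A : Set G) := fun hb' =>
    hxN (Subgroup.mul_mem _ ⟨hBT hb, hb'⟩ hn)
  obtain ⟨k, hk⟩ := hT ⟨b, hBT hb⟩
  have S : ReplSetup p A B b :=
    { comm := hP _ hA.2.1
      normB := (hA.1.trans hDT).trans hTB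
      derived := hder
      mem := hb
      prime := Fact.out
      pA := hT.to_le (hA.1.trans hDT)
      pow := ⟨k, congrArg Subtype.val hk⟩
      odd := hp
      conjN := fun a ha =>
        ((Subgroup.mem_normalizer_iff.mp hbN a).mp ⟨hDT (hA.1 ha), Subgroup.le_normalizer ha⟩).2 }
  have hA'T : replaceBy A b ≤ D := sup_le (inf_le_left.trans hA.1) ((Subgroup.closure_le _).mpr (by
    rintro _ ⟨a, ha, rfl⟩
    exact D.mul_mem (D.inv_mem (hA.1 ha))
      ((Subgroup.mem_normalizer_iff.mp (hTD (hBT hb)) a).mp (hA.1 ha))))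
  have hmem : replaceBy A b ∈ maxP P D := ⟨hA'T, hrep A b S hA.2.1, fun A' h1 h2 =>
    S.card_replaceBy.symm ▸ hA.2.2 A' h1 h2⟩
  have hlt := S.inf_lt_replaceBy hbA
  have h1 := hmax (replaceBy A b) ⟨hmem, S.derived_le.trans le_sup_left, fun hle =>
    hbA (S.replaceBy_le_normalizer (hle hb))⟩
  exact hlt.ne (Subgroup.eq_of_le_of_card_ge hlt.le h1)

end Cfsg.Lib.Fusion
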