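import Cfsg.Agent.Fusion.NormalSubgroupSystem
import Cfsg.Agent.Fusion.SystemIso
import Cfsg.Agent.Fusion.PSolvableModel

/-!
Simple systems are realized by simple groups.
-/

set_option autoImplicit false

universe u

namespace Cfsg.Lib.Fusion

open Cfsg Cfsg.FusionSystem

variable {Ω : Type*} [Group Ω] {S : Subgroup Ω} {F : FusionSystem S} {p : ℕ}
  {L : Type*} [Group L] {ι : S →* L}

/-- A realization makes the system isomorphic to the system of the group. -/
theorem exists_isQuot_of_realized [Finite S] (h : F.IsRealizedBy ι)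
    {U : Subgroup L} (hU : U = ι.range) :
    ∃ θ : U →* Ω, Function.Injective θ ∧ IsQuot (groupFusionSystem U) θ F := by
  let e := MonoidHom.ofInjective h.1
  let θ : U →* Ω := S.subtype.comp (e.symm.toMonoidHom.comp (Subgroup.inclusion hU.le))
  have hθι : ∀ (u : U) (t : S), θ u = t ↔ (u : L) = ι t := by
    intro u t
    constructor
    · intro hu
      have hu' : e.symm (Subgroup.inclusion hU.le u) = t := Subtype.ext hu
      exact (congrArg Subtype.val (e.apply_symm_apply (Subgroup.inclusion hU.le u))).symm.trans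
        (congrArg (fun x : S => ι x) hu')
    · intro hu
      have hu' : Subgroup.inclusion hU.le u = e t := Subtype.ext hu
      exact congrArg Subtype.val ((congrArg e.symm hu').trans (e.symm_apply_apply t))
  have hinj : Function.Injective θ := S.subtype_injective.comp
    (e.symm.injective.comp (Subgroup.inclusion_injective hU.le))
  have hιU : ∀ t : S, ι t ∈ U := fun t => hU.ge ⟨t, rfl⟩
  have hq : ∀ t : S, qmap θ (ι t) = t := fun t => by
    rw [qmap_apply (hιU t)]; exact (hθι _ t).mpr rfl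
  have hqS : ∀ u ∈ U, ∃ t : S, ι t = u ∧ qmap θ u = t := fun u hu => by
    obtain ⟨t, rfl⟩ := hU.le hu
    exact ⟨t, rfl, hq t⟩
  refine ⟨θ, hinj, le_antisymm (fun _ ⟨u, hu⟩ => hu ▸ Subtype.coe_prop _) fun t ht =>
    ⟨⟨ι ⟨t, ht⟩, hιU _⟩, (hθι _ ⟨t, ht⟩).mpr rfl⟩, ?_, fun P' f' => ⟨fun hf' => ?_, ?_⟩⟩
  · intro P f hf x hx h1
    rw [qmap_injOn hinj (hf.le hx) U.one_mem (h1.trans qmap_one.symm), hf.map_one, qmap_one]
  · obtain ⟨g, hg⟩ := exists_elt_of_isMap h hf'
    refine ⟨hf'.le, fun u => g * u * g⁻¹,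
      isMap_group_iff.mpr ⟨preimageAlong_le _, fun u hu => ?_, g, fun _ _ => rfl⟩, fun u hu => ?_⟩
    all_goals
      obtain ⟨huU, huP⟩ := mem_preimageAlong.mp hu
      obtain ⟨t, rfl, ht⟩ := hqS u huU
      rw [ht] at huP
    · rw [← hg t huP ⟨f' t, hf'.mem_S huP⟩ rfl]
      exact hιU _
    · show f' (qmap θ (ι t)) = qmap θ (g * ι t * g⁻¹)
      rw [← hg t huP ⟨f' t, hf'.mem_S huP⟩ rfl, hq, hq]
  · rintro ⟨hP', f, hf, he⟩
    obtain ⟨-, hfU, g, hg⟩ := isMap_group_iff.mp hf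
    have hpre : ∀ t : S, (t : Ω) ∈ P' → ι t ∈ preimageAlong θ P' := fun t ht =>
      mem_preimageAlong.mpr ⟨hιU t, by rw [hq]; exact ht⟩
    obtain ⟨k, hk, hkT, hke⟩ := exists_isMap_of_elt h hP' g fun t ht => by
      rw [← hU, ← hg _ (hpre t ht)]
      exact hfU _ (hpre t ht)
    refine hk.congr fun x hx => ?_
    have h1 := he _ (hpre ⟨x, hP' hx⟩ hx)
    rw [hq] at h1
    rw [h1, hg _ (hpre ⟨x, hP' hx⟩ hx), ← (hke ⟨x, hP' hx⟩ hx ⟨k x, hkT x hx⟩).mp rfl, hq]

variable {G : Type*} [Group G] [Finite G] [Fact p.Prime]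

omit [Finite G] [Fact p.Prime] in
theorem fusionSystemOfSubgroup_hom_congr {H T₁ T₂ : Subgroup G} (h : T₁ = T₂) (h1 : T₁ ≤ H)
    (h2 : T₂ ≤ H) (P : Subgroup G) :
    (fusionSystemOfSubgroup H T₁ h1).Hom P = (fusionSystemOfSubgroup H T₂ h2).Hom P := by
  subst h
  rfl

/-- The minimality criterion for simplicity of a group. -/
theorem isSimpleGroup_of_minimal (S : Sylow p G) (hS1 : (S : Subgroup G) ≠ ⊥)
    (hsimple : ∀ (T : Subgroup G) (E : FusionSystem T),
      E.IsNormalIn (groupFusionSystem (S : Subgroup G)) p →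
      T = ⊥ ∨ (T = (S : Subgroup G) ∧ ∀ P, E.Hom P = (groupFusionSystem (S : Subgroup G)).Hom P))
    (hcore : ∀ N : Subgroup G, N.Normal → (Nat.card N).Coprime p → N = ⊥)
    (hmin : ∀ (H : Subgroup G) (hSH : (S : Subgroup G) ≤ H),
      (∀ P, (fusionSystemOfSubgroup H (S : Subgroup G) hSH).Hom P =
        (groupFusionSystem (S : Subgroup G)).Hom P) → H = ⊤) : IsSimpleGroup G := by
  haveI : Nontrivial G := by
    obtain ⟨⟨x, _⟩, hx1⟩ := (S : Subgroup G).ne_bot_iff_exists_ne_one.mp hS1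
    have hx1 : x ≠ 1 := fun h => hx1 (Subtype.ext h)
    exact ⟨x, 1, hx1⟩
  refine ⟨fun H hH => ?_⟩
  haveI := hH
  rcases hsimple _ _ (isNormalIn_normalSubgroup S H) with h | ⟨hT, hmaps⟩
  · refine Or.inl (hcore H hH ?_)
    refine ((Nat.Prime.coprime_iff_not_dvd Fact.out).mpr fun hd => ?_).symm
    obtain ⟨⟨x, hxH⟩, hx⟩ := exists_prime_orderOf_dvd_card' (G := H) p hd
    have hxp : IsPGroup p (Subgroup.zpowers x) := IsPGroup.of_card (n := 1) (by
      rw [Nat.card_zpowers, ← Subgroup.orderOf_mk x hxH, hx, pow_one])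
    obtain ⟨g, hg⟩ := exists_conj_le_sylow S hxp
    have hgx : g * x * g⁻¹ ∈ (S : Subgroup G) ⊓ H :=
      Subgroup.mem_inf.mpr ⟨hg x (Subgroup.mem_zpowers x), hH.conj_mem x hxH g⟩
    rw [h, Subgroup.mem_bot, conj_eq_one_iff] at hgx
    subst hgx
    have h1 : orderOf (⟨1, hxH⟩ : H) = 1 := orderOf_one
    exact (Fact.out : p.Prime).one_lt.ne' (hx.symm.trans h1)
  · refine Or.inr (hmin H (hT.symm.le.trans inf_le_right) fun P => ?_)
    rw [← hmaps P]
    exact fusionSystemOfSubgroup_hom_congr hT.symm _ _ P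

end Cfsg.Lib.Fusion
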