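import Cfsg.Agent.Fusion.SimpleGroup
import Cfsg.Agent.PGroups.Basic

/-!
A group with one class of involutions and a self-normalising Sylow 2-subgroup with centre of order two, generated
by involutions, has a simple 2-fusion system.
-/

set_option autoImplicit false

namespace Cfsg.Lib.Fusion

open Cfsg Cfsg.FusionSystem Subgroup

theorem isSimple_of_selfNormalizing {L : Type*} [Group L] [Finite L] {t : L} (S₀ S : Sylow 2 L)
    (htne : t ≠ 1) (htS : t ∈ (S₀ : Subgroup L))
    (hcen : ∀ x ∈ (S₀ : Subgroup L), (∀ q ∈ (S₀ : Subgroup L), Commute x q) → x = 1 ∨ x = t)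
    (hconj : ∀ x : L, x * x = 1 → x ≠ 1 → ∃ g : L, g * t * g⁻¹ = x)
    (hgenS : (S₀ : Subgroup L) ≤ closure {x | x ∈ (S₀ : Subgroup L) ∧ x * x = 1})
    (hN : normalizer ((S₀ : Subgroup L) : Set L) ≤ (S₀ : Subgroup L)) :
    (groupFusionSystem (S : Subgroup L)).IsSimple 2 := by
  haveI : Fact (Nat.Prime 2) := ⟨Nat.prime_two⟩
  refine isSimple_of_normalResidual S₀ S (fun h => htne (mem_bot.1 (h ▸ htS))) (fun T hT => ?_) ?_
  · by_cases hb : T = ⊥
    · exact Or.inl hb
    refine Or.inr (le_antisymm hT.1 ?_)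
    have hcl : ∀ g x : L, x ∈ T → g * x * g⁻¹ ∈ (S₀ : Subgroup L) → g * x * g⁻¹ ∈ T := fun g x hx hgx => by
      have hm : IsMap (groupFusionSystem (S₀ : Subgroup L)) (zpowers x) (fun y => g * y * g⁻¹) := by
        refine isMap_group_iff.mpr ⟨zpowers_le.2 (hT.1 hx), fun y hy => ?_, g, fun _ _ => rfl⟩
        obtain ⟨i, rfl⟩ := hy
        show g * x ^ i * g⁻¹ ∈ _
        rw [← _root_.conj_zpow]
        exact zpow_mem hgx i
      exact stronglyClosed_apply hT hm (mem_zpowers x) hx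
    have hn : (T.subgroupOf (S₀ : Subgroup L)).Normal := ⟨fun x hx s =>
      mem_subgroupOf.2 (by
        simpa using hcl s x (mem_subgroupOf.1 hx) (by simpa using (s * x * s⁻¹).2))⟩
    obtain ⟨⟨g, hgS⟩, hgT, hgc, hg2⟩ := Cfsg.Lib.PGroups.exists_mem_center_of_normal_ne_bot S₀.2
      (N := T.subgroupOf (S₀ : Subgroup L)) (by
        rw [Ne, subgroupOf_eq_bot, disjoint_iff, inf_eq_left.2 hT.1]; exact hb)
    have hgt : g = t := by
      refine (hcen g hgS fun q hq => ?_).resolve_left ?_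
      · exact (congrArg Subtype.val (mem_center_iff.1 hgc ⟨q, hq⟩)).symm
      · rintro rfl
        rw [show (⟨1, hgS⟩ : (S₀ : Subgroup L)) = 1 from rfl, orderOf_one] at hg2
        omega
    have htT : t ∈ T := hgt ▸ mem_subgroupOf.1 hgT
    refine hgenS.trans ((closure_le _).2 ?_)
    rintro x ⟨hxS, hxx⟩
    by_cases hx1 : x = 1
    · rw [hx1]; exact one_mem T
    obtain ⟨a, ha⟩ := hconj x hxx hx1
    rw [← ha]
    exact hcl a t htT (ha ▸ hxS)
  · exact fun x hx => subset_closure (Or.inl (Or.inr (hN hx)))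

end Cfsg.Lib.Fusion
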