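import Cfsg.Agent.TwoFusion.SylowLinearTwo
import Cfsg.Agent.PGroups.AutTwoGroup
import Cfsg.Agent.Classical.SL
import Cfsg.Agent.Fusion.Simple
import Cfsg.Agent.Fusion.GroupSystem

/-!
The 2-fusion system of `PSL₃(q)`, `q` odd, is simple.
-/

set_option autoImplicit false
set_option linter.unusedSectionVars false

namespace Cfsg.Lib.Fusion.LinearThree

open Cfsg Cfsg.FusionSystem Cfsg.Lib.Wreathed
open scoped MatrixGroups

universe u

variable {F : Type u} [Field F] [Fintype F] [DecidableEq F]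

local notation "PSL₃" F => Matrix.ProjectiveSpecialLinearGroup (Fin 3) F

/-- The matrix of the embedding. -/
def extMat (g : GL (Fin 2) F) : Matrix (Fin 3) (Fin 3) F :=
  !![g.val 0 0, g.val 0 1, 0; g.val 1 0, g.val 1 1, 0; 0, 0, (g.val 0 0 * g.val 1 1 - g.val 0 1 * g.val 1 0)⁻¹]

theorem det_ne (g : GL (Fin 2) F) : g.val 0 0 * g.val 1 1 - g.val 0 1 * g.val 1 0 ≠ 0 := by
  rw [← Matrix.det_fin_two]
  exact ((Matrix.isUnit_iff_isUnit_det _).mp g.isUnit).ne_zero

theorem extMat_det (g : GL (Fin 2) F) : (extMat g).det = 1 := by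
  have h := det_ne g
  simp [extMat, Matrix.det_fin_three]
  field_simp

/-- `GL₂` inside `SL₃`. -/
def ext : GL (Fin 2) F →* SL(3, F) :=
  MonoidHom.mk' (fun g => ⟨extMat g, extMat_det g⟩) fun g h => by
    refine Subtype.ext ?_
    have e : (g * h).val 0 0 * (g * h).val 1 1 - (g * h).val 0 1 * (g * h).val 1 0 =
        (g.val 0 0 * g.val 1 1 - g.val 0 1 * g.val 1 0) * (h.val 0 0 * h.val 1 1 - h.val 0 1 * h.val 1 0) := by
      simp [Matrix.mul_apply, Fin.sum_univ_two]
      ring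
    show extMat (g * h) = extMat g * extMat h
    simp only [extMat, e, mul_inv_rev]
    ext i j
    fin_cases i <;> fin_cases j <;> simp [Matrix.mul_apply, Fin.sum_univ_two, Fin.sum_univ_three, mul_comm]

theorem ext_injective : Function.Injective (ext (F := F)) := by
  intro g h e
  have h' : ∀ i j : Fin 3, (extMat g) i j = (extMat h) i j :=
    fun i j => congrArg (fun z : SL(3, F) => (z : Matrix (Fin 3) (Fin 3) F) i j) e
  refine Units.ext ?_
  ext i j
  fin_cases i <;> fin_cases j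
  · simpa [extMat] using h' 0 0
  · simpa [extMat] using h' 0 1
  · simpa [extMat] using h' 1 0
  · simpa [extMat] using h' 1 1

/-- The map into `PSL₃`. -/
def proj : GL (Fin 2) F →* (PSL₃ F) := (QuotientGroup.mk' (Subgroup.center SL(3, F))).comp ext

theorem eq_one_of_proj {g : GL (Fin 2) F} (h : proj g = 1) : g ^ 3 = 1 := by
  have h' : ext g ∈ Subgroup.center SL(3, F) := (QuotientGroup.eq_one_iff _).mp h
  obtain ⟨r, hr, he⟩ := Matrix.SpecialLinearGroup.mem_center_iff.mp h'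
  refine ext_injective (Subtype.ext ?_)
  rw [map_pow, map_one, Matrix.SpecialLinearGroup.coe_pow, ← he, ← map_pow, Matrix.SpecialLinearGroup.coe_one]
  rw [Fintype.card_fin] at hr
  rw [hr, map_one]

/-- The fusion relation. -/
def Rel (x y : GL (Fin 2) F) : Prop := ∃ g : (PSL₃ F), g * proj x * g⁻¹ = proj y

theorem Rel.refl (x : GL (Fin 2) F) : Rel x x := ⟨1, by simp⟩

theorem Rel.symm {x y : GL (Fin 2) F} (h : Rel x y) : Rel y x := by
  obtain ⟨g, hg⟩ := h
  exact ⟨g⁻¹, by rw [← hg]; group⟩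

theorem Rel.trans {x y z : GL (Fin 2) F} (h : Rel x y) (h' : Rel y z) : Rel x z := by
  obtain ⟨g, hg⟩ := h
  obtain ⟨k, hk⟩ := h'
  exact ⟨k * g, by rw [← hk, ← hg]; group⟩

theorem rel_of_conj {x y : GL (Fin 2) F} (g : GL (Fin 2) F) (h : g * x * g⁻¹ = y) : Rel x y :=
  ⟨proj g, by rw [← map_inv, ← map_mul, ← map_mul, h]⟩

theorem rel_of_swap {x y : GL (Fin 2) F} (w : SL(3, F)) (h : w * ext x = ext y * w) : Rel x y :=
  ⟨QuotientGroup.mk' _ w, by
    show QuotientGroup.mk' _ w * QuotientGroup.mk' _ (ext x) * (QuotientGroup.mk' _ w)⁻¹ = QuotientGroup.mk' _ (ext y)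
    rw [← map_mul, h, map_mul, mul_inv_cancel_right]⟩

/-- A diagonal matrix. -/
def dia (a b : Fˣ) : GL (Fin 2) F :=
  Matrix.GeneralLinearGroup.mkOfDetNeZero !![(a : F), 0; 0, (b : F)] (by simp)

theorem rel_torus (a : Fˣ) : Rel (dia a a⁻¹) (dia a 1) := by
  refine rel_of_swap ⟨!![-1, 0, 0; 0, 0, 1; 0, 1, 0], by simp [Matrix.det_fin_three]⟩ (Subtype.ext ?_)
  show _ * extMat _ = extMat _ * _
  ext i j
  fin_cases i <;> fin_cases j <;>
    simp [extMat, dia, Matrix.GeneralLinearGroup.mkOfDetNeZero, Matrix.mul_apply, Fin.sum_univ_three, mul_comm]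

theorem two_ne_zero' (hodd : Odd (Fintype.card F)) : (2 : F) ≠ 0 := by
  intro h
  obtain ⟨p, hp⟩ := CharP.exists F
  obtain ⟨k, hk, hc⟩ := FiniteField.card F p
  have h2 : p ∣ 2 := (CharP.cast_eq_zero_iff F p 2).mp (by exact_mod_cast h)
  have : p = 2 := (Nat.prime_dvd_prime_iff_eq hk Nat.prime_two).mp h2
  subst this
  rw [hc] at hodd
  exact Nat.not_odd_iff_even.mpr (Nat.even_pow.mpr ⟨even_two, k.pos.ne'⟩) hodd

/-- All involutions of `GL₂` fuse in `PSL₃`. -/
theorem rel_involutions (hodd : Odd (Fintype.card F)) {x y : GL (Fin 2) F} (hx : orderOf x = 2)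
    (hy : orderOf y = 2) : Rel x y := by
  have h2 := two_ne_zero' hodd
  have key : ∀ z : GL (Fin 2) F, orderOf z = 2 → Rel (dia (1 : Fˣ) (-1)) z := by
    intro z hz
    have hzz : z * z = 1 := by
      have h := pow_orderOf_eq_one z
      rwa [hz, pow_two] at h
    have hz1 : z ≠ 1 := fun e => by rw [e, orderOf_one] at hz; omega
    by_cases hneg : z = -1
    · subst hneg
      refine Rel.symm (rel_of_swap ⟨!![0, 0, 1; 0, -1, 0; 1, 0, 0], by simp [Matrix.det_fin_three]⟩ (Subtype.ext ?_))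
      show _ * extMat _ = extMat _ * _
      ext i j
      fin_cases i <;> fin_cases j <;>
        simp [extMat, dia, Matrix.GeneralLinearGroup.mkOfDetNeZero, Matrix.mul_apply, Fin.sum_univ_three]
    have h := congrArg (fun u : GL (Fin 2) F => (u.val 0 0, u.val 0 1, u.val 1 0, u.val 1 1)) hzz
    simp [Matrix.mul_apply, Fin.sum_univ_two] at h
    obtain ⟨e00, e01, e10, e11⟩ := h
    have htr : z.val 0 0 + z.val 1 1 = 0 := by
      by_contra ht
      have hb : z.val 0 1 = 0 := (mul_eq_zero.mp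
        (show (z.val 0 0 + z.val 1 1) * z.val 0 1 = 0 by linear_combination e01)).resolve_left ht
      have hc : z.val 1 0 = 0 := (mul_eq_zero.mp
        (show (z.val 0 0 + z.val 1 1) * z.val 1 0 = 0 by linear_combination e10)).resolve_left ht
      rw [hb, zero_mul, add_zero] at e00
      rw [hb, mul_zero, zero_add] at e11
      have had : z.val 0 0 = z.val 1 1 := by
        have h3 : (z.val 0 0 + z.val 1 1) * (z.val 0 0 - z.val 1 1) = 0 := by linear_combination e00 - e11
        exact sub_eq_zero.mp ((mul_eq_zero.mp h3).resolve_left ht)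
      rcases mul_self_eq_one_iff.mp e00 with ha | ha
      · refine hz1 (Units.ext ?_)
        ext i j
        fin_cases i <;> fin_cases j <;> simp [hb, hc, ha, ← had]
      · refine hneg (Units.ext ?_)
        ext i j
        fin_cases i <;> fin_cases j <;> simp [hb, hc, ha, ← had]
    have hd : z.val 1 1 = -z.val 0 0 := by linear_combination htr
    by_cases hc : z.val 1 0 = 0
    · rw [hc, mul_zero, add_zero] at e00
      rcases mul_self_eq_one_iff.mp e00 with ha | ha
      · refine rel_of_conj (Matrix.GeneralLinearGroup.mkOfDetNeZero !![1, z.val 0 1; 0, -2] (by simp [h2])) ?_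
        rw [mul_inv_eq_iff_eq_mul]
        refine Units.ext ?_
        ext i j
        fin_cases i <;> fin_cases j <;>
          simp [dia, Matrix.GeneralLinearGroup.mkOfDetNeZero, Matrix.mul_apply, Fin.sum_univ_two, ha, hc, hd] <;>
          ring
      · refine rel_of_conj (Matrix.GeneralLinearGroup.mkOfDetNeZero !![z.val 0 1, 1; 2, 0] (by simp [h2])) ?_
        rw [mul_inv_eq_iff_eq_mul]
        refine Units.ext ?_
        ext i j
        fin_cases i <;> fin_cases j <;>
          simp [dia, Matrix.GeneralLinearGroup.mkOfDetNeZero, Matrix.mul_apply, Fin.sum_univ_two, ha, hc, hd] <;>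
          ring
    · refine rel_of_conj (Matrix.GeneralLinearGroup.mkOfDetNeZero
        !![z.val 0 0 + 1, z.val 0 0 - 1; z.val 1 0, z.val 1 0] (by
          rw [Matrix.det_fin_two_of, show (z.val 0 0 + 1) * z.val 1 0 - (z.val 0 0 - 1) * z.val 1 0 = 2 * z.val 1 0 by ring]
          exact mul_ne_zero h2 hc)) ?_
      rw [mul_inv_eq_iff_eq_mul]
      refine Units.ext ?_
      ext i j
      fin_cases i <;> fin_cases j <;>
        simp [dia, Matrix.GeneralLinearGroup.mkOfDetNeZero, Matrix.mul_apply, Fin.sum_univ_two, hd] <;>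
        first
          | ring1
          | linear_combination e00
          | linear_combination -e00
  exact (key x hx).symm.trans (key y hy)

/-- All elements of order four of `GL₂` fuse when `-1` is not a square. -/
theorem rel_fours (hq : Fintype.card F % 4 = 3) {x y : GL (Fin 2) F} (hx : orderOf x = 4) (hy : orderOf y = 4) :
    Rel x y := by
  have hns : ∀ z : F, z * z ≠ -1 := fun z hz => (FiniteField.isSquare_neg_one_iff.mp ⟨z, hz.symm⟩) hq
  let J : GL (Fin 2) F := Matrix.GeneralLinearGroup.mkOfDetNeZero !![0, -1; 1, 0] (by simp)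
  have key : ∀ z : GL (Fin 2) F, orderOf z = 4 → Rel J z := by
    intro z hz
    have h1 : z * z ≠ 1 := fun e => by
      have := Nat.le_of_dvd two_pos (orderOf_dvd_of_pow_eq_one ((pow_two z).trans e))
      omega
    have h2 : (z * z) * (z * z) = 1 := by
      have h := pow_orderOf_eq_one z
      rw [hz] at h
      rw [← h]
      simp [pow_succ, mul_assoc]
    have hsq : z * z = -1 := by
      by_contra hne
      set w := z * z with hw
      have hdet : w.val.det = z.val.det * z.val.det := by rw [hw, Units.val_mul, Matrix.det_mul]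
      have h := congrArg (fun u : GL (Fin 2) F => (u.val 0 0, u.val 0 1, u.val 1 0, u.val 1 1)) h2
      simp [Matrix.mul_apply, Fin.sum_univ_two] at h
      obtain ⟨e00, e01, e10, e11⟩ := h
      refine hns z.val.det ?_
      rw [← hdet, Matrix.det_fin_two]
      by_cases ht : w.val 0 0 + w.val 1 1 = 0
      · linear_combination (w.val 0 0) * ht - e00
      · exfalso
        have hb : w.val 0 1 = 0 := (mul_eq_zero.mp
          (show (w.val 0 0 + w.val 1 1) * w.val 0 1 = 0 by linear_combination e01)).resolve_left ht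
        have hc : w.val 1 0 = 0 := (mul_eq_zero.mp
          (show (w.val 0 0 + w.val 1 1) * w.val 1 0 = 0 by linear_combination e10)).resolve_left ht
        rw [hb, zero_mul, add_zero] at e00
        rw [hb, mul_zero, zero_add] at e11
        have had : w.val 0 0 = w.val 1 1 := by
          have h3 : (w.val 0 0 + w.val 1 1) * (w.val 0 0 - w.val 1 1) = 0 := by linear_combination e00 - e11
          exact sub_eq_zero.mp ((mul_eq_zero.mp h3).resolve_left ht)
        rcases mul_self_eq_one_iff.mp e00 with ha | ha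
        · refine h1 (Units.ext ?_)
          ext i j
          fin_cases i <;> fin_cases j <;> simp [hb, hc, ha, ← had]
        · refine hne (Units.ext ?_)
          ext i j
          fin_cases i <;> fin_cases j <;> simp [hb, hc, ha, ← had]
    have h := congrArg (fun u : GL (Fin 2) F => (u.val 0 0, u.val 1 0)) hsq
    simp [Matrix.mul_apply, Fin.sum_univ_two] at h
    obtain ⟨h00, h10⟩ := h
    have hc : z.val 1 0 ≠ 0 := fun hc => hns (z.val 0 0) (by
      rw [hc, mul_zero, add_zero] at h00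
      exact h00)
    refine rel_of_conj (Matrix.GeneralLinearGroup.mkOfDetNeZero !![1, z.val 0 0; 0, z.val 1 0] (by simp [hc])) ?_
    refine mul_inv_eq_iff_eq_mul.mpr (Units.ext ?_)
    ext i j
    fin_cases i <;> fin_cases j <;>
      simp [J, Matrix.GeneralLinearGroup.mkOfDetNeZero, Matrix.mul_apply, Fin.sum_univ_two]
    · linear_combination -h00
    · linear_combination -h10
  exact (key x hx).symm.trans (key y hy)

theorem factorization_card (hodd : Odd (Fintype.card F)) :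
    (Nat.card (PSL₃ F)).factorization 2 = (Nat.card (GL (Fin 2) F)).factorization 2 := by
  have hq := Fintype.one_lt_card (α := F)
  have h := Cfsg.Lib.Classical.card_SL_mul_eq_prod (F := F) (n := 3) (by norm_num)
  have hg := Cfsg.Lib.Classical.gcd_mul_card_PSL (F := F) (ι := Fin 3)
  rw [Fin.prod_univ_three] at h
  obtain ⟨r, hr⟩ : ∃ r, Fintype.card F = r + 1 := ⟨_, (Nat.sub_add_cancel hq.le).symm⟩
  have hsl : Nat.card SL(3, F) =
      Nat.card (GL (Fin 2) F) * (Fintype.card F ^ 2 * (Fintype.card F ^ 2 + Fintype.card F + 1)) := by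
    apply Nat.eq_of_mul_eq_mul_left (show 0 < Fintype.card F - 1 by omega)
    rw [h, Cfsg.Lib.SylowTwo.card_GL_two]
    rw [hr]
    simp only [Fin.val_zero, Fin.val_one, Fin.val_two, pow_zero, pow_one, Nat.add_sub_cancel]
    have e1 : (r + 1) ^ 3 - 1 = r ^ 3 + 3 * r ^ 2 + 3 * r := by ring_nf; omega
    have e2 : (r + 1) ^ 3 - (r + 1) = r ^ 3 + 3 * r ^ 2 + 2 * r := by ring_nf; omega
    have e3 : (r + 1) ^ 3 - (r + 1) ^ 2 = r ^ 3 + 2 * r ^ 2 + r := by ring_nf; omega
    have e4 : (r + 1) ^ 2 - 1 = r ^ 2 + 2 * r := by ring_nf; omega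
    have e5 : (r + 1) ^ 2 - (r + 1) = r ^ 2 + r := by ring_nf; omega
    rw [e1, e2, e3, e4, e5]
    ring
  have hgodd : Odd (Nat.gcd 3 (Nat.card F - 1)) := Odd.of_dvd_nat (by decide) (Nat.gcd_dvd_left _ _)
  have hc : Odd (Fintype.card F ^ 2 * (Fintype.card F ^ 2 + Fintype.card F + 1)) := by
    rw [Nat.odd_mul, Nat.odd_pow_iff two_ne_zero]
    refine ⟨hodd, ?_⟩
    obtain ⟨l, hl⟩ := hodd
    rw [hl]
    exact ⟨2 * l * l + 3 * l + 1, by ring⟩
  rw [Fintype.card_fin] at hg
  have e := congrArg (fun N => N.factorization 2) (hg.trans hsl)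
  have hG : Nat.card (GL (Fin 2) F) ≠ 0 := Nat.card_pos.ne'
  rw [Nat.factorization_mul hgodd.pos.ne' Nat.card_pos.ne', Nat.factorization_mul hG hc.pos.ne',
    Finsupp.add_apply, Finsupp.add_apply,
    Nat.factorization_eq_zero_of_not_dvd (fun hd => Nat.not_odd_iff_even.mpr (even_iff_two_dvd.mpr hd) hgodd),
    Nat.factorization_eq_zero_of_not_dvd (fun hd => Nat.not_odd_iff_even.mpr (even_iff_two_dvd.mpr hd) hc),
    zero_add, add_zero] at e
  exact e

/-- A model of a Sylow 2-subgroup. -/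
theorem exists_chi (hodd : Odd (Fintype.card F)) (S : Sylow 2 (PSL₃ F)) {D : Type*} [Group D] [Finite D]
    (φ : D →* GL (Fin 2) F) (hφ : Function.Injective φ)
    (hcard : Nat.card D = 2 ^ (Nat.card (GL (Fin 2) F)).factorization 2) :
    ∃ χ : D →* (PSL₃ F), Function.Injective χ ∧ χ.range = (S : Subgroup (PSL₃ F)) ∧
      ∀ x y : D, Rel (φ x) (φ y) → ∃ g, g * χ x * g⁻¹ = χ y := by
  haveI : Fact (Nat.Prime 2) := ⟨Nat.prime_two⟩
  let χ₀ : D →* (PSL₃ F) := proj.comp φ
  have hinj : Function.Injective χ₀ := by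
    rw [injective_iff_map_eq_one]
    intro x hx
    have h3 : x ^ 3 = 1 := hφ (by rw [map_pow, map_one]; exact eq_one_of_proj hx)
    refine orderOf_eq_one_iff.mp (Nat.eq_one_of_dvd_coprimes ?_ (orderOf_dvd_natCard x)
      (orderOf_dvd_of_pow_eq_one h3))
    rw [hcard]
    exact Nat.Coprime.pow_left _ (by decide)
  have hc : Nat.card χ₀.range = 2 ^ (Nat.card (PSL₃ F)).factorization 2 := by
    rw [← Nat.card_congr (MonoidHom.ofInjective hinj).toEquiv, hcard, factorization_card hodd]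
  obtain ⟨k, hk⟩ := MulAction.exists_smul_eq (PSL₃ F) (Sylow.ofCard χ₀.range hc) S
  refine ⟨(MulAut.conj k).toMonoidHom.comp χ₀, (MulAut.conj k).injective.comp hinj, ?_, fun x y h => ?_⟩
  · rw [← hk, Sylow.coe_subgroup_smul, Sylow.coe_ofCard, MonoidHom.range_comp]
    rfl
  · obtain ⟨g, hg⟩ := h
    refine ⟨k * g * k⁻¹, ?_⟩
    show k * g * k⁻¹ * (k * χ₀ x * k⁻¹) * (k * g * k⁻¹)⁻¹ = k * χ₀ y * k⁻¹
    rw [show χ₀ y = proj (φ y) from rfl, ← hg]
    simp [χ₀, mul_assoc]

/-- The criterion applied through a model. -/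
theorem isSimple_of_model (hodd : Odd (Fintype.card F)) (S : Sylow 2 (PSL₃ F)) {D : Type*} [Group D] [Finite D]
    [Nontrivial D]
    (φ : D →* GL (Fin 2) F) (hφ : Function.Injective φ)
    (hcard : Nat.card D = 2 ^ (Nat.card (GL (Fin 2) F)).factorization 2)
    (hA : IsPGroup 2 (MulAut D))
    (hgen : ∀ K : Subgroup D, (∀ x y : D, x ∈ K → Rel (φ x) (φ y) → y ∈ K) →
      (∀ x : D, orderOf x = 2 → x ∈ K) → K = ⊤) :
    (Cfsg.groupFusionSystem (S : Subgroup (PSL₃ F))).IsSimple 2 := by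
  haveI : Fact (Nat.Prime 2) := ⟨Nat.prime_two⟩
  obtain ⟨χ, hχ, hr, hrel⟩ := exists_chi hodd S φ hφ hcard
  have hDp : IsPGroup 2 D := IsPGroup.of_card hcard
  let e : D ≃* (S : Subgroup (PSL₃ F)) := (MonoidHom.ofInjective hχ).trans (MulEquiv.subgroupCongr hr)
  obtain ⟨x₀, hx₀⟩ : ∃ x : D, orderOf x = 2 := by
    obtain ⟨n, hn, hc⟩ := hDp.nontrivial_iff_card.mp inferInstance
    exact exists_prime_orderOf_dvd_card' 2 (hc ▸ dvd_pow_self 2 hn.ne')
  refine isSimple_of_inn (saturated_group S) (fun h => ?_)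
    (autGroup_le_inn S.isPGroup' (saturated_group S) (Cfsg.Lib.MetaTwo.isPGroup_mulAut_congr e hA)) fun T hT => ?_
  · have : χ x₀ = 1 := by
      rw [← Subgroup.mem_bot, ← h, ← hr]
      exact ⟨x₀, rfl⟩
    rw [← map_one χ] at this
    rw [hχ this, orderOf_one] at hx₀
    omega
  refine or_iff_not_imp_left.mpr fun hne => le_antisymm hT.1 ?_
  have hclosed : ∀ x y : D, x ∈ T.comap χ → Rel (φ x) (φ y) → y ∈ T.comap χ := by
    intro x y hx hxy
    obtain ⟨g, hg⟩ := hrel x y hxy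
    have hS : ∀ z : D, χ z ∈ (S : Subgroup (PSL₃ F)) := fun z => hr ▸ ⟨z, rfl⟩
    have hmap : IsMap (Cfsg.groupFusionSystem (S : Subgroup (PSL₃ F))) (Subgroup.zpowers (χ x))
        (fun z => g * z * g⁻¹) := by
      refine isMap_group_iff.mpr ⟨Subgroup.zpowers_le.mpr (hS x), ?_, g, fun z _ => rfl⟩
      rintro _ ⟨i, rfl⟩
      show g * χ x ^ i * g⁻¹ ∈ _
      rw [← conj_zpow, hg, ← map_zpow]
      exact hS _
    have h := stronglyClosed_apply hT hmap (Subgroup.mem_zpowers _) hx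
    show χ y ∈ T
    rwa [← hg]
  obtain ⟨t, htT, ht⟩ : ∃ t : D, χ t ∈ T ∧ orderOf t = 2 := by
    obtain ⟨s, hs, hs1⟩ := (Subgroup.bot_or_exists_ne_one T).resolve_left hne
    obtain ⟨x, rfl⟩ : ∃ x, χ x = s := hr.ge (hT.1 hs)
    have hx1 : x ≠ 1 := fun h => hs1 (by rw [h, map_one])
    exact ⟨x ^ (orderOf x / 2), by rw [map_pow]; exact pow_mem hs _,
      orderOf_pow_orderOf_div (orderOf_pos x).ne' (hDp.dvd_orderOf hx1)⟩
  have htop := hgen _ hclosed fun x hx => hclosed t x htT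
    (rel_involutions hodd (by rw [orderOf_injective φ hφ, ht]) (by rw [orderOf_injective φ hφ, hx]))
  rw [← hr]
  rintro _ ⟨x, rfl⟩
  exact (htop.ge (Subgroup.mem_top x) :)

theorem isSimple_three_mod_four (hq : Fintype.card F % 4 = 3) (S : Sylow 2 (PSL₃ F)) :
    (Cfsg.groupFusionSystem (S : Subgroup (PSL₃ F))).IsSimple 2 := by
  open Cfsg.Lib.CyclicMax in
  haveI : Fact (Nat.Prime 2) := ⟨Nat.prime_two⟩
  have hodd : Odd (Fintype.card F) := Nat.odd_iff.mpr (by omega)
  obtain ⟨P⟩ : Nonempty (Sylow 2 (GL (Fin 2) F)) := inferInstance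
  have hQD := Cfsg.Lib.SylowTwo.gl_quasiDihedral P hq
  obtain ⟨m, a, b, hm, hT⟩ := Cfsg.Lib.QD.exists_gen hQD
  haveI : Nontrivial (P : Subgroup (GL (Fin 2) F)) := ⟨b, 1, fun h => hT.notMem (h ▸ one_mem _)⟩
  have hinj := (P : Subgroup (GL (Fin 2) F)).subtype_injective
  refine isSimple_of_model hodd S _ hinj P.card_eq_multiplicity
    (Cfsg.Lib.MetaTwo.isPGroup_mulAut_quasiDihedral hQD) fun K hK hinv => ?_
  obtain ⟨h1, h2, h3⟩ := Cfsg.Lib.QD.pows (b := b) ⟨hm, hT⟩
  have hb : b ∈ K := hinv b ((Cfsg.Lib.QD.orderOf_b ⟨hm, hT⟩ 0).1 (dvd_zero 2) |> fun h => by simpa using h)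
  have hab2 : a ^ (2 : ℤ) * b ∈ K := hinv _ ((Cfsg.Lib.QD.orderOf_b ⟨hm, hT⟩ 2).1 (dvd_refl 2))
  have ha2 : a ^ (2 : ℤ) ∈ K := by simpa [mul_assoc] using mul_mem hab2 (inv_mem hb)
  have hw : a ^ ((2 : ℤ) ^ (m - 2)) ∈ K := by
    rw [h3, zpow_mul]
    exact zpow_mem ha2 _
  have h4 := hK _ (a ^ (1 : ℤ) * b) hw (rel_fours hq
    (by rw [orderOf_injective _ hinj, Cfsg.Lib.QD.orderOf_w ⟨hm, hT⟩])
    (by rw [orderOf_injective _ hinj, (Cfsg.Lib.QD.orderOf_b ⟨hm, hT⟩ 1).2 (by norm_num)]))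
  have ha : a ∈ K := by simpa [mul_assoc] using mul_mem h4 (inv_mem hb)
  rw [eq_top_iff, ← closure_pair_eq_top hT, Subgroup.closure_le]
  rintro x (rfl | rfl) <;> assumption

theorem isSimple_one_mod_four (hq : Fintype.card F % 4 = 1) (S : Sylow 2 (PSL₃ F)) :
    (Cfsg.groupFusionSystem (S : Subgroup (PSL₃ F))).IsSimple 2 := by
  haveI : Fact (Nat.Prime 2) := ⟨Nat.prime_two⟩
  have hodd : Odd (Fintype.card F) := Nat.odd_iff.mpr (by omega)
  have hone := Fintype.one_lt_card (α := F)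
  obtain ⟨w, m, hm, hwm⟩ := Nat.exists_eq_two_pow_mul_odd (n := Fintype.card F - 1) (by omega)
  have hw : 2 ≤ w := by
    by_contra h
    obtain ⟨k, rfl⟩ := hm
    rcases (show w = 0 ∨ w = 1 by omega) with rfl | rfl <;> simp at hwm <;> omega
  obtain ⟨ζ, hζ⟩ := Cfsg.Lib.SylowTwo.exists_orderOf_units (F := F)
    (show 2 ^ w ∣ Fintype.card F - 1 from Dvd.intro _ hwm.symm)
  set φ := Cfsg.Lib.SylowTwo.monoHom ζ hζ
  have hφ := Cfsg.Lib.SylowTwo.monoHom_injective ζ hζ
  haveI : Nontrivial (Wr w) := ⟨⟨0, 0, true⟩, 1, fun h => by simpa using congrArg Wr.e h⟩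
  have hcard : Nat.card (Wr w) = 2 ^ (Nat.card (GL (Fin 2) F)).factorization 2 := by
    rw [Wr.card_eq, Cfsg.Lib.SylowTwo.card_GL_two]
    set q := Fintype.card F
    obtain ⟨r, hr⟩ : ∃ r, q + 1 = 2 * r ∧ Odd r := ⟨(q + 1) / 2, by omega, Nat.odd_iff.mpr (by omega)⟩
    have e : (q ^ 2 - 1) * (q ^ 2 - q) = 2 ^ (2 * w + 1) * (m * r * (m * q)) := by
      rw [show q ^ 2 - 1 = (q + 1) * (q - 1) by rw [← Nat.sq_sub_sq, one_pow],
        show q ^ 2 - q = q * (q - 1) by rw [pow_two, Nat.mul_sub_one], hwm, hr.1]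
      ring
    rw [e, Cfsg.Lib.SylowTwo.factorization_two ((hm.mul hr.2).mul (hm.mul hodd))]
  refine isSimple_of_model hodd S φ hφ hcard (Cfsg.Lib.MetaTwo.isPGroup_mulAut_wr hw) fun K hK hinv => ?_
  haveI : NeZero (2 ^ w) := ⟨(Nat.two_pow_pos w).ne'⟩
  have hz : ∀ i : ZMod (2 ^ w), (⟨i, -i, true⟩ : Wr w) ∈ K := fun i =>
    hinv _ ((order_two_iff _).mpr ⟨(mul_self_iff _).mpr (Or.inr ⟨rfl, by simp⟩),
      fun h => by simpa using congrArg Wr.e h⟩)
  have hpm : ∀ i : ZMod (2 ^ w), (⟨i, -i, false⟩ : Wr w) ∈ K := fun i => by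
    convert mul_mem (hz i) (hz 0) using 1
    ext <;> simp
  have hcoord : ∀ i : ZMod (2 ^ w), (⟨i, 0, false⟩ : Wr w) ∈ K := by
    intro i
    refine hK _ _ (hpm i) ?_
    have e1 : φ ⟨i, -i, false⟩ = dia (ζ ^ i.val) (ζ ^ i.val)⁻¹ := by
      have hinv' : (ζ : F) ^ (-i).val = ((ζ : F) ^ i.val)⁻¹ := by
        refine eq_inv_of_mul_eq_one_left ?_
        rw [← Cfsg.Lib.SylowTwo.pow_val_add hζ, neg_add_cancel, ZMod.val_zero, pow_zero]
      refine Units.ext ?_
      rw [Cfsg.Lib.SylowTwo.monoHom_coe]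
      simp [Cfsg.Lib.SylowTwo.monoMat, dia, Matrix.GeneralLinearGroup.mkOfDetNeZero, hinv']
    have e2 : φ ⟨i, 0, false⟩ = dia (ζ ^ i.val) 1 := by
      refine Units.ext ?_
      rw [Cfsg.Lib.SylowTwo.monoHom_coe]
      simp [Cfsg.Lib.SylowTwo.monoMat, dia, Matrix.GeneralLinearGroup.mkOfDetNeZero]
    rw [e1, e2]
    exact rel_torus _
  rw [eq_top_iff]
  intro p _
  have h1 := hcoord p.a
  have hb : (⟨0, p.b, false⟩ : Wr w) ∈ K := by
    convert mul_mem (mul_mem (hz 0) (hcoord p.b)) (hz 0) using 1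
    ext <;> simp
  rcases p with ⟨a, b, _ | _⟩
  · convert mul_mem h1 hb using 1
    ext <;> simp
  · convert mul_mem (mul_mem h1 hb) (hz 0) using 1
    ext <;> simp

end Cfsg.Lib.Fusion.LinearThree
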