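import Cfsg.Agent.PGroups.AutTwoGroup
import Cfsg.Agent.PGroups.QuasiDihedral
import Cfsg.Agent.Fusion.Simple
import Cfsg.Agent.Fusion.GroupSystem

/-!
Simplicity of a 2-fusion system through a model of the Sylow subgroup.
-/

set_option autoImplicit false
set_option linter.unusedSectionVars false

namespace Cfsg.Lib.Fusion

open Cfsg Cfsg.FusionSystem

variable {X : Type*} [Group X] [Finite X] {D : Type*} [Group D] [Finite D]

theorem isSimple_of_gen [Nontrivial D] (S : Sylow 2 X) (χ : D →* X) (hχ : Function.Injective χ)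
    (hr : χ.range = (S : Subgroup X)) (hA : IsPGroup 2 (MulAut D))
    (hgen : ∀ K : Subgroup D, K ≠ ⊥ → (∀ g : X, ∀ x y : D, x ∈ K → g * χ x * g⁻¹ = χ y → y ∈ K) → K = ⊤) :
    (Cfsg.groupFusionSystem (S : Subgroup X)).IsSimple 2 := by
  haveI : Fact (Nat.Prime 2) := ⟨Nat.prime_two⟩
  let e : D ≃* (S : Subgroup X) := (MonoidHom.ofInjective hχ).trans (MulEquiv.subgroupCongr hr)
  refine isSimple_of_inn (saturated_group S) (fun h => ?_)
    (autGroup_le_inn S.isPGroup' (saturated_group S) (Cfsg.Lib.MetaTwo.isPGroup_mulAut_congr e hA)) fun T hT => ?_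
  · obtain ⟨x, hx⟩ := exists_ne (1 : D)
    refine hx (hχ ?_)
    rw [map_one, ← Subgroup.mem_bot, ← h, ← hr]
    exact ⟨x, rfl⟩
  refine or_iff_not_imp_left.mpr fun hne => le_antisymm hT.1 ?_
  have hS : ∀ z : D, χ z ∈ (S : Subgroup X) := fun z => hr ▸ ⟨z, rfl⟩
  have htop := hgen (T.comap χ) (fun h => ?_) fun g x y hx hg => ?_
  · rw [← hr]
    rintro _ ⟨x, rfl⟩
    exact (htop.ge (Subgroup.mem_top x) :)
  · refine hne (Subgroup.eq_bot_iff_forall T |>.mpr fun t ht => ?_)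
    obtain ⟨x, rfl⟩ : ∃ x, χ x = t := hr.ge (hT.1 ht)
    have : x ∈ T.comap χ := ht
    rw [h, Subgroup.mem_bot] at this
    rw [this, map_one]
  · have hmap : IsMap (Cfsg.groupFusionSystem (S : Subgroup X)) (Subgroup.zpowers (χ x))
        (fun z => g * z * g⁻¹) := by
      refine isMap_group_iff.mpr ⟨Subgroup.zpowers_le.mpr (hS x), ?_, g, fun z _ => rfl⟩
      rintro _ ⟨i, rfl⟩
      show g * χ x ^ i * g⁻¹ ∈ _
      rw [← conj_zpow, hg, ← map_zpow]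
      exact hS _
    have h := stronglyClosed_apply hT hmap (Subgroup.mem_zpowers _) hx
    show χ y ∈ T
    rwa [← hg]

/-- Generation in a quasi-dihedral group by fused involutions and elements of order four. -/
theorem eq_top_of_quasiDihedral [Nontrivial D] (hQ : Cfsg.IsQuasiDihedral D) (K : Subgroup D) (hK : K ≠ ⊥)
    (h2 : ∀ x y : D, orderOf x = 2 → orderOf y = 2 → x ∈ K → y ∈ K)
    (h4 : ∀ x y : D, orderOf x = 4 → orderOf y = 4 → x ∈ K → y ∈ K) : K = ⊤ := by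
  open Cfsg.Lib.CyclicMax in
  haveI : Fact (Nat.Prime 2) := ⟨Nat.prime_two⟩
  obtain ⟨m, a, b, hG⟩ := Cfsg.Lib.QD.exists_gen hQ
  obtain ⟨t, ht, ht2⟩ : ∃ t ∈ K, orderOf t = 2 := by
    obtain ⟨s, hs, hs1⟩ := (Subgroup.bot_or_exists_ne_one K).resolve_left hK
    exact ⟨_, pow_mem hs _, orderOf_pow_orderOf_div (orderOf_pos s).ne'
      ((Cfsg.Lib.QD.isPGroup hG).dvd_orderOf hs1)⟩
  obtain ⟨h1, -, h3⟩ := Cfsg.Lib.QD.pows (b := b) hG
  have hinv : ∀ x : D, orderOf x = 2 → x ∈ K := fun x hx => h2 t x ht2 hx ht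
  have hb : b ∈ K := hinv b (by simpa using (Cfsg.Lib.QD.orderOf_b hG 0).1 (dvd_zero 2))
  have hab2 : a ^ (2 : ℤ) * b ∈ K := hinv _ ((Cfsg.Lib.QD.orderOf_b hG 2).1 (dvd_refl 2))
  have ha2 : a ^ (2 : ℤ) ∈ K := by simpa [mul_assoc] using mul_mem hab2 (inv_mem hb)
  have hw : a ^ ((2 : ℤ) ^ (m - 2)) ∈ K := by
    rw [h3, zpow_mul]
    exact zpow_mem ha2 _
  have h4' := h4 _ (a ^ (1 : ℤ) * b) (Cfsg.Lib.QD.orderOf_w hG)
    ((Cfsg.Lib.QD.orderOf_b hG 1).2 (by norm_num)) hw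
  have ha : a ∈ K := by simpa [mul_assoc] using mul_mem h4' (inv_mem hb)
  rw [eq_top_iff, ← closure_pair_eq_top hG.2, Subgroup.closure_le]
  rintro x (rfl | rfl) <;> assumption

/-- Generation in a wreathed group. -/
theorem eq_top_of_wreathed {w : ℕ} (hw : 2 ≤ w) (K : Subgroup (Cfsg.Lib.Wreathed.Wr w)) (hK : K ≠ ⊥)
    (h2 : ∀ x y : Cfsg.Lib.Wreathed.Wr w, orderOf x = 2 → orderOf y = 2 → x ∈ K → y ∈ K)
    (htor : ∀ i : ZMod (2 ^ w), (⟨i, -i, false⟩ : Cfsg.Lib.Wreathed.Wr w) ∈ K →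
      (⟨i, 0, false⟩ : Cfsg.Lib.Wreathed.Wr w) ∈ K) : K = ⊤ := by
  open Cfsg.Lib.Wreathed in
  haveI : Fact (Nat.Prime 2) := ⟨Nat.prime_two⟩
  obtain ⟨t, ht, ht2⟩ : ∃ t ∈ K, orderOf t = 2 := by
    obtain ⟨s, hs, hs1⟩ := (Subgroup.bot_or_exists_ne_one K).resolve_left hK
    exact ⟨_, pow_mem hs _, orderOf_pow_orderOf_div (orderOf_pos s).ne'
      ((IsPGroup.of_card (n := 2 * w + 1) Wr.card_eq).dvd_orderOf hs1)⟩
  have hz : ∀ i : ZMod (2 ^ w), (⟨i, -i, true⟩ : Wr w) ∈ K := fun i =>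
    h2 t _ ht2 ((order_two_iff _).mpr ⟨(mul_self_iff _).mpr (Or.inr ⟨rfl, by simp⟩),
      fun h => by simpa using congrArg Wr.e h⟩) ht
  have hpm : ∀ i : ZMod (2 ^ w), (⟨i, -i, false⟩ : Wr w) ∈ K := fun i => by
    convert mul_mem (hz i) (hz 0) using 1
    ext <;> simp
  have hcoord : ∀ i : ZMod (2 ^ w), (⟨i, 0, false⟩ : Wr w) ∈ K := fun i => htor i (hpm i)
  rw [eq_top_iff]
  intro p _
  have h1 := hcoord p.a
  have hb : (⟨0, p.b, false⟩ : Wr w) ∈ K := by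
    convert mul_mem (mul_mem (hz 0) (hcoord p.b)) (hz 0) using 1
    ext <;> simp
  rcases p with ⟨a, b, _ | _⟩
  · convert mul_mem h1 hb using 1
    ext <;> simp
  · convert mul_mem (mul_mem h1 hb) (hz 0) using 1
    ext <;> simp

end Cfsg.Lib.Fusion
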