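import Cfsg.Agent.TwoFusion.SylowLinearTwo
import Cfsg.Agent.Fusion.SimpleModel
import Cfsg.Agent.Classical.Unitary.Matrix

/-!
The 2-fusion system of `PSU₃(q)`, `q` odd, is simple.
-/

set_option autoImplicit false
set_option linter.unusedSectionVars false

namespace Cfsg.Lib.Fusion.UnitaryThree

open Cfsg Cfsg.FusionSystem Cfsg.Lib.Wreathed
open scoped MatrixGroups Matrix

universe u

variable {F : Type u} [Field F] [Fintype F] [DecidableEq F] {q : ℕ} (hF : Fintype.card F = q ^ 2)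

local notation "σ" => Cfsg.Lib.Classical.powConj hF

include hF

theorem q_ne_zero : q ≠ 0 := fun h => by
  have := Fintype.one_lt_card (α := F)
  simp [h] at hF

theorem pow_eq (x : F) : x ^ q = σ x := (Cfsg.Lib.Classical.powConj_apply hF x).symm

theorem invol (x : F) : (x ^ q) ^ q = x := by
  rw [pow_eq hF, pow_eq hF]
  exact (Cfsg.Lib.Classical.powConj_isConj hF).invol x

theorem add_pow' (x y : F) : (x + y) ^ q = x ^ q + y ^ q := by
  simp only [pow_eq hF, map_add]

theorem neg_pow' (x : F) : (-x) ^ q = -(x ^ q) := by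
  simp only [pow_eq hF, map_neg]

theorem mul_eq_one_of_mem {g : GL (Fin 2) F} (hg : g ∈ Cfsg.GU 2 F q) :
    g.val 0 0 * g.val 0 0 ^ q + g.val 1 0 * g.val 1 0 ^ q = 1 ∧
    g.val 0 1 * g.val 0 1 ^ q + g.val 1 1 * g.val 1 1 ^ q = 1 ∧
    g.val 0 0 * g.val 0 1 ^ q + g.val 1 0 * g.val 1 1 ^ q = 0 ∧
    g.val 0 1 * g.val 0 0 ^ q + g.val 1 1 * g.val 1 0 ^ q = 0 := by
  have h : ∀ u v : Fin 2 → F, Cfsg.hermForm 2 F q (g.val *ᵥ u) (g.val *ᵥ v) = Cfsg.hermForm 2 F q u v := hg
  have h0 : (0 : F) ^ q = 0 := zero_pow (q_ne_zero hF)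
  have a := h ![1, 0] ![1, 0]
  have b := h ![0, 1] ![0, 1]
  have c := h ![1, 0] ![0, 1]
  have d := h ![0, 1] ![1, 0]
  simp [Cfsg.hermForm, Matrix.mulVec, dotProduct, Fin.sum_univ_two, h0] at a b c d
  exact ⟨a, b, c, d⟩

theorem det_norm {g : GL (Fin 2) F} (hg : g ∈ Cfsg.GU 2 F q) :
    (g.val 0 0 * g.val 1 1 - g.val 0 1 * g.val 1 0) * (g.val 0 0 * g.val 1 1 - g.val 0 1 * g.val 1 0) ^ q = 1 := by
  obtain ⟨a, b, c, d⟩ := mul_eq_one_of_mem hF hg
  simp only [pow_eq hF] at a b c d ⊢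
  rw [map_sub, map_mul, map_mul]
  linear_combination (g.val 0 1 * σ (g.val 0 1) + g.val 1 1 * σ (g.val 1 1)) * a + b -
    (g.val 0 1 * σ (g.val 0 0) + g.val 1 1 * σ (g.val 1 0)) * c

/-- Self-adjointness of a root of `±1`. -/
theorem adjoint_of_sq {g : GL (Fin 2) F} (hg : g ∈ Cfsg.GU 2 F q) {ε : F}
    (h : g.val * g.val = ε • (1 : Matrix (Fin 2) (Fin 2) F)) :
    g.val 0 0 = ε * g.val 0 0 ^ q ∧ g.val 1 0 = ε * g.val 0 1 ^ q := by
  have hh : ∀ u v : Fin 2 → F, Cfsg.hermForm 2 F q (g.val *ᵥ u) (g.val *ᵥ v) = Cfsg.hermForm 2 F q u v := hg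
  have hlin : ∀ u v : Fin 2 → F, Cfsg.hermForm 2 F q (ε • u) v = ε * Cfsg.hermForm 2 F q u v := by
    intro u v
    simp [Cfsg.hermForm, Finset.mul_sum, mul_assoc]
    ring
  have key : ∀ u v : Fin 2 → F, ε * Cfsg.hermForm 2 F q u (g.val *ᵥ v) = Cfsg.hermForm 2 F q (g.val *ᵥ u) v := by
    intro u v
    rw [← hh (g.val *ᵥ u) v, Matrix.mulVec_mulVec, h, Matrix.smul_mulVec, Matrix.one_mulVec, hlin]
  have h0 : (0 : F) ^ q = 0 := zero_pow (q_ne_zero hF)
  have a := key ![1, 0] ![1, 0]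
  have c := key ![1, 0] ![0, 1]
  simp [Cfsg.hermForm, Matrix.mulVec, dotProduct, Fin.sum_univ_two, h0] at a c
  exact ⟨a.symm, c.symm⟩

/-- The matrix of the embedding. -/
def extMat (g : GL (Fin 2) F) : Matrix (Fin 3) (Fin 3) F :=
  !![g.val 0 0, g.val 0 1, 0; g.val 1 0, g.val 1 1, 0; 0, 0, (g.val 0 0 * g.val 1 1 - g.val 0 1 * g.val 1 0)⁻¹]

omit hF in
theorem det_ne (g : GL (Fin 2) F) : g.val 0 0 * g.val 1 1 - g.val 0 1 * g.val 1 0 ≠ 0 := by
  rw [← Matrix.det_fin_two]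
  exact ((Matrix.isUnit_iff_isUnit_det _).mp g.isUnit).ne_zero

omit hF in
theorem extMat_det (g : GL (Fin 2) F) : (extMat g).det = 1 := by
  have h := det_ne g
  simp [extMat, Matrix.det_fin_three]
  field_simp

theorem extMat_mem {g : GL (Fin 2) F} (hg : g ∈ Cfsg.GU 2 F q) :
    (⟨extMat g, extMat_det g⟩ : SL(3, F)) ∈ Cfsg.SU 3 F q := by
  intro u v
  obtain ⟨a, b, c, d⟩ := mul_eq_one_of_mem hF hg
  have e := det_norm hF hg
  have e' : (g.val 0 0 * g.val 1 1 - g.val 0 1 * g.val 1 0)⁻¹ *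
      ((g.val 0 0 * g.val 1 1 - g.val 0 1 * g.val 1 0) ^ q)⁻¹ = 1 := by
    rw [← mul_inv, e, inv_one]
  show Cfsg.hermForm 3 F q (extMat g *ᵥ u) (extMat g *ᵥ v) = _
  simp only [Cfsg.hermForm, Fin.sum_univ_three, extMat, Matrix.mulVec, dotProduct]
  simp [inv_pow, add_pow' hF, mul_pow, zero_pow (q_ne_zero hF)]
  linear_combination (u 0 * v 0 ^ q) * a + (u 1 * v 1 ^ q) * b + (u 0 * v 1 ^ q) * c +
    (u 1 * v 0 ^ q) * d + (u 2 * v 2 ^ q) * e'

/-- `GU₂` inside `SU₃`. -/
def ext : Cfsg.GU 2 F q →* Cfsg.SU 3 F q :=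
  MonoidHom.mk' (fun g => ⟨⟨extMat g.1, extMat_det g.1⟩, extMat_mem hF g.2⟩) fun g h => by
    refine Subtype.ext (Subtype.ext ?_)
    have e : (g.1 * h.1).val 0 0 * (g.1 * h.1).val 1 1 - (g.1 * h.1).val 0 1 * (g.1 * h.1).val 1 0 =
        (g.1.val 0 0 * g.1.val 1 1 - g.1.val 0 1 * g.1.val 1 0) *
          (h.1.val 0 0 * h.1.val 1 1 - h.1.val 0 1 * h.1.val 1 0) := by
      simp [Matrix.mul_apply, Fin.sum_univ_two]
      ring
    show extMat (g.1 * h.1) = extMat g.1 * extMat h.1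
    simp only [extMat, e, mul_inv_rev]
    ext i j
    fin_cases i <;> fin_cases j <;> simp [Matrix.mul_apply, Fin.sum_univ_two, Fin.sum_univ_three, mul_comm]

theorem ext_injective : Function.Injective (ext hF) := by
  intro g h e
  have h' : ∀ i j : Fin 3, (extMat g.1) i j = (extMat h.1) i j :=
    fun i j => congrArg (fun z : Cfsg.SU 3 F q => ((z : SL(3, F)) : Matrix (Fin 3) (Fin 3) F) i j) e
  refine Subtype.ext (Units.ext ?_)
  ext i j
  fin_cases i <;> fin_cases j
  · simpa [extMat] using h' 0 0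
  · simpa [extMat] using h' 0 1
  · simpa [extMat] using h' 1 0
  · simpa [extMat] using h' 1 1

/-- The map into `PSU₃`. -/
def proj : Cfsg.GU 2 F q →* Cfsg.PSU 3 F q :=
  (QuotientGroup.mk' (Subgroup.center (Cfsg.SU 3 F q))).comp (ext hF)

theorem pow_three_of_proj {g : Cfsg.GU 2 F q} (h : proj hF g = 1) : g ^ 3 = 1 := by
  have h' : ext hF g ∈ Subgroup.center (Cfsg.SU 3 F q) := (QuotientGroup.eq_one_iff _).mp h
  refine ext_injective hF ?_
  rw [map_pow, map_one]
  have h1 := congrArg Subtype.val (pow_card_eq_one' (x := (⟨_, h'⟩ : Subgroup.center (Cfsg.SU 3 F q))))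
  rw [Cfsg.Lib.Classical.card_center_SU hF (by norm_num), SubgroupClass.coe_pow] at h1
  exact orderOf_dvd_iff_pow_eq_one.mp ((orderOf_dvd_of_pow_eq_one h1).trans (Nat.gcd_dvd_left _ _))

/-- The fusion relation. -/
def Rel (x y : Cfsg.GU 2 F q) : Prop := ∃ g : Cfsg.PSU 3 F q, g * proj hF x * g⁻¹ = proj hF y

theorem Rel.symm' {x y : Cfsg.GU 2 F q} (h : Rel hF x y) : Rel hF y x := by
  obtain ⟨g, hg⟩ := h
  exact ⟨g⁻¹, by rw [← hg]; group⟩

theorem Rel.trans' {x y z : Cfsg.GU 2 F q} (h : Rel hF x y) (h' : Rel hF y z) : Rel hF x z := by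
  obtain ⟨g, hg⟩ := h
  obtain ⟨k, hk⟩ := h'
  exact ⟨k * g, by rw [← hk, ← hg]; group⟩

theorem rel_of_conj {x y : Cfsg.GU 2 F q} (P : GL (Fin 2) F) (hP : P ∈ Cfsg.GU 2 F q)
    (h : P * x.1 = y.1 * P) : Rel hF x y := by
  refine ⟨proj hF ⟨P, hP⟩, ?_⟩
  rw [← map_mul, show (⟨P, hP⟩ : Cfsg.GU 2 F q) * x = y * ⟨P, hP⟩ from Subtype.ext h, map_mul,
    mul_inv_cancel_right]

theorem rel_of_swap {x y : Cfsg.GU 2 F q} (w : SL(3, F)) (hw : w ∈ Cfsg.SU 3 F q)
    (h : (w : Matrix (Fin 3) (Fin 3) F) * extMat x.1 = extMat y.1 * (w : Matrix (Fin 3) (Fin 3) F)) :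
    Rel hF x y := by
  refine ⟨QuotientGroup.mk' _ (⟨w, hw⟩ : Cfsg.SU 3 F q), ?_⟩
  show QuotientGroup.mk' _ (⟨w, hw⟩ : Cfsg.SU 3 F q) * QuotientGroup.mk' _ (ext hF x) *
      (QuotientGroup.mk' _ (⟨w, hw⟩ : Cfsg.SU 3 F q))⁻¹ =
    QuotientGroup.mk' _ (ext hF y)
  rw [← map_mul, show (⟨w, hw⟩ : Cfsg.SU 3 F q) * ext hF x = ext hF y * ⟨w, hw⟩ from
    Subtype.ext (Subtype.ext h), map_mul, mul_inv_cancel_right]

theorem swap23_mem : (⟨!![-1, 0, 0; 0, 0, 1; 0, 1, 0], by simp [Matrix.det_fin_three]⟩ : SL(3, F)) ∈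
    Cfsg.SU 3 F q := by
  intro u v
  show Cfsg.hermForm 3 F q (!![-1, 0, 0; 0, 0, 1; 0, 1, 0] *ᵥ u) (!![-1, 0, 0; 0, 0, 1; 0, 1, 0] *ᵥ v) = _
  simp only [Cfsg.hermForm, Fin.sum_univ_three, Matrix.mulVec, dotProduct]
  simp [neg_pow' hF]
  ring

theorem swap13_mem : (⟨!![0, 0, 1; 0, -1, 0; 1, 0, 0], by simp [Matrix.det_fin_three]⟩ : SL(3, F)) ∈
    Cfsg.SU 3 F q := by
  intro u v
  show Cfsg.hermForm 3 F q (!![0, 0, 1; 0, -1, 0; 1, 0, 0] *ᵥ u) (!![0, 0, 1; 0, -1, 0; 1, 0, 0] *ᵥ v) = _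
  simp only [Cfsg.hermForm, Fin.sum_univ_three, Matrix.mulVec, dotProduct]
  simp [neg_pow' hF]
  ring

theorem rel_torus {x y : Cfsg.GU 2 F q} (a : F) (hx : x.1.val = !![a, 0; 0, a⁻¹]) (hy : y.1.val = !![a, 0; 0, 1])
    (ha : a ≠ 0) : Rel hF x y := by
  refine rel_of_swap hF _ (swap23_mem hF) ?_
  show !![-1, 0, 0; 0, 0, 1; 0, 1, 0] * extMat x.1 = extMat y.1 * !![-1, 0, 0; 0, 0, 1; 0, 1, 0]
  simp only [extMat, hx, hy]
  ext i j
  fin_cases i <;> fin_cases j <;> simp [Matrix.mul_apply, Fin.sum_univ_three, ha]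

theorem exists_norm_root {a : F} (ha : a ^ q = a) : ∃ s : F, s * s ^ q = a := by
  obtain ⟨b, hb⟩ := (Cfsg.Lib.Classical.powConj_isConj hF).norm_surjective (a := a)
    (by rw [← pow_eq hF]; exact ha)
  exact ⟨b, by rw [pow_eq hF]; exact hb⟩

theorem two_ne_zero' (hodd : Odd q) : (2 : F) ≠ 0 := by
  intro h
  obtain ⟨p, hp⟩ := CharP.exists F
  obtain ⟨k, hk, hc⟩ := FiniteField.card F p
  have h2 : p ∣ 2 := (CharP.cast_eq_zero_iff F p 2).mp (by exact_mod_cast h)
  have : p = 2 := (Nat.prime_dvd_prime_iff_eq hk Nat.prime_two).mp h2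
  subst this
  have he : Even (q ^ 2) := by
    rw [← hF, hc]
    exact Nat.even_pow.mpr ⟨even_two, k.pos.ne'⟩
  exact Nat.not_odd_iff_even.mpr (Nat.even_pow.mp he).1 hodd

/-- All involutions of `GU₂` fuse in `PSU₃`. -/
theorem rel_involutions (hodd : Odd q) {x y : Cfsg.GU 2 F q} (hx : orderOf x = 2) (hy : orderOf y = 2) :
    Rel hF x y := by
  have h2 := two_ne_zero' hF hodd
  have hq0 : (0 : F) ^ q = 0 := zero_pow (q_ne_zero hF)
  have hm1 : (-1 : F) ^ q = -1 := Odd.neg_one_pow hodd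
  let d : Cfsg.GU 2 F q := ⟨Matrix.GeneralLinearGroup.mkOfDetNeZero !![(1 : F), 0; 0, -1] (by simp), by
    refine Cfsg.Lib.SylowTwo.mem_preserving_of_cols hF _ ?_ ?_ ?_ ?_ <;>
      simp [Matrix.GeneralLinearGroup.mkOfDetNeZero, hq0, hm1]⟩
  have key : ∀ z : Cfsg.GU 2 F q, orderOf z = 2 → Rel hF d z := by
    intro z hz
    have hzz : z * z = 1 := by
      have h := pow_orderOf_eq_one z
      rwa [hz, pow_two] at h
    have hz1 : z ≠ 1 := fun e => by rw [e, orderOf_one] at hz; omega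
    by_cases hneg : z.1 = -1
    · refine Rel.symm' hF (rel_of_swap hF _ (swap13_mem hF) ?_)
      show !![0, 0, 1; 0, -1, 0; 1, 0, 0] * extMat z.1 = extMat d.1 * !![0, 0, 1; 0, -1, 0; 1, 0, 0]
      rw [hneg]
      ext i j
      fin_cases i <;> fin_cases j <;>
        simp [d, extMat, Matrix.GeneralLinearGroup.mkOfDetNeZero, Matrix.mul_apply, Fin.sum_univ_three]
    have hzz' : z.1 * z.1 = 1 := congrArg Subtype.val hzz
    have h := congrArg (fun u : GL (Fin 2) F => (u.val 0 0, u.val 0 1, u.val 1 0, u.val 1 1)) hzz'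
    simp [Matrix.mul_apply, Fin.sum_univ_two] at h
    obtain ⟨e00, e01, e10, e11⟩ := h
    have htr : z.1.val 0 0 + z.1.val 1 1 = 0 := by
      by_contra ht
      have hb : z.1.val 0 1 = 0 := (mul_eq_zero.mp
        (show (z.1.val 0 0 + z.1.val 1 1) * z.1.val 0 1 = 0 by linear_combination e01)).resolve_left ht
      have hc : z.1.val 1 0 = 0 := (mul_eq_zero.mp
        (show (z.1.val 0 0 + z.1.val 1 1) * z.1.val 1 0 = 0 by linear_combination e10)).resolve_left ht
      rw [hb, zero_mul, add_zero] at e00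
      rw [hb, mul_zero, zero_add] at e11
      have had : z.1.val 0 0 = z.1.val 1 1 := by
        have h3 : (z.1.val 0 0 + z.1.val 1 1) * (z.1.val 0 0 - z.1.val 1 1) = 0 := by
          linear_combination e00 - e11
        exact sub_eq_zero.mp ((mul_eq_zero.mp h3).resolve_left ht)
      rcases mul_self_eq_one_iff.mp e00 with ha | ha
      · refine hz1 (Subtype.ext (Units.ext ?_))
        ext i j
        fin_cases i <;> fin_cases j <;> simp [hb, hc, ha, ← had]
      · refine hneg (Units.ext ?_)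
        ext i j
        fin_cases i <;> fin_cases j <;> simp [hb, hc, ha, ← had]
    have hd : z.1.val 1 1 = -z.1.val 0 0 := by linear_combination htr
    obtain ⟨ha, hc⟩ := adjoint_of_sq hF z.2 (ε := 1) (by
      rw [one_smul]
      exact congrArg Units.val hzz')
    rw [one_mul] at ha hc
    set a := z.1.val 0 0 with hadef
    set b := z.1.val 0 1 with hbdef
    by_cases ha1 : a = -1
    · have hbb : b * z.1.val 1 0 = 0 := by rw [ha1] at e00; linear_combination e00
      rw [hc] at hbb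
      have hb : b = 0 := by
        rcases mul_eq_zero.mp hbb with h | h
        · exact h
        · exact pow_eq_zero_iff (q_ne_zero hF) |>.mp h
      have hc0 : z.1.val 1 0 = 0 := by rw [hc, hb, hq0]
      refine rel_of_conj hF (Matrix.GeneralLinearGroup.mkOfDetNeZero !![0, 1; 1, 0] (by simp)) ?_ ?_
      · refine Cfsg.Lib.SylowTwo.mem_preserving_of_cols hF _ ?_ ?_ ?_ ?_ <;>
          simp [Matrix.GeneralLinearGroup.mkOfDetNeZero, hq0]
      · refine Units.ext ?_
        ext i j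
        fin_cases i <;> fin_cases j <;>
          simp [d, Matrix.GeneralLinearGroup.mkOfDetNeZero, Matrix.mul_apply, Fin.sum_univ_two, ← hadef,
            ← hbdef, ha1, hb, hc0, hd]
    have h2q : (2 : F) ^ q = 2 := by rw [pow_eq hF, map_ofNat]
    have hN : (2 * (1 + a)) ^ q = 2 * (1 + a) := by
      rw [mul_pow, add_pow' hF, one_pow, h2q, ← ha]
    have hN0 : 2 * (1 + a) ≠ 0 := mul_ne_zero h2 fun h => ha1 (by linear_combination h)
    obtain ⟨s, hs⟩ := exists_norm_root hF hN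
    have hs0 : s ≠ 0 := fun h => hN0 (by rw [← hs, h, zero_mul])
    have hsq0 : s ^ q ≠ 0 := pow_ne_zero _ hs0
    rw [hc] at e00
    refine rel_of_conj hF (Matrix.GeneralLinearGroup.mkOfDetNeZero
      !![(1 + a) / s, -b / s; b ^ q / s, (1 + a) / s] (by
        rw [Matrix.det_fin_two_of, show (1 + a) / s * ((1 + a) / s) - -b / s * (b ^ q / s) =
          (2 * (1 + a)) / (s * s) by field_simp; linear_combination e00]
        exact div_ne_zero hN0 (mul_ne_zero hs0 hs0))) ?_ ?_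
    · refine Cfsg.Lib.SylowTwo.mem_preserving_of_cols hF _ ?_ ?_ ?_ ?_ <;>
        simp [Matrix.GeneralLinearGroup.mkOfDetNeZero, div_pow, add_pow' hF, neg_pow' hF, ← ha, invol hF] <;>
        field_simp <;>
        first
          | ring1
          | linear_combination e00 - hs
          | linear_combination -e00 + hs
    · refine Units.ext ?_
      ext i j
      fin_cases i <;> fin_cases j <;>
        simp [d, Matrix.GeneralLinearGroup.mkOfDetNeZero, Matrix.mul_apply, Fin.sum_univ_two, ← hadef, ← hbdef,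
          hd, hc] <;>
        field_simp <;>
        first
          | ring1
          | linear_combination e00
          | linear_combination -e00
  exact (key x hx).symm' hF |>.trans' hF (key y hy)

/-- All elements of order four of `GU₂` fuse when `q ≡ 1 (mod 4)`. -/
theorem rel_fours (hq : q % 4 = 1) {x y : Cfsg.GU 2 F q} (hx : orderOf x = 4) (hy : orderOf y = 4) :
    Rel hF x y := by
  have hodd : Odd q := Nat.odd_iff.mpr (by omega)
  have h2 := two_ne_zero' hF hodd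
  have hq0 : (0 : F) ^ q = 0 := zero_pow (q_ne_zero hF)
  have hm1 : (-1 : F) ^ q = -1 := Odd.neg_one_pow hodd
  let J : Cfsg.GU 2 F q := ⟨Matrix.GeneralLinearGroup.mkOfDetNeZero !![(0 : F), 1; -1, 0] (by simp), by
    refine Cfsg.Lib.SylowTwo.mem_preserving_of_cols hF _ ?_ ?_ ?_ ?_ <;>
      simp [Matrix.GeneralLinearGroup.mkOfDetNeZero, hq0, hm1]⟩
  have key : ∀ z : Cfsg.GU 2 F q, orderOf z = 4 → Rel hF J z := by
    intro z hz
    have h1 : z.1 * z.1 ≠ 1 := fun e => by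
      have := Nat.le_of_dvd two_pos (orderOf_dvd_of_pow_eq_one
        ((pow_two z).trans (Subtype.ext e : z * z = 1)))
      omega
    have h22 : (z.1 * z.1) * (z.1 * z.1) = 1 := by
      have h := congrArg Subtype.val (pow_orderOf_eq_one z)
      rw [hz, SubgroupClass.coe_pow] at h
      refine Eq.trans ?_ h
      simp [pow_succ, mul_assoc]
    have hsq : z.1 * z.1 = -1 := by
      by_contra hne
      set w := z.1 * z.1 with hw
      have hdet : w.val.det = z.1.val.det * z.1.val.det := by rw [hw, Units.val_mul, Matrix.det_mul]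
      have h := congrArg (fun u : GL (Fin 2) F => (u.val 0 0, u.val 0 1, u.val 1 0, u.val 1 1)) h22
      simp [Matrix.mul_apply, Fin.sum_univ_two] at h
      obtain ⟨e00, e01, e10, e11⟩ := h
      have hdd : z.1.val.det * z.1.val.det = -1 := by
        rw [← hdet, Matrix.det_fin_two]
        by_cases ht : w.val 0 0 + w.val 1 1 = 0
        · linear_combination (w.val 0 0) * ht - e00
        · exfalso
          have hb : w.val 0 1 = 0 := (mul_eq_zero.mp
            (show (w.val 0 0 + w.val 1 1) * w.val 0 1 = 0 by linear_combination e01)).resolve_left ht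
          have hc : w.val 1 0 = 0 := (mul_eq_zero.mp
            (show (w.val 0 0 + w.val 1 1) * w.val 1 0 = 0 by linear_combination e10)).resolve_left ht
          rw [hb, zero_mul, add_zero] at e00
          rw [hb, mul_zero, zero_add] at e11
          have had : w.val 0 0 = w.val 1 1 := by
            have h3 : (w.val 0 0 + w.val 1 1) * (w.val 0 0 - w.val 1 1) = 0 := by linear_combination e00 - e11
            exact sub_eq_zero.mp ((mul_eq_zero.mp h3).resolve_left ht)
          rcases mul_self_eq_one_iff.mp e00 with ha | ha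
          · refine h1 (Units.ext ?_)
            ext i j
            fin_cases i <;> fin_cases j <;> simp [hb, hc, ha, ← had]
          · refine hne (Units.ext ?_)
            ext i j
            fin_cases i <;> fin_cases j <;> simp [hb, hc, ha, ← had]
      -- the determinant has norm one
      have hn := det_norm hF z.2
      rw [← Matrix.det_fin_two] at hn
      set δ := z.1.val.det
      have h4 : δ ^ 4 = 1 := by linear_combination (δ * δ - 1) * hdd
      have hδ : δ * δ ^ q = δ * δ := by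
        congr 1
        obtain ⟨j, hj⟩ : ∃ j, q = 4 * j + 1 := ⟨q / 4, by omega⟩
        rw [hj, pow_add, pow_mul, h4, one_pow, pow_one, one_mul]
      rw [hδ, hdd] at hn
      exact h2 (by linear_combination -hn)
    have h := congrArg (fun u : GL (Fin 2) F => (u.val 0 0, u.val 0 1, u.val 1 0, u.val 1 1)) hsq
    simp [Matrix.mul_apply, Fin.sum_univ_two] at h
    obtain ⟨e00, e01, e10, e11⟩ := h
    obtain ⟨ha, hc⟩ := adjoint_of_sq hF z.2 (ε := -1) (by
      rw [neg_smul, one_smul]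
      exact congrArg Units.val hsq)
    set a := z.1.val 0 0 with hadef
    set b := z.1.val 0 1 with hbdef
    set c := z.1.val 1 0 with hcdef
    have haq : a ^ q = -a := by linear_combination ha
    have hcq : c ^ q = -b := by
      rw [hc, neg_one_mul, neg_pow' hF, invol hF]
    have hc0 : c ≠ 0 := by
      intro h0
      rw [h0, mul_zero, add_zero] at e00
      have h4 : a ^ 4 = 1 := by linear_combination (a * a - 1) * e00
      obtain ⟨j, hj⟩ : ∃ j, q = 4 * j + 1 := ⟨q / 4, by omega⟩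
      rw [hj, pow_add, pow_mul, h4, one_pow, pow_one, one_mul] at haq
      have : (2 : F) * a = 0 := by linear_combination haq
      rw [(mul_eq_zero.mp this).resolve_left h2, zero_mul] at e00
      exact h2 (by linear_combination 2 * e00)
    have htr : z.1.val 1 1 = -a := by
      have : c * (a + z.1.val 1 1) = 0 := by linear_combination e10
      linear_combination (mul_eq_zero.mp this).resolve_left hc0
    have h2q : (2 : F) ^ q = 2 := by rw [pow_eq hF, map_ofNat]
    have hbq : b ^ q = -c := by linear_combination hc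
    have hM : b * b ^ q = 1 + a * a := by rw [hbq]; linear_combination -e00
    obtain ⟨u, hu, hu2⟩ : ∃ u : F, u * u ^ q = 1 + a * a ∧ u + u ^ q - 2 ≠ 0 := by
      by_cases hb2 : b + b ^ q - 2 = 0
      · refine ⟨-b, by rw [neg_pow' hF, neg_mul_neg, hM], fun h => ?_⟩
        rw [neg_pow' hF] at h
        have h4 : (2 : F) * 2 = 0 := by linear_combination -hb2 - h
        exact h2 ((mul_eq_zero.mp h4).elim id id)
      · exact ⟨b, hM, hb2⟩
    have hM0 : 1 + a * a ≠ 0 := by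
      intro h
      have hb0 : b = 0 := by
        have h' : b * b ^ q = 0 := by rw [hM, h]
        rcases mul_eq_zero.mp h' with h | h
        · exact h
        · exact pow_eq_zero_iff (q_ne_zero hF) |>.mp h
      rw [hb0, hq0] at hbq
      exact hc0 (neg_eq_zero.mp hbq.symm)
    have hu0 : u ≠ 0 := fun h => hM0 (by rw [← hu, h, zero_mul])
    have hmapu : (1 + a * a) ^ q = 1 + a * a := by
      rw [add_pow' hF, one_pow, mul_pow, haq, neg_mul_neg]
    have hNq : ((1 + a * a) * (2 - u - u ^ q)) ^ q = (1 + a * a) * (2 - u - u ^ q) := by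
      rw [mul_pow, hmapu, sub_eq_add_neg, sub_eq_add_neg, add_pow' hF, add_pow' hF, neg_pow' hF, neg_pow' hF,
        h2q, invol hF]
      ring
    obtain ⟨s, hs⟩ := exists_norm_root hF hNq
    have hN0 : (1 + a * a) * (2 - u - u ^ q) ≠ 0 :=
      mul_ne_zero hM0 fun h => hu2 (by linear_combination -h)
    have hs0 : s ≠ 0 := fun h => hN0 (by rw [← hs, h, zero_mul])
    have hsq0 : s ^ q ≠ 0 := pow_ne_zero _ hs0
    refine rel_of_conj hF (Matrix.GeneralLinearGroup.mkOfDetNeZero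
      !![a * u / s, (u - 1 - a * a) / s; (u - 1) * c / s, -(a * c) / s] (by
        rw [Matrix.det_fin_two_of, show a * u / s * (-(a * c) / s) - (u - 1 - a * a) / s * ((u - 1) * c / s) =
          -(c * (u * (u + u ^ q - 2))) / (s * s) by field_simp; linear_combination hu]
        exact div_ne_zero (neg_ne_zero.mpr (mul_ne_zero hc0 (mul_ne_zero hu0 hu2))) (mul_ne_zero hs0 hs0))) ?_ ?_
    · have hsub1 : (u - 1) ^ q = u ^ q - 1 := by rw [pow_eq hF, map_sub, map_one, ← pow_eq hF]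
      have hsub2 : (u - 1 - a * a) ^ q = u ^ q - 1 - a * a := by
        rw [pow_eq hF, map_sub, map_sub, map_one, map_mul, ← pow_eq hF, ← pow_eq hF, haq]
        ring
      refine Cfsg.Lib.SylowTwo.mem_preserving_of_cols hF _ ?_ ?_ ?_ ?_ <;>
        simp [Matrix.GeneralLinearGroup.mkOfDetNeZero, div_pow, neg_pow' hF, hsub1, hsub2, mul_pow, haq, hcq] <;>
        field_simp
      · linear_combination hu - (u - 1) * (u ^ q - 1) * e00 - hs
      · linear_combination hu + (a * a) * e00 - hs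
      · linear_combination a * hu - a * (u - 1) * e00
      · linear_combination -a * hu + a * (u ^ q - 1) * e00
    · refine Units.ext ?_
      ext i j
      fin_cases i <;> fin_cases j <;>
        simp [J, Matrix.GeneralLinearGroup.mkOfDetNeZero, Matrix.mul_apply, Fin.sum_univ_two, ← hadef, ← hbdef,
          ← hcdef, htr] <;>
        field_simp <;>
        first
          | ring1
          | linear_combination (u - 1) * e00
          | linear_combination -(u - 1) * e00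
          | linear_combination a * e00
          | linear_combination -a * e00
  exact (key x hx).symm' hF |>.trans' hF (key y hy)

theorem factorization_card (hodd : Odd q) :
    (Nat.card (Cfsg.PSU 3 F q)).factorization 2 = (Nat.card (Cfsg.GU 2 F q)).factorization 2 := by
  have h := Cfsg.Lib.Classical.card_SU_mul hF (n := 3) (by norm_num)
  have hc := Cfsg.Lib.Classical.card_center_SU hF (n := 3) (by norm_num)
  have hq : Cfsg.Lib.Classical.cardGUFormula q 3 = (q + 1) * ((q * ((q + 1) * (q ^ 2 - 1))) * (q ^ 2 * (q * (q - 1) + 1))) := by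
    simp [Cfsg.Lib.Classical.cardGUFormula, Finset.prod_range_succ]
    obtain ⟨r, rfl⟩ : ∃ r, q = r + 1 := ⟨q - 1, by have := hodd.pos; omega⟩
    simp only [Nat.add_sub_cancel]
    ring
  have hsu : Nat.card (Cfsg.SU 3 F q) =
      Nat.card (Cfsg.GU 2 F q) * (q ^ 2 * (q * (q - 1) + 1)) := by
    rw [Cfsg.Lib.SylowTwo.card_GU_two hF]
    exact Nat.eq_of_mul_eq_mul_left (Nat.succ_pos q) (h.trans hq)
  have hgodd : Odd (Nat.gcd 3 (q + 1)) := Odd.of_dvd_nat (by decide) (Nat.gcd_dvd_left _ _)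
  have hrest : Odd (q ^ 2 * (q * (q - 1) + 1)) := by
    rw [Nat.odd_mul, Nat.odd_pow_iff two_ne_zero]
    refine ⟨hodd, Even.add_one ?_⟩
    exact Even.mul_left (Nat.Odd.sub_odd hodd odd_one) _
  have e : Nat.card (Cfsg.PSU 3 F q) * Nat.gcd 3 (q + 1) =
      Nat.card (Cfsg.GU 2 F q) * (q ^ 2 * (q * (q - 1) + 1)) := by
    rw [← hsu, ← hc]
    exact (Subgroup.card_eq_card_quotient_mul_card_subgroup _).symm
  have e2 := congrArg (fun N => N.factorization 2) e
  have hG : Nat.card (Cfsg.GU 2 F q) ≠ 0 := Nat.card_pos.ne'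
  rw [Nat.factorization_mul Nat.card_pos.ne' hgodd.pos.ne', Nat.factorization_mul hG hrest.pos.ne',
    Finsupp.add_apply, Finsupp.add_apply,
    Nat.factorization_eq_zero_of_not_dvd (fun hd => Nat.not_odd_iff_even.mpr (even_iff_two_dvd.mpr hd) hgodd),
    Nat.factorization_eq_zero_of_not_dvd (fun hd => Nat.not_odd_iff_even.mpr (even_iff_two_dvd.mpr hd) hrest),
    add_zero, add_zero] at e2
  exact e2

/-- A model of a Sylow 2-subgroup. -/
theorem exists_chi (hodd : Odd q) (S : Sylow 2 (Cfsg.PSU 3 F q)) {D : Type*} [Group D] [Finite D]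
    (φ : D →* Cfsg.GU 2 F q) (hφ : Function.Injective φ)
    (hcard : Nat.card D = 2 ^ (Nat.card (Cfsg.GU 2 F q)).factorization 2) :
    ∃ χ : D →* Cfsg.PSU 3 F q, Function.Injective χ ∧ χ.range = (S : Subgroup (Cfsg.PSU 3 F q)) ∧
      ∀ x y : D, Rel hF (φ x) (φ y) → ∃ g, g * χ x * g⁻¹ = χ y := by
  haveI : Fact (Nat.Prime 2) := ⟨Nat.prime_two⟩
  let χ₀ : D →* Cfsg.PSU 3 F q := (proj hF).comp φ
  have hinj : Function.Injective χ₀ := by
    rw [injective_iff_map_eq_one]
    intro x hx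
    have h3 : x ^ 3 = 1 := hφ (by rw [map_pow, map_one]; exact pow_three_of_proj hF hx)
    refine orderOf_eq_one_iff.mp (Nat.eq_one_of_dvd_coprimes ?_ (orderOf_dvd_natCard x)
      (orderOf_dvd_of_pow_eq_one h3))
    rw [hcard]
    exact Nat.Coprime.pow_left _ (by decide)
  have hc : Nat.card χ₀.range = 2 ^ (Nat.card (Cfsg.PSU 3 F q)).factorization 2 := by
    rw [← Nat.card_congr (MonoidHom.ofInjective hinj).toEquiv, hcard, factorization_card hF hodd]
  obtain ⟨k, hk⟩ := MulAction.exists_smul_eq (Cfsg.PSU 3 F q) (Sylow.ofCard χ₀.range hc) S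
  refine ⟨(MulAut.conj k).toMonoidHom.comp χ₀, (MulAut.conj k).injective.comp hinj, ?_, fun x y h => ?_⟩
  · rw [← hk, Sylow.coe_subgroup_smul, Sylow.coe_ofCard, MonoidHom.range_comp]
    rfl
  · obtain ⟨g, hg⟩ := h
    refine ⟨k * g * k⁻¹, ?_⟩
    show k * g * k⁻¹ * (k * χ₀ x * k⁻¹) * (k * g * k⁻¹)⁻¹ = k * χ₀ y * k⁻¹
    rw [show χ₀ y = proj hF (φ y) from rfl, ← hg]
    simp [χ₀, mul_assoc]

theorem isSimple_one_mod_four (hq : q % 4 = 1) (S : Sylow 2 (Cfsg.PSU 3 F q)) :
    (Cfsg.groupFusionSystem (S : Subgroup (Cfsg.PSU 3 F q))).IsSimple 2 := by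
  haveI : Fact (Nat.Prime 2) := ⟨Nat.prime_two⟩
  have hodd : Odd q := Nat.odd_iff.mpr (by omega)
  obtain ⟨P⟩ : Nonempty (Sylow 2 (Cfsg.GU 2 F q)) := inferInstance
  have hQD := Cfsg.Lib.SylowTwo.gu_quasiDihedral hF hq P
  haveI : Nontrivial (P : Subgroup (Cfsg.GU 2 F q)) := by
    obtain ⟨n, -, hc, -⟩ := hQD
    exact Finite.one_lt_card_iff_nontrivial.mp (hc ▸ Nat.one_lt_two_pow (by omega))
  have hinj := (P : Subgroup (Cfsg.GU 2 F q)).subtype_injective
  obtain ⟨χ, hχ, hr, hrel⟩ := exists_chi hF hodd S _ hinj P.card_eq_multiplicity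
  refine isSimple_of_gen S χ hχ hr (Cfsg.Lib.MetaTwo.isPGroup_mulAut_quasiDihedral hQD) fun K hK hcl => ?_
  refine eq_top_of_quasiDihedral hQD K hK (fun x y hx hy hxK => ?_) (fun x y hx hy hxK => ?_)
  · obtain ⟨g, hg⟩ := hrel x y (rel_involutions hF hodd (by rw [orderOf_injective _ hinj, hx])
      (by rw [orderOf_injective _ hinj, hy]))
    exact hcl g x y hxK hg
  · obtain ⟨g, hg⟩ := hrel x y (rel_fours hF hq (by rw [orderOf_injective _ hinj, hx])
      (by rw [orderOf_injective _ hinj, hy]))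
    exact hcl g x y hxK hg

theorem isSimple_three_mod_four (hq : q % 4 = 3) (S : Sylow 2 (Cfsg.PSU 3 F q)) :
    (Cfsg.groupFusionSystem (S : Subgroup (Cfsg.PSU 3 F q))).IsSimple 2 := by
  haveI : Fact (Nat.Prime 2) := ⟨Nat.prime_two⟩
  have hodd : Odd q := Nat.odd_iff.mpr (by omega)
  obtain ⟨w, m, hm, hwm⟩ := Nat.exists_eq_two_pow_mul_odd (n := q + 1) (by omega)
  have hw : 2 ≤ w := by
    by_contra h
    obtain ⟨k, rfl⟩ := hm
    rcases (show w = 0 ∨ w = 1 by omega) with rfl | rfl <;> simp at hwm <;> omega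
  have hsq : q ^ 2 - 1 = (q + 1) * (q - 1) := by rw [← Nat.sq_sub_sq, one_pow]
  obtain ⟨ζ, hζ⟩ := Cfsg.Lib.SylowTwo.exists_orderOf_units (F := F) (show 2 ^ w ∣ Fintype.card F - 1 by
    rw [hF, hsq, hwm]; exact dvd_mul_of_dvd_left (dvd_mul_right _ _) _)
  have hnorm : ∀ k : ℕ, (ζ : F) ^ k * ((ζ : F) ^ k) ^ q = 1 := fun k => by
    rw [← pow_mul, ← pow_add, show k + k * q = (q + 1) * k by ring, pow_mul, ← Units.val_pow_eq_pow_val,
      hwm, pow_mul, ← hζ, pow_orderOf_eq_one, one_pow, Units.val_one, one_pow]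
  have hq0 : (0 : F) ^ q = 0 := zero_pow (by omega)
  have hin : ∀ p : Wr w, Cfsg.Lib.SylowTwo.monoHom ζ hζ p ∈ Cfsg.GU 2 F q := by
    intro p
    refine Cfsg.Lib.SylowTwo.mem_preserving_of_cols hF _ ?_ ?_ ?_ ?_ <;>
      rw [Cfsg.Lib.SylowTwo.monoHom_coe] <;>
      rcases p with ⟨a, b, _ | _⟩ <;> simp [Cfsg.Lib.SylowTwo.monoMat, hnorm, hq0]
  set φ : Wr w →* Cfsg.GU 2 F q := (Cfsg.Lib.SylowTwo.monoHom ζ hζ).codRestrict _ hin
  have hφ : Function.Injective φ :=
    (MonoidHom.injective_codRestrict _ _ hin).mpr (Cfsg.Lib.SylowTwo.monoHom_injective ζ hζ)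
  have hcard : Nat.card (Wr w) = 2 ^ (Nat.card (Cfsg.GU 2 F q)).factorization 2 := by
    obtain ⟨r, hr, hro⟩ : ∃ r, q - 1 = 2 * r ∧ Odd r := ⟨(q - 1) / 2, by omega, Nat.odd_iff.mpr (by omega)⟩
    rw [Wr.card_eq, Cfsg.Lib.SylowTwo.card_GU_two hF, hsq, hwm, hr,
      show q * (2 ^ w * m * (2 ^ w * m * (2 * r))) = 2 ^ (2 * w + 1) * (q * (m * (m * r))) by ring,
      Cfsg.Lib.SylowTwo.factorization_two (hodd.mul (hm.mul (hm.mul hro)))]
  haveI : Nontrivial (Wr w) := ⟨⟨0, 0, true⟩, 1, fun h => by simpa using congrArg Wr.e h⟩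
  haveI : NeZero (2 ^ w) := ⟨(Nat.two_pow_pos w).ne'⟩
  obtain ⟨χ, hχ, hr, hrel⟩ := exists_chi hF hodd S φ hφ hcard
  refine isSimple_of_gen S χ hχ hr (Cfsg.Lib.MetaTwo.isPGroup_mulAut_wr hw) fun K hK hcl => ?_
  refine eq_top_of_wreathed hw K hK (fun x y hx hy hxK => ?_) (fun i hi => ?_)
  · obtain ⟨g, hg⟩ := hrel x y (rel_involutions hF hodd (by rw [orderOf_injective _ hφ, hx])
      (by rw [orderOf_injective _ hφ, hy]))
    exact hcl g x y hxK hg
  · have hinv : (ζ : F) ^ (-i).val = ((ζ : F) ^ i.val)⁻¹ := by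
      refine eq_inv_of_mul_eq_one_left ?_
      rw [← Cfsg.Lib.SylowTwo.pow_val_add hζ, neg_add_cancel, ZMod.val_zero, pow_zero]
    obtain ⟨g, hg⟩ := hrel ⟨i, -i, false⟩ ⟨i, 0, false⟩ (rel_torus hF ((ζ : F) ^ i.val)
      (by
        show (Cfsg.Lib.SylowTwo.monoHom ζ hζ ⟨i, -i, false⟩).val = _
        rw [Cfsg.Lib.SylowTwo.monoHom_coe]
        simp [Cfsg.Lib.SylowTwo.monoMat, hinv])
      (by
        show (Cfsg.Lib.SylowTwo.monoHom ζ hζ ⟨i, 0, false⟩).val = _
        rw [Cfsg.Lib.SylowTwo.monoHom_coe]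
        simp [Cfsg.Lib.SylowTwo.monoMat])
      (pow_ne_zero _ ζ.ne_zero))
    exact hcl g _ _ hi hg

end Cfsg.Lib.Fusion.UnitaryThree
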