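import Cfsg.Agent.Fusion.SmallElements

/-!
Criteria by the elements of order `p` and `4` of the focal and hyperfocal subgroups.
-/

set_option autoImplicit false

namespace Cfsg.Lib.Fusion

open Cfsg Cfsg.FusionSystem

variable {Ω : Type*} [Group Ω] {S : Subgroup Ω} {F : FusionSystem S} {p : ℕ}

/-- The upper central series of `S`, in `Ω`. -/
def ucs (S : Subgroup Ω) (i : ℕ) : Subgroup Ω := (Subgroup.upperCentralSeries S i).map S.subtype

theorem conj_diff_mem_ucs {x s : Ω} (hs : s ∈ S) {i : ℕ} (hx : x ∈ ucs S (i + 1)) :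
    x⁻¹ * (s * x * s⁻¹) ∈ ucs S i := by
  obtain ⟨y, hy, rfl⟩ := hx
  have h1 := Subgroup.mem_upperCentralSeries_succ_iff.mp hy ⟨s, hs⟩
  have h2 : y⁻¹ * (⟨s, hs⟩ * y * (⟨s, hs⟩ : S)⁻¹) ∈ Subgroup.upperCentralSeries S i := by
    have := (inferInstance : (Subgroup.upperCentralSeries S i).Normal).conj_mem _ ((Subgroup.upperCentralSeries S i).inv_mem h1) y⁻¹
    convert this using 1
    group
  exact ⟨_, h2, rfl⟩

theorem orderOf_small [Fact p.Prime] {x : Ω} (hx : x ≠ 1) (h : IsSmall p x) :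
    orderOf x = p ∨ orderOf x = 4 := by
  rcases h with h | ⟨rfl, h⟩
  · exact Or.inl (((Nat.dvd_prime (Fact.out : p.Prime)).mp (orderOf_dvd_of_pow_eq_one h)).resolve_left
      (fun e => hx (orderOf_eq_one_iff.mp e)))
  · obtain ⟨j, hj, e⟩ := (Nat.dvd_prime_pow Nat.prime_two).mp
      ((orderOf_dvd_of_pow_eq_one h).trans (dvd_of_eq (by norm_num : 4 = 2 ^ 2)))
    interval_cases j
    · exact absurd (orderOf_eq_one_iff.mp (by simpa using e)) hx
    · exact Or.inl (by simpa using e)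
    · exact Or.inr (by simpa using e)

/-- Small elements of the hyperfocal subgroup moved only by conjugations: the system is inner. -/
theorem isPGroup_aut_of_small_conj [Fact p.Prime] [Finite S] (hS : IsPGroup p S)
    (h : ∀ (x : Ω) (f : Ω → Ω), x ∈ F.hyperfocalSubgroup p → IsSmall p x →
      IsMap F (Subgroup.zpowers x) f → ∃ s ∈ S, f x = s * x * s⁻¹)
    {P : Subgroup Ω} (hP : P ≤ S) : IsPGroup p (F.autGroup P) := by
  haveI := finite_of_le hP
  have hPp : IsPGroup p P := hS.of_injective _ (Subgroup.inclusion_injective hP)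
  refine pPart_reduce hP fun α hα hcop => eq_one_of_fix_small hS hP hα hcop ?_
  have key : ∀ i : ℕ, ∀ x : P, (x : Ω) ∈ F.hyperfocalSubgroup p → IsSmall p (x : Ω) →
      (x : Ω) ∈ ucs S i → α x = x := by
    intro i
    induction i with
    | zero =>
      intro x _ _ hx
      have h0 : (x : Ω) = 1 := by
        obtain ⟨y, hy, e⟩ := hx
        rw [Subgroup.upperCentralSeries_zero] at hy
        rw [← e, Subgroup.mem_bot.mp hy]; rfl
      rw [show x = 1 from Subtype.ext h0, map_one]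
    | succ i ih =>
      intro x hxH hxs hxi
      refine fix_of_diff_closure hPp hcop x fun w hw hs => ?_
      have hle : Subgroup.closure (Set.range fun j : ℕ => x⁻¹ * (α ^ j) x) ≤
          (F.hyperfocalSubgroup p ⊓ ucs S i).comap P.subtype :=
        (Subgroup.closure_le _).mpr fun _ ⟨j, hj⟩ => by
          subst hj
          have hαj := (F.autGroup P).pow_mem hα j
          obtain ⟨s, hs', e⟩ := h x _ hxH hxs
            (((isMap_autFun hP).mpr hαj).mono (Subgroup.zpowers_le.mpr x.2))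
          refine ⟨mem_hyperfocal_of_pPrime hP hαj (hcop.coprime_dvd_left (orderOf_pow_dvd j)) x, ?_⟩
          show (x : Ω)⁻¹ * ((α ^ j) x : P) ∈ ucs S i
          rw [← autFun_apply (α ^ j) x, e]
          exact conj_diff_mem_ucs hs' hxi
      refine ih w (hle hw).1 (hs.imp (fun e => ?_) fun ⟨a, e⟩ => ⟨a, ?_⟩) (hle hw).2
      · rw [← Subgroup.coe_pow, e, Subgroup.coe_one]
      · rw [← Subgroup.coe_pow, e, Subgroup.coe_one]
  intro x hxH hxs
  haveI := hS.isNilpotent
  obtain ⟨n, hn⟩ := Group.IsNilpotent.nilpotent (G := S)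
  exact key n x hxH hxs ⟨⟨x, hP x.2⟩, by rw [hn]; exact Subgroup.mem_top _, rfl⟩

theorem central_of_normal_prime [Fact p.Prime] (hS : IsPGroup p S) {x : Ω} (hx : x ^ p = 1)
    {s : Ω} (hs : s ∈ S) (hn : s * x * s⁻¹ ∈ Subgroup.zpowers x) : s * x * s⁻¹ = x := by
  obtain ⟨k, hk⟩ := hn
  simp only at hk
  obtain ⟨m, hm⟩ := hS ⟨s, hs⟩
  have hm' : s ^ p ^ m = 1 := congrArg Subtype.val hm
  have hiter : ∀ i : ℕ, s ^ i * x * (s ^ i)⁻¹ = x ^ (k ^ i : ℤ) := by
    intro i
    induction i with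
    | zero => simp
    | succ i ih =>
      have e1 : s ^ (i + 1) * x * (s ^ (i + 1))⁻¹ = MulAut.conj s (s ^ i * x * (s ^ i)⁻¹) := by
        rw [MulAut.conj_apply, pow_succ']
        group
      rw [e1, ih, map_zpow, MulAut.conj_apply, ← hk, ← zpow_mul, pow_succ']
  have h1 := hiter (p ^ m)
  rw [hm', one_mul, inv_one, mul_one] at h1
  have hcast : ((k ^ (p ^ m) : ℤ) : ZMod p) = (k : ZMod p) := by
    push_cast
    exact ZMod.pow_card_pow _
  have h2 : x ^ (k ^ (p ^ m) : ℤ) = x ^ k := by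
    rw [zpow_eq_zpow_iff_modEq]
    refine Int.ModEq.of_dvd (Int.natCast_dvd_natCast.mpr (orderOf_dvd_of_pow_eq_one hx)) ?_
    exact (ZMod.intCast_eq_intCast_iff _ _ _).mp hcast
  rw [← hk, ← h2, ← h1]

/-- Small elements of the focal subgroup generating normal subgroups of `S`: `S` is normal. -/
theorem isNormal_of_small_normal [Fact p.Prime] [Finite S] (hS : IsPGroup p S) (hF : F.IsSaturated p)
    (hnorm : ∀ x ∈ F.focalSubgroup, IsSmall p x → ∀ s ∈ S, s * x * s⁻¹ ∈ Subgroup.zpowers x) :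
    F.IsNormal S := by
  have hcent : ∀ x ∈ F.focalSubgroup, x ^ p = 1 → ∀ s ∈ S, s * x * s⁻¹ = x := fun x hx hp s hs =>
    central_of_normal_prime hS hp hs (hnorm x hx (Or.inl hp) s hs)
  refine isNormal_of_le_radical hS hF (stronglyClosed_of_apply le_rfl fun P f hf x hx _ => hf.mem_S hx)
    fun P hPn hPc hPr => ?_
  have hP := hPn.1
  haveI := finite_of_le hP
  have hPp : IsPGroup p P := hS.of_injective _ (Subgroup.inclusion_injective hP)
  have hfoc : ∀ α ∈ F.autGroup P, ∀ x : P, (x : Ω) ∈ F.focalSubgroup →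
      ((α x : P) : Ω) ∈ F.focalSubgroup := fun α hα x hx => by
    have h1 := mem_focalSubgroup ((isMap_autFun hP).mpr hα) x.2
    rw [autFun_apply] at h1
    simpa using F.focalSubgroup.mul_mem hx h1
  let B : Subgroup (MulAut P) :=
    { carrier := {α | α ∈ F.autGroup P ∧
        (∀ x : P, (x : Ω) ∈ F.focalSubgroup → x ^ p = 1 → α x = x) ∧
        (p = 2 → ∀ x : P, (x : Ω) ∈ F.focalSubgroup → x ^ 4 = 1 → (x⁻¹ * α x) ^ 2 = 1)}
      one_mem' := ⟨Subgroup.one_mem _, fun _ _ _ => rfl, fun _ x _ _ => by simp⟩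
      mul_mem' := by
        rintro α β ⟨ha, ha1, ha2⟩ ⟨hb, hb1, hb2⟩
        refine ⟨Subgroup.mul_mem _ ha hb, fun x hx hp => ?_, fun h2 x hx h4 => ?_⟩
        · rw [MulAut.mul_apply, hb1 x hx hp, ha1 x hx hp]
        · have hy4 : (β x) ^ 4 = 1 := by rw [← map_pow, h4, map_one]
          have hw := ha2 h2 (β x) (hfoc β hb x hx) hy4
          have hv := hb2 h2 x hx h4
          have hwf : (((β x)⁻¹ * α (β x) : P) : Ω) ∈ F.focalSubgroup := by
            have := mem_focalSubgroup ((isMap_autFun hP).mpr ha) (β x).2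
            rwa [autFun_apply] at this
          have hc := hcent _ hwf (h2 ▸ congrArg Subtype.val hw) (x⁻¹ * β x : P) (hP (x⁻¹ * β x).2)
          have hcomm : Commute (x⁻¹ * β x) ((β x)⁻¹ * α (β x)) := Subtype.ext (mul_inv_eq_iff_eq_mul.mp hc)
          have e : x⁻¹ * (α * β) x = (x⁻¹ * β x) * ((β x)⁻¹ * α (β x)) := by
            rw [MulAut.mul_apply]; group
          rw [e, hcomm.mul_pow, hv, hw, one_mul]
      inv_mem' := by
        rintro α ⟨ha, ha1, ha2⟩
        have hai := (F.autGroup P).inv_mem ha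
        refine ⟨hai, fun x hx hp => ?_, fun h2 x hx h4 => ?_⟩
        · conv_lhs => rw [← ha1 x hx hp]
          exact α.symm_apply_apply x
        · have hv := ha2 h2 (α⁻¹ x) (hfoc _ hai x hx) (by rw [← map_pow, h4, map_one])
          rw [show α (α⁻¹ x) = x from α.apply_symm_apply x] at hv
          rw [show x⁻¹ * α⁻¹ x = ((α⁻¹ x)⁻¹ * x)⁻¹ by group, inv_pow, hv, inv_one] }
  refine le_of_radical hS le_rfl Subgroup.le_normalizer hPc hPr B ?_ (fun α hα => hα.1) ?_ ?_
  · rintro γ hγ α ⟨ha, ha1, ha2⟩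
    have hgi := (F.autGroup P).inv_mem hγ
    refine ⟨Subgroup.mul_mem _ (Subgroup.mul_mem _ hγ ha) hgi, fun x hx hp => ?_, fun h2 x hx h4 => ?_⟩
    · rw [MulAut.mul_apply, MulAut.mul_apply, ha1 _ (hfoc _ hgi x hx) (by rw [← map_pow, hp, map_one])]
      exact γ.apply_symm_apply x
    · have hv := congrArg γ (ha2 h2 (γ⁻¹ x) (hfoc _ hgi x hx) (by rw [← map_pow, h4, map_one]))
      rw [map_pow, map_mul, map_inv, show γ (γ⁻¹ x) = x from γ.apply_symm_apply x, map_one] at hv
      exact hv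
  · refine pPart_reduce hP fun α hα hcop => eq_one_of_fix_small hS hP hα.1 hcop fun x hx hs => ?_
    have hx' := hyperfocalSubgroup_le_focalSubgroup F p hx
    rcases hs with hp' | ⟨h2, h4⟩
    · exact hα.2.1 x hx' (Subtype.ext hp')
    · refine fix_of_fix_diff hPp hcop (hα.2.1 _ ?_ (h2 ▸ hα.2.2 h2 x hx' (Subtype.ext h4)))
      have := mem_focalSubgroup ((isMap_autFun hP).mpr hα.1) x.2
      rwa [autFun_apply] at this
  · intro g hg hgn
    refine ⟨autInducedBy_le hP (conjAut_mem_autInducedBy hgn hg), fun x hx hp => Subtype.ext ?_,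
      fun h2 x hx h4 => Subtype.ext ?_⟩
    · rw [conjAut_apply hgn x]
      exact hcent x hx (congrArg Subtype.val hp) g hg
    · have h4' : (x : Ω) ^ 4 = 1 := congrArg Subtype.val h4
      obtain ⟨k, hk⟩ := hnorm x hx (Or.inr ⟨h2, h4'⟩) g hg
      simp only at hk
      rw [Subgroup.coe_pow, Subgroup.coe_mul, Subgroup.coe_inv, conjAut_apply hgn x, ← hk,
        Subgroup.coe_one]
      rcases Int.even_or_odd k with ⟨j, rfl⟩ | ⟨j, rfl⟩
      · have e : (x : Ω) ^ 2 = 1 := by
          have h5 : g * (x : Ω) ^ 2 * g⁻¹ = 1 := by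
            have e2 : (g * (x : Ω) * g⁻¹) ^ 2 = g * (x : Ω) ^ 2 * g⁻¹ := conj_pow
            rw [← e2, ← hk, ← zpow_natCast, ← zpow_mul]
            rw [show (j + j) * ((2 : ℕ) : ℤ) = ((4 : ℕ) : ℤ) * j by push_cast; ring, zpow_mul,
              zpow_natCast, h4', one_zpow]
          simpa [mul_inv_eq_one] using h5
        rw [← zpow_natCast, ← zpow_neg_one, ← zpow_add, ← zpow_mul,
          show (-1 + (j + j)) * ((2 : ℕ) : ℤ) = ((2 : ℕ) : ℤ) * (-1 + (j + j)) by ring, zpow_mul,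
          zpow_natCast, e, one_zpow]
      · rw [← zpow_natCast, ← zpow_neg_one, ← zpow_add, ← zpow_mul,
          show (-1 + (2 * j + 1)) * ((2 : ℕ) : ℤ) = ((4 : ℕ) : ℤ) * j by push_cast; ring, zpow_mul,
          zpow_natCast, h4', one_zpow]

end Cfsg.Lib.Fusion
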