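import Cfsg.Agent.Fusion.CharAut

/-!
Sparse fusion systems are constrained.
-/

set_option autoImplicit false

namespace Cfsg.Lib.Fusion

open Cfsg Cfsg.FusionSystem

universe u

variable {Ω : Type u} [Group Ω] {S : Subgroup Ω} {F : FusionSystem S} {p : ℕ}

theorem exists_conj_of_pgroup [Finite S] [Fact p.Prime] (hS : IsPGroup p S) (hF : F.IsSaturated p)
    {R : Subgroup Ω} (hR : F.IsFullyNormalized R) (hp : IsPGroup p (F.autGroup R))
    {f : Ω → Ω} (hf : IsMap F R f) (hi : img R f = R) : ∃ s ∈ S, ∀ x ∈ R, f x = s * x * s⁻¹ := by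
  haveI := finite_of_le hR.1
  obtain ⟨-, Rs, hRs⟩ := (fullyNormalized_props hS hF hR).2.1
  have hall : (⊤ : Subgroup (F.autGroup R)) = (autInducedBy S R).subgroupOf (F.autGroup R) := by
    rw [← hRs]
    exact Rs.3 (hp.to_subgroup ⊤) le_top
  obtain ⟨α, hα, he⟩ := hf.exists_aut hi
  obtain ⟨s, hs, e⟩ := mem_autInducedBy.mp
    (Subgroup.mem_subgroupOf.mp (hall ▸ Subgroup.mem_top (⟨α, hα⟩ : F.autGroup R)))
  exact ⟨s, hs, fun x hx => by rw [← he x hx, autFun_apply_mem _ hx]; exact e ⟨x, hx⟩⟩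

/-- If maps are conjugations by `S` on a normal subgroup and modulo it, automizers are `p`-groups. -/
theorem inner_of_conj_on_and_mod [Finite S] [Fact p.Prime] (hS : IsPGroup p S) (hF : F.IsSaturated p)
    {Q : Subgroup Ω} (hQ : F.IsNormal Q)
    (hon : ∀ f, IsMap F Q f → img Q f = Q → ∃ t ∈ S, ∀ x ∈ Q, f x = t * x * t⁻¹)
    {Ω' : Type u} [Group Ω'] (θ : S →* Ω') (hker : ∀ x ∈ S, qmap θ x = 1 ↔ x ∈ Q)
    (hmod : ∀ (R : Subgroup Ω) (f : Ω → Ω), IsMap F R f → Q ≤ R →
      ∃ s : S, ∀ x ∈ R, qmap θ (f x) = θ s * qmap θ x * (θ s)⁻¹) : IsInner F := by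
  rw [Cfsg.Agent.S5083.result p hS F hF fun P hP => ?_]
  · exact isInner_iff.mpr fun P => rfl
  intro α
  obtain ⟨k, hk, hkf, hki⟩ := extend_of_isNormal hQ ((isMap_autFun hP).mpr α.2)
  obtain ⟨γ, -, hγk⟩ := exists_aut_extension hk hkf hki
  have hRS : P ⊔ Q ≤ S := hk.le
  obtain ⟨s, es⟩ := hmod _ k hk le_sup_right
  obtain ⟨t, ht, et⟩ := hon k (hk.mono le_sup_right) hki
  have hγq : ∀ (m : ℕ), ∀ x ∈ P ⊔ Q,
      qmap θ (autFun (γ ^ m) x) = θ s ^ m * qmap θ x * (θ s ^ m)⁻¹ := by
    intro m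
    induction m with
    | zero => intro x hx; rw [pow_zero, autFun_one hx]; simp
    | succ m ihm =>
      intro x hx
      rw [pow_succ', autFun_mul _ _ hx, hγk _ (autFun_mem _ hx), es _ (autFun_mem _ hx), ihm x hx]
      group
  have hγQ : ∀ (m : ℕ), ∀ x ∈ Q, autFun (γ ^ m) x = t ^ m * x * (t ^ m)⁻¹ := by
    intro m
    induction m with
    | zero => intro x hx; rw [pow_zero, autFun_one (Subgroup.mem_sup_right hx)]; simp
    | succ m ihm =>
      intro x hx
      have hxi : k x ∈ Q := hki ▸ IsMap.apply_mem_img hx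
      rw [pow_succ, autFun_mul _ _ (Subgroup.mem_sup_right hx), hγk _ (Subgroup.mem_sup_right hx),
        ihm _ hxi, et x hx]
      group
  set γ1 := γ ^ Nat.card S
  have htS : t ^ Nat.card S = 1 := by
    have := congrArg Subtype.val (pow_card_eq_one' (x := (⟨t, ht⟩ : S)))
    simpa only [Subgroup.coe_pow, Subgroup.coe_one] using this
  have hfix' : ∀ x : (P ⊔ Q : Subgroup Ω), (x : Ω) ∈ Q → γ1 x = x := fun x hx =>
    Subtype.ext ((autFun_apply γ1 x).symm.trans (by rw [hγQ _ x hx, htS]; simp))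
  have hmod' : ∀ x : (P ⊔ Q : Subgroup Ω), ((x⁻¹ * γ1 x : (P ⊔ Q : Subgroup Ω)) : Ω) ∈ Q := by
    intro x
    refine (hker _ (hRS (x⁻¹ * γ1 x).2)).mp ?_
    have h1 := hγq (Nat.card S) x x.2
    rw [← map_pow, pow_card_eq_one', map_one, autFun_apply] at h1
    rw [Subgroup.coe_mul, Subgroup.coe_inv, qmap_mul (S.inv_mem (hRS x.2)) (hRS (γ1 x).2),
      qmap_inv (hRS x.2), h1]
    simp
  have hexp : ∀ x : (P ⊔ Q : Subgroup Ω), x ^ Nat.card S = 1 := fun x => Subtype.ext (by
    have := congrArg Subtype.val (pow_card_eq_one' (x := (⟨x, hRS x.2⟩ : S)))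
    simpa only [Subgroup.coe_pow, Subgroup.coe_one] using this)
  obtain ⟨m, hm'⟩ := IsPGroup.iff_card.mp hS
  refine ⟨m + m, Subtype.ext (eq_one_of_autFun fun x hx => ?_)⟩
  rw [Subgroup.coe_pow, pow_add, ← hm', ← autFun_pow_agree γ α.1 (le_sup_left : P ≤ P ⊔ Q)
    (fun y hy => (hγk y (Subgroup.mem_sup_left hy)).trans (hkf y hy)) _ x hx, pow_mul,
    chain_pow_eq_one γ1 Q hfix' hmod' hexp, autFun_one (Subgroup.mem_sup_left hx)]

/-- Every sparse system is constrained. -/
theorem constrained_of_sparse [Finite S] [Fact p.Prime] (hS : IsPGroup p S) (hF : F.IsSaturated p)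
    (hp : p ≠ 2 ∨ F.IsSectionFree p (Equiv.Perm (Fin 4))) (hne : ¬ IsInner F)
    (hsp : ∀ E : FusionSystem S, E.IsSaturated p → E.IsSubsystemOf F →
      (∀ P : Subgroup Ω, E.Hom P = F.Hom P) ∨ IsInner E) : F.IsConstrained p := by
  classical
  set Q := F.core
  have hQn : F.IsNormal Q := isNormal_core
  have hQS : Q ≤ S := hQn.1
  haveI := finite_of_le hQS
  have hQfn : F.IsFullyNormalized Q := fullyNormalized_of_isNormal hQn
  obtain ⟨hQfc, -, hQrec⟩ := fullyNormalized_props hS hF hQfn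
  by_cases hcen : centralizerIn S Q ≤ Q
  · exact ⟨hF, Q, hQn, centric_of_fullyCentralized hS hF hQfc hcen⟩
  exfalso
  have hSQ : S ≤ Subgroup.normalizer (Q : Set Ω) := fun g hg =>
    ((normalizerIn_of_isNormal hQn).ge hg).2
  -- a subgroup normalized by `S` above the core has inner maps
  have hsub : ∀ W : Subgroup Ω, W ≤ S → S ≤ Subgroup.normalizer (W : Set Ω) → ¬ W ≤ Q →
      ∀ f, IsMap F W f → img W f = W → ∃ s ∈ S, ∀ x ∈ W, f x = s * x * s⁻¹ := by
    intro W hW hn hWQ f hf hi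
    rcases hsp (normalizerTop F hW hn) (saturated_normalizerTop hS hF hW hn)
      (fun P φ hφ => hφ.1) with h | h
    · refine absurd ?_ hWQ
      refine le_sSup (isNormal_of_extendsWith hW fun P g hg => ?_)
      obtain ⟨φ, hφ, e⟩ := hg
      rw [← h P] at hφ
      exact (isMap_normalizerTop.mp ⟨φ, hφ, e⟩).2
    · exact h W f (isMap_normalizerTop.mpr
        ⟨hf, f, (sup_idem W).symm ▸ hf, fun _ _ => rfl, hi⟩)
  -- the maps on the core
  have hon : ∀ f, IsMap F Q f → img Q f = Q → ∃ t ∈ S, ∀ x ∈ Q, f x = t * x * t⁻¹ := by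
    intro f hf hi
    obtain ⟨k, hk, hkf⟩ := receptive_extend hQrec hf hi
    set X := Q ⊔ centralizerIn S Q
    have hXS : X ≤ S := sup_le hQS inf_le_left
    have hXe : X ≤ extSub S Q f := sup_le (le_extSub hf) (centralizerIn_le_extSub Q f)
    have hkQ : img Q k = Q := (img_congr hkf).trans hi
    haveI := finite_of_le hXS
    have hkX : img X k = X := by
      refine Subgroup.eq_of_le_of_card_ge ?_ (hk.mono hXe).card_img.ge
      rw [(hk.mono hXe).img_sup]
      refine sup_le_sup hkQ.le (IsMap.img_le_iff.mpr fun c hc => ?_)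
      have := (hk.mono hXe).mem_centralizerIn (P := Q) le_sup_left (Subgroup.mem_sup_right hc) hc
      rwa [hkQ] at this
    have hnX : S ≤ Subgroup.normalizer (X : Set Ω) := fun g hg => by
      refine mem_normalizer_of_maps_finite fun x hx => ?_
      have hm : IsMap F X (fun y => g * y * g⁻¹) := isMap_conj hXS hg
      have hle : img X (fun y => g * y * g⁻¹) ≤ X := by
        rw [hm.img_sup]
        refine sup_le_sup (IsMap.img_le_iff.mpr fun y hy => conj_mem_of_mem_normalizer (hSQ hg) hy)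
          (IsMap.img_le_iff.mpr fun c hc => ?_)
        have := hm.mem_centralizerIn (P := Q) le_sup_left (Subgroup.mem_sup_right hc) hc
        rwa [Subgroup.eq_of_le_of_card_ge
          (IsMap.img_le_iff.mpr fun y hy => conj_mem_of_mem_normalizer (hSQ hg) hy)
          (hm.mono le_sup_left).card_img.ge] at this
      exact IsMap.img_le_iff.mp hle x hx
    obtain ⟨s, hs, e⟩ := hsub X hXS hnX (fun h => hcen (le_sup_right.trans h)) k (hk.mono hXe) hkX
    exact ⟨s, hs, fun x hx => (hkf x hx).symm.trans (e x (Subgroup.mem_sup_left hx))⟩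
  -- the quotient
  haveI hQn' : (Q.subgroupOf S).Normal := ⟨fun x hx g => by
    exact Subgroup.mem_subgroupOf.mpr
      (conj_mem_of_mem_normalizer (hSQ g.2) (Subgroup.mem_subgroupOf.mp hx))⟩
  set θ := QuotientGroup.mk' (Q.subgroupOf S) with hθ
  have hker : ∀ x ∈ S, qmap θ x = 1 ↔ x ∈ Q := fun x hx => by
    rw [qmap_apply hx, hθ, QuotientGroup.mk'_apply, QuotientGroup.eq_one_iff, Subgroup.mem_subgroupOf]
  have hclosed : KerClosed F θ := by
    intro P f hf x hx h
    obtain ⟨k, hk, hkf, hki⟩ := extend_of_isNormal hQn hf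
    rw [hker _ (hf.le hx)] at h
    rw [hker _ (hf.mem_S hx), ← hkf x hx]
    exact IsMap.img_le_iff.mp hki.le x h
  have hquot := isQuot_factorSystem (θ := θ) hclosed
  set Eq := factorSystem F θ hclosed
  have hSq : IsPGroup p θ.range := hS.of_surjective _ θ.rangeRestrict_surjective
  haveI : Finite θ.range := Finite.of_surjective θ.rangeRestrict θ.rangeRestrict_surjective
  have hqd : p ≠ 2 ∨ ¬ HasQd F p := by
    by_cases h2 : p = 2
    · subst h2
      exact Or.inr (not_hasQd_two hS hF (hp.resolve_left fun a => a rfl))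
    · exact Or.inl h2
  have hEq : IsInner Eq := by
    refine inner_of_char_aut hSq (hquot.saturated hS hF)
      (sectionFree_of_not_hasQd hSq (hquot.saturated hS hF) (hqd.imp id fun hno hh => hno (hquot.hasQd hh)))
      ?_
    intro T hTr hTne hTchar
    set W := preimageAlong θ T
    have hW : W ≤ S := preimageAlong_le _
    haveI := finite_of_le hW
    have hnT : θ.range ≤ Subgroup.normalizer (T : Set _) := by
      haveI := hTchar
      haveI : (T.subgroupOf θ.range).Normal := inferInstance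
      exact Subgroup.normal_subgroupOf_iff_le_normalizer hTr |>.mp this
    have hnW : S ≤ Subgroup.normalizer (W : Set Ω) := fun g hg => by
      refine mem_normalizer_of_maps_finite fun x hx => mem_preimageAlong.mpr
        ⟨S.mul_mem (S.mul_mem hg (hW hx)) (S.inv_mem hg), ?_⟩
      rw [qmap_conj hg (hW hx)]
      exact conj_mem_of_mem_normalizer (hnT (qmap_apply (θ := θ) hg ▸ ⟨_, rfl⟩))
        (mem_preimageAlong.mp hx).2
    have hWQ : ¬ W ≤ Q := fun hle => hTne ((Subgroup.eq_bot_iff_forall T).mpr fun y hy => by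
      obtain ⟨x, hx, rfl⟩ := exists_preimage hTr hy
      exact (hker x (hW hx)).mpr (hle hx))
    intro α
    have hα : IsMap Eq T (autFun α.1) := (isMap_autFun hTr).mpr α.2
    obtain ⟨f, hf, he⟩ := hquot.exists_lift hα
    have hfi : img W f = W :=
      Subgroup.eq_of_le_of_card_ge (IsMap.img_le_iff.mpr fun x hx => mem_preimageAlong.mpr
        ⟨hf.mem_S hx, by rw [← he x hx]; exact autFun_mem _ (mem_preimageAlong.mp hx).2⟩)
        hf.card_img.ge
    obtain ⟨s, hs, es⟩ := hsub W hW hnW hWQ f hf hfi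
    have hpow : ∀ (m : ℕ), ∀ x ∈ W,
        autFun (α.1 ^ m) (qmap θ x) = θ ⟨s, hs⟩ ^ m * qmap θ x * (θ ⟨s, hs⟩ ^ m)⁻¹ := by
      intro m
      induction m with
      | zero =>
        intro x hx
        rw [pow_zero, autFun_one (mem_preimageAlong.mp hx).2]; simp
      | succ m ihm =>
        intro x hx
        have hfx : f x ∈ W := hfi ▸ IsMap.apply_mem_img hx
        rw [pow_succ, autFun_mul _ _ (mem_preimageAlong.mp hx).2, he x hx, ihm _ hfx, es x hx,
          qmap_conj hs (hW hx), qmap_apply (θ := θ) hs]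
        group
    obtain ⟨m, hm'⟩ := IsPGroup.iff_card.mp hS
    refine ⟨m, Subtype.ext (eq_one_of_autFun fun y hy => ?_)⟩
    obtain ⟨x, hx, rfl⟩ := exists_preimage hTr hy
    rw [Subgroup.coe_pow, ← hm', hpow _ x hx, ← map_pow, pow_card_eq_one', map_one]
    simp
  refine hne (inner_of_conj_on_and_mod hS hF hQn hon θ hker fun R f hf hQR => ?_)
  have hpre : preimageAlong θ ((R.subgroupOf S).map θ) = R := by
    ext x
    rw [mem_preimageAlong]
    constructor
    · rintro ⟨hxS, y, hy, e⟩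
      rw [qmap_apply hxS, hθ, QuotientGroup.mk'_apply, QuotientGroup.mk'_apply, QuotientGroup.eq] at e
      have h2 : (y : Ω)⁻¹ * x ∈ Q := e
      have := R.mul_mem (Subgroup.mem_subgroupOf.mp hy) (hQR h2)
      rwa [mul_inv_cancel_left] at this
    · exact fun hx => ⟨hf.le hx, ⟨x, hf.le hx⟩, hx, (qmap_apply (hf.le hx)).symm⟩
  have hm := hquot.isMap_pushMap (Subgroup.map_le_range θ (R.subgroupOf S)) (hpre.symm ▸ hf)
  obtain ⟨t, ⟨s, rfl⟩, e⟩ := hEq _ _ hm
  refine ⟨s, fun x hx => ?_⟩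
  have hx' : x ∈ preimageAlong θ ((R.subgroupOf S).map θ) := hpre.symm ▸ hx
  rw [← hquot.pushMap_apply (hpre.symm ▸ hf) hx', e _ (mem_preimageAlong.mp hx').2]

end Cfsg.Lib.Fusion
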