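import Cfsg.Agent.Fusion.StableHeredity
import Cfsg.Agent.Fusion.GroupSystem
import Cfsg.Agent.Fusion.NormalCriteria
import Cfsg.Agent.Components.ZJ.Glauberman

/-!
`p`-stable fusion systems of groups: the group is stable in the normalizer form, and the normalizer
of `Z(J(P))` controls strong fusion.
-/

set_option autoImplicit false

namespace Cfsg.Lib.CentralStable

open Cfsg.Lib.Fusion
open scoped commutatorElement

universe u

variable {p : ℕ} [Fact p.Prime] {Ω : Type u} [Group Ω] [Finite Ω]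

theorem normalizerPStable_of_fusion (P : Sylow p Ω)
    (hst : ∀ Q : Subgroup Ω, (Cfsg.groupFusionSystem (P : Subgroup Ω)).IsFullyNormalized Q →
      ∀ χ : MulAut ↥Q, χ ∈ (Cfsg.groupFusionSystem (P : Subgroup Ω)).autGroup Q →
        (∀ a : ↥Q, (χ a⁻¹) * a * (χ a⁻¹) * (χ (χ a)) = 1) →
        χ ∈ ((Cfsg.pCore p ↥((Cfsg.groupFusionSystem (P : Subgroup Ω)).autGroup Q)).map
          ((Cfsg.groupFusionSystem (P : Subgroup Ω)).autGroup Q).subtype : Subgroup (MulAut ↥Q))) :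
    Cfsg.IsNormalizerPStable p Ω := by
  classical
  set S : Subgroup Ω := (P : Subgroup Ω) with hS
  set F := Cfsg.groupFusionSystem S with hFdef
  intro P0 hP0 g hg hq
  obtain ⟨y, hy⟩ := exists_conj_le_sylow (S := P) hP0
  set P1 := P0.map (MulAut.conj y).toMonoidHom
  have hy' : P1 ≤ S := by
    rintro _ ⟨t, ht, rfl⟩
    exact hy t ht
  obtain ⟨Q, hconj, hQn⟩ := exists_fullyNormalized (F := F) hy'
  obtain ⟨-, -, z, hz⟩ := isConj_group_iff.mp hconj
  set x := z * y with hx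
  have hQx : P0.map (MulAut.conj x).toMonoidHom = Q := by
    rw [← hz, Subgroup.map_map, hx, map_mul]
    rfl
  have hn : ∀ n : ↥(Subgroup.normalizer (P0 : Set Ω)), x * n * x⁻¹ ∈ Subgroup.normalizer (Q : Set Ω) :=
    fun n => hQx ▸ conj_mem_normalizer_map n.2
  let Θ : ↥(Subgroup.normalizer (P0 : Set Ω)) →* MulAut ↥Q :=
    { toFun := fun n => conjAut Q _ (hn n)
      map_one' := MulEquiv.ext fun q => Subtype.ext (by rw [conjAut_apply]; simp)
      map_mul' := fun a b => MulEquiv.ext fun q => Subtype.ext (by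
        rw [MulAut.mul_apply, conjAut_apply, conjAut_apply, conjAut_apply, Subgroup.coe_mul]
        group) }
  have hrange : Θ.range = F.autGroup Q := by
    rw [hFdef, autGroup_group hQn.1]
    refine le_antisymm ?_ fun α hα => ?_
    · rintro _ ⟨n, rfl⟩
      exact conjAut_mem_autInducedBy (hn n) trivial
    · obtain ⟨a, -, e⟩ := mem_autInducedBy.mp hα
      have haN : a ∈ Subgroup.normalizer (Q : Set Ω) := mem_normalizer_of_mem_autInducedBy e
      have hb : x⁻¹ * a * x ∈ Subgroup.normalizer (P0 : Set Ω) := by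
        have hP : Q.map (MulAut.conj x⁻¹).toMonoidHom = P0 := by
          rw [← hQx, Subgroup.map_map]
          convert Subgroup.map_id P0
          ext w
          simp [mul_assoc]
        have := conj_mem_normalizer_map (g := x⁻¹) haN
        rwa [hP, inv_inv] at this
      refine ⟨⟨_, hb⟩, MulEquiv.ext fun q => Subtype.ext ?_⟩
      show ((conjAut Q _ _ q : Q) : Ω) = _
      rw [conjAut_apply, e]
      group
  set χ := Θ ⟨g, hg⟩
  have hχ : χ ∈ F.autGroup Q := hrange ▸ ⟨_, rfl⟩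
  have hquad : ∀ q : ↥Q, (χ q⁻¹) * q * (χ q⁻¹) * (χ (χ q)) = 1 := by
    intro q
    obtain ⟨w, hw, e⟩ := (hQx ▸ q.2 : (q : Ω) ∈ P0.map (MulAut.conj x).toMonoidHom)
    have e' : (q : Ω) = x * w * x⁻¹ := e.symm
    have h1 := fixes_of_quadratic hg hq hw
    refine Subtype.ext ?_
    simp only [χ, Θ, MonoidHom.coe_mk, OneHom.coe_mk, Subgroup.coe_mul, Subgroup.coe_inv,
      conjAut_apply, e', Subgroup.coe_one]
    calc x * g * x⁻¹ * (x * w * x⁻¹)⁻¹ * (x * g * x⁻¹)⁻¹ * (x * w * x⁻¹) *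
          (x * g * x⁻¹ * (x * w * x⁻¹)⁻¹ * (x * g * x⁻¹)⁻¹) *
          (x * g * x⁻¹ * (x * g * x⁻¹ * (x * w * x⁻¹) * (x * g * x⁻¹)⁻¹) * (x * g * x⁻¹)⁻¹)
        = x * ((w⁻¹ * (g * w * g⁻¹))⁻¹ * (g * (w⁻¹ * (g * w * g⁻¹)) * g⁻¹)) * x⁻¹ := by group
      _ = 1 := by rw [h1, inv_mul_cancel, mul_one, mul_inv_cancel]
  obtain ⟨a, ha, hae⟩ := hst Q hQn χ hχ hquad
  set M : Subgroup ↥(Subgroup.normalizer (P0 : Set Ω)) :=
    (Cfsg.pCore p ↥(F.autGroup Q)).comap ((MonoidHom.codRestrict Θ (F.autGroup Q))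
      fun n => hrange ▸ ⟨n, rfl⟩) with hM
  haveI : M.Normal := inferInstance
  set C := (Subgroup.centralizer (P0 : Set Ω)).subgroupOf (Subgroup.normalizer (P0 : Set Ω))
  have hMp : IsPGroup p ↥(M.map (QuotientGroup.mk' C)) := by
    rintro ⟨_, n, hn', rfl⟩
    obtain ⟨k, hk⟩ := Cfsg.Lib.Components.isPGroup_pCore p ⟨_, hn'⟩
    refine ⟨k, Subtype.ext ?_⟩
    show QuotientGroup.mk' C n ^ p ^ k = 1
    rw [← map_pow]
    refine (QuotientGroup.eq_one_iff _).mpr (Subgroup.mem_centralizer_iff.mpr fun w hw => ?_)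
    have hk' : Θ (n ^ p ^ k) = 1 := by
      rw [map_pow]
      exact congrArg (fun t : ↥(Cfsg.pCore p ↥(F.autGroup Q)) => ((t : ↥(F.autGroup Q)) : MulAut ↥Q)) hk
    have hwQ : x * w * x⁻¹ ∈ Q := hQx ▸ ⟨w, hw, rfl⟩
    have h1 := congrArg (fun f : MulAut ↥Q => ((f ⟨_, hwQ⟩ : ↥Q) : Ω)) hk'
    simp only [Θ, MonoidHom.coe_mk, OneHom.coe_mk, conjAut_apply, MulAut.one_apply] at h1
    set m : Ω := ((n ^ p ^ k : ↥(Subgroup.normalizer (P0 : Set Ω))) : Ω)
    have h2 : m * w * m⁻¹ = w := by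
      calc m * w * m⁻¹ = x⁻¹ * (x * m * x⁻¹ * (x * w * x⁻¹) * (x * m * x⁻¹)⁻¹) * x := by group
        _ = w := by rw [h1]; group
    exact (mul_inv_eq_iff_eq_mul.mp h2).symm
  haveI : (M.map (QuotientGroup.mk' C)).Normal :=
    Subgroup.Normal.map inferInstance _ (QuotientGroup.mk'_surjective C)
  refine Cfsg.Lib.Components.le_pCore hMp ⟨⟨g, hg⟩, ?_, rfl⟩
  show _ ∈ Cfsg.pCore p ↥(F.autGroup Q)
  have e : (MonoidHom.codRestrict Θ (F.autGroup Q) fun n => hrange ▸ ⟨n, rfl⟩) ⟨g, hg⟩ = a :=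
    Subtype.ext hae.symm
  exact e.symm ▸ ha

/-- control of strong fusion by the normalizer of `Z(J(P))` -/
theorem ctl_zj_of_stable (hp : p ≠ 2) {G : Type u} [Group G] [Finite G] (hG : Cfsg.IsNormalizerPStable p G) :
    Cfsg.Lib.CtrlD.Ctl p (fun Q _ => Cfsg.Lib.CtrlD.zjW Q) G :=
  Cfsg.Lib.CtrlD.ctl_main_of (Cfsg.Lib.CtrlD.zjW_charP (p := p))
    (fun L _ => Cfsg.IsNormalizerPStable p L)
    (fun L _ _ H h => Cfsg.Lib.ZJ.normalizerPStable_subgroup h H)
    (fun L _ _ N _ h hL => by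
      rcases h with h | ⟨hNp, hact⟩
      · exact normalizerPStable_quotient_coprime h hL
      · exact normalizerPStable_quotient_hyper hp (Nat.card ↥N) N rfl hNp hact hL)
    (fun L _ _ hL hc T D hD => by
      rw [Cfsg.Lib.CtrlD.induced_zjW]
      exact Cfsg.Lib.ZJ.centerThompsonA_normal (S := T) hp (Cfsg.Lib.ZJ.stable_of_normalizerPStable hL) hc hD)
    (Nat.card G) G rfl hG

/-- A stable system of a group is constrained. -/
theorem constrained_of_stable (hp : p ≠ 2) (P : Sylow p Ω) (hG : Cfsg.IsNormalizerPStable p Ω) :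
    (Cfsg.groupFusionSystem (P : Subgroup Ω)).IsConstrained p := by
  classical
  set S : Subgroup Ω := (P : Subgroup Ω)
  set F := Cfsg.groupFusionSystem S with hFdef
  have hF := saturated_group P
  set Q := F.core
  have hQn : F.IsNormal Q := isNormal_core
  have hQS : Q ≤ S := hQn.1
  have hQp : IsPGroup p Q := P.2.to_le hQS
  refine ⟨hF, Q, hQn, centric_of_fullyCentralized P.2 hF
    (fullyNormalized_props P.2 hF (fullyNormalized_of_isNormal hQn)).1 ?_⟩
  by_contra hcen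
  set N := Subgroup.normalizer (Q : Set Ω)
  have hSN : S ≤ N := fun s hs => ((normalizerIn_of_isNormal hQn).ge hs).2
  let C : Subgroup N := (Subgroup.centralizer (Q : Set Ω)).subgroupOf N
  haveI : C.Normal := (Subgroup.normal_subgroupOf_iff_le_normalizer
    (Cfsg.Lib.Thompson.centralizer_le_normalizer Q)).mpr
    (Cfsg.Lib.Thompson.normalizer_le_normalizer_centralizer Q)
  let SN : Sylow p N := P.subtype hSN
  obtain ⟨R, hR⟩ : ∃ R : Sylow p C, (R : Subgroup C) = (S.subgroupOf N).subgroupOf C :=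
    ⟨((P.2.comap_subtype (K := N)).comap_subtype (K := C)).toSylow fun h => SN.not_dvd_index
      (h.trans (Cfsg.Lib.Components.relIndex_dvd_index_of_normal_right (SN : Subgroup N) C)), rfl⟩
  set Z0 : Subgroup C := (Q.subgroupOf N).subgroupOf C
  have hZc : Z0 ≤ Subgroup.center C := fun z hz => Subgroup.mem_center_iff.mpr fun c =>
    Subtype.ext (Subtype.ext (Subgroup.mem_centralizer_iff.mp c.2 _ hz).symm)
  haveI : Z0.Normal := ⟨fun z hz c => by
    rw [Subgroup.mem_center_iff.mp (hZc hz) c, mul_inv_cancel_right]; exact hz⟩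
  have hZp : IsPGroup p Z0 :=
    ((hQp.comap_subtype (K := N)).comap_subtype (K := C))
  set π := QuotientGroup.mk' Z0
  have hπ : Function.Surjective π := QuotientGroup.mk'_surjective Z0
  have hstC : Cfsg.IsNormalizerPStable p (C ⧸ Z0) := normalizerPStable_quotient_central hp
    (Cfsg.Lib.ZJ.normalizerPStable_subgroup (Cfsg.Lib.ZJ.normalizerPStable_subgroup hG N) C) Z0 hZc hZp
  set Rb := R.mapSurjective hπ
  set Wb := Cfsg.centerThompsonAOf (Rb : Subgroup (C ⧸ Z0))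
  have hWR : Wb ≤ (Rb : Subgroup (C ⧸ Z0)) := inf_le_left.trans (Subgroup.map_subtype_le _)
  have hWab : ∀ a ∈ Wb, ∀ b ∈ Wb, a * b = b * a := fun a ha b hb =>
    (Subgroup.mem_centralizer_iff.mp hb.2 a ha.1)
  have hZR : Z0 ≤ (R : Subgroup C) := fun z hz => hR ▸ hQS hz
  have hRker : (Rb : Subgroup (C ⧸ Z0)).comap π = R :=
    Subgroup.comap_map_eq_self ((QuotientGroup.ker_mk' Z0).le.trans hZR)
  set W : Subgroup Ω := ((Wb.comap π).map C.subtype).map N.subtype
  have hmemW : ∀ c : C, π c ∈ Wb → ((c : N) : Ω) ∈ W := fun c hc => ⟨c, ⟨c, hc, rfl⟩, rfl⟩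
  have hW : ∀ x ∈ W, ∃ c : C, π c ∈ Wb ∧ ((c : N) : Ω) = x := by
    rintro _ ⟨_, ⟨c, hc, rfl⟩, rfl⟩
    exact ⟨c, hc, rfl⟩
  have hWS : W ≤ S := by
    intro x hx
    obtain ⟨c, hc, rfl⟩ := hW x hx
    have h1 : c ∈ (R : Subgroup C) := hRker.le (Subgroup.mem_comap.mpr (hWR hc))
    rw [hR] at h1
    exact h1
  -- `W` is strongly closed
  have hWsc : F.StronglyClosed W := by
    refine stronglyClosed_of_apply hWS fun A f hf x hxA hxW => ?_
    obtain ⟨k, hk, hkf, hki⟩ := extend_of_isNormal hQn hf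
    obtain ⟨-, hkS, g, hg⟩ := isMap_group_iff.mp hk
    have hgN : g ∈ N := mem_normalizer_of_maps_finite fun q hq => by
      rw [← hg q (Subgroup.mem_sup_right hq)]
      exact IsMap.img_le_iff.mp hki.le q hq
    have hgx : f x = g * x * g⁻¹ := by
      rw [← hkf x hxA]; exact hg x (Subgroup.mem_sup_left hxA)
    obtain ⟨c, hc, rfl⟩ := hW x hxW
    obtain ⟨n, hn, c₁, hc₁, hnc⟩ := Subgroup.mem_sup_of_normal_right.mp
      ((sup_comm C (Subgroup.normalizer (((SN : Subgroup N) ⊓ C : Subgroup N) : Set N)) ▸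
        Cfsg.Lib.ZJ.sup_normalizer_inf_eq_top C SN).ge (Subgroup.mem_top (⟨g, hgN⟩ : N)))
    have hcR : c ∈ (R : Subgroup C) := hRker.le (Subgroup.mem_comap.mpr (hWR hc))
    -- the normalizing part
    have hnR : ∀ r : C, r ∈ (R : Subgroup C) ↔ MulAut.conjNormal n r ∈ (R : Subgroup C) := by
      intro r
      have h1 := Subgroup.mem_normalizer_iff.mp hn (r : N)
      rw [hR]
      constructor
      · intro h
        exact (h1.mp ⟨h, r.2⟩).1
      · intro h
        exact (h1.mpr ⟨h, (inferInstance : C.Normal).conj_mem r r.2 n⟩).1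
    -- the centralizing part, in the quotient
    set y : C := ⟨c₁, hc₁⟩ * c * (⟨c₁, hc₁⟩ : C)⁻¹ with hy
    have hgy : f ((c : N) : Ω) = ((MulAut.conjNormal n y : C) : N) := by
      rw [hgx]
      have e : g = ((n * c₁ : N) : Ω) := by rw [hnc]
      rw [e]
      simp only [hy, MulAut.conjNormal_apply, Subgroup.coe_mul, Subgroup.coe_inv]
      group
    have hyR : y ∈ (R : Subgroup C) := by
      rw [hnR, hR]
      show ((MulAut.conjNormal n y : C) : N).1 ∈ S
      rw [← hgy]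
      exact hf.mem_S hxA
    obtain ⟨m, hm, hme⟩ := ctl_zj_of_stable hp hstC Rb (Rb : Subgroup (C ⧸ Z0))
      (Cfsg.Lib.ZJ.stronglyClosed_self _) {π c} (π ⟨c₁, hc₁⟩)
      (by rintro _ rfl; exact Subgroup.mem_map_of_mem π hcR)
      (Cfsg.Lib.Control.img_subset_iff.mpr (by
        rintro _ rfl
        rw [← map_inv, ← map_mul, ← map_mul]
        exact Subgroup.mem_map_of_mem π hyR))
    rw [Cfsg.Lib.CtrlD.induced_zjW] at hm
    have hyW : π y ∈ Wb := by
      rw [hy, map_mul, map_mul, map_inv, ← hme (π c) rfl]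
      exact (Subgroup.mem_normalizer_iff.mp hm (π c)).mp hc
    rw [hgy]
    refine hmemW _ ?_
    let θ : (C ⧸ Z0) ≃* (C ⧸ Z0) := QuotientGroup.congr Z0 Z0 (MulAut.conjNormal n) (by
      refine Subgroup.eq_of_le_of_card_ge ?_ (Subgroup.card_map_of_injective (MulEquiv.injective _)).ge
      rintro _ ⟨z, hz, rfl⟩
      show (n : Ω) * ((z : N) : Ω) * (n : Ω)⁻¹ ∈ Q
      exact (Subgroup.mem_normalizer_iff.mp n.2 _).mp hz)
    have hθR : (Rb : Subgroup (C ⧸ Z0)).map θ.toMonoidHom = Rb := by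
      refine Subgroup.eq_of_le_of_card_ge ?_ (Subgroup.card_map_of_injective θ.injective).ge
      rintro _ ⟨_, ⟨r, hr, rfl⟩, rfl⟩
      exact ⟨_, (hnR r).mp hr, rfl⟩
    have hθW : Wb.map θ.toMonoidHom = Wb := by
      rw [Cfsg.Lib.ZJ.centerThompsonAOf_map, hθR]
    exact hθW ▸ ⟨π y, hyW, rfl⟩
  -- `W` is normal
  have hQZ : F.StronglyClosed (((Z0.map C.subtype)).map N.subtype) := by
    have e : (Z0.map C.subtype).map N.subtype = Q ⊓ Subgroup.centralizer (Q : Set Ω) := by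
      ext x
      constructor
      · rintro ⟨_, ⟨z, hz, rfl⟩, rfl⟩
        exact ⟨hz, z.2⟩
      · rintro ⟨h1, h2⟩
        exact ⟨⟨x, Subgroup.le_normalizer h1⟩, ⟨⟨⟨x, Subgroup.le_normalizer h1⟩, h2⟩, h1, rfl⟩, rfl⟩
    rw [e]
    refine stronglyClosed_of_apply (inf_le_left.trans hQS) fun A f hf x hxA hxZ => ?_
    obtain ⟨k, hk, hkf, hki⟩ := extend_of_isNormal hQn hf
    rw [← hkf x hxA]
    refine ⟨IsMap.img_le_iff.mp hki.le x hxZ.1, Subgroup.mem_centralizer_iff.mpr fun q hq => ?_⟩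
    have hq' : q ∈ img Q k := hki.symm ▸ hq
    obtain ⟨w, hw, rfl⟩ := (hk.mono le_sup_right).mem_img.mp hq'
    rw [← hk.map_mul (Subgroup.mem_sup_right hw) (Subgroup.mem_sup_right hxZ.1),
      Subgroup.mem_centralizer_iff.mp hxZ.2 w hw,
      hk.map_mul (Subgroup.mem_sup_right hxZ.1) (Subgroup.mem_sup_right hw)]
  have hWn : F.IsNormal W := by
    refine isNormal_of_chain P.2 hF hWsc 2
      (fun i => if i = 0 then ⊥ else if i = 1 then (Z0.map C.subtype).map N.subtype else W)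
      rfl le_rfl (fun i hi => ?_) (fun i hi => ?_)
    · rcases (show i = 0 ∨ i = 1 by omega) with rfl | rfl
      · simpa using hQZ
      · simpa using hWsc
    · rcases (show i = 0 ∨ i = 1 by omega) with rfl | rfl
      · simp only [zero_add, one_ne_zero, if_false, if_true]
        rw [Subgroup.commutator_le]
        rintro _ ⟨_, ⟨z, hz, rfl⟩, rfl⟩ b hb
        obtain ⟨c, -, rfl⟩ := hW b hb
        refine Subgroup.mem_bot.mpr (commutatorElement_eq_one_iff_mul_comm.mpr ?_)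
        exact congrArg (fun w : C => ((w : N) : Ω)) (Subgroup.mem_center_iff.mp (hZc hz) c).symm
      · simp only [one_ne_zero, if_false, if_true, Nat.reduceAdd, Nat.reduceEqDiff, OfNat.ofNat_ne_one,
          OfNat.ofNat_ne_zero]
        rw [Subgroup.commutator_le]
        intro a ha b hb
        obtain ⟨ca, hca, rfl⟩ := hW a ha
        obtain ⟨cb, hcb, rfl⟩ := hW b hb
        refine ⟨⁅(ca : N), (cb : N)⁆, ⟨⁅ca, cb⁆, ?_, map_commutatorElement C.subtype ca cb⟩,
          map_commutatorElement N.subtype _ _⟩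
        refine (QuotientGroup.eq_one_iff _).mp ?_
        show π ⁅ca, cb⁆ = 1
        rw [map_commutatorElement]
        exact commutatorElement_eq_one_iff_mul_comm.mpr (hWab _ hca _ hcb)
  -- contradiction with maximality
  have hWQ : W ≤ Q := le_sSup hWn
  have hWb : Wb = ⊥ := by
    rw [eq_bot_iff]
    intro w hw
    obtain ⟨c, rfl⟩ := hπ w
    exact Subgroup.mem_bot.mpr ((QuotientGroup.eq_one_iff c).mpr (hWQ (hmemW c hw)))
  refine Cfsg.Lib.ZJ.centerThompsonAOf_ne_bot Rb.2 (fun h => hcen fun x hx => ?_) hWb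
  have hxC : x ∈ Subgroup.centralizer (Q : Set Ω) := hx.2
  have hxR : (⟨⟨x, hSN hx.1⟩, hxC⟩ : C) ∈ (R : Subgroup C) := by rw [hR]; exact hx.1
  have := (Subgroup.map_eq_bot_iff _).mp h hxR
  rw [QuotientGroup.ker_mk'] at this
  exact this

end Cfsg.Lib.CentralStable
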