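import Cfsg.Agent.Fusion.Saturation

/-!
Saturation from the Sylow property at the top and receptivity of fully normalized subgroups.
-/

set_option autoImplicit false

namespace Cfsg.Lib.Fusion

open Cfsg Cfsg.FusionSystem

variable {Ω : Type*} [Group Ω] {S : Subgroup Ω} {F : FusionSystem S} {p : ℕ}

theorem fullyNormalized_top [Finite S] : F.IsFullyNormalized S := by
  refine ⟨le_rfl, fun Q hQ => ?_⟩
  have hQS : Q = S := Subgroup.eq_of_le_of_card_ge (isConj_le hQ).2 (isConj_card hQ).ge
  rw [hQS]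

/-- An automorphism of a receptive subgroup normalizing the automorphisms induced by `S` extends to
an automorphism of the normalizer in `S`. -/
theorem exists_extend_normalizerIn [Finite S] {P : Subgroup Ω} (hrec : F.IsReceptive P)
    {α : MulAut P} (hα : α ∈ F.autGroup P)
    (hn : ∀ β ∈ autInducedBy S P, α * β * α⁻¹ ∈ autInducedBy S P) :
    ∃ β ∈ F.autGroup (normalizerIn S P), ∀ x ∈ P, autFun β x = autFun α x := by
  have hP := hrec.1
  have hm : IsMap F P (autFun α) := (isMap_autFun hP).mpr hα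
  have hle : normalizerIn S P ≤ extSub S P (autFun α) := by
    intro g hg
    obtain ⟨h, hh, eh⟩ := mem_autInducedBy.mp
      (hn _ (conjAut_mem_autInducedBy (P := P) hg.2 hg.1))
    refine ⟨hg.1, hg.2, h, hh, fun x hx => ?_⟩
    have e1 : g * x * g⁻¹ = autFun (conjAut P g hg.2) x := by
      rw [autFun_apply_mem _ hx, conjAut_apply]
    rw [e1, ← autFun_mul _ _ hx,
      show α * conjAut P g hg.2 = (α * conjAut P g hg.2 * α⁻¹) * α by group,
      autFun_mul _ _ hx, autFun_apply_mem _ (autFun_mem α hx), eh ⟨_, autFun_mem α hx⟩]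
  obtain ⟨f, hf, hag⟩ := receptive_extend hrec hm (img_autFun α)
  have hi : img P f = P := (img_congr hag).trans (img_autFun α)
  have hfN := hf.mono hle
  have : Finite (normalizerIn S P) := finite_of_le inf_le_left
  have hiN : img (normalizerIn S P) f = normalizerIn S P := by
    refine Subgroup.eq_of_le_of_card_ge (IsMap.img_le_iff.mpr fun t ht => ?_) hfN.card_img.ge
    have h1 := hfN.mem_normalizerIn (le_normalizerIn hP) ht ht.2
    rwa [hi] at h1
  obtain ⟨β, hβ, eβ⟩ := hfN.exists_aut hiN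
  exact ⟨β, hβ, fun x hx => (eβ x (le_normalizerIn hP hx)).trans (hag x hx)⟩

theorem autFun_pow_agree {P R : Subgroup Ω} (hPR : P ≤ R) {α : MulAut P} {β : MulAut R}
    (h : ∀ x ∈ P, autFun β x = autFun α x) (n : ℕ) :
    ∀ x ∈ P, autFun (β ^ n) x = autFun (α ^ n) x := by
  induction n with
  | zero =>
    intro x hx
    rw [pow_zero, pow_zero, autFun_apply_mem _ hx, autFun_apply_mem _ (hPR hx)]
    rfl
  | succ n ih =>
    intro x hx
    rw [pow_succ, pow_succ, autFun_mul _ _ hx, autFun_mul _ _ (hPR hx), h x hx,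
      ih _ (autFun_mem α hx)]

/-- A fully normalized receptive proper subgroup is fully automized when all larger fully
normalized subgroups are. -/
theorem fullyAutomized_step [Finite S] [Fact p.Prime] (hS : IsPGroup p S) {P : Subgroup Ω}
    (hPlt : P < S) (hfn : F.IsFullyNormalized P) (hrec : F.IsReceptive P)
    (hup : ∀ R : Subgroup Ω, Nat.card P < Nat.card R → F.IsFullyNormalized R →
      F.IsFullyAutomized p R) :
    F.IsFullyAutomized p P := by
  have hP := hfn.1
  have := finite_of_le hP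
  by_contra hna
  set G := F.autGroup P with hG
  let A : Subgroup G := (autInducedBy S P).subgroupOf G
  have hAp : IsPGroup p A := (isPGroup_autInducedBy hS P).of_injective
    (Subgroup.subgroupOfEquivOfLe (autInducedBy_le (F := F) hP)).toMonoidHom
    (Subgroup.subgroupOfEquivOfLe (autInducedBy_le (F := F) hP)).injective
  obtain ⟨T, hT⟩ := hAp.exists_le_sylow
  have hlt : A < (T : Subgroup G) := lt_of_le_of_ne hT fun h => hna ⟨hP, T, h.symm⟩
  obtain ⟨a, ⟨haT, haN⟩, haA⟩ :=
    SetLike.exists_of_lt (lt_inf_normalizer (p := p) T.2 hlt le_rfl)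
  have hn : ∀ β ∈ autInducedBy S P, (a : MulAut P) * β * (a : MulAut P)⁻¹ ∈ autInducedBy S P :=
    fun β hβ => (Subgroup.mem_normalizer_iff.mp haN ⟨β, autInducedBy_le hP hβ⟩).mp hβ
  obtain ⟨k₀, hk₀⟩ := T.2 ⟨a, haT⟩
  have hak : (a : MulAut P) ^ p ^ k₀ = 1 :=
    congrArg Subtype.val (congrArg Subtype.val hk₀)
  -- pass to a power of the extension of `p`-power order
  set R := normalizerIn S P with hR
  have : Finite R := finite_of_le inf_le_left
  obtain ⟨β₀, hβ₀, hag₀⟩ := exists_extend_normalizerIn hrec a.2 hn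
  obtain ⟨b, m, hm, hbm⟩ := Nat.exists_eq_pow_mul_and_not_dvd (orderOf_pos β₀).ne' p
    (Fact.out (p := p.Prime)).ne_one
  have hcop : m.Coprime (orderOf (a : MulAut P)) :=
    Nat.Coprime.coprime_dvd_right (orderOf_dvd_of_pow_eq_one hak)
      (Nat.Coprime.pow_right _ ((Nat.Prime.coprime_iff_not_dvd Fact.out).mpr hm).symm)
  obtain ⟨k, hk⟩ := exists_pow_eq_self_of_coprime hcop
  set β := (β₀ ^ m) ^ k with hβdef
  have hβ : β ∈ F.autGroup R := Subgroup.pow_mem _ (Subgroup.pow_mem _ hβ₀ m) k
  have hβp : β ^ p ^ b = 1 := by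
    rw [hβdef, ← pow_mul, ← pow_mul, show m * (k * p ^ b) = p ^ b * m * k by ring, ← hbm, pow_mul,
      pow_orderOf_eq_one, one_pow]
  have hag : ∀ x ∈ P, autFun β x = autFun (a : MulAut P) x := by
    intro x hx
    have h := autFun_pow_agree (le_normalizerIn hP) hag₀ (m * k) x hx
    rwa [pow_mul, pow_mul, hk] at h
  -- transport to a fully normalized conjugate of the normalizer
  obtain ⟨R', hRR', hR'⟩ := exists_fullyNormalized (F := F) (P := R) inf_le_left
  have hlt' : Nat.card P < Nat.card R' := by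
    rw [isConj_card hRR']
    exact Set.Finite.card_lt_card (Set.toFinite (R : Set Ω)) (lt_normalizerIn hS hPlt)
  obtain ⟨f, hf, hi⟩ := isConj_iff.mp hRR'
  set β' := MulAut.congr (hf.equiv hi) β with hβ'
  have hβ'G : β' ∈ F.autGroup R' := congr_mem_autGroup hf hi hβ
  obtain ⟨χ, hχ, hχK⟩ := exists_conj_into_autS (hup R' hlt' hR') (K := Subgroup.zpowers β')
    (fun z => by
      obtain ⟨z, n, rfl⟩ := z
      refine ⟨b, Subtype.ext ?_⟩
      show (β' ^ n) ^ p ^ b = 1
      rw [← zpow_natCast, ← zpow_mul, mul_comm, zpow_mul, zpow_natCast, hβ', ← map_pow, hβp,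
        map_one, one_zpow])
    (Subgroup.zpowers_le.mpr hβ'G)
  obtain ⟨s, hs, es⟩ := mem_autInducedBy.mp (hχK β' (Subgroup.mem_zpowers β'))
  have hfR : ∀ x ∈ R, f x ∈ R' := fun x hx => hi ▸ IsMap.apply_mem_img hx
  set g := autFun χ ∘ f with hg
  have hgm : IsMap F R g := hf.comp ((isMap_autFun hR'.1).mpr hχ) hfR
  have hgi : img R g = R' := by
    subst hi
    rw [hg, img_comp hf ((isMap_autFun hR'.1).mpr hχ), img_autFun]
  have hconj : ∀ x ∈ R, g (autFun β x) = s * g x * s⁻¹ := by
    intro x hx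
    have hy : g x ∈ R' := autFun_mem χ (hfR x hx)
    have h1 := es ⟨g x, hy⟩
    rw [← h1, ← autFun_apply (χ * β' * χ⁻¹) ⟨g x, hy⟩]
    show autFun χ (f (autFun β x)) = autFun (χ * β' * χ⁻¹) (autFun χ (f x))
    rw [← autFun_mul _ _ (hfR x hx), inv_mul_cancel_right, autFun_mul _ _ (hfR x hx), hβ',
      congr_equiv_spec hf hi β hx]
  -- the image of `P` has normalizer `R'`
  have hPR : P ≤ R := le_normalizerIn hP
  have hgP : IsMap F P g := hgm.mono hPR
  set P' := img P g with hP'
  have hR'N : R' ≤ normalizerIn S P' := by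
    intro y hy
    obtain ⟨t, ht, rfl⟩ := hgm.mem_img.mp (hgi.symm ▸ hy)
    exact hgm.mem_normalizerIn hPR ht ht.2
  have hR'eq : R' = normalizerIn S P' := by
    have : Finite (normalizerIn S P') := finite_of_le inf_le_left
    refine Subgroup.eq_of_le_of_card_ge hR'N ?_
    rw [isConj_card hRR']
    exact hfn.2 P' (isConj_iff.mpr ⟨g, hgP, rfl⟩)
  have hsN : s ∈ normalizerIn S P' := by
    have : Finite P' := finite_of_le hgP.img_le
    refine ⟨hs, mem_normalizer_of_maps_finite fun y hy => ?_⟩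
    obtain ⟨x, hx, rfl⟩ := hgP.mem_img.mp hy
    rw [← hconj x (hPR hx), hag x hx]
    exact IsMap.apply_mem_img (autFun_mem _ hx)
  obtain ⟨r, hr, hrs⟩ := hgm.mem_img.mp ((hgi.trans hR'eq).symm ▸ hsN)
  refine haA (Subgroup.mem_subgroupOf.mpr (mem_autInducedBy.mpr ⟨r, hr.1, fun x => ?_⟩))
  have hx : (x : Ω) ∈ R := hPR x.2
  refine hgm.injOn (hPR (SetLike.coe_mem _)) (R.mul_mem (R.mul_mem hr hx) (R.inv_mem hr)) ?_
  rw [← autFun_apply, ← hag x x.2, hconj x hx, hgm.map_conj hr hx, hrs]

/-- Saturation is equivalent to the Sylow property at the top together with receptivity of the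
fully normalized subgroups. -/
theorem saturated_iff_top_receptive [Finite S] [Fact p.Prime] (hS : IsPGroup p S) :
    F.IsSaturated p ↔ (F.IsFullyAutomized p S ∧
      ∀ P : Subgroup Ω, F.IsFullyNormalized P → F.IsReceptive P) := by
  refine ⟨fun h => ⟨(fullyNormalized_props hS h fullyNormalized_top).2.1,
    fun P hP => (fullyNormalized_props hS h hP).2.2⟩, ?_⟩
  rintro ⟨htop, hrec⟩
  refine saturated_of_props (fun P hP => ?_) hrec
  suffices H : ∀ n, ∀ Q : Subgroup Ω, Nat.card S - Nat.card Q = n → F.IsFullyNormalized Q →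
      F.IsFullyAutomized p Q from H _ P rfl hP
  intro n
  induction n using Nat.strong_induction_on with
  | _ n ih =>
    intro Q hn hQ
    rcases eq_or_lt_of_le hQ.1 with h | h
    · exact h ▸ htop
    · refine fullyAutomized_step hS h hQ (hrec Q hQ) fun R hR hRn => ?_
      refine ih _ ?_ R rfl hRn
      have := Subgroup.card_le_of_le hRn.1
      omega

end Cfsg.Lib.Fusion
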