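import Cfsg.Agent.Fusion.AbelianSuper
import Cfsg.Agent.Fusion.EssentialShape
import Cfsg.Agent.Fusion.SmallElements
import Cfsg.Agent.Fusion.TopAutomized
import Cfsg.Agent.Fusion.NormalCriteria
import Cfsg.Agent.Components.HSub.Supersolvable
import Mathlib.GroupTheory.SchurZassenhaus

/-!
Groups over which every saturated fusion system is supersoluble.
-/

set_option autoImplicit false
set_option linter.unusedSectionVars false
set_option linter.style.haveILetI false

namespace Cfsg.Lib.Fusion.Supersoluble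

open Cfsg Cfsg.FusionSystem Cfsg.Lib.MetaChain Cfsg.Lib.Fusion

/-- Abelian of exponent dividing `p - 1`. -/
def AbExp (p : ℕ) {M : Type*} [Group M] (H : Subgroup M) : Prop :=
  (∀ a ∈ H, ∀ b ∈ H, a * b = b * a) ∧ ∀ a ∈ H, a ^ (p - 1) = 1

theorem abExp_map {p : ℕ} {M N : Type*} [Group M] [Group N] {H : Subgroup M} (hH : AbExp p H)
    (f : H →* N) : AbExp p f.range := by
  refine ⟨?_, ?_⟩
  · rintro _ ⟨a, rfl⟩ _ ⟨b, rfl⟩
    rw [← map_mul, ← map_mul, show a * b = b * a from Subtype.ext (hH.1 a a.2 b b.2)]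
  · rintro _ ⟨a, rfl⟩
    rw [← map_pow, show a ^ (p - 1) = 1 from Subtype.ext (by simpa using hH.2 a a.2), map_one]

section Inner

variable {X : Type*} [Group X]

/-- The automorphisms induced on an invariant subgroup. -/
def resHom (H : Subgroup (MulAut X)) (K : Subgroup X) (hK : ∀ h ∈ H, ∀ x ∈ K, h x ∈ K) :
    H →* MulAut K where
  toFun h :=
    { toFun := fun x => ⟨(h : MulAut X) x, hK h h.2 x x.2⟩
      invFun := fun x => ⟨(h : MulAut X)⁻¹ x, hK _ (H.inv_mem h.2) x x.2⟩
      left_inv := fun x => Subtype.ext ((h : MulAut X).symm_apply_apply x)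
      right_inv := fun x => Subtype.ext ((h : MulAut X).apply_symm_apply x)
      map_mul' := fun x y => Subtype.ext (map_mul (h : MulAut X) (x : X) y) }
  map_one' := MulEquiv.ext fun _ => rfl
  map_mul' _ _ := MulEquiv.ext fun _ => rfl

/-- The automorphisms induced on an invariant quotient. -/
noncomputable def quotHom (H : Subgroup (MulAut X)) (N : Subgroup X) [N.Normal]
    (hN : ∀ h ∈ H, ∀ x ∈ N, h x ∈ N) : H →* MulAut (X ⧸ N) where
  toFun h := QuotientGroup.congr N N (h : MulAut X) (by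
    ext x
    refine ⟨?_, fun hx => ⟨(h : MulAut X)⁻¹ x, hN _ (H.inv_mem h.2) x hx, (h : MulAut X).apply_symm_apply x⟩⟩
    rintro ⟨y, hy, rfl⟩
    exact hN h h.2 y hy)
  map_one' := MulEquiv.ext fun q => Quotient.inductionOn' q fun _ => rfl
  map_mul' _ _ := MulEquiv.ext fun q => Quotient.inductionOn' q fun _ => rfl

theorem quotHom_mk (H : Subgroup (MulAut X)) (N : Subgroup X) [N.Normal]
    (hN : ∀ h ∈ H, ∀ x ∈ N, h x ∈ N) (h : H) (x : X) :
    quotHom H N hN h (x : X ⧸ N) = (((h : MulAut X) x : X) : X ⧸ N) := rfl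

variable {p : ℕ} [Fact p.Prime]

/-- A group of automorphisms of exponent `p - 1` fixes a line in an invariant elementary subgroup. -/
theorem exists_line [Finite X] (H : Subgroup (MulAut X)) (hH : AbExp p H) :
    ∀ (d : ℕ) (M : Subgroup X), Nat.card M ≤ d → M ≠ ⊥ → (∀ x ∈ M, ∀ y ∈ M, x * y = y * x) →
      (∀ x ∈ M, x ^ p = 1) → (∀ h ∈ H, ∀ x ∈ M, h x ∈ M) →
      ∃ z ∈ M, z ≠ 1 ∧ ∀ h ∈ H, h z ∈ Subgroup.zpowers z := by
  intro d
  induction d with
  | zero => exact fun M hd => absurd hd (by have := Nat.card_pos (α := M); omega)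
  | succ d ih =>
    intro M hd hne hcomm hexp hinv
    by_cases hall : ∀ h ∈ H, ∃ a : ℕ, ∀ x ∈ M, h x = x ^ a
    · obtain ⟨z, hz, hz1⟩ := (Subgroup.ne_bot_iff_exists_ne_one.mp hne : ∃ a : M, a ≠ 1).elim
        fun a ha => (⟨(a : X), a.2, fun e => ha (Subtype.ext e)⟩ : ∃ z, z ∈ M ∧ z ≠ 1)
      refine ⟨z, hz, hz1, fun h hh => ?_⟩
      obtain ⟨a, ha⟩ := hall h hh
      exact ha z hz ▸ Subgroup.pow_mem _ (Subgroup.mem_zpowers z) a
    push Not at hall
    obtain ⟨h, hh, hno⟩ := hall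
    letI : CommGroup M :=
      { (inferInstance : Group M) with mul_comm := fun a b => Subtype.ext (hcomm a a.2 b b.2) }
    haveI : Nontrivial M := (Subgroup.nontrivial_iff_ne_bot M).mpr hne
    let f : Additive M →+ Additive M :=
      MonoidHom.toAdditive (resHom H M hinv ⟨h, hh⟩).toMonoidHom
    have hiter : ∀ (n : ℕ) (v : Additive M), (((⇑f)^[n] v).toMul : X) = (h ^ n) (v.toMul : X) := by
      intro n
      induction n with
      | zero => exact fun v => rfl
      | succ n ih =>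
        intro v
        rw [Function.iterate_succ_apply', pow_succ', MulAut.mul_apply, ← ih v]
        rfl
    obtain ⟨v, hv, a, ha⟩ := Cfsg.Lib.HSub.exists_eigen_addMonoidHom (p := p) (fun v => by
        refine Additive.toMul.injective (Subtype.ext ?_)
        rw [toMul_nsmul, SubgroupClass.coe_pow, hexp _ v.toMul.2]
        rfl) f (fun v => Additive.toMul.injective (Subtype.ext (by rw [hiter, hH.2 h hh]; rfl)))
    have hva : h (v.toMul : X) = (v.toMul : X) ^ a := by
      have := congrArg (fun w : Additive M => (w.toMul : X)) ha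
      rw [toMul_nsmul] at this
      exact this
    let M' : Subgroup X :=
      { carrier := {x | x ∈ M ∧ h x = x ^ a}
        one_mem' := ⟨M.one_mem, by simp⟩
        mul_mem' := fun {x y} hx hy => ⟨M.mul_mem hx.1 hy.1, by
          rw [map_mul, hx.2, hy.2, (Commute.mul_pow (hcomm x hx.1 y hy.1))]⟩
        inv_mem' := fun {x} hx => ⟨M.inv_mem hx.1, by rw [map_inv, hx.2, inv_pow]⟩ }
    have hle : M' ≤ M := fun x hx => hx.1
    have hlt : M' < M := lt_of_le_of_ne hle fun e => by
      obtain ⟨x, hx, hx'⟩ := hno a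
      exact hx' ((show x ∈ M' from e.symm ▸ hx).2)
    have hcard : Nat.card M' < Nat.card M := by
      refine lt_of_le_of_ne (Subgroup.card_le_of_le hle) fun e => hlt.ne ?_
      exact Subgroup.eq_of_le_of_card_ge hle e.ge
    have hM' : M' ≠ ⊥ := fun e => hv (Additive.toMul.injective (Subtype.ext (by
      have : (v.toMul : X) ∈ M' := ⟨v.toMul.2, hva⟩
      rw [e, Subgroup.mem_bot] at this
      exact this)))
    obtain ⟨z, hz, hz1, hzh⟩ := ih M' (by omega) hM'
      (fun x hx y hy => hcomm x hx.1 y hy.1) (fun x hx => hexp x hx.1) (fun g hg x hx => ⟨hinv g hg x hx.1, by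
        rw [← MulAut.mul_apply, hH.1 h hh g hg, MulAut.mul_apply, hx.2, map_pow]⟩)
    exact ⟨z, hz.1, hz1, hzh⟩

/-- An invariant central line of a nontrivial `p`-group. -/
theorem exists_central_line [Finite X] [Nontrivial X] (hX : IsPGroup p X) (H : Subgroup (MulAut X))
    (hH : AbExp p H) :
    ∃ z ∈ Subgroup.center X, z ≠ 1 ∧ ∀ h ∈ H, h z ∈ Subgroup.zpowers z := by
  let M : Subgroup X :=
    { carrier := {x | x ∈ Subgroup.center X ∧ x ^ p = 1}
      one_mem' := ⟨one_mem _, one_pow p⟩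
      mul_mem' := fun {x y} hx hy => ⟨mul_mem hx.1 hy.1, by
        rw [Commute.mul_pow (Subgroup.mem_center_iff.mp hy.1 x), hx.2, hy.2, one_mul]⟩
      inv_mem' := fun {x} hx => ⟨inv_mem hx.1, by rw [inv_pow, hx.2, inv_one]⟩ }
  have hne : M ≠ ⊥ := fun e => by
    haveI : Nontrivial (Subgroup.center X) := hX.center_nontrivial
    have hdvd : p ∣ Nat.card (Subgroup.center X) := by
      obtain ⟨l, hl, hl'⟩ := (hX.to_subgroup (Subgroup.center X)).nontrivial_iff_card.mp inferInstance
      exact hl' ▸ dvd_pow_self p hl.ne'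
    obtain ⟨⟨x, hx⟩, ho⟩ := exists_prime_orderOf_dvd_card' (G := Subgroup.center X) p hdvd
    rw [Subgroup.orderOf_mk] at ho
    have : x ∈ M := ⟨hx, ho ▸ pow_orderOf_eq_one x⟩
    rw [e, Subgroup.mem_bot] at this
    rw [this, orderOf_one] at ho
    exact (Fact.out : p.Prime).ne_one ho.symm
  obtain ⟨z, hz, hz1, hzh⟩ := exists_line H hH _ M le_rfl hne
    (fun x hx y _ => (Subgroup.mem_center_iff.mp hx.1 y).symm) (fun x hx => hx.2) (fun h hh x hx =>
      ⟨Subgroup.mem_center_iff.mpr fun y => by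
        rw [← h.apply_symm_apply y, ← map_mul, ← map_mul, Subgroup.mem_center_iff.mp hx.1],
        by rw [← map_pow, hx.2, map_one]⟩)
  exact ⟨z, hz.1, hz1, hzh⟩

/-- Invariant cyclic steps up to the whole group. -/
theorem reach_top [Finite X] (hX : IsPGroup p X) (H : Subgroup (MulAut X)) (hH : AbExp p H)
    (A : Set (MulAut X)) (hA : ∀ a ∈ A, ∃ g : X, ∃ h ∈ H, a = MulAut.conj g * h) : Reach A ⊤ := by
  have key : ∀ (d : ℕ) (K : Subgroup X), K.index ≤ d → K.Normal → (∀ h ∈ H, ∀ x ∈ K, h x ∈ K) →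
      Reach A K → Reach A ⊤ := by
    intro d
    induction d with
    | zero => exact fun K hd => absurd hd (by have := K.index_ne_zero_of_finite; omega)
    | succ d ih =>
      intro K hd hKn hKH hR
      haveI := hKn
      by_cases hKT : K = ⊤
      · exact hKT ▸ hR
      haveI : Nontrivial (X ⧸ K) := Finite.one_lt_card_iff_nontrivial.mp (by
        rw [← Subgroup.index_eq_card]
        have := K.index_ne_zero_of_finite
        have := mt Subgroup.index_eq_one.mp hKT
        omega)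
      obtain ⟨z, hzc, hz1, hzh⟩ := exists_central_line (hX.to_quotient K) (quotHom H K hKH).range
        (abExp_map hH _)
      obtain ⟨x, rfl⟩ := QuotientGroup.mk_surjective z
      set U : Subgroup X := (Subgroup.zpowers (x : X ⧸ K)).comap (QuotientGroup.mk' K)
      have hmem : ∀ y : X, y ∈ U ↔ (y : X ⧸ K) ∈ Subgroup.zpowers (x : X ⧸ K) := fun _ => Iff.rfl
      have hKU : K ≤ U := fun y hy => by
        rw [hmem, (QuotientGroup.eq_one_iff y).mpr hy]
        exact one_mem _
      have hUH : ∀ h ∈ H, ∀ y ∈ U, h y ∈ U := by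
        intro h hh y hy
        rw [hmem] at hy ⊢
        obtain ⟨k, hk⟩ := hy
        rw [← quotHom_mk H K hKH ⟨h, hh⟩ y, ← hk, map_zpow]
        exact zpow_mem (hzh _ ⟨⟨h, hh⟩, rfl⟩) k
      have hUn : U.Normal := by
        refine ⟨fun y hy g => ?_⟩
        rw [hmem] at hy ⊢
        rw [QuotientGroup.mk_mul, QuotientGroup.mk_mul, QuotientGroup.mk_inv]
        have hc : (y : X ⧸ K) ∈ Subgroup.center (X ⧸ K) := (Subgroup.zpowers_le.mpr hzc) hy
        rw [Subgroup.mem_center_iff.mp hc, mul_inv_cancel_right]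
        exact hy
      have hx : U = K ⊔ Subgroup.zpowers x := by
        refine le_antisymm (fun y hy => ?_) (sup_le hKU (Subgroup.zpowers_le.mpr (Subgroup.mem_zpowers _)))
        obtain ⟨k, hk⟩ := (hmem y).mp hy
        have hk' : y * (x ^ k)⁻¹ ∈ K := by
          rw [← QuotientGroup.eq_one_iff, QuotientGroup.mk_mul, QuotientGroup.mk_inv, QuotientGroup.mk_zpow]
          show (y : X ⧸ K) * ((x : X ⧸ K) ^ k)⁻¹ = 1
          rw [show (x : X ⧸ K) ^ k = y from hk, mul_inv_cancel]
        simpa using mul_mem (Subgroup.mem_sup_left hk' : _ ∈ K ⊔ Subgroup.zpowers x)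
          (Subgroup.mem_sup_right (zpow_mem (Subgroup.mem_zpowers x) k))
      have hlt : K < U := lt_of_le_of_ne hKU fun e => hz1
        ((QuotientGroup.eq_one_iff x).mpr (e ▸ (Subgroup.mem_zpowers _ : (x : X ⧸ K) ∈ _)))
      have hUA : Inv A U := fun a ha y hy => by
        obtain ⟨g, h, hh, rfl⟩ := hA a ha
        exact hUn.conj_mem _ (hUH h hh y hy) g
      refine ih U ?_ hUn hUH (reach_step hR hUA hKU ⟨x, hx⟩)
      have := Subgroup.index_strictAnti hlt
      omega
  exact key _ ⊥ le_rfl inferInstance (fun h _ x hx => by rw [Subgroup.mem_bot] at hx ⊢; rw [hx, map_one])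
    (reach_bot A)

end Inner

variable {Ω : Type*} [Group Ω] {S : Subgroup Ω} {p : ℕ} [Fact p.Prime] [Finite S]

/-- A resistant group with small automorphism groups gives supersoluble systems. -/
theorem superChain_of_resistant (hS : IsPGroup p S) {F : FusionSystem S} (hF : F.IsSaturated p)
    (hN : F.IsNormal S)
    (hAb : ∀ H : Subgroup (MulAut S), (Nat.card H).Coprime p → AbExp p H) : HasSuperChain F := by
  haveI : Finite (MulAut S) := Finite.of_injective (fun f : MulAut S => (f : S → S)) DFunLike.coe_injective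
  obtain ⟨-, R, hR⟩ := ((saturated_iff_top_receptive hS).mp hF).1
  haveI : ((R : Subgroup (F.autGroup S))).Normal := by
    rw [hR]
    refine ⟨fun β hβ α => ?_⟩
    rw [Subgroup.mem_subgroupOf] at hβ ⊢
    obtain ⟨g, hg, eg⟩ := mem_autInducedBy.mp hβ
    refine mem_autInducedBy.mpr ⟨((α : MulAut S) ⟨g, hg⟩ : S), SetLike.coe_mem _, fun x => ?_⟩
    have e1 : (β : MulAut S) ((α : MulAut S)⁻¹ x) = ⟨g, hg⟩ * (α : MulAut S)⁻¹ x * (⟨g, hg⟩ : S)⁻¹ :=
      Subtype.ext (eg _)
    show (((α : MulAut S) ((β : MulAut S) ((α : MulAut S)⁻¹ x)) : S) : Ω) = _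
    rw [e1, map_mul, map_mul, map_inv, show (α : MulAut S) ((α : MulAut S)⁻¹ x) = x from
      (α : MulAut S).apply_symm_apply x]
    rfl
  obtain ⟨H₀, hH₀⟩ := Subgroup.exists_right_complement'_of_coprime R.card_coprime_index
  have hcop : (Nat.card (H₀.map (F.autGroup S).subtype)).Coprime p := by
    rw [Subgroup.card_map_of_injective (Subgroup.subtype_injective _), ← hH₀.symm.index_eq_card]
    exact ((Fact.out : p.Prime).coprime_iff_not_dvd.mpr R.not_dvd_index).symm
  have hreach := reach_top hS _ (hAb _ hcop) (F.autGroup S : Set (MulAut S)) fun a ha => by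
    obtain ⟨⟨r, h⟩, e⟩ := hH₀.2 (⟨a, ha⟩ : F.autGroup S)
    have hr : ((r : F.autGroup S) : MulAut S) ∈ autInducedBy S S := Subgroup.mem_subgroupOf.mp (hR ▸ r.2)
    obtain ⟨g, hg, eg⟩ := mem_autInducedBy.mp hr
    refine ⟨⟨g, hg⟩, _, ⟨(h : F.autGroup S), h.2, rfl⟩, ?_⟩
    have e' : ((r : F.autGroup S) : MulAut S) = MulAut.conj (⟨g, hg⟩ : S) :=
      MulEquiv.ext fun x => Subtype.ext ((eg x).trans rfl)
    have e2 : ((r : F.autGroup S) : MulAut S) * ((h : F.autGroup S) : MulAut S) = a := congrArg Subtype.val e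
    rw [← e2, e']
    rfl
  obtain ⟨m, c, h0, hlast, hinv, hstep⟩ := hreach
  refine ⟨m, fun i => (c i).map S.subtype, ?_, ?_, fun i => ?_, fun i => ?_⟩
  · show (c 0).map S.subtype = ⊥
    rw [h0, Subgroup.map_bot]
  · show (c (Fin.last m)).map S.subtype = S
    rw [hlast, ← MonoidHom.range_eq_map, Subgroup.range_subtype]
  · refine stronglyClosed_of_apply (Subgroup.map_subtype_le _) fun P f hf x hx hxR => ?_
    obtain ⟨k, hk, hkf, hki⟩ := extend_of_isNormal hN hf
    obtain ⟨γ, hγ, hγk⟩ := (hk.mono le_sup_right).exists_aut hki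
    obtain ⟨y, hy, rfl⟩ := hxR
    refine ⟨γ y, hinv i γ hγ y hy, ?_⟩
    show ((γ y : S) : Ω) = _
    rw [← autFun_apply, hγk _ y.2]
    exact hkf _ hx
  · obtain ⟨hle, x, hx'⟩ := hstep i
    refine ⟨Subgroup.map_mono hle, x, x.2, ?_⟩
    show (c i.succ).map S.subtype = _
    rw [hx', Subgroup.map_sup, MonoidHom.map_zpowers]
    rfl

/-- A cyclic step refines to steps of index dividing `p`. -/
theorem exists_refine {F : FusionSystem S} (hS : IsPGroup p S) {T : Subgroup Ω} (hT : F.StronglyClosed T) :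
    ∀ (e : ℕ) (x : Ω), x ∈ S → x ^ p ^ e ∈ T → F.StronglyClosed (T ⊔ Subgroup.zpowers x) →
    ∀ (n : ℕ) (C : ℕ → Subgroup Ω), C 0 = ⊥ → C n = T → (∀ i < n, C i ≤ C (i + 1) ∧
      F.StronglyClosed (C (i + 1)) ∧ (C i).relIndex (C (i + 1)) ∣ p) →
    ∃ (n : ℕ) (C : ℕ → Subgroup Ω), C 0 = ⊥ ∧ C n = T ⊔ Subgroup.zpowers x ∧ ∀ i < n, C i ≤ C (i + 1) ∧
      F.StronglyClosed (C (i + 1)) ∧ (C i).relIndex (C (i + 1)) ∣ p := by
  intro e
  induction e with
  | zero =>
    intro x hx hxT _ n C h0 hn hC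
    rw [pow_zero, pow_one] at hxT
    exact ⟨n, C, h0, hn.trans (sup_eq_left.mpr (Subgroup.zpowers_le.mpr hxT)).symm, hC⟩
  | succ e ih =>
    intro x hx hxT hT' n C h0 hn hC
    by_cases hlow : x ^ p ^ e ∈ T
    · exact ih x hx hlow hT' n C h0 hn hC
    set N : Subgroup Ω := Subgroup.normalizer (T : Set Ω)
    have hSN : S ≤ N := normalizes_of_stronglyClosed hT
    have hTN : T ≤ N := Subgroup.le_normalizer
    haveI : (T.subgroupOf N).Normal := Subgroup.normal_subgroupOf_iff_le_normalizer hTN |>.mpr le_rfl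
    set θ : N →* N ⧸ T.subgroupOf N := QuotientGroup.mk' _
    have hθ : ∀ y : N, θ y = 1 ↔ (y : Ω) ∈ T := fun y =>
      (QuotientGroup.eq_one_iff y).trans Subgroup.mem_subgroupOf
    set q := θ ⟨x, hSN hx⟩ with hq
    have hqo : orderOf q = p ^ (e + 1) := by
      refine orderOf_eq_prime_pow ?_ ?_
      · rw [← map_pow, hθ]; exact hlow
      · rw [← map_pow, hθ]; exact hxT
    have hmem : ∀ (w : Ω) (y : Ω) (hy : y ∈ N), y ∈ T ⊔ Subgroup.zpowers w → ∀ (hw : w ∈ N),
        ∃ k : ℤ, θ ⟨y, hy⟩ = θ ⟨w, hw⟩ ^ k := by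
      intro w y hy hyU hw
      have : (⟨y, hy⟩ : N) ∈ (T.subgroupOf N) ⊔ (Subgroup.zpowers w).subgroupOf N := by
        rw [← Subgroup.subgroupOf_sup hTN (Subgroup.zpowers_le.mpr hw)]
        exact hyU
      obtain ⟨a, ha, b, hb, hab⟩ := Subgroup.mem_sup_of_normal_left.mp this
      obtain ⟨k, hk⟩ := hb
      refine ⟨k, ?_⟩
      rw [← hab, map_mul, (hθ a).mpr ha, one_mul, ← map_zpow]
      exact congrArg θ (Subtype.ext (show (b : Ω) = ((⟨w, hw⟩ ^ k : N) : Ω) by rw [SubgroupClass.coe_zpow]; exact hk.symm))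
    set U : Subgroup Ω := T ⊔ Subgroup.zpowers (x ^ p)
    have hUle : U ≤ T ⊔ Subgroup.zpowers x :=
      sup_le le_sup_left ((Subgroup.zpowers_le.mpr (pow_mem (Subgroup.mem_zpowers x) p)).trans le_sup_right)
    have hchar : ∀ y ∈ T ⊔ Subgroup.zpowers x, y ∈ U ↔ y ^ p ^ e ∈ T := by
      intro y hy
      have hyN : y ∈ N := (sup_le hTN (Subgroup.zpowers_le.mpr (hSN hx))) hy
      constructor
      · intro hyU
        obtain ⟨k, hk⟩ := hmem (x ^ p) y hyN hyU (N.pow_mem (hSN hx) p)
        refine (hθ (⟨y, hyN⟩ ^ p ^ e)).mp ?_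
        rw [map_pow, hk, show (⟨x ^ p, N.pow_mem (hSN hx) p⟩ : N) = ⟨x, hSN hx⟩ ^ p from rfl, map_pow,
          ← zpow_natCast, ← zpow_mul, mul_comm, zpow_mul, zpow_natCast, ← pow_mul, ← pow_succ',
          show q ^ p ^ (e + 1) = 1 from hqo ▸ pow_orderOf_eq_one q, one_zpow]
      · intro hpow
        obtain ⟨k, hk⟩ := hmem x y hyN hy (hSN hx)
        have h1 : q ^ (k * (p ^ e : ℕ)) = 1 := by
          rw [zpow_mul, hq, ← hk, zpow_natCast, ← map_pow]
          exact (hθ _).mpr hpow
        rw [← orderOf_dvd_iff_zpow_eq_one, hqo] at h1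
        push_cast [pow_succ'] at h1
        obtain ⟨l, hl⟩ := Int.dvd_of_mul_dvd_mul_right (pow_ne_zero e (Int.natCast_ne_zero.mpr (Fact.out : p.Prime).ne_zero)) h1
        have h2 : y * ((x ^ p) ^ l)⁻¹ ∈ T := by
          refine (hθ (⟨y, hyN⟩ * (((⟨x, hSN hx⟩ : N) ^ p) ^ l)⁻¹)).mp ?_
          rw [map_mul, map_inv, map_zpow, map_pow, hk, hl, zpow_mul, zpow_natCast, mul_inv_cancel]
        simpa using U.mul_mem (Subgroup.mem_sup_left h2)
          (Subgroup.mem_sup_right (zpow_mem (Subgroup.mem_zpowers (x ^ p)) l))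
    have hUc : F.StronglyClosed U := by
      refine stronglyClosed_of_apply (sup_le hT.1 (Subgroup.zpowers_le.mpr (S.pow_mem hx p))) fun P f hf y hy hyU => ?_
      have h1 := stronglyClosed_apply hT' hf hy (hUle hyU)
      refine (hchar _ h1).mpr ?_
      rw [← hf.map_pow hy]
      exact stronglyClosed_apply hT hf (P.pow_mem hy _) ((hchar y (hUle hyU)).mp hyU)
    have hrel : U.relIndex (T ⊔ Subgroup.zpowers x) ∣ p := by
      set V := T ⊔ Subgroup.zpowers x
      have hVn : V ≤ Subgroup.normalizer (U : Set Ω) := hT'.1.trans (normalizes_of_stronglyClosed hUc)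
      haveI : (U.subgroupOf V).Normal := (Subgroup.normal_subgroupOf_iff_le_normalizer hUle).mpr hVn
      set g : V ⧸ U.subgroupOf V := QuotientGroup.mk ⟨x, Subgroup.mem_sup_right (Subgroup.mem_zpowers x)⟩
      have hgen : Subgroup.zpowers g = ⊤ := by
        refine eq_top_iff.mpr fun c _ => ?_
        obtain ⟨⟨y, hy⟩, rfl⟩ := QuotientGroup.mk_surjective c
        obtain ⟨k, hk⟩ := hmem x y ((sup_le hTN (Subgroup.zpowers_le.mpr (hSN hx))) hy) hy (hSN hx)
        refine ⟨k, ?_⟩
        show g ^ k = _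
        rw [← QuotientGroup.mk_zpow]
        refine QuotientGroup.eq.mpr (Subgroup.mem_subgroupOf.mpr (Subgroup.mem_sup_left ?_))
        rw [← map_zpow] at hk
        have := QuotientGroup.eq.mp hk.symm
        rw [Subgroup.mem_subgroupOf] at this
        simpa using this
      have hgp : g ^ p = 1 :=
        (QuotientGroup.eq_one_iff _).mpr (Subgroup.mem_subgroupOf.mpr
          (Subgroup.mem_sup_right (Subgroup.mem_zpowers (x ^ p))))
      have hcard : orderOf g = U.relIndex V := by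
        rw [← Nat.card_zpowers, hgen, Subgroup.card_top, Subgroup.relIndex, Subgroup.index_eq_card]
      exact hcard ▸ orderOf_dvd_of_pow_eq_one hgp
    obtain ⟨n', C', h0', hn', hC'⟩ := ih (x ^ p) (S.pow_mem hx p)
      (by rw [← pow_mul, ← pow_succ']; exact hxT) hUc n C h0 hn hC
    refine ⟨n' + 1, fun i => if i ≤ n' then C' i else T ⊔ Subgroup.zpowers x, by simp [h0'], by simp, fun i hi => ?_⟩
    rcases Nat.lt_or_ge i n' with h | h
    · simp only [if_pos h.le, if_pos (Nat.succ_le_of_lt h)]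
      exact hC' i h
    · obtain rfl : i = n' := by omega
      simp only [le_refl, if_true, if_neg (Nat.not_succ_le_self i)]
      rw [hn']
      exact ⟨hUle, hT', hrel⟩

/-- A supersoluble system has a chain with steps of index dividing `p`. -/
theorem exists_pChain (hS : IsPGroup p S) {F : FusionSystem S} (h : HasSuperChain F) :
    ∃ (n : ℕ) (C : ℕ → Subgroup Ω), C 0 = ⊥ ∧ C n = S ∧ ∀ i < n, C i ≤ C (i + 1) ∧
      F.StronglyClosed (C (i + 1)) ∧ (C i).relIndex (C (i + 1)) ∣ p := by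
  obtain ⟨m, c, h0, hlast, hsc, hstep⟩ := h
  suffices ∀ i : Fin (m + 1), ∃ (n : ℕ) (C : ℕ → Subgroup Ω), C 0 = ⊥ ∧ C n = c i ∧ ∀ i < n, C i ≤ C (i + 1) ∧
      F.StronglyClosed (C (i + 1)) ∧ (C i).relIndex (C (i + 1)) ∣ p by
    obtain ⟨n, C, h1, h2, h3⟩ := this (Fin.last m)
    exact ⟨n, C, h1, h2.trans hlast, h3⟩
  intro i
  induction i using Fin.induction with
  | zero => exact ⟨0, fun _ => ⊥, rfl, h0.symm, fun i hi => absurd hi (Nat.not_lt_zero i)⟩
  | succ i ih =>
    obtain ⟨n, C, hC0, hCn, hC⟩ := ih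
    obtain ⟨-, x, hx, e⟩ := hstep i
    obtain ⟨k, hk⟩ := hS ⟨x, hx⟩
    rw [e]
    exact exists_refine hS (hsc i.castSucc) k x hx
      (by rw [show x ^ p ^ k = 1 from congrArg Subtype.val hk]; exact one_mem _) (e ▸ hsc i.succ) n C hC0 hCn hC

/-- Supersoluble systems have a normal Sylow group. -/
theorem isNormal_of_superChain (hS : IsPGroup p S) {F : FusionSystem S} (hF : F.IsSaturated p)
    (h : HasSuperChain F) : F.IsNormal S := by
  obtain ⟨n, C, h0, hn, hC⟩ := exists_pChain hS h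
  refine isNormal_of_chain hS hF ⟨le_rfl, fun _ _ φ hφ x => (F.le_of_mem hφ).2 x⟩ n C h0 hn.ge
    (fun i hi => (hC i hi).2.1) fun i hi => ?_
  obtain ⟨hle, hsc, hrel⟩ := hC i hi
  have hnA : S ≤ Subgroup.normalizer (C i : Set Ω) := by
    rcases i with _ | j
    · exact fun s _ => Subgroup.mem_normalizer_iff.mpr fun y => by simp [h0, conj_eq_one_iff]
    · exact normalizes_of_stronglyClosed (hC j (by omega)).2.1
  have hnB := normalizes_of_stronglyClosed hsc
  haveI := finite_of_le hsc.1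
  haveI : ((C i).subgroupOf (C (i + 1))).Normal :=
    (Subgroup.normal_subgroupOf_iff_le_normalizer hle).mpr (hsc.1.trans hnA)
  rw [Subgroup.commutator_le]
  intro y hy g hg
  obtain ⟨k, hk⟩ := hS ⟨g, hg⟩
  have := mul_inv_mem_of_index_dvd (p := p) ((C i).subgroupOf (C (i + 1))) hrel (conjAut _ g (hnB hg))
    (fun q hq => by
      rw [Subgroup.mem_subgroupOf] at hq ⊢
      rw [conjAut_apply]
      exact conj_mem_of_mem_normalizer (hnA hg) hq)
    ⟨k, MulEquiv.ext fun z => Subtype.ext ?_⟩ ⟨y⁻¹, inv_mem hy⟩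
  · rw [Subgroup.mem_subgroupOf] at this
    simp only [Subgroup.coe_mul, Subgroup.coe_inv, conjAut_apply] at this
    rw [inv_inv] at this
    have h2 := conj_mem_of_mem_normalizer (hnA (hsc.1 hy)) this
    convert h2 using 1
    rw [commutatorElement_def]
    group
  · have hpow : ∀ j : ℕ, ((((conjAut _ g (hnB hg)) ^ j) z : C (i + 1)) : Ω) = g ^ j * z * (g ^ j)⁻¹ := by
      intro j
      induction j with
      | zero => simp
      | succ j ih => rw [pow_succ', MulAut.mul_apply, conjAut_apply, ih, pow_succ']; group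
    rw [hpow, show g ^ p ^ k = 1 from congrArg Subtype.val hk]
    simp

/-- Automorphism groups of order prime to `p` are small when all systems are supersoluble. -/
theorem abExp_of_superChain (hS : IsPGroup p S)
    (h : ∀ F : FusionSystem S, F.IsSaturated p → HasSuperChain F) (H : Subgroup (MulAut S))
    (hcop : (Nat.card H).Coprime p) : AbExp p H := by
  classical
  have hp : p.Prime := Fact.out
  haveI : Finite (MulAut S) := Finite.of_injective (fun f : MulAut S => (f : S → S)) DFunLike.coe_injective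
  let G := S ⋊[H.subtype] H
  haveI : Finite G := Finite.of_equiv _ SemidirectProduct.equivProd.symm
  let ι : S →* G := SemidirectProduct.inl
  have hι : Function.Injective ι := SemidirectProduct.inl_injective
  have hidx : ι.range.index = Nat.card H := by
    rw [SemidirectProduct.range_inl_eq_ker_rightHom, Subgroup.index_ker,
      MonoidHom.range_eq_top.mpr SemidirectProduct.rightHom_surjective, Subgroup.card_top]
  have hnd : ¬ p ∣ ι.range.index := fun hd => hp.coprime_iff_not_dvd.mp hcop.symm (hidx ▸ hd)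
  have hrp : IsPGroup p ι.range := hS.of_surjective ι.rangeRestrict ι.rangeRestrict_surjective
  obtain ⟨n, C, h0, hn, hC⟩ := exists_pChain hS
    (h _ (saturated_pullSystem ι hι (hrp.toSylow hnd) rfl))
  have hinv : ∀ i ≤ n, ∀ k ∈ H, ∀ x ∈ (C i).subgroupOf S, k x ∈ (C i).subgroupOf S := by
    intro i hi k hk x hx
    rw [Subgroup.mem_subgroupOf] at hx ⊢
    rcases i with _ | j
    · rw [h0, Subgroup.mem_bot] at hx ⊢
      rw [show x = 1 from Subtype.ext hx, map_one]
      rfl
    refine mem_of_conj_pullSystem (hC j (by omega)).2.1 hx (SemidirectProduct.inr ⟨k, hk⟩) ?_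
    rw [← map_inv, ← SemidirectProduct.inl_aut]
    rfl
  have key : ∀ i ≤ n, ∀ k : MulAut S, k ∈ H →
      ((∃ a ∈ H, ∃ b ∈ H, k = a * b * a⁻¹ * b⁻¹) ∨ ∃ a ∈ H, k = a ^ (p - 1)) →
      ∀ x ∈ (C i).subgroupOf S, k x = x := by
    intro i
    induction i with
    | zero =>
      intro _ k _ _ x hx
      rw [Subgroup.mem_subgroupOf, h0, Subgroup.mem_bot] at hx
      rw [show x = 1 from Subtype.ext hx, map_one]
    | succ i ih =>
      intro hi k hk hform x hx
      obtain ⟨hle, hsc, hrel⟩ := hC i (by omega)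
      set B := (C (i + 1)).subgroupOf S
      set ρ := resHom H B (hinv (i + 1) hi)
      set A := ((C i).subgroupOf S).subgroupOf B
      have hA : A.index ∣ p := by
        show ((C i).subgroupOf S).relIndex B ∣ p
        rw [Subgroup.relIndex_subgroupOf hsc.1]
        exact hrel
      haveI : A.Normal := by
        refine ⟨fun a ha b => ?_⟩
        rw [Subgroup.mem_subgroupOf, Subgroup.mem_subgroupOf] at ha ⊢
        rcases i with _ | j
        · rw [h0, Subgroup.mem_bot] at ha ⊢
          simp only [Subgroup.coe_mul, Subgroup.coe_inv, ha, mul_one, mul_inv_cancel]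
        · exact conj_mem_of_mem_normalizer
            (normalizes_of_stronglyClosed (hC j (by omega)).2.1 ((b : S)).2) ha
      have hAinv : ∀ a ∈ ρ.range, ∀ z ∈ A, a z ∈ A := by
        rintro _ ⟨a, rfl⟩ z hz
        exact hinv i (by omega) a a.2 z hz
      set σ : H →* MulAut (B ⧸ A) := (quotHom ρ.range A hAinv).comp ρ.rangeRestrict
      have hσ : σ ⟨k, hk⟩ = 1 := by
        haveI : IsCyclic (B ⧸ A) := by
          rcases (Nat.dvd_prime hp).mp (A.index_eq_card ▸ hA) with e | e
          · haveI := (Nat.card_eq_one_iff_unique.mp e).1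
            exact isCyclic_of_subsingleton
          · exact isCyclic_of_prime_card e
        let φ := IsCyclic.mulAutMulEquiv (B ⧸ A)
        refine φ.injective ?_
        rw [map_one]
        rcases hform with ⟨a, ha, b, hb, rfl⟩ | ⟨a, ha, rfl⟩
        · show φ (σ (⟨a, ha⟩ * ⟨b, hb⟩ * ⟨a, ha⟩⁻¹ * ⟨b, hb⟩⁻¹)) = 1
          simp only [map_mul, map_inv]
          rw [mul_right_comm (φ (σ ⟨a, ha⟩)), mul_inv_cancel, one_mul, mul_inv_cancel]
        · show φ (σ (⟨a, ha⟩ ^ (p - 1))) = 1
          rw [map_pow, map_pow]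
          have hc : Nat.totient (Nat.card (B ⧸ A)) ∣ p - 1 := by
            rcases (Nat.dvd_prime hp).mp (A.index_eq_card ▸ hA) with e | e
            · rw [e, Nat.totient_one]; exact one_dvd _
            · rw [e, Nat.totient_prime hp]
          obtain ⟨l, hl⟩ := hc
          haveI : NeZero (Nat.card (B ⧸ A)) := ⟨Nat.card_pos.ne'⟩
          rw [hl, pow_mul, ZMod.pow_totient, one_pow]
      have h1 : x⁻¹ * k x ∈ (C i).subgroupOf S := by
        have h2 := congrArg (fun f : MulAut (B ⧸ A) => f ((⟨x, hx⟩ : B) : B ⧸ A)) hσ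
        simp only [MulAut.one_apply] at h2
        exact Subgroup.mem_subgroupOf.mp (QuotientGroup.eq.mp h2.symm)
      refine fix_of_fix_diff hS (hcop.of_dvd_left ?_) (ih (by omega) k hk hform _ h1)
      exact (Subgroup.orderOf_mk k hk).symm ▸ orderOf_dvd_natCard (⟨k, hk⟩ : H)
  have hall : ∀ k ∈ H, ((∃ a ∈ H, ∃ b ∈ H, k = a * b * a⁻¹ * b⁻¹) ∨ ∃ a ∈ H, k = a ^ (p - 1)) →
      k = 1 := fun k hk hform =>
    MulEquiv.ext fun x => key n le_rfl k hk hform x (Subgroup.mem_subgroupOf.mpr (hn.ge x.2))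
  refine ⟨fun a ha b hb => ?_, fun a ha => hall _ (H.pow_mem ha _) (Or.inr ⟨a, ha, rfl⟩)⟩
  have := hall _ (H.mul_mem (H.mul_mem (H.mul_mem ha hb) (H.inv_mem ha)) (H.inv_mem hb))
    (Or.inl ⟨a, ha, b, hb, rfl⟩)
  rwa [mul_inv_eq_one, mul_inv_eq_iff_eq_mul] at this

end Cfsg.Lib.Fusion.Supersoluble
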