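import Mathlib

/-!
A group of linear maps of a three-dimensional space over `ZMod p` that has a strongly `p`-embedded
subgroup and contains a transvection `t`: the `p`-subgroups containing `t` are generated by `t`, and the
group contains the diagonal element of the `SL(2, p)` through `t`.
-/

set_option autoImplicit false
set_option linter.unusedSectionVars false
set_option linter.style.haveILetI false

namespace Cfsg.Lib.Fusion.TransvectionThree

open Subgroup
open scoped commutatorElement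

variable {p : ℕ} [hp : Fact p.Prime] {V : Type*} [AddCommGroup V] [Module (ZMod p) V]
  {H : Type*} [Group H] (ρ : H →* Module.End (ZMod p) V)

/-- `h` acts as the transvection `v ↦ v + φ v • c`. -/
structure IsTv (h : H) (φ : Module.Dual (ZMod p) V) (c : V) : Prop where
  dual : φ ≠ 0
  vec : c ≠ 0
  kills : φ c = 0
  act : ∀ v, ρ h v = v + φ v • c

/-- What is used of a strongly `p`-embedded subgroup. -/
structure SEData (p : ℕ) (M : Subgroup H) : Prop where
  ne_top : M ≠ ⊤
  normalizer_le : ∀ T : Subgroup H, T ≤ M → IsPGroup p T → T ≠ ⊥ → Subgroup.normalizer (T : Set H) ≤ M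
  disjoint : ∀ g u : H, u ∈ M → g * u * g⁻¹ ∈ M → u ^ p = 1 → u ≠ 1 → g ∈ M

variable {ρ}

theorem mul_apply' (g h : H) (v : V) : ρ (g * h) v = ρ g (ρ h v) := by
  rw [map_mul]; rfl

theorem one_apply' (v : V) : ρ 1 v = v := by
  rw [map_one]; rfl

theorem inv_apply' (g : H) (v : V) : ρ g⁻¹ (ρ g v) = v := by
  rw [← mul_apply', inv_mul_cancel, one_apply']

theorem apply_inv' (g : H) (v : V) : ρ g (ρ g⁻¹ v) = v := by
  rw [← mul_apply', mul_inv_cancel, one_apply']

theorem eq_of_act (hρ : Function.Injective ρ) {g h : H} (e : ∀ v, ρ g v = ρ h v) : g = h :=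
  hρ (LinearMap.ext e)

namespace IsTv

variable {u w : H} {φ ψ : Module.Dual (ZMod p) V} {c d : V}

theorem pow_act (h : IsTv ρ u φ c) (k : ℕ) (v : V) : ρ (u ^ k) v = v + ((k : ZMod p) * φ v) • c := by
  induction k generalizing v with
  | zero => simp [one_apply']
  | succ k ih =>
    rw [pow_succ, mul_apply', h.act, ih, map_add, map_smul, h.kills, smul_zero, add_zero, add_assoc,
      ← add_smul]
    congr 2
    push_cast
    ring

theorem scale (h : IsTv ρ u φ c) {a : ZMod p} (ha : a ≠ 0) : IsTv ρ u (a • φ) (a⁻¹ • c) where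
  dual := smul_ne_zero ha h.dual
  vec := smul_ne_zero (inv_ne_zero ha) h.vec
  kills := by simp [h.kills]
  act v := by
    rw [h.act, LinearMap.smul_apply, smul_smul, smul_eq_mul, mul_right_comm, mul_inv_cancel₀ ha, one_mul]

theorem powTv (h : IsTv ρ u φ c) {a : ZMod p} (ha : a ≠ 0) : IsTv ρ (u ^ a.val) (a • φ) c where
  dual := smul_ne_zero ha h.dual
  vec := h.vec
  kills := by simp [h.kills]
  act v := by rw [h.pow_act, ZMod.natCast_zmod_val, LinearMap.smul_apply, smul_eq_mul]

theorem pow_prime (h : IsTv ρ u φ c) (hρ : Function.Injective ρ) : u ^ p = 1 :=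
  eq_of_act hρ fun v => by rw [h.pow_act, ZMod.natCast_self, zero_mul, zero_smul, add_zero, one_apply']

theorem ne_one (h : IsTv ρ u φ c) : u ≠ 1 := by
  rintro rfl
  obtain ⟨v, hv⟩ : ∃ v, φ v ≠ 0 := by
    by_contra hh; push Not at hh; exact h.dual (LinearMap.ext hh)
  have := h.act v
  rw [one_apply', left_eq_add, smul_eq_zero] at this
  exact this.elim hv h.vec

theorem conjTv (h : IsTv ρ u φ c) (g : H) : IsTv ρ (g * u * g⁻¹) (φ.comp (ρ g⁻¹)) (ρ g c) where
  dual e := h.dual (LinearMap.ext fun v => by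
    have := LinearMap.congr_fun e (ρ g v)
    simpa [inv_apply'] using this)
  vec e := h.vec (by rw [← inv_apply' (ρ := ρ) g c, e, map_zero])
  kills := by simp [inv_apply', h.kills]
  act v := by
    rw [mul_apply', mul_apply', h.act, map_add, map_smul, apply_inv']
    rfl

/-- Two transvections with each centre on the axis of the other commute. -/
theorem comm (h : IsTv ρ u φ c) (h' : IsTv ρ w ψ d) (hρ : Function.Injective ρ) (e : φ d = 0)
    (e' : ψ c = 0) : Commute u w :=
  eq_of_act hρ fun v => by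
    simp only [mul_apply', h.act, h'.act, map_add, map_smul, e, e', smul_zero, add_zero]
    rw [add_right_comm]

/-- The commutator when one centre is on the other axis. -/
theorem commutatorTv (h : IsTv ρ u φ c) (h' : IsTv ρ w ψ d) (e : ψ c = 0) (e' : φ d ≠ 0) :
    IsTv ρ ⁅u, w⁆ ψ (φ d • c) where
  dual := h'.dual
  vec := smul_ne_zero e' h.vec
  kills := by simp [e]
  act v := by
    have hu : ∀ v, ρ u⁻¹ v = v - φ v • c := fun v => by
      have : ρ u (v - φ v • c) = v := by
        rw [h.act, map_sub, map_smul, h.kills, smul_zero, sub_zero, sub_add_cancel]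
      conv_lhs => rw [← this, inv_apply']
    have hw : ∀ v, ρ w⁻¹ v = v - ψ v • d := fun v => by
      have : ρ w (v - ψ v • d) = v := by
        rw [h'.act, map_sub, map_smul, h'.kills, smul_zero, sub_zero, sub_add_cancel]
      conv_lhs => rw [← this, inv_apply']
    rw [commutatorElement_def]
    simp only [mul_apply', hu, hw, h.act, h'.act, map_sub, map_add, map_smul, e, h.kills, h'.kills,
      smul_eq_mul, mul_zero, sub_zero, add_zero, sub_smul, add_smul, smul_smul]
    module

/-- Transvections with a common centre multiply. -/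
theorem mul_sameCentre (h : IsTv ρ u φ c) (h' : IsTv ρ w ψ c) (hne : φ + ψ ≠ 0) :
    IsTv ρ (u * w) (φ + ψ) c where
  dual := hne
  vec := h.vec
  kills := by simp [h.kills, h'.kills]
  act v := by
    simp only [mul_apply', h.act, h'.act, map_add, map_smul, h.kills, smul_zero, add_zero,
      LinearMap.add_apply, add_smul]
    abel

/-- Transvections with a common axis multiply. -/
theorem mul_sameAxis (h : IsTv ρ u φ c) (h' : IsTv ρ w φ d) (hne : c + d ≠ 0) :
    IsTv ρ (u * w) φ (c + d) where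
  dual := h.dual
  vec := hne
  kills := by simp [h.kills, h'.kills]
  act v := by
    simp only [mul_apply', h.act, h'.act, map_add, map_smul, h'.kills, smul_zero, add_zero, smul_add]
    abel

end IsTv

/-! ### Conjugates of the embedded subgroup -/

/-- The conjugate of `M` by `g`. -/
def conjM (M : Subgroup H) (g : H) : Subgroup H := M.map (MulAut.conj g).toMonoidHom

theorem mem_conjM {M : Subgroup H} {g h : H} : h ∈ conjM M g ↔ g⁻¹ * h * g ∈ M := by
  rw [conjM, Subgroup.mem_map_equiv]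
  simp

theorem conjM_one (M : Subgroup H) : conjM M 1 = M := by
  ext h
  rw [mem_conjM]
  simp

variable {M : Subgroup H} (D : SEData p M) (hρ : Function.Injective ρ)
include D hρ

omit hρ in
theorem isPGroup_zpowers {u : H} (hup : u ^ p = 1) : IsPGroup p (zpowers u) := fun x => by
  obtain ⟨x, k, rfl⟩ := x
  refine ⟨1, Subtype.ext ?_⟩
  show (u ^ k) ^ (p ^ 1) = 1
  rw [pow_one, ← zpow_natCast, ← zpow_mul, mul_comm, zpow_mul, zpow_natCast, hup, one_zpow]

omit hρ in
theorem mem_of_commute {g u w : H} (hu : u ∈ conjM M g) (hu1 : u ≠ 1) (hup : u ^ p = 1)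
    (h : Commute u w) : w ∈ conjM M g := by
  rw [mem_conjM] at hu ⊢
  set a := g⁻¹ * u * g with ha
  have ha1 : a ≠ 1 := fun e => hu1 (by
    rw [show u = g * a * g⁻¹ by rw [ha]; group, e]; group)
  have hap : a ^ p = 1 := by
    have := conj_pow (a := g⁻¹) (b := u) (i := p)
    rw [inv_inv] at this
    rw [ha, this, hup, mul_one, inv_mul_cancel]
  refine D.normalizer_le (zpowers a) (zpowers_le.2 hu) (isPGroup_zpowers D hap)
    (fun e => ha1 (zpowers_eq_bot.1 e)) ?_
  have hc : Commute (g⁻¹ * w * g) a := by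
    show _ * _ = _ * _
    rw [ha, show g⁻¹ * w * g * (g⁻¹ * u * g) = g⁻¹ * (w * u) * g by group,
      show g⁻¹ * u * g * (g⁻¹ * w * g) = g⁻¹ * (u * w) * g by group, h.eq]
  refine Subgroup.mem_normalizer_iff.2 fun x => ⟨?_, ?_⟩
  · rintro ⟨k, rfl⟩
    exact ⟨k, by rw [(hc.zpow_right k).eq, mul_inv_cancel_right]⟩
  · rintro ⟨k, hk⟩
    refine ⟨k, ?_⟩
    have := (hc.zpow_right k).eq
    change a ^ k = _ at hk
    calc a ^ k = (g⁻¹ * w * g)⁻¹ * (g⁻¹ * w * g * a ^ k) := (inv_mul_cancel_left _ _).symm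
      _ = (g⁻¹ * w * g)⁻¹ * (a ^ k * (g⁻¹ * w * g)) := by rw [this]
      _ = x := by rw [hk]; group

omit hρ in
/-- An element of order `p` lies in one conjugate only. -/
theorem conj_unique {g g' u : H} (h : u ∈ conjM M g) (h' : u ∈ conjM M g') (hup : u ^ p = 1)
    (hu1 : u ≠ 1) : g⁻¹ * g' ∈ M := by
  rw [mem_conjM] at h h'
  refine D.disjoint (g⁻¹ * g') (g'⁻¹ * u * g') h' ?_ ?_ ?_
  · rwa [show g⁻¹ * g' * (g'⁻¹ * u * g') * (g⁻¹ * g')⁻¹ = g⁻¹ * u * g by group]
  · have := conj_pow (a := g'⁻¹) (b := u) (i := p)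
    rw [inv_inv] at this
    rw [this, hup, mul_one, inv_mul_cancel]
  · exact fun e => hu1 (by rw [show u = g' * (g'⁻¹ * u * g') * g'⁻¹ by group, e]; group)

/-- Transvections with one centre on the other axis lie in the same conjugate. -/
theorem mem_of_incident {g u w : H} {φ ψ : Module.Dual (ZMod p) V} {c d : V} (hu : IsTv ρ u φ c)
    (hw : IsTv ρ w ψ d) (h : ψ c = 0 ∨ φ d = 0) (hm : u ∈ conjM M g) : w ∈ conjM M g := by
  have key : ∀ z, IsTv ρ z ψ (φ d • c) ∨ IsTv ρ z φ (ψ c • d) → Commute u z → Commute z w →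
      w ∈ conjM M g := fun z hz h1 h2 => by
    have hzp : z ^ p = 1 ∧ z ≠ 1 := hz.elim (fun h => ⟨h.pow_prime hρ, h.ne_one⟩)
      fun h => ⟨h.pow_prime hρ, h.ne_one⟩
    exact mem_of_commute D (mem_of_commute D hm hu.ne_one (hu.pow_prime hρ) h1) hzp.2 hzp.1 h2
  by_cases h1 : ψ c = 0 <;> by_cases h2 : φ d = 0
  · exact mem_of_commute D hm hu.ne_one (hu.pow_prime hρ) (hu.comm hw hρ h2 h1)
  · have hz := hu.commutatorTv hw h1 h2
    exact key _ (Or.inl hz) (hu.comm hz hρ (by simp [hu.kills]) h1)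
      (hz.comm hw hρ hw.kills (by simp [h1]))
  · have hz := hw.commutatorTv hu h2 h1
    exact key _ (Or.inr hz) (hu.comm hz hρ (by simp [h2]) hu.kills)
      ((hw.comm hz hρ (by simp [hw.kills]) h2).symm)
  · exact absurd h (by simp [h1, h2])

/-! ### Two transvections in different conjugates -/

omit D hρ

variable (ρ M) in
/-- Two transvections in different conjugates, normalised. -/
structure Pair (g₁ g₂ : H) (t s : H) (φ ψ : Module.Dual (ZMod p) V) (c d l : V) : Prop where
  tv : IsTv ρ t φ c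
  sv : IsTv ρ s ψ d
  one : φ d = 1
  one' : ψ c = 1
  l_ne : l ≠ 0
  l_kills : φ l = 0
  l_kills' : ψ l = 0
  span : ∀ v, ∃ γ : ZMod p, v = ψ v • c + φ v • d + γ • l
  mem : t ∈ conjM M g₁
  mem' : s ∈ conjM M g₂
  diff : g₁⁻¹ * g₂ ∉ M

theorem Pair.symm {g₁ g₂ t s : H} {φ ψ : Module.Dual (ZMod p) V} {c d l : V}
    (P : Pair ρ M g₁ g₂ t s φ ψ c d l) : Pair ρ M g₂ g₁ s t ψ φ d c l where
  tv := P.sv
  sv := P.tv
  one := P.one'
  one' := P.one
  l_ne := P.l_ne
  l_kills := P.l_kills'
  l_kills' := P.l_kills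
  span v := by
    obtain ⟨γ, h⟩ := P.span v
    exact ⟨γ, by conv_lhs => rw [h]
                 abel⟩
  mem := P.mem'
  mem' := P.mem
  diff h := P.diff (by simpa [mul_inv_rev] using M.inv_mem h)

include D hρ

/-- A transvection and a suitable conjugate of it. -/
theorem exists_pair (hV : Nat.card V = p ^ 3) {t : H} {φ : Module.Dual (ZMod p) V} {c : V}
    (ht : IsTv ρ t φ c) (htM : t ∈ M) :
    ∃ g s φ' ψ c' d l, Pair ρ M 1 g t s φ' ψ c' d l := by
  classical
  obtain ⟨g, hg⟩ : ∃ g, g ∉ M := by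
    by_contra h; push Not at h; exact D.ne_top (eq_top_iff.2 fun x _ => h x)
  have hmt : t ∈ conjM M 1 := by rwa [conjM_one]
  have hs := ht.conjTv g
  set ψ0 := φ.comp (ρ g⁻¹)
  set d0 := ρ g c
  have hsm : g * t * g⁻¹ ∈ conjM M g := by
    rw [mem_conjM]; simpa [mul_assoc] using htM
  have hne : ∀ h : ψ0 c = 0 ∨ φ d0 = 0, False := fun h => hg (by
    simpa using conj_unique D (mem_of_incident D hρ ht hs h hmt) hsm (hs.pow_prime hρ) hs.ne_one)
  have hα : φ d0 ≠ 0 := fun h => hne (Or.inr h)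
  have hβ : ψ0 c ≠ 0 := fun h => hne (Or.inl h)
  -- normalise
  set s1 := hs.scale hα
  set β := (φ d0 • ψ0) c
  have hβ' : β ≠ 0 := by simp [β, hα, hβ]
  have hs2 := s1.powTv (inv_ne_zero hβ')
  set ψ := β⁻¹ • φ d0 • ψ0
  set d := (φ d0)⁻¹ • d0
  set f : V →ₗ[ZMod p] ZMod p × ZMod p := LinearMap.prod ψ φ
  haveI : Finite V := Nat.finite_of_card_ne_zero (by rw [hV]; exact pow_ne_zero _ hp.out.ne_zero)
  have hfr : Module.finrank (ZMod p) V = 3 := by
    have h := Module.natCard_eq_pow_finrank (K := ZMod p) (V := V)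
    rw [hV, Nat.card_zmod] at h
    exact (Nat.pow_right_injective hp.out.two_le h).symm
  have hd1 : φ d = 1 := by simp [d, hα]
  have hc1 : ψ c = 1 := by
    show (β⁻¹ • φ d0 • ψ0) c = 1
    rw [LinearMap.smul_apply, smul_eq_mul, inv_mul_cancel₀ hβ']
  have hsurj : Function.Surjective f := fun x => ⟨x.1 • c + x.2 • d, Prod.ext
    (by simp [f, hc1, hs2.kills]) (by simp [f, hd1, ht.kills])⟩
  have hker : Module.finrank (ZMod p) (LinearMap.ker f) = 1 := by
    have h := LinearMap.finrank_range_add_finrank_ker f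
    rw [LinearMap.range_eq_top.2 hsurj, finrank_top, Module.finrank_prod, Module.finrank_self, hfr] at h
    omega
  obtain ⟨⟨l, hl⟩, hl0, hgen⟩ := finrank_eq_one_iff'.1 hker
  have hl' : ψ l = 0 ∧ φ l = 0 := by simpa [f] using hl
  refine ⟨g, _, φ, ψ, c, d, l, ht, hs2, hd1, hc1, fun e => hl0 (Subtype.ext e), hl'.2, hl'.1, ?_, hmt,
    pow_mem hsm _, by simpa using hg⟩
  intro v
  obtain ⟨γ, hγ⟩ := hgen ⟨v - (ψ v • c + φ v • d), by
    simp [f, hc1, hd1, hs2.kills, ht.kills]⟩
  refine ⟨γ, ?_⟩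
  rw [show γ • l = v - (ψ v • c + φ v • d) from congrArg Subtype.val hγ]
  abel

namespace Pair

variable {g₁ g₂ t s : H} {φ ψ : Module.Dual (ZMod p) V} {c d l : V} (P : Pair ρ M g₁ g₂ t s φ ψ c d l)
include P

omit D hρ in
theorem s_pow_act (a : ZMod p) (v : V) : ρ (s ^ a.val) v = v + (a * ψ v) • d := by
  rw [P.sv.pow_act, ZMod.natCast_zmod_val]

omit D hρ in
theorem s_pow_inv_act (a : ZMod p) (v : V) : ρ (s ^ a.val)⁻¹ v = v - (a * ψ v) • d := by
  conv_lhs => rw [show v = ρ (s ^ a.val) (v - (a * ψ v) • d) by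
    rw [P.s_pow_act, map_sub, map_smul, P.sv.kills, smul_zero, sub_zero, sub_add_cancel]]
  rw [inv_apply']

omit D hρ in
/-- The conjugates of `t` under the powers of `s`. -/
theorem rootTv (a : ZMod p) :
    IsTv ρ (s ^ a.val * t * (s ^ a.val)⁻¹) (φ - a • ψ) (c + a • d) := by
  have h := P.tv.conjTv (s ^ a.val)
  rw [P.s_pow_act, P.one', mul_one] at h
  have e : φ.comp (ρ (s ^ a.val)⁻¹) = φ - a • ψ := LinearMap.ext fun v => by
    simp [P.s_pow_inv_act, P.one]
  rwa [e] at h

omit D hρ in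
theorem root_mem (a : ZMod p) : s ^ a.val * t * (s ^ a.val)⁻¹ ∈ conjM M (s ^ a.val * g₁) := by
  have h := mem_conjM.1 P.mem
  rw [mem_conjM]
  simpa [mul_assoc] using h

theorem t_not_mem : t ∉ conjM M g₂ := fun h =>
  P.diff (conj_unique D P.mem h (P.tv.pow_prime hρ) P.tv.ne_one)

/-- An element of order `p` in `M ^ g₁` is not in the shifted conjugate. -/
theorem shift_not_mem {a : ZMod p} (ha : a ≠ 0) {u : H} (hu : u ∈ conjM M g₁) (hup : u ^ p = 1)
    (hu1 : u ≠ 1) : u ∉ conjM M (s ^ a.val * g₁) := fun h => by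
  have h1 := conj_unique D hu h hup hu1
  have h2 : s ^ a.val ∈ conjM M g₁ := by rw [mem_conjM]; simpa only [mul_assoc] using h1
  have hsp := P.sv.pow_prime hρ
  have hord : orderOf s = p := orderOf_eq_prime hsp P.sv.ne_one
  have hne : s ^ a.val ≠ 1 := by
    rw [ne_eq, ← orderOf_dvd_iff_pow_eq_one, hord, ← ZMod.natCast_eq_zero_iff, ZMod.natCast_zmod_val]
    exact ha
  have h3 := conj_unique D h2 (pow_mem P.mem' _)
    (by rw [← pow_mul, mul_comm, pow_mul, hsp, one_pow]) hne
  exact P.diff h3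

/-- No transvection has its centre on the common line. -/
theorem centre_ne {r : H} {χ : Module.Dual (ZMod p) V} {e : V} (h : IsTv ρ r χ e) (h1 : φ e = 0)
    (h2 : ψ e = 0) : False :=
  P.diff (conj_unique D (mem_of_incident D hρ P.tv h (Or.inr h1) P.mem)
    (mem_of_incident D hρ P.sv h (Or.inr h2) P.mem') (h.pow_prime hρ) h.ne_one)

/-- No transvection has both centres on its axis. -/
theorem dual_ne {r : H} {χ : Module.Dual (ZMod p) V} {e : V} (h : IsTv ρ r χ e) (h1 : χ c = 0)
    (h2 : χ d = 0) : False :=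
  P.diff (conj_unique D (mem_of_incident D hρ P.tv h (Or.inl h1) P.mem)
    (mem_of_incident D hρ P.sv h (Or.inl h2) P.mem') (h.pow_prime hρ) h.ne_one)

/-- A transvection in the conjugate of `t` is a power of `t`. -/
theorem eq_pow_of_mem {r : H} {χ : Module.Dual (ZMod p) V} {e : V} (h : IsTv ρ r χ e)
    (hm : r ∈ conjM M g₁) : ∃ k : ZMod p, r = t ^ k.val := by
  have hrp := h.pow_prime hρ
  have hφe : φ e = 0 := by
    by_contra hne
    by_cases hψ : ψ e = 0
    · exact P.diff (conj_unique D hm (mem_of_incident D hρ P.sv h (Or.inr hψ) P.mem') hrp h.ne_one)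
    · have hm' : r ∈ conjM M (s ^ (φ e / ψ e).val * g₁) :=
        mem_of_incident D hρ (P.rootTv _) h (Or.inr (by simp [hψ])) (P.root_mem _)
      exact P.shift_not_mem D hρ (div_ne_zero hne hψ) hm hrp h.ne_one hm'
  have hχc : χ c = 0 := by
    by_contra hne
    by_cases hd : χ d = 0
    · exact P.diff (conj_unique D hm (mem_of_incident D hρ P.sv h (Or.inl hd) P.mem') hrp h.ne_one)
    · have hm' : r ∈ conjM M (s ^ (-(χ c / χ d)).val * g₁) :=
        mem_of_incident D hρ (P.rootTv _) h (Or.inl (by simp [hd])) (P.root_mem _)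
      exact P.shift_not_mem D hρ (neg_ne_zero.2 (div_ne_zero hne hd)) hm hrp h.ne_one hm'
  have hψe : ψ e ≠ 0 := fun e' => P.centre_ne D hρ h hφe e'
  obtain ⟨γ, hγ⟩ := P.span e
  rw [hφe, zero_smul, add_zero] at hγ
  by_cases hγ0 : γ = 0
  · -- the same centre
    have h' := h.scale hψe
    have hec : (ψ e)⁻¹ • e = c := by
      conv_lhs => arg 2; rw [hγ, hγ0, zero_smul, add_zero]
      rw [smul_smul, inv_mul_cancel₀ hψe, one_smul]
    rw [hec] at h'
    set χ' := ψ e • χ with hχ'
    refine ⟨χ' d, eq_of_act hρ fun v => ?_⟩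
    rw [h'.act, P.tv.pow_act, ZMod.natCast_zmod_val]
    congr 2
    by_contra hne
    by_cases hd : χ' d = 0
    · exact P.dual_ne D hρ h' (by simp [χ', hχc]) hd
    · have hp2 := P.tv.powTv (neg_ne_zero.2 hd)
      have hsum : χ' + (-χ' d) • φ ≠ 0 := fun e0 => hne (by
        have := LinearMap.congr_fun e0 v
        simp only [LinearMap.add_apply, LinearMap.smul_apply, smul_eq_mul, neg_mul,
          LinearMap.zero_apply] at this
        linear_combination this)
      exact P.dual_ne D hρ (h'.mul_sameCentre hp2 hsum) (by simp [χ', hχc, P.tv.kills]) (by simp [P.one])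
  · -- the same axis, which is impossible
    exfalso
    have hχl : χ l = 0 := by
      have := h.kills
      rw [hγ, map_add, map_smul, map_smul, hχc, smul_zero, zero_add, smul_eq_zero] at this
      exact this.resolve_left hγ0
    have hχd : χ d ≠ 0 := fun e' => P.dual_ne D hρ h hχc e'
    have h' := h.scale (inv_ne_zero hχd)
    have eφ : (χ d)⁻¹ • χ = φ := LinearMap.ext fun v => by
      obtain ⟨γ', hv⟩ := P.span v
      conv_lhs => rw [hv]
      simp [hχc, hχl]
      field_simp
    rw [eφ, inv_inv] at h'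
    set k := ψ (χ d • e)
    have hk : k ≠ 0 := by simp [k, hψe, hχd]
    have h2 := (P.tv.powTv (neg_ne_zero.2 hk)).scale (inv_ne_zero (neg_ne_zero.2 hk))
    rw [smul_smul, inv_mul_cancel₀ (neg_ne_zero.2 hk), one_smul, inv_inv] at h2
    have hsum : χ d • e + -k • c ≠ 0 := by
      rw [hγ]
      intro e0
      have : (χ d * γ) • l = 0 := by
        simp only [k, map_smul, smul_eq_mul, smul_add, smul_smul] at e0
        linear_combination (norm := module) e0
      exact P.l_ne ((smul_eq_zero.1 this).resolve_left (mul_ne_zero hχd hγ0))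
    exact P.centre_ne D hρ (h'.mul_sameAxis h2 hsum) (by simp [hφe, P.tv.kills]) (by simp [k, P.one'])

/-- The transvections fix the common line and have their centres in the plane of `c` and `d`. -/
theorem root_props {r : H} {χ : Module.Dual (ZMod p) V} {e : V} (h : IsTv ρ r χ e) :
    χ l = 0 ∧ ∃ x y : ZMod p, e = x • c + y • d := by
  obtain ⟨v0, hv0⟩ : ∃ v, χ v ≠ 0 := by
    by_contra hh; push Not at hh; exact h.dual (LinearMap.ext hh)
  have key : ∀ {q : H} {μ : Module.Dual (ZMod p) V} {f : V}, IsTv ρ q μ f → μ l = 0 →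
      (∃ x y : ZMod p, f = x • c + y • d) → (∃ k : ℕ, r = q ^ k) →
      χ l = 0 ∧ ∃ x y : ZMod p, e = x • c + y • d := by
    rintro q μ f hq hμl ⟨x, y, hf⟩ ⟨k, hk⟩
    have e1 : ∀ v, χ v • e = ((k : ZMod p) * μ v) • f := fun v => by
      have := h.act v
      rw [hk, hq.pow_act] at this
      exact (add_left_cancel this).symm
    refine ⟨?_, (χ v0)⁻¹ * ((k : ZMod p) * μ v0) * x, (χ v0)⁻¹ * ((k : ZMod p) * μ v0) * y, ?_⟩
    · have := e1 l
      rw [hμl, mul_zero, zero_smul, smul_eq_zero] at this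
      exact this.resolve_right h.vec
    · have := congrArg (fun w => (χ v0)⁻¹ • w) (e1 v0)
      rw [smul_smul, inv_mul_cancel₀ hv0, one_smul, hf, smul_smul, smul_add, smul_smul, smul_smul] at this
      exact this
  by_cases hψe : ψ e = 0
  · obtain ⟨k, hk⟩ := P.symm.eq_pow_of_mem D hρ h (mem_of_incident D hρ P.sv h (Or.inr hψe) P.mem')
    exact key P.sv P.l_kills' ⟨0, 1, by simp⟩ ⟨k.val, hk⟩
  · set a := φ e / ψ e
    set q := s ^ a.val
    have hm : r ∈ conjM M (q * g₁) :=
      mem_of_incident D hρ (P.rootTv a) h (Or.inr (by simp [a, hψe])) (P.root_mem a)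
    have hm' : q⁻¹ * r * q ∈ conjM M g₁ := by
      rw [mem_conjM] at hm ⊢
      simpa [mul_assoc] using hm
    have hr' := h.conjTv q⁻¹
    rw [inv_inv] at hr'
    obtain ⟨k, hk⟩ := P.eq_pow_of_mem D hρ hr' hm'
    refine key (P.rootTv a) (by simp [P.l_kills, P.l_kills']) ⟨1, a, by simp⟩ ⟨k.val, ?_⟩
    show r = (q * t * q⁻¹) ^ k.val
    rw [conj_pow, ← hk]
    group

/-- Every element maps the two centres into their plane and fixes the common line. -/
theorem stabilizes (h : H) : (∃ x y : ZMod p, ρ h c = x • c + y • d) ∧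
    (∃ x y : ZMod p, ρ h d = x • c + y • d) ∧ ∃ z : ZMod p, ρ h l = z • l := by
  obtain ⟨h1, hc⟩ := P.root_props D hρ (P.tv.conjTv h)
  obtain ⟨h2, hd⟩ := P.root_props D hρ (P.sv.conjTv h)
  obtain ⟨h1', -⟩ := P.root_props D hρ (P.tv.conjTv h⁻¹)
  obtain ⟨h2', -⟩ := P.root_props D hρ (P.sv.conjTv h⁻¹)
  simp only [inv_inv, LinearMap.comp_apply] at h1' h2'
  refine ⟨hc, hd, ?_⟩
  obtain ⟨z, hz⟩ := P.span (ρ h l)
  rw [h1', h2', zero_smul, zero_smul, zero_add, zero_add] at hz
  exact ⟨z, hz⟩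

/-- The `p`-subgroups through `t` are generated by `t`. -/
theorem pGroup_le {T : Subgroup H} (hT : IsPGroup p T) (ht : t ∈ T) [Finite H] : T ≤ zpowers t := by
  -- it lies in the conjugate of `t`
  have hTM : T ≤ conjM M g₁ := by
    haveI : Nontrivial T := ⟨⟨⟨t, ht⟩, 1, fun e => P.tv.ne_one (congrArg Subtype.val e)⟩⟩
    haveI := hT.center_nontrivial
    obtain ⟨z, hz⟩ := exists_ne (1 : center T)
    obtain ⟨k, hk⟩ := hT (z : T)
    obtain ⟨j, hj, hj'⟩ : ∃ j, ((z : T) : H) ^ p ^ j ≠ 1 ∧ ((z : T) : H) ^ p ^ (j + 1) = 1 := by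
      have hne : ((z : T) : H) ≠ 1 := fun e => hz (Subtype.ext (Subtype.ext e))
      clear hz
      induction k with
      | zero => exact absurd (by simpa using congrArg Subtype.val hk) hne
      | succ k ih =>
        by_cases h : ((z : T) : H) ^ p ^ k = 1
        · exact ih (Subtype.ext (by simpa using h))
        · exact ⟨k, h, by simpa using congrArg Subtype.val hk⟩
    rw [pow_succ, pow_mul] at hj'
    set u := ((z : T) : H) ^ p ^ j
    have hcomm : ∀ x ∈ T, Commute u x := fun x hx =>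
      (show Commute ((z : T) : H) x from (congrArg Subtype.val (mem_center_iff.1 z.2 ⟨x, hx⟩)).symm).pow_left _
    have hu : u ∈ conjM M g₁ :=
      mem_of_commute D P.mem P.tv.ne_one (P.tv.pow_prime hρ) (hcomm t ht).symm
    exact fun x hx => mem_of_commute D hu hj hj' (hcomm x hx)
  intro h hh
  obtain ⟨k, hk⟩ := hT ⟨h, hh⟩
  have hk' : h ^ p ^ k = 1 := congrArg Subtype.val hk
  obtain ⟨⟨x, y, hc⟩, ⟨x', y', hd⟩, z, hl⟩ := P.stabilizes D hρ h
  -- the centre of `t` is fixed
  have hy : y = 0 := by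
    obtain ⟨j, hj⟩ := P.eq_pow_of_mem D hρ (P.tv.conjTv h) (hTM (T.mul_mem (T.mul_mem hh ht) (T.inv_mem hh)))
    have e := (P.tv.conjTv h).act (ρ h d)
    rw [hj, P.tv.pow_act, ZMod.natCast_zmod_val, LinearMap.comp_apply, inv_apply', P.one, one_smul, hc] at e
    have := congrArg φ (add_left_cancel e)
    simpa [P.tv.kills, P.one] using this.symm
  rw [hy, zero_smul, add_zero] at hc
  have hiter : ∀ m : ℕ, ρ (h ^ m) l = z ^ m • l ∧ ρ (h ^ m) c = x ^ m • c ∧ φ (ρ (h ^ m) d) = y' ^ m ∧
      ∃ u : ZMod p, ρ (h ^ m) d = u • c + y' ^ m • d := by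
    intro m
    induction m with
    | zero => exact ⟨by simp [one_apply'], by simp [one_apply'], by simp [one_apply', P.one], 0, by simp [one_apply']⟩
    | succ m ih =>
      obtain ⟨i1, i2, -, u, i4⟩ := ih
      have e : ρ (h ^ (m + 1)) d = (u * x + y' ^ m * x') • c + y' ^ (m + 1) • d := by
        rw [pow_succ', mul_apply', i4, map_add, map_smul, map_smul, hc, hd, pow_succ]
        module
      refine ⟨?_, ?_, ?_, _, e⟩
      · rw [pow_succ', mul_apply', i1, map_smul, hl, smul_smul, pow_succ]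
      · rw [pow_succ', mul_apply', i2, map_smul, hc, smul_smul, pow_succ]
      · rw [e]; simp [P.tv.kills, P.one]
  obtain ⟨e1, e2, e3, -⟩ := hiter (p ^ k)
  rw [hk', one_apply', ZMod.pow_card_pow] at e1 e2 e3
  have hz : z = 1 := by
    have : (1 - z) • l = 0 := by rw [sub_smul, one_smul, ← e1, sub_self]
    exact (sub_eq_zero.1 ((smul_eq_zero.1 this).resolve_right P.l_ne)).symm
  have hx : x = 1 := by
    have : (1 - x) • c = 0 := by rw [sub_smul, one_smul, ← e2, sub_self]
    exact (sub_eq_zero.1 ((smul_eq_zero.1 this).resolve_right P.tv.vec)).symm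
  have hy' : y' = 1 := by rw [← e3, P.one]
  refine ⟨(x'.val : ℤ), eq_of_act hρ fun v => ?_⟩
  show ρ (t ^ (x'.val : ℤ)) v = ρ h v
  obtain ⟨γ, hv⟩ := P.span v
  rw [zpow_natCast, P.tv.pow_act, ZMod.natCast_zmod_val]
  conv_rhs => rw [hv, map_add, map_add, map_smul, map_smul, map_smul, hc, hd, hl, hx, hy', hz]
  conv_lhs => arg 1; rw [hv]
  module

omit D hρ in
/-- The diagonal element. -/
theorem exists_torus {a : ZMod p} (ha : a ≠ 0) :
    ∃ h : H, ρ h c = a • c ∧ ρ h d = a⁻¹ • d ∧ ρ h l = l := by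
  let T : ZMod p → H := fun b => t ^ b.val
  let L : ZMod p → H := fun b => s ^ b.val
  have hT : ∀ b x y : ZMod p, ρ (T b) (x • c + y • d) = (x + b * y) • c + y • d := fun b x y => by
    simp only [T]
    rw [P.tv.pow_act, ZMod.natCast_zmod_val, map_add, map_smul, map_smul, P.tv.kills, P.one]
    simp only [smul_eq_mul, mul_zero, mul_one, zero_add]
    module
  have hL : ∀ b x y : ZMod p, ρ (L b) (x • c + y • d) = x • c + (y + b * x) • d := fun b x y => by
    simp only [L]
    rw [P.s_pow_act, map_add, map_smul, map_smul, P.sv.kills, P.one']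
    simp only [smul_eq_mul, mul_zero, mul_one, add_zero]
    module
  let W : ZMod p → H := fun b => T b * L (-b⁻¹) * T b
  have hW : ∀ b x y : ZMod p, b ≠ 0 → ρ (W b) (x • c + y • d) = (b * y) • c + (-(b⁻¹ * x)) • d := by
    intro b x y hb
    simp only [W, mul_apply', hT, hL]
    congr 2 <;> field_simp <;> ring
  have hWl : ∀ b, ρ (W b) l = l := fun b => by
    simp only [W, T, L, mul_apply', P.tv.pow_act, P.sv.pow_act, P.l_kills, P.l_kills', mul_zero,
      zero_smul, add_zero]
  refine ⟨W a * W (-1), ?_, ?_, by rw [mul_apply', hWl, hWl]⟩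
  · have e : c = (1 : ZMod p) • c + (0 : ZMod p) • d := by simp
    conv_lhs => rw [mul_apply', e, hW _ _ _ (by simp), hW _ _ _ ha]
    simp
  · have e : d = (0 : ZMod p) • c + (1 : ZMod p) • d := by simp
    conv_lhs => rw [mul_apply', e, hW _ _ _ (by simp), hW _ _ _ ha]
    simp

end Pair

end Cfsg.Lib.Fusion.TransvectionThree
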