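import Cfsg.Agent.Fusion.SystemIso

/-!
Subgroups normal in a weakly normal subsystem: conjugates and the subgroup they generate.
-/

set_option autoImplicit false

namespace Cfsg.Lib.Fusion

open Cfsg Cfsg.FusionSystem
open scoped commutatorElement

variable {Ω : Type*} [Group Ω] {S T : Subgroup Ω} {F : FusionSystem S} {E : FusionSystem T} {p : ℕ}

/-- Transport of normality by an automorphism. -/
theorem isNormal_img_autFun (hinv : E.IsInvariantIn F) {R : Subgroup Ω} (hR : E.IsNormal R)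
    {α : MulAut T} (hα : α ∈ F.autGroup T) : E.IsNormal (img R (autFun α)) := by
  have hT : T ≤ S := hinv.2.1.1
  have hm := (isMap_autFun hT).mpr hα
  have hm' := (isMap_autFun hT).mpr (Subgroup.inv_mem _ hα)
  have hmem : img R (autFun α) ≤ T :=
    IsMap.img_le_iff.mpr fun x hx => autFun_mem α (hR.1 hx)
  refine isNormal_of_extendsWith hmem fun P f hf => ?_
  have hg := invariant_transportT hinv hT hf (Subgroup.inv_mem _ hα)
  obtain ⟨k, hk, hkg, hki⟩ := extend_of_isNormal hR hg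
  have hk' := invariant_transportT hinv hT hk hα
  have hle : P ⊔ img R (autFun α) ≤ img (img P (autFun α⁻¹) ⊔ R) (autFun α) := by
    refine sup_le (fun x hx => ?_) (img_mono le_sup_right _)
    rw [← autFun_inv_apply α (hf.le hx)]
    exact IsMap.apply_mem_img (Subgroup.mem_sup_left (IsMap.apply_mem_img hx))
  refine ⟨_, hk'.mono hle, fun x hx => ?_, ?_⟩
  · show autFun α (k (autFun α⁻¹ x)) = f x
    rw [hkg _ (IsMap.apply_mem_img hx)]
    show autFun α (autFun α⁻¹ (f (autFun α⁻¹⁻¹ (autFun α⁻¹ x)))) = f x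
    rw [autFun_inv_apply' α⁻¹ (hf.le hx), autFun_inv_apply α (hf.mem_S hx)]
  · ext y
    rw [(hk'.mono (le_sup_right.trans hle)).mem_img, (hm.mono hR.1).mem_img]
    have hkR : ∀ x, x ∈ R ↔ ∃ r ∈ R, k r = x := fun x => by
      rw [← (hk.mono le_sup_right).mem_img, hki]
    constructor
    · rintro ⟨z, hz, rfl⟩
      obtain ⟨r, hr, rfl⟩ := (hm.mono hR.1).mem_img.mp hz
      refine ⟨k r, (hkR _).mpr ⟨r, hr, rfl⟩, ?_⟩
      show _ = autFun α (k (autFun α⁻¹ (autFun α r)))
      rw [autFun_inv_apply' α (hR.1 hr)]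
    · rintro ⟨x, hx, rfl⟩
      obtain ⟨r, hr, rfl⟩ := (hkR x).mp hx
      refine ⟨autFun α r, IsMap.apply_mem_img hr, ?_⟩
      show autFun α (k (autFun α⁻¹ (autFun α r))) = _
      rw [autFun_inv_apply' α (hR.1 hr)]

/-- An invariant subgroup normal in an invariant subsystem is strongly closed. -/
theorem stronglyClosed_of_invariant_normal (hinv : E.IsInvariantIn F) {U : Subgroup Ω}
    (hU : E.IsNormal U) (ha : ∀ α ∈ F.autGroup T, ∀ x ∈ U, autFun α x ∈ U) :
    F.StronglyClosed U := by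
  have hT : T ≤ S := hinv.2.1.1
  refine stronglyClosed_of_apply (hU.1.trans hT) fun P f hf x hx hxU => ?_
  obtain ⟨α, hα, f₀, hf₀, e⟩ := invariant_frattiniT hinv (inf_le_right.trans hU.1)
    (hf.mono (inf_le_left : P ⊓ U ≤ P))
  have hx' : x ∈ P ⊓ U := Subgroup.mem_inf.mpr ⟨hx, hxU⟩
  rw [e x hx']
  exact ha α hα _ (stronglyClosed_apply (stronglyClosed_of_isNormal hU) hf₀ hx' hxU)

/-- The subgroup generated by the conjugates of a subgroup normal in a weakly normal subsystem is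
normal. -/
theorem isNormal_closure_conjugates [Finite S] [Fact p.Prime] (hS : IsPGroup p S)
    (hF : F.IsSaturated p) (hinv : E.IsInvariantIn F) {R : Subgroup Ω} (hR : E.IsNormal R) :
    F.IsNormal (Subgroup.closure {x : Ω | ∃ φ ∈ F.Hom R, ∃ r : R, x = φ r}) := by
  have hT : T ≤ S := hinv.2.1.1
  haveI := finite_of_le hT
  haveI := finite_of_le (hR.1.trans hT)
  set Q := Subgroup.closure {x : Ω | ∃ φ ∈ F.Hom R, ∃ r : R, x = φ r} with hQdef
  have hQT : Q ≤ T := (Subgroup.closure_le _).mpr fun x hx => by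
    obtain ⟨φ, hφ, r, rfl⟩ := hx
    exact hinv.2.1.2 R hR.1 φ hφ r
  have hQn : E.IsNormal Q := by
    obtain ⟨A, ⟨hA, hAQ⟩, hmax⟩ := Set.exists_max_image {U : Subgroup Ω | E.IsNormal U ∧ U ≤ Q}
      (fun U => Nat.card U) (finite_subgroups_le.subset fun U hU => hU.1.1)
      ⟨⊥, isNormal_bot', bot_le⟩
    have hsub : ∀ U, E.IsNormal U → U ≤ Q → U ≤ A := fun U hU hUQ => by
      have hs := isNormal_sup hA hU
      haveI := finite_of_le hs.1
      exact le_sup_right.trans
        (Subgroup.eq_of_le_of_card_ge le_sup_left (hmax _ ⟨hs, sup_le hAQ hUQ⟩)).ge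
    suffices hQA : Q ≤ A by rwa [le_antisymm hQA hAQ]
    refine (Subgroup.closure_le _).mpr fun x hx => ?_
    obtain ⟨φ, hφ, r, rfl⟩ := hx
    obtain ⟨α, hα, f₀, hf₀, e⟩ := invariant_frattiniT hinv hR.1 (isMap_of_mem hφ)
    have hf₀R : ∀ y ∈ R, f₀ y ∈ R :=
      fun y hy => stronglyClosed_apply (stronglyClosed_of_isNormal hR) hf₀ hy hy
    have hi : img R f₀ = R :=
      Subgroup.eq_of_le_of_card_ge (IsMap.img_le_iff.mpr hf₀R) hf₀.card_img.ge
    have hsetle : img R (autFun α) ≤ Q := IsMap.img_le_iff.mpr fun y hy => by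
      obtain ⟨z, hz, rfl⟩ := hf₀.mem_img.mp (hi.symm ▸ hy)
      rw [← e z hz, toFun'_apply_mem φ hz]
      exact Subgroup.subset_closure ⟨φ, hφ, ⟨z, hz⟩, rfl⟩
    refine hsub _ (isNormal_img_autFun hinv hR hα) hsetle ?_
    rw [← toFun'_apply φ r, e r r.2]
    exact IsMap.apply_mem_img (hf₀R r r.2)
  have hQa : ∀ α ∈ F.autGroup T, ∀ x ∈ Q, autFun α x ∈ Q := by
    intro α hα x hx
    have hm := (isMap_autFun hT).mpr hα
    induction hx using Subgroup.closure_induction with
    | mem y hy =>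
      obtain ⟨φ, hφ, r, rfl⟩ := hy
      obtain ⟨ψ, hψ, eψ⟩ := (isMap_of_mem hφ).comp hm fun z hz => by
        rw [toFun'_apply_mem φ hz]; exact hinv.2.1.2 R hR.1 φ hφ _
      refine Subgroup.subset_closure ⟨ψ, hψ, r, ?_⟩
      rw [eψ r]
      show _ = autFun α (toFun' φ r)
      rw [toFun'_apply]
    | one => rw [hm.map_one]; exact Q.one_mem
    | mul y z hy hz ihy ihz => rw [hm.map_mul (hQT hy) (hQT hz)]; exact Q.mul_mem ihy ihz
    | inv y hy ih => rw [hm.map_inv (hQT hy)]; exact Q.inv_mem ih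
  have hcharInv : ∀ U : Subgroup Q, U.Characteristic → ∀ α ∈ F.autGroup T,
      ∀ x ∈ U.map Q.subtype, autFun α x ∈ U.map Q.subtype := by
    intro U hU α hα x hx
    have hm := ((isMap_autFun hT).mpr hα).mono hQT
    haveI := finite_of_le (hQT.trans hT)
    obtain ⟨β, -, hβ⟩ := hm.exists_aut
      (Subgroup.eq_of_le_of_card_ge (IsMap.img_le_iff.mpr (hQa α hα)) hm.card_img.ge)
    obtain ⟨u, hu, rfl⟩ := hx
    show autFun α (u : Ω) ∈ _
    rw [← hβ _ u.2, autFun_apply_mem _ u.2]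
    exact ⟨β u, (Subgroup.characteristic_iff_map_eq.mp hU β).le ⟨u, hu, rfl⟩, rfl⟩
  haveI := finite_of_le (hQT.trans hT)
  haveI := (hS.of_injective _ (Subgroup.inclusion_injective (hQT.trans hT))).isNilpotent
  obtain ⟨n, hn⟩ := Group.IsNilpotent.nilpotent Q
  refine isNormal_of_chain hS hF (stronglyClosed_of_invariant_normal hinv hQn hQa) n
    (fun i => (Subgroup.upperCentralSeries Q i).map Q.subtype) (by simp) ?_ (fun i _ => ?_)
    (fun i _ => ?_)
  · show Q ≤ (Subgroup.upperCentralSeries Q n).map Q.subtype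
    rw [hn, ← MonoidHom.range_eq_map, Subgroup.range_subtype]
  · refine stronglyClosed_of_invariant_normal hinv
      (isNormal_of_characteristic hQn (Subgroup.map_subtype_le _) ?_) (hcharInv _ inferInstance)
    rw [Subgroup.subgroupOf, Subgroup.comap_map_eq_self_of_injective Q.subtype_injective]
    infer_instance
  · rw [Subgroup.commutator_le]
    rintro _ ⟨x, hx, rfl⟩ q hq
    exact ⟨⁅x, ⟨q, hq⟩⁆, Subgroup.mem_upperCentralSeries_succ_iff.mp hx ⟨q, hq⟩,
      map_commutatorElement Q.subtype x ⟨q, hq⟩⟩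

end Cfsg.Lib.Fusion
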